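import Cfsg.Agent.Blk.FreeMin
import Cfsg.Agent.Grp.SmallAut2

/-! Inertial quotients of dominated blocks; abelian defect groups with small inertial index. -/

set_option autoImplicit false

namespace Cfsg

open scoped MonoidAlgebra

universe u v w

/-- the inertial automorphism group -/
abbrev inAut {G : Type u} [Group G] {k : Type v} [Field k] (P : Subgroup G) (e : k[G]) :
    Subgroup (MulAut P) := autInducedBy (pairStab ⊤ P e) P

variable {p : ℕ} {M : Ideal AlgInt} {G : Type u} [Group G] [Fintype G]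
  {B : Set (IrrCharacter G)} {P : Subgroup G} {e : (resK M)[G]}

theorem StarSetup.not_dvd_card_inAut (S : StarSetup p M B P e)
    (hab : P ≤ Subgroup.centralizer (P : Set G)) : ¬ p ∣ Nat.card (inAut P e) := by
  rw [card_autInducedBy (pairStab_le_normalizer ⊤ P e)]
  exact S.not_dvd_inertialIndex hab

namespace SubQuot
variable {S : StarSetup p M B P e} {v : P} {R : Subgroup G} {H : Type u} [Group H] [Fintype H]
  {B' : Set (IrrCharacter H)} {P' : Subgroup H} {e' : (resK M)[H]} {S' : StarSetup p M B' P' e'}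
  {ρ : R →* P'} (Q : SubQuot S v R S' ρ)
include Q

theorem le : R ≤ P := Q.eq ▸ inf_le_left

theorem mem : (v : G) ∈ R := Q.eq ▸ ⟨v.2, Subgroup.mem_centralizer_singleton_iff.2 rfl⟩

theorem ker_eq : ρ.ker = Subgroup.zpowers ⟨v, Q.mem⟩ := by
  ext r
  rw [MonoidHom.mem_ker, Q.ker]
  exact ⟨fun ⟨n, h⟩ => ⟨n, Subtype.ext h⟩, fun ⟨n, h⟩ => ⟨n, congrArg Subtype.val h⟩⟩

theorem card_mul : Nat.card P' * orderOf (v : G) = Nat.card R := by
  rw [← ρ.ker.index_mul_card, Subgroup.index_ker, MonoidHom.range_eq_top.2 Q.surj, Q.ker_eq,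
    Nat.card_zpowers, Subgroup.card_top, ← Subgroup.orderOf_coe]

theorem comm_of (h : ∀ a b : R, (a * b * a⁻¹ * b⁻¹ : G) ∈ Subgroup.zpowers (v : G)) :
    P' ≤ Subgroup.centralizer (P' : Set H) := fun a ha b hb => by
  obtain ⟨a', ha'⟩ := Q.surj ⟨a, ha⟩
  obtain ⟨b', hb'⟩ := Q.surj ⟨b, hb⟩
  have := (Q.ker (b' * a' * b'⁻¹ * a'⁻¹)).2 (h b' a')
  rw [map_mul, map_mul, map_mul, map_inv, map_inv, ha', hb', mul_inv_eq_one,
    mul_inv_eq_iff_eq_mul] at this
  exact congrArg Subtype.val this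

theorem comm (hab : R ≤ Subgroup.centralizer (R : Set G)) :
    P' ≤ Subgroup.centralizer (P' : Set H) :=
  Q.comm_of fun a b => by rw [hab b.2 a a.2]; simp

theorem lift_stab {y : H} (hy : y ∈ pairStab ⊤ P' e') :
    ∃ x ∈ Subgroup.centralizer {(v : G)}, x ∈ Subgroup.normalizer (R : Set G) ∧
      PairMor p P e R x ∧ ∀ q w : R, (w : G) = x * q * x⁻¹ → (ρ w : H) = y * ρ q * y⁻¹ := by
  have := S.hM.fact_prime
  have := S.hM.charP
  obtain ⟨x, hx, h1, h2⟩ := Q.lift ⊤ y (pairMor_of_stab S'.isPair (Subgroup.map_subtype_le _) hy)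
  rw [← MonoidHom.range_eq_map, Subgroup.range_subtype] at h1
  refine ⟨x, hx, Subgroup.mem_normalizer_fintype fun r hr => ?_, h1, fun q => h2 q trivial⟩
  rw [Q.eq] at hr ⊢
  exact ⟨h1.conj_mem (Q.eq ▸ hr), Subgroup.mul_mem _ (Subgroup.mul_mem _ hx hr.2) (Subgroup.inv_mem _ hx)⟩

theorem lift_aut' {τ : MulAut P'} (hτ : τ ∈ inAut P' e') :
    ∃ σ : MulAut R, (∃ x ∈ Subgroup.centralizer {(v : G)}, PairMor p P e R x ∧
      ∀ r : R, (σ r : G) = x * r * x⁻¹) ∧ ∀ q, ρ (σ q) = τ (ρ q) := by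
  obtain ⟨y, hy, h⟩ := mem_autInducedBy.1 hτ
  obtain ⟨x, hx, h1, h2, h3⟩ := Q.lift_stab hy
  exact ⟨R.normalizerMonoidHom ⟨x, h1⟩, ⟨x, hx, h2, fun _ => rfl⟩,
    fun q => Subtype.ext ((h3 q _ rfl).trans (h _).symm)⟩

theorem push_aut' {σ : MulAut R} {x : G} (hx : x ∈ Subgroup.centralizer {(v : G)})
    (h : PairMor p P e R x) (hσ : ∀ r : R, (σ r : G) = x * r * x⁻¹) :
    ∃ τ ∈ inAut P' e', ∀ q, ρ (σ q) = τ (ρ q) := by
  obtain ⟨y, hy, h1⟩ := Q.push x hx h
  obtain ⟨τ, hτ, h2⟩ := exists_mem_autInducedBy (pairStab_le_normalizer ⊤ P' e') hy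
  exact ⟨τ, hτ, fun q => Subtype.ext ((h1 q _ (hσ q)).trans (h2 _).symm)⟩

end SubQuot

namespace SubQuot
variable {S : StarSetup p M B P e} {v : P} {H : Type u} [Group H] [Fintype H]
  {B' : Set (IrrCharacter H)} {P' : Subgroup H} {e' : (resK M)[H]} {S' : StarSetup p M B' P' e'}
  {ρ : P →* P'} (Q : SubQuot S v P S' ρ)
include Q

theorem ker' {r : P} : ρ r = 1 ↔ r ∈ Subgroup.zpowers v := by
  rw [← MonoidHom.mem_ker, Q.ker_eq]

theorem lift_aut {τ : MulAut P'} (hτ : τ ∈ inAut P' e') :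
    ∃ σ ∈ inAut P e, σ v = v ∧ ∀ q, ρ (σ q) = τ (ρ q) := by
  have := S.hM.fact_prime
  have := S.hM.charP
  obtain ⟨σ, ⟨x, hx, h1, h2⟩, h3⟩ := Q.lift_aut' hτ
  refine ⟨σ, mem_autInducedBy.2 ⟨x, (pairMor_self_iff S.isPair).1 h1, h2⟩, Subtype.ext ?_, h3⟩
  rw [h2, Subgroup.mem_centralizer_singleton_iff.1 hx, mul_inv_cancel_right]

theorem push_aut {σ : MulAut P} (hσ : σ ∈ inAut P e) (hv : σ v = v) :
    ∃ τ ∈ inAut P' e', ∀ q, ρ (σ q) = τ (ρ q) := by
  have := S.hM.fact_prime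
  have := S.hM.charP
  obtain ⟨x, hx, h⟩ := mem_autInducedBy.1 hσ
  refine Q.push_aut' (Subgroup.mem_centralizer_singleton_iff.2 ?_)
    ((pairMor_self_iff S.isPair).2 hx) h
  rw [← mul_inv_eq_iff_eq_mul, ← h, hv]

theorem eq_one_of_push (hab : P ≤ Subgroup.centralizer (P : Set G)) {σ : MulAut P}
    (hσ : σ ∈ inAut P e) (hv : σ v = v) (h : ∀ q, ρ (σ q) = ρ q) : σ = 1 := by
  have := S.hM.fact_prime
  refine MulAut.eq_one_of_stab S.isPGroup (S.not_dvd_card_inAut hab)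
    (pow_card_eq_one_of_mem hσ) fun a => ?_
  obtain ⟨n, hn⟩ := Q.ker'.1 (show ρ (a⁻¹ * σ a) = 1 by rw [map_mul, h, map_inv, inv_mul_cancel])
  rw [← hn, map_zpow, hv]

theorem card_inAut (hab : P ≤ Subgroup.centralizer (P : Set G)) : Nat.card (inAut P' e') =
    Nat.card (inAut P e ⊓ MulAction.stabilizer (MulAut P) v : Subgroup (MulAut P)) := by
  choose f hf hf' using fun σ : (inAut P e ⊓ MulAction.stabilizer (MulAut P) v :
    Subgroup (MulAut P)) => Q.push_aut σ.2.1 σ.2.2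
  refine (Nat.card_congr (Equiv.ofBijective (fun σ => (⟨f σ, hf σ⟩ : inAut P' e'))
    ⟨fun σ σ' h => ?_, fun τ => ?_⟩)).symm
  · have h1 : f σ = f σ' := congrArg Subtype.val h
    have h2 := Q.eq_one_of_push hab (σ * σ'⁻¹).2.1 (σ * σ'⁻¹).2.2 fun q => by
      rw [Subgroup.coe_mul, MulAut.mul_apply, hf', h1, ← hf', ← MulAut.mul_apply,
        ← Subgroup.coe_mul, mul_inv_cancel]; rfl
    exact mul_inv_eq_one.1 (Subtype.ext h2)
  · obtain ⟨σ, h1, h2, h3⟩ := Q.lift_aut τ.2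
    refine ⟨⟨σ, h1, h2⟩, Subtype.ext (MulEquiv.ext fun q => ?_)⟩
    obtain ⟨q, rfl⟩ := Q.surj q
    exact (hf' _ q).symm.trans (h3 q)

end SubQuot

theorem StarSetup.exists_subQuot_central (S : StarSetup p M B P e) {v : P}
    (hv : P ≤ Subgroup.centralizer {(v : G)}) :
    ∃ (H : Type u) (_ : Group H) (_ : Fintype H) (B' : Set (IrrCharacter H)) (P' : Subgroup H)
      (e' : (resK M)[H]) (S' : StarSetup p M B' P' e') (ρ : P →* P'), SubQuot S v P S' ρ :=
  S.exists_subQuot (fullCen_of_central hv) (inf_eq_left.2 hv).symm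

theorem StarSetup.free_iff_aut : (∀ t ∈ pairStab ⊤ P e, ∀ x ∈ P, x ≠ 1 → t * x * t⁻¹ = x →
    t ∈ Subgroup.centralizer (P : Set G)) ↔
      ∀ σ ∈ inAut P e, ∀ x : P, x ≠ 1 → σ x = x → σ = 1 := by
  constructor
  · intro h σ hσ x hx h1
    obtain ⟨t, ht, h2⟩ := mem_autInducedBy.1 hσ
    exact (mem_centralizer_iff_aut_eq_one h2).1 (h t ht x x.2 (fun h => hx (Subtype.ext h))
      (by rw [← h2, h1]))
  · intro h t ht x hx hx1 h1
    obtain ⟨σ, hσ, h2⟩ := exists_mem_autInducedBy (pairStab_le_normalizer ⊤ P e) ht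
    exact (mem_centralizer_iff_aut_eq_one h2).2 (h σ hσ ⟨x, hx⟩
      (fun h => hx1 (congrArg Subtype.val h)) (Subtype.ext ((h2 _).trans h1)))

theorem blockRank_eq_of_card_inAut_aux (n : ℕ) : ∀ {G : Type u} [Group G] [Fintype G]
    {B : Set (IrrCharacter G)} {P : Subgroup G} {e : (resK M)[G]} (_ : StarSetup p M B P e)
    (_ : P ≤ Subgroup.centralizer (P : Set G)) (_ : Nat.card P = n)
    (_ : Nat.card (inAut P e) ≤ 3), blockRank p B = Nat.card (inAut P e) := by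
  induction n using Nat.strong_induction_on with
  | _ n ih =>
  intro G _ _ B P e S hab hn h3
  by_cases h1 : inAut P e = ⊥
  · rw [h1, Subgroup.card_bot, ← S.blockRank_below_one]
    exact ((S.isNilpotentBlock_below_iff_aut hab 1).2 fun σ hσ _ =>
      Subgroup.mem_bot.1 (h1 ▸ hσ)).blockRank_eq_one S.hM
  by_cases hfree : ∀ σ ∈ inAut P e, ∀ x : P, x ≠ 1 → σ x = x → σ = 1
  · rw [card_autInducedBy (pairStab_le_normalizer ⊤ P e)] at h3 ⊢
    refine (S.blockRank_le_of_free hab (StarSetup.free_iff_aut.2 hfree) ?_).2 h3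
    rintro rfl
    exact h1 (Subsingleton.elim _ _)
  push Not at hfree
  obtain ⟨σ, hσ, x, hx, hσx, hσ1⟩ := hfree
  have hp : (Nat.card (inAut P e)).Prime := by
    have := (Subgroup.one_lt_card_iff_ne_bot _).2 h1
    interval_cases (Nat.card (inAut P e)) <;> norm_num
  have h2 : inAut P e ≤ MulAction.stabilizer (MulAut P) x := by
    have := Fact.mk hp
    have h4 := ((MulAction.stabilizer (MulAut P) x).subgroupOf (inAut P e)).eq_bot_or_eq_top_of_prime_card.resolve_left fun h => hσ1 (congrArg Subtype.val (Subgroup.mem_bot.1 (h ▸ hσx :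
      (⟨σ, hσ⟩ : inAut P e) ∈ ⊥)))
    exact Subgroup.subgroupOf_eq_top.1 h4
  obtain ⟨H, _, _, B', P', e', S', ρ, Q⟩ :=
    S.exists_subQuot_central (StarSetup.le_centralizer_of_comm hab x)
  have h4 := Q.card_inAut hab
  rw [inf_eq_left.2 h2] at h4
  have h5 := Q.card_mul
  have h6 : 1 < orderOf (x : G) := by
    rw [Subgroup.orderOf_coe]
    exact Nat.one_lt_iff_ne_zero_and_ne_one.2 ⟨(orderOf_pos x).ne', mt orderOf_eq_one_iff.1 hx⟩
  rw [← S.blockRank_below_of_fixed_aut hab fun τ hτ => h2 hτ, ← Q.rank, ← h4]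
  exact ih _ (by rw [← hn, ← h5]; exact lt_mul_of_one_lt_right Nat.card_pos h6) S' (Q.comm hab) rfl
    (h4 ▸ h3)

/-- **Brauer, Usami**: `l(B) = e(B)` for abelian defect groups and `e(B) ≤ 3` -/
theorem StarSetup.blockRank_eq_card_inAut (S : StarSetup p M B P e)
    (hab : P ≤ Subgroup.centralizer (P : Set G)) (h : Nat.card (inAut P e) ≤ 3) :
    blockRank p B = Nat.card (inAut P e) := blockRank_eq_of_card_inAut_aux _ S hab rfl h

theorem StarSetup.blockRank_below_eq_card (S : StarSetup p M B P e)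
    (hab : P ≤ Subgroup.centralizer (P : Set G)) (v : P)
    (h : Nat.card (inAut P e ⊓ MulAction.stabilizer (MulAut P) v : Subgroup (MulAut P)) ≤ 3) :
    blockRank p (S.below v) =
      Nat.card (inAut P e ⊓ MulAction.stabilizer (MulAut P) v : Subgroup (MulAut P)) := by
  obtain ⟨H, _, _, B', P', e', S', ρ, Q⟩ :=
    S.exists_subQuot_central (StarSetup.le_centralizer_of_comm hab v)
  rw [← Q.card_inAut hab] at h ⊢
  rw [← Q.rank, S'.blockRank_eq_card_inAut (Q.comm hab) h]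

end Cfsg
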