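import Cfsg.Agent.Blk.Cover

/-! The Fong-Reynolds correspondence. -/

set_option autoImplicit false
set_option linter.unusedSectionVars false
set_option linter.unusedVariables false

namespace Cfsg

open scoped MonoidAlgebra

universe u v w

variable {G : Type u} [Group G] {p : ℕ} {M : Ideal AlgInt}

theorem IsBlk.trGA_stab_mul [Finite G] {k : Type v} [Field k] {N H : Subgroup G}
    (hH : H ≤ Subgroup.normalizer (N : Set G)) {c a : k[G]} (hc : IsBlk k N c)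
    (ha : IsFixedGA (stabGA H c) a) (hac : a * c = a) : trGA k (stabGA H c) H a * c = a := by
  classical
  rw [trGA_apply, Finset.sum_mul, Finset.sum_eq_single ((1 : G) : G ⧸ stabGA H c)]
  · rw [ha.gaConj_out_mk, gaConj_one, hac]
  · intro s hs hne
    have h1 := mem_cosetsIn.1 hs
    have h2 : gaConj k s.out c * c = 0 := by
      by_contra h
      apply hne
      have h3 : s.out ∈ stabGA H c :=
        mem_stabGA.2 ⟨h1, (hc.conj_of_normalizer (hH h1)).eq_of_mul_ne_zero' hc h⟩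
      rw [← s.out_eq', eq_comm, QuotientGroup.eq, inv_one, one_mul]
      exact h3
    rw [← hac, map_mul, mul_assoc, h2, mul_zero]
  · intro h
    exact absurd ((mk_mem_cosetsIn (stabGA_le H c)).2 H.one_mem) h

/-- if an irreducible character induces irreducibly, its block induces the block of the induced
character -/
theorem IsPModular.isInducedBlock_of_indFun [Fintype G] (hM : IsPModular p M) {H : Subgroup G}
    {b : Set (IrrCharacter H)} (hb : IsPBlock M b) {B : Set (IrrCharacter G)} (hB : IsPBlock M B)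
    {ψ : IrrCharacter H} (hψ : ψ ∈ b) {χ : IrrCharacter G} (hχ : χ ∈ B)
    (h : χ.1 = indFun H ψ.1) : IsInducedBlock M H b B := by
  rw [hM.isInducedBlock_iff_lam hb hB hψ hχ]
  intro z hz
  refine linear_ext_center (f := (lam M ψ.1).comp (gaTrunc (resK M) H)) (g := lam M χ.1)
    (fun x => ?_) hz
  rw [LinearMap.comp_apply, ← red_inducedCentralChar, inducedCentralChar_eq_centralChar_indFun,
    lam_classSum, h]

theorem IsInducedBlock.mem_of_indFun [Fintype G] (hM : IsPModular p M) {H : Subgroup G}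
    {b : Set (IrrCharacter H)} {B : Set (IrrCharacter G)} (hind : IsInducedBlock M H b B)
    {ψ : IrrCharacter H} (hψ : ψ ∈ b) {χ : IrrCharacter G} (h : χ.1 = indFun H ψ.1) : χ ∈ B := by
  rw [hind.unique hM (hM.isInducedBlock_of_indFun hind.1 (isPBlock_blockOf χ) hψ
    (hM.mem_blockOf_self χ) h)]
  exact hM.mem_blockOf_self χ

section FR

variable [Fintype G] {N : Subgroup G} [hN : N.Normal] [Fintype N] {b : Set (IrrCharacter N)}
  {T : Subgroup G} [Fintype T]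

theorem IsPBlock.subIdem_mul_of_covers_stab (hM : IsPModular p M) (hb : IsPBlock M b)
    (hT : T ≤ blockStab b) (hNT : N ≤ T) {B' : Set (IrrCharacter T)} (hB' : IsPBlock M B')
    (hcov : ∃ ψ ∈ B', ∃ θ ∈ b, classInner (fun n : N => ψ.1 ⟨n, hNT n.2⟩) θ.1 ≠ 0) :
    subIdem M T B' * subIdem M N b = subIdem M T B' := by
  have : Fact p.Prime := ⟨hM.1⟩
  have := hM.charP
  have hfix : IsFixedGA T (subIdem M N b) := fun g hg => (hb.mem_blockStab_iff_gaConj hM).1 (hT hg)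
  have h1 := (hB'.isBlk_subIdem hM).orbSum_mul_of_cover hNT (le_normalizer_of_normal' T)
    (hb.isBlk_subIdem hM) ((hB'.covers_sub_iff hM hNT hb).1 hcov)
  rw [orbSum_of_isFixedGA hfix] at h1
  rw [← (commute_of_mem_suppGA (hb.isBlk_subIdem hM).supp
    ((hB'.isBlk_subIdem hM).fixed.mono hNT)).eq, h1]

theorem IsPBlock.fr_isIrr (hM : IsPModular p M) (hb : IsPBlock M b) (hT : T = blockStab b)
    (hNT : N ≤ T) {B' : Set (IrrCharacter T)} (hB' : IsPBlock M B')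
    (hcov : ∃ ψ ∈ B', ∃ θ ∈ b, classInner (fun n : N => ψ.1 ⟨n, hNT n.2⟩) θ.1 ≠ 0)
    {ψ : IrrCharacter T} (hψ : ψ ∈ B') : IsIrrCharacter G (indFun T ψ.1) := by
  obtain ⟨θ, hθ, h⟩ := hB'.exists_under_of_covers_sub hM hNT (le_normalizer_of_normal' T) hb hcov hψ
  exact clifford_corr_isIrr hNT (hT ▸ hb.charInertia_le_blockStab hM hθ) ψ h

theorem IsPBlock.fr_trGA_mul (hM : IsPModular p M) (hb : IsPBlock M b) (hT : T = blockStab b)
    (hNT : N ≤ T) {B' : Set (IrrCharacter T)} (hB' : IsPBlock M B')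
    (hcov : ∃ ψ ∈ B', ∃ θ ∈ b, classInner (fun n : N => ψ.1 ⟨n, hNT n.2⟩) θ.1 ≠ 0) :
    trGA (resK M) T ⊤ (subIdem M T B') * subIdem M N b = subIdem M T B' := by
  have h1 := hb.subIdem_mul_of_covers_stab hM hT.le hNT hB' hcov
  have h2 := (hB'.isBlk_subIdem hM).fixed
  generalize subIdem M T B' = a at h1 h2 ⊢
  rw [hb.blockStab_eq_stabGA hM] at hT
  rw [hT] at h2 ⊢
  exact (hb.isBlk_subIdem hM).trGA_stab_mul top_le_normalizer_of_normal h2 h1

theorem trGA_top_mem_center {R : Type v} [CommRing R] {H : Subgroup G} {a : R[G]}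
    (ha : IsFixedGA H a) : trGA R H ⊤ a ∈ Subalgebra.center R R[G] :=
  mem_center_iff_isFixedGA_top.2 (isFixedGA_trGA le_top ha)

theorem IsPBlock.fr_lam_gaTrunc_trGA (hM : IsPModular p M) (hb : IsPBlock M b)
    (hT : T = blockStab b) (hNT : N ≤ T) {B' : Set (IrrCharacter T)} (hB' : IsPBlock M B')
    (hcov : ∃ ψ ∈ B', ∃ θ ∈ b, classInner (fun n : N => ψ.1 ⟨n, hNT n.2⟩) θ.1 ≠ 0)
    {ψ : IrrCharacter T} {θ : IrrCharacter N} (hθ : θ ∈ b)
    (h : classInner (fun n : N => ψ.1 ⟨n, hNT n.2⟩) θ.1 ≠ 0) :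
    lam M ψ.1 (gaTrunc (resK M) T (trGA (resK M) T ⊤ (subIdem M T B'))) =
      lam M ψ.1 (idemK M B') := by
  have h1 := congrArg (gaTrunc (resK M) T) (hb.fr_trGA_mul hM hT hNT hB' hcov)
  have hfix : IsFixedGA T (subIdem M N b) := fun g hg =>
    (hb.mem_blockStab_iff_gaConj hM).1 (hT.le hg)
  have hc : gaPush (resK M) (Subgroup.inclusion hNT) (idemK M b) ∈
      Subalgebra.center (resK M) (resK M)[T] := by
    have := gaTrunc_mem_center hfix
    rwa [subIdem, ← gaIncl_gaPush_inclusion hNT, gaTrunc_gaIncl] at this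
  rw [gaTrunc_subIdem, subIdem.eq_def M N, ← gaIncl_gaPush_inclusion hNT, gaTrunc_mul_gaIncl] at h1
  rw [← h1, lam_mul ψ (gaTrunc_mem_center_of_center T
    (trGA_top_mem_center (hB'.isBlk_subIdem hM).fixed)) hc,
    lam_gaPush_of_over (Subgroup.inclusion_injective hNT) h (idemK_mem_center b) hc,
    (hb.isBlockUnion hM).lam_idemK_of_mem hM hθ, mul_one]

/-- injectivity of the Fong-Reynolds correspondence -/
theorem IsPBlock.fr_inj (hM : IsPModular p M) (hb : IsPBlock M b) (hT : T = blockStab b)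
    (hNT : N ≤ T) {B₁ B₂ : Set (IrrCharacter T)}
    (h₁ : ∃ ψ ∈ B₁, ∃ θ ∈ b, classInner (fun n : N => ψ.1 ⟨n, hNT n.2⟩) θ.1 ≠ 0)
    (h₂ : ∃ ψ ∈ B₂, ∃ θ ∈ b, classInner (fun n : N => ψ.1 ⟨n, hNT n.2⟩) θ.1 ≠ 0)
    {B : Set (IrrCharacter G)} (i₁ : IsInducedBlock M T B₁ B) (i₂ : IsInducedBlock M T B₂ B) :
    B₁ = B₂ := by
  obtain ⟨χ, hχ⟩ := i₁.2.1.nonempty hM
  have hz := trGA_top_mem_center (i₁.1.isBlk_subIdem hM).fixed
  obtain ⟨ψ₁, hψ₁, θ₁, hθ₁, e₁⟩ := id h₁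
  obtain ⟨ψ₂, hψ₂, θ₂, hθ₂, e₂⟩ := h₂
  have a₁ := i₁.lam_gaTrunc hM hψ₁ hχ hz
  have a₂ := i₂.lam_gaTrunc hM hψ₂ hχ hz
  rw [hb.fr_lam_gaTrunc_trGA hM hT hNT i₁.1 h₁ hθ₁ e₁,
    (i₁.1.isBlockUnion hM).lam_idemK_of_mem hM hψ₁] at a₁
  rw [hb.fr_lam_gaTrunc_trGA hM hT hNT i₁.1 h₁ hθ₂ e₂, ← a₁,
    ← (i₁.1.isBlockUnion hM).mem_iff_lam_idemK hM] at a₂
  exact i₁.1.eq_of_mem hM i₂.1 a₂ hψ₂

theorem IsPBlock.fr_covers (hM : IsPModular p M) (hb : IsPBlock M b) (hT : T = blockStab b)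
    (hNT : N ≤ T) {B' : Set (IrrCharacter T)}
    (hcov : ∃ ψ ∈ B', ∃ θ ∈ b, classInner (fun n : N => ψ.1 ⟨n, hNT n.2⟩) θ.1 ≠ 0)
    {B : Set (IrrCharacter G)} (hind : IsInducedBlock M T B' B) :
    ∃ χ ∈ B, ∃ θ ∈ b, classInner (fun n : N => χ.1 n) θ.1 ≠ 0 := by
  obtain ⟨ψ, hψ, θ, hθ, h⟩ := id hcov
  refine ⟨⟨_, hb.fr_isIrr hM hT hNT hind.1 hcov hψ⟩, hind.mem_of_indFun hM hψ rfl, θ, hθ, ?_⟩
  rwa [← clifford_corr_classInner hNT (hT ▸ hb.charInertia_le_blockStab hM hθ) ψ h] at h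

theorem IsPBlock.fr_exists (hM : IsPModular p M) (hb : IsPBlock M b) (hT : T = blockStab b)
    (hNT : N ≤ T) {B' : Set (IrrCharacter T)} (hB' : IsPBlock M B')
    (hcov : ∃ ψ ∈ B', ∃ θ ∈ b, classInner (fun n : N => ψ.1 ⟨n, hNT n.2⟩) θ.1 ≠ 0) :
    ∃ B : Set (IrrCharacter G), IsInducedBlock M T B' B := by
  obtain ⟨ψ, hψ⟩ := hB'.nonempty hM
  let χ : IrrCharacter G := ⟨_, hb.fr_isIrr hM hT hNT hB' hcov hψ⟩
  exact ⟨_, hM.isInducedBlock_of_indFun hB' (isPBlock_blockOf χ) hψ (hM.mem_blockOf_self χ) rfl⟩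

theorem IsPBlock.fr_surj (hM : IsPModular p M) (hb : IsPBlock M b) (hT : T = blockStab b)
    (hNT : N ≤ T) {B : Set (IrrCharacter G)} (hB : IsPBlock M B)
    (hcov : ∃ χ ∈ B, ∃ θ ∈ b, classInner (fun n : N => χ.1 n) θ.1 ≠ 0) :
    ∃ B' : Set (IrrCharacter T), IsPBlock M B' ∧
      (∃ ψ ∈ B', ∃ θ ∈ b, classInner (fun n : N => ψ.1 ⟨n, hNT n.2⟩) θ.1 ≠ 0) ∧
      IsInducedBlock M T B' B := by
  obtain ⟨χ, hχ, θ, hθ, h⟩ := hcov
  obtain ⟨ψ, h1, h2⟩ := clifford_corr_surj hNT (hT ▸ hb.charInertia_le_blockStab hM hθ) χ h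
  exact ⟨_, isPBlock_blockOf ψ, ⟨ψ, hM.mem_blockOf_self ψ, θ, hθ, h1⟩,
    hM.isInducedBlock_of_indFun (isPBlock_blockOf ψ) hB (hM.mem_blockOf_self ψ) hχ h2.symm⟩

theorem IsPBlock.fr_mem_iff (hM : IsPModular p M) (hb : IsPBlock M b) (hT : T = blockStab b)
    (hNT : N ≤ T) {B' : Set (IrrCharacter T)}
    (hcov : ∃ ψ ∈ B', ∃ θ ∈ b, classInner (fun n : N => ψ.1 ⟨n, hNT n.2⟩) θ.1 ≠ 0)
    {B : Set (IrrCharacter G)} (hind : IsInducedBlock M T B' B) (χ : IrrCharacter G) :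
    χ ∈ B ↔ ∃ ψ ∈ B', χ.1 = indFun T ψ.1 := by
  refine ⟨fun hχ => ?_, fun ⟨ψ, hψ, h⟩ => hind.mem_of_indFun hM hψ h⟩
  obtain ⟨θ, hθ, h⟩ := hind.2.1.exists_under_of_covers hM hb (hb.fr_covers hM hT hNT hcov hind) hχ
  obtain ⟨ψ, h1, h2⟩ := clifford_corr_surj hNT (hT ▸ hb.charInertia_le_blockStab hM hθ) χ h
  refine ⟨ψ, ?_, h2.symm⟩
  rw [hb.fr_inj hM hT hNT hcov ⟨ψ, hM.mem_blockOf_self ψ, θ, hθ, h1⟩ hind
    (hM.isInducedBlock_of_indFun (isPBlock_blockOf ψ) hind.2.1 (hM.mem_blockOf_self ψ) hχ h2.symm)]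
  exact hM.mem_blockOf_self ψ

theorem IsPBlock.fr_indFun_inj (hM : IsPModular p M) (hb : IsPBlock M b) (hT : T = blockStab b)
    (hNT : N ≤ T) {B' : Set (IrrCharacter T)} (hB' : IsPBlock M B')
    (hcov : ∃ ψ ∈ B', ∃ θ ∈ b, classInner (fun n : N => ψ.1 ⟨n, hNT n.2⟩) θ.1 ≠ 0)
    {ψ ψ' : IrrCharacter T} (hψ : ψ ∈ B') (hψ' : ψ' ∈ B') (h : indFun T ψ.1 = indFun T ψ'.1) :
    ψ = ψ' := by
  obtain ⟨θ, hθ, h1⟩ := hB'.exists_under_of_covers_sub hM hNT (le_normalizer_of_normal' T) hb hcov hψ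
  obtain ⟨θ', hθ', h2⟩ :=
    hB'.exists_under_of_covers_sub hM hNT (le_normalizer_of_normal' T) hb hcov hψ'
  let χ : IrrCharacter G := ⟨_, hb.fr_isIrr hM hT hNT hB' hcov hψ⟩
  have hI := hT ▸ hb.charInertia_le_blockStab hM hθ
  have hI' := hT ▸ hb.charInertia_le_blockStab hM hθ'
  have a₁ : classInner (fun n : N => χ.1 n) θ.1 ≠ 0 := by
    rwa [← clifford_corr_classInner hNT hI ψ h1] at h1
  have a₂ : classInner (fun n : N => χ.1 n) θ'.1 ≠ 0 := by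
    rwa [← clifford_corr_classInner hNT hI' ψ' h2, ← h] at h2
  obtain ⟨g, rfl⟩ := clifford_exists_smul χ a₂ a₁
  have hg : g ∈ T := hT ▸ (hb.mem_blockStab_iff_exists hM).2 ⟨θ', hθ', hθ⟩
  refine clifford_corr_inj hNT hI h1 ?_ h
  have h3 : (fun n : N => ψ'.1 ⟨n, hNT n.2⟩) = conjChar g (fun n : N => ψ'.1 ⟨n, hNT n.2⟩) := by
    funext n
    rw [conjChar_apply]
    have := ψ'.2.isCharacter.isClassFunction (⟨n, hNT n.2⟩ : T) (⟨g, hg⟩ : T)⁻¹
    exact this.symm.trans (congrArg ψ'.1 (Subtype.ext (by simp)))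
  rwa [h3, IrrCharacter.smul_val, classInner_conjChar]

/-- the idempotent of the Fong-Reynolds correspondent -/
theorem IsPBlock.fr_idemK_eq (hM : IsPModular p M) (hb : IsPBlock M b) (hT : T = blockStab b)
    (hNT : N ≤ T) {B' : Set (IrrCharacter T)}
    (hcov : ∃ ψ ∈ B', ∃ θ ∈ b, classInner (fun n : N => ψ.1 ⟨n, hNT n.2⟩) θ.1 ≠ 0)
    {B : Set (IrrCharacter G)} (hind : IsInducedBlock M T B' B) :
    idemK M B = trGA (resK M) T ⊤ (subIdem M T B') := by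
  have hB' := hind.1
  have hB := hind.2.1
  have hfix := (hB'.isBlk_subIdem hM).fixed
  have hz := trGA_top_mem_center hfix
  have h1 := hb.fr_trGA_mul hM hT hNT hB' hcov
  have h2 := hb.subIdem_mul_of_covers_stab hM hT.le hNT hB' hcov
  have hzc := Subalgebra.mem_center_iff.1 hz
  have h3 : subIdem M T B' * trGA (resK M) T ⊤ (subIdem M T B') = subIdem M T B' := by
    rw [← h2, mul_assoc, h2, hzc, h1, (hB'.isBlk_subIdem hM).idem]
  have hzz : IsIdempotentElem (trGA (resK M) T ⊤ (subIdem M T B')) := by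
    unfold IsIdempotentElem
    rw [trGA_mul T (mem_center_iff_isFixedGA_top.1 hz), h3]
  refine hM.idem_eq_of_lam_eq (idemK_mem_center B) (hB.isIdempotentElem_idemK hM) hz hzz
    fun χ => ?_
  by_cases hχ : χ ∈ B
  · obtain ⟨ψ, hψ, θ, hθ, h⟩ := id hcov
    rw [← hind.lam_gaTrunc hM hψ hχ hz, hb.fr_lam_gaTrunc_trGA hM hT hNT hB' hcov hθ h,
      (hB.isBlockUnion hM).lam_idemK_of_mem hM hχ, (hB'.isBlockUnion hM).lam_idemK_of_mem hM hψ]
  · rw [(hB.isBlockUnion hM).lam_idemK_of_notMem hM hχ, eq_comm,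
      ← (isPBlock_blockOf χ).mul_idemK_eq_zero_iff hM (hM.mem_blockOf_self χ) hz hzz,
      trGA_mul T (IsFixedGA.of_mem_center (idemK_mem_center _) _),
      Subalgebra.mem_center_iff.1 (idemK_mem_center _)]
    suffices h : idemK M (blockOf M χ.1) * subIdem M T B' = 0 by rw [h, map_zero]
    by_contra h
    obtain ⟨χ', hχ', ψ, hψ, h4⟩ := ((isPBlock_blockOf χ).covers_iff hM hB').2 h
    obtain ⟨θ, hθ, h5⟩ :=
      hB'.exists_under_of_covers_sub hM hNT (le_normalizer_of_normal' T) hb hcov hψ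
    have h6 := clifford_corr_eq_indFun hNT (hT ▸ hb.charInertia_le_blockStab hM hθ) χ' ψ h5 h4
    rw [← (isPBlock_blockOf χ).eq_of_mem hM hB hχ' (hind.mem_of_indFun hM hψ h6.symm)] at hχ
    exact hχ (hM.mem_blockOf_self χ)

theorem IsPBlock.fr_idemK_mul (hM : IsPModular p M) (hb : IsPBlock M b) (hT : T = blockStab b)
    (hNT : N ≤ T) {B' : Set (IrrCharacter T)}
    (hcov : ∃ ψ ∈ B', ∃ θ ∈ b, classInner (fun n : N => ψ.1 ⟨n, hNT n.2⟩) θ.1 ≠ 0)
    {B : Set (IrrCharacter G)} (hind : IsInducedBlock M T B' B) :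
    idemK M B * subIdem M N b = subIdem M T B' := by
  rw [hb.fr_idemK_eq hM hT hNT hcov hind, hb.fr_trGA_mul hM hT hNT hind.1 hcov]

theorem IsPBlock.fr_isDefGrp (hM : IsPModular p M) (hb : IsPBlock M b) (hT : T = blockStab b)
    (hNT : N ≤ T) {B' : Set (IrrCharacter T)}
    (hcov : ∃ ψ ∈ B', ∃ θ ∈ b, classInner (fun n : N => ψ.1 ⟨n, hNT n.2⟩) θ.1 ≠ 0)
    {B : Set (IrrCharacter G)} (hind : IsInducedBlock M T B' B) {D : Subgroup G}
    (hD : IsDefGrp p T (subIdem M T B') D) : IsDefGrp p ⊤ (idemK M B) D := by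
  have : Fact p.Prime := ⟨hM.1⟩
  have := hM.charP
  obtain ⟨a, ha, h1⟩ := hD.exists_trGA (subIdem_mem B')
  have hfix : IsFixedGA T (subIdem M N b) := fun g hg =>
    (hb.mem_blockStab_iff_gaConj hM).1 (hT.le hg)
  refine IsDefGrp.of_trGA hD.pgrp le_top (mem_fixSuppGA.1 ha).2 ?_ fun h0 => hD.br_ne ?_
  · rw [hb.fr_idemK_eq hM hT hNT hcov hind, ← h1, trGA_trGA hD.le le_top (mem_fixSuppGA.1 ha).2]
  · rw [← hb.fr_idemK_mul hM hT hNT hcov hind, brGA_mul hD.pgrp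
      (IsFixedGA.of_mem_center (idemK_mem_center B) D) (hfix.mono hD.le), h0, zero_mul]

theorem IsPBlock.fr_isDefectGroup (hM : IsPModular p M) (hb : IsPBlock M b) (hT : T = blockStab b)
    (hNT : N ≤ T) {B' : Set (IrrCharacter T)}
    (hcov : ∃ ψ ∈ B', ∃ θ ∈ b, classInner (fun n : N => ψ.1 ⟨n, hNT n.2⟩) θ.1 ≠ 0)
    {B : Set (IrrCharacter G)} (hind : IsInducedBlock M T B' B) {D : Subgroup T}
    (hD : IsDefectGroup p M B' D) : IsDefectGroup p M B (D.map T.subtype) :=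
  (hind.2.1.isDefectGroup_iff hM).2
    (hb.fr_isDefGrp hM hT hNT hcov hind ((hind.1.isDefectGroup_iff_map hM).1 hD))

theorem IsPBlock.fr_blockDefect (hM : IsPModular p M) (hb : IsPBlock M b) (hT : T = blockStab b)
    (hNT : N ≤ T) {B' : Set (IrrCharacter T)}
    (hcov : ∃ ψ ∈ B', ∃ θ ∈ b, classInner (fun n : N => ψ.1 ⟨n, hNT n.2⟩) θ.1 ≠ 0)
    {B : Set (IrrCharacter G)} (hind : IsInducedBlock M T B' B) :
    blockDefect p B = blockDefect p B' := by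
  obtain ⟨D, hD⟩ := hind.1.exists_isDefectGroup hM
  have h1 := (hb.fr_isDefectGroup hM hT hNT hcov hind hD).card_eq hM hind.2.1
  rw [Subgroup.card_map_of_injective T.subtype_injective, hD.card_eq hM hind.1] at h1
  exact (Nat.pow_right_injective hM.1.two_le h1).symm

theorem IsPBlock.fr_blockHeight (hM : IsPModular p M) (hb : IsPBlock M b) (hT : T = blockStab b)
    (hNT : N ≤ T) {B' : Set (IrrCharacter T)}
    (hcov : ∃ ψ ∈ B', ∃ θ ∈ b, classInner (fun n : N => ψ.1 ⟨n, hNT n.2⟩) θ.1 ≠ 0)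
    {B : Set (IrrCharacter G)} (hind : IsInducedBlock M T B' B) {ψ : IrrCharacter T} (hψ : ψ ∈ B')
    {χ : IrrCharacter G} (h : χ.1 = indFun T ψ.1) : blockHeight p B χ.1 = blockHeight p B' ψ.1 := by
  have : Fact p.Prime := ⟨hM.1⟩
  have h1 := factorization_charDegree_eq (p := p) (hind.mem_of_indFun hM hψ h)
  have h2 := factorization_charDegree_eq (p := p) hψ
  rw [hb.fr_blockDefect hM hT hNT hcov hind, ← T.index_mul_card,
    Nat.factorization_mul T.index_ne_zero_of_finite Nat.card_pos.ne'] at h1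
  have h3 : charDegree χ.1 = T.index * charDegree ψ.1 := by
    rw [h, ψ.2.isCharacter.charDegree_indFun]
  rw [h3, Nat.factorization_mul T.index_ne_zero_of_finite ψ.charDegree_pos.ne'] at h1
  simp only [Finsupp.add_apply] at h1
  omega

end FR

end Cfsg
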