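import Cfsg.Agent.Blk.StableHeight
import Cfsg.Agent.Blk.FongRey
import Cfsg.Agent.CT.Extension

open scoped ComplexConjugate MonoidAlgebra

namespace Cfsg

universe u v
variable {G : Type u} [Group G] [Finite G] {p : ℕ} {M : Ideal AlgInt}

omit [Finite G] in
theorem isNilpotent_single_sub_one [hp : Fact p.Prime] {k : Type v} [Field k] [CharP k p] {u : G}
    (hu : ∃ n : ℕ, orderOf u = p ^ n) : IsNilpotent (MonoidAlgebra.single u (1 : k) - 1) := by
  obtain ⟨n, hn⟩ := hu
  have : CharP k[G] p := charP_of_injective_algebraMap (algebraMap k k[G]).injective p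
  refine ⟨p ^ n, ?_⟩
  rw [sub_pow_char_pow_of_commute p n (Commute.one_right _), MonoidAlgebra.single_pow, ← hn,
    pow_orderOf_eq_one, one_pow, one_pow]
  exact sub_self _

omit [Finite G] in
theorem IsFixedGA.commute_single {R : Type v} [CommRing R] {H : Subgroup G} {a : R[G]}
    (ha : IsFixedGA H a) {x : G} (hx : x ∈ H) (r : R) : Commute (MonoidAlgebra.single x r) a :=
  commute_of_mem_suppGA (single_mem_suppGA hx r) ha

/-- For a block with abelian defect group `P`, `N ⊴ G` containing all `p`-regular elements and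
`G'`, and `x ∈ P`, there is a central element supported on `xN` on which the central character of
the block does not vanish. -/
theorem IsBlk.exists_center_coset_hasLam (hM : IsPModular p M) {c : (resK M)[G]}
    (hc : IsBlk (resK M) ⊤ c) {P : Subgroup G} (hP : IsDefGrp p ⊤ c P)
    (hab : P ≤ Subgroup.centralizer (P : Set G)) {N : Subgroup G} [N.Normal]
    (hreg : ∀ g : G, ¬ p ∣ orderOf g → g ∈ N) (hcomm : commutator G ≤ N) {x : G} (hx : x ∈ P) :
    ∃ z ∈ Subalgebra.center (resK M) (resK M)[G], ∃ t : resK M, t ≠ 0 ∧ HasLam c z t ∧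
      ∀ g : G, (g : G ⧸ N) ≠ x → z.coeff g = 0 := by
  classical
  have : Fact p.Prime := ⟨hM.1⟩
  have := hM.charP
  have := Fintype.ofFinite G
  have htop : (⊤ : Subgroup G) ≤ Subgroup.normalizer ((⊤ : Subgroup G) : Set G) :=
    Subgroup.le_normalizer
  obtain ⟨e, he⟩ := hP.exists_isMaxPair le_rfl htop hc.mem hc.idem
  set C := Subgroup.centralizer (P : Set G) with hC
  have heC : IsBlk (resK M) C e := by
    have := he.pairOf.pair.blk
    rwa [cenIn_top] at this
  have hCN : C ≤ norIn ⊤ P := le_inf le_top (centralizer_le_normalizer' P)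
  have hD : IsDefGrp p C e P := he.isDefGrp_stab le_rfl htop hc.mem hc.idem hab hCN heC.fixed
  have heN : e ∈ fixSuppGA (resK M) (C ⊓ N) C := by
    refine mem_fixSuppGA.2 ⟨mem_suppGA_inf.2 ⟨heC.supp, mem_suppGA.2 fun g hg => ?_⟩, heC.fixed⟩
    by_contra h0
    exact hg (hreg g (hM.isPRegular_of_coeff_ne_zero heC.mem heC.idem h0))
  obtain ⟨a, ha, hae⟩ := hD.exists_trGA heN
  have haC : a ∈ suppGA (resK M) C := suppGA_mono inf_le_left (mem_fixSuppGA.1 ha).1
  have haN : a ∈ suppGA (resK M) N := suppGA_mono inf_le_right (mem_fixSuppGA.1 ha).1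
  have heN' : e ∈ suppGA (resK M) N := suppGA_mono inf_le_right (mem_fixSuppGA.1 heN).1
  set s : (resK M)[G] := MonoidAlgebra.single x 1 with hs
  have hsC : s ∈ suppGA (resK M) C := single_mem_suppGA (hab hx) 1
  have hsfix : IsFixedGA C s := by
    refine isFixedGA_single (fun y hy => ?_) 1
    rw [Subgroup.mem_centralizer_iff]
    rintro _ rfl
    exact hy _ hx
  set w := s * (a * e) with hw
  have hwC : w ∈ suppGA (resK M) C := mul_mem hsC (mul_mem haC heC.supp)
  have hwfix : IsFixedGA P w := isFixedGA_of_mem_suppGA_centralizer hwC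
  set T := pairStab ⊤ P e with hT
  have hCT : C ≤ T := he.pairOf.pair.centralizer_le_pairStab
  have hTN : T ≤ norIn ⊤ P := pairStab_le_norIn _ _ _
  have hidx : ¬ p ∣ C.relIndex T := by
    have := he.not_dvd_relIndex le_rfl htop hc
    rwa [cenIn_top, sup_eq_left.2 hab] at this
  refine ⟨trGA (resK M) P ⊤ w, trGA_top_mem_center hwfix, (C.relIndex T : resK M), ?_, ?_, ?_⟩
  · rwa [Ne, CharP.cast_eq_zero_iff (resK M) p]
  · rw [← he.pairOf.hasLam_iff le_rfl hc (by rw [fixSuppGA_top_top]; exact trGA_top_mem_center hwfix)]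
    have h1 : trGA (resK M) P C w = s * e := by
      rw [hw, ← mul_trGA P hsfix, ← trGA_mul P heC.fixed, hae, heC.idem.eq]
    have hsefix : IsFixedGA C (s * e) := fun g hg => by rw [map_mul, hsfix g hg, heC.fixed g hg]
    have h2 : trGA (resK M) C T (s * e) =
        (∑ d ∈ cosetsIn C T, MonoidAlgebra.single (d.out * x * d.out⁻¹) (1 : resK M)) * e := by
      rw [trGA_apply, Finset.sum_mul]
      refine Finset.sum_congr rfl fun d hd => ?_
      rw [map_mul, isFixedGA_pairStab ⊤ P e _ (mem_cosetsIn.1 hd), hs, gaConj_single]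
    have h3 : brGA (resK M) P (trGA (resK M) P ⊤ w) * e = trGA (resK M) C T (s * e) := by
      rw [brGA_trGA_self hP.pgrp le_top hwfix, brGA_eq_self hwC,
        ← trGA_trGA hab hCN hwfix, h1, ← trGA_trGA hCT hTN hsefix]
      refine heC.trGA_stab_mul ?_ (isFixedGA_trGA hCT hsefix) ?_
      · exact inf_le_right.trans (normalizer_le_normalizer_centralizer P)
      · rw [h2, mul_assoc, heC.idem.eq]
    have hmem : ∀ d ∈ cosetsIn C T, d.out * x * d.out⁻¹ ∈ P := fun d hd =>
      ((hTN (mem_cosetsIn.1 hd)).2 x).1 hx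
    have h4 : (brGA (resK M) P (trGA (resK M) P ⊤ w) -
        algebraMap (resK M) (resK M)[G] (C.relIndex T : resK M)) * e =
        (∑ d ∈ cosetsIn C T, (MonoidAlgebra.single (d.out * x * d.out⁻¹) (1 : resK M) - 1)) * e := by
      rw [sub_mul, h3, h2, Finset.sum_sub_distrib, sub_mul, Finset.sum_const, card_cosetsIn hCT,
        map_natCast, nsmul_eq_mul, mul_one]
    unfold HasLam
    rw [h4]
    have hefix : IsFixedGA P e := he.pairOf.pair.fixed_self
    refine Commute.isNilpotent_mul_right ?_ ?_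
    · exact Commute.sum_left _ _ _ fun d hd =>
        (hefix.commute_single (hmem d hd) 1).sub_left (Commute.one_left _)
    · refine Commute.isNilpotent_sum (fun d hd => isNilpotent_single_sub_one
        (exists_orderOf_eq_pow_of_mem hP.pgrp (hmem d hd))) fun d d' hd hd' => ?_
      refine Commute.sub_left (Commute.sub_right ?_ (Commute.one_right _)) (Commute.one_left _)
      have : Commute (d.out * x * d.out⁻¹) (d'.out * x * d'.out⁻¹) :=
        hab (hmem d' hd') _ (hmem d hd)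
      simp only [Commute, SemiconjBy, MonoidAlgebra.single_mul_single, mul_one]
      rw [this.eq]
  · have hwcut : gaCut (resK M) {g : G | (g : G ⧸ N) = x} w = w := by
      have := gaCut_coset_mul_of_coset (N := N) (s := (x : G ⧸ N)) (v := s) (fun g hg => by
        rw [hs, MonoidAlgebra.coeff_single, Finsupp.single_apply, if_neg]
        rintro rfl
        exact hg rfl) 1 (a * e)
      rwa [mul_one, setOf_mk_eq_one, gaCut_eq_self_of_mem (mul_mem haN heN')] at this
    rw [← hwcut, ← gaCut_trGA]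
    · exact fun g hg => coeff_gaCut_of_notMem _ hg
    · intro h _ y
      have : ((h * y * h⁻¹ : G) : G ⧸ N) = y := by
        rw [QuotientGroup.eq]
        have h2 := hcomm (Subgroup.commutator_mem_commutator (Subgroup.mem_top h)
          (Subgroup.mem_top y⁻¹))
        rw [commutatorElement_def] at h2
        have : (h * y * h⁻¹)⁻¹ * y = h * y⁻¹ * h⁻¹ * y⁻¹⁻¹ := by group
        rwa [this]
      simp only [Set.mem_ofPred_eq, this]

theorem IsPBlock.exists_ne_zero_coset_of_comm (hM : IsPModular p M) {B : Set (IrrCharacter G)}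
    (hB : IsPBlock M B) {P : Subgroup G} (hP : IsDefectGroup p M B P)
    (hab : P ≤ Subgroup.centralizer (P : Set G)) {N : Subgroup G} [N.Normal]
    (hreg : ∀ g : G, ¬ p ∣ orderOf g → g ∈ N) (hcomm : commutator G ≤ N) {χ : IrrCharacter G}
    (hχ : χ ∈ B) {x : G} (hx : x ∈ P) : ∃ g : G, (g : G ⧸ N) = x ∧ χ.1 g ≠ 0 := by
  classical
  have := Fintype.ofFinite (ConjClasses G)
  obtain ⟨z, hz, t, ht, hl, hs⟩ := (hB.isBlk_top hM).exists_center_coset_hasLam hM
    ((hB.isDefectGroup_iff hM).1 hP) hab hreg hcomm hx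
  rw [hB.hasLam_idemK_iff hM hχ hz, lam_eq_sum] at hl
  obtain ⟨K, -, hK⟩ := Finset.exists_ne_zero_of_sum_ne_zero (hl ▸ ht)
  refine ⟨Quotient.out K, ?_, ?_⟩
  · by_contra h
    exact hK (by rw [hs _ h, zero_mul])
  · intro h
    exact hK (by rw [centralChar, h, mul_zero, zero_div, red_zero, mul_zero])

/-- If `G/N` is abelian and `χ` does not vanish identically on any coset of `N`, then `χ_N` is
irreducible. -/
theorem IrrCharacter.extends_of_ne_zero_coset {N : Subgroup G} [N.Normal] [Fintype N]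
    (hcomm : commutator G ≤ N) (χ : IrrCharacter G)
    (h : ∀ x : G, ∃ g : G, (g : G ⧸ N) = x ∧ χ.1 g ≠ 0) {θ : IrrCharacter N}
    (hθ : classInner (fun n : N => χ.1 n) θ.1 ≠ 0) (n : N) : χ.1 n = θ.1 n := by
  have := Fintype.ofFinite G
  have hinv : charInertia θ.1 = ⊤ := by
    rw [eq_top_iff]
    intro x _
    obtain ⟨g, hg, hg0⟩ := h x
    obtain ⟨ψ, -, hψ⟩ := clifford_corr_surj θ.le_charInertia le_rfl χ hθ
    have : (charInertia θ.1).Normal := Subgroup.Normal.of_commutator_le _ (hcomm.trans θ.le_charInertia)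
    have hgI : g ∈ charInertia θ.1 := by
      by_contra hg'
      exact hg0 (by rw [← hψ, indFun_eq_zero_of_normal _ _ hg'])
    have := (charInertia θ.1).mul_mem hgI (θ.le_charInertia (QuotientGroup.eq.1 hg))
    rwa [mul_inv_cancel_left] at this
  refine extends_of_forall_linear_eq_one hcomm hinv χ hθ (fun lam h1 h2 => ?_) n
  ext x
  obtain ⟨g, hg, hg0⟩ := h x
  have h3 := h1 _ (QuotientGroup.eq.1 hg)
  rw [map_mul, map_inv, h2 g hg0, inv_one, one_mul] at h3
  rw [h3]
  rfl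

theorem commutator_le_of_sup_eq_top_of_comm {N P : Subgroup G} [N.Normal] (h : N ⊔ P = ⊤)
    (hab : P ≤ Subgroup.centralizer (P : Set G)) : commutator G ≤ N := by
  rw [commutator_def, Subgroup.commutator_le]
  intro x _ y _
  obtain ⟨a, ha, hax⟩ := exists_mem_coset_of_sup_eq_top h (x : G ⧸ N)
  obtain ⟨b, hb, hby⟩ := exists_mem_coset_of_sup_eq_top h (y : G ⧸ N)
  rw [← QuotientGroup.eq_one_iff, commutatorElement_def]
  simp only [QuotientGroup.mk_mul, QuotientGroup.mk_inv, ← hax, ← hby]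
  rw [← QuotientGroup.mk_mul, hab hb a ha, QuotientGroup.mk_mul]
  group

theorem IsPBlock.idemK_eq_subIdem_of_stable (hM : IsPModular p M) {N : Subgroup G} [N.Normal]
    [Fintype N] (hG : IsPGroup p (G ⧸ N)) {b : Set (IrrCharacter N)} (hb : IsPBlock M b)
    (hs : blockStab b = ⊤) {B : Set (IrrCharacter G)} (hB : IsPBlock M B)
    (hcov : ∃ χ ∈ B, ∃ θ ∈ b, classInner (fun n : N => χ.1 n) θ.1 ≠ 0) :
    idemK M B = subIdem M N b := by
  rw [hB.idemK_eq_orbSum_of_supp hM hb hcov ((hB.isBlockUnion hM).idemK_mem_suppGA_of_isPGroup hM hG),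
    orbSum_of_isFixedGA]
  exact fun g _ => (hb.mem_blockStab_iff_gaConj hM).1 (hs ▸ Subgroup.mem_top g)

theorem IsPBlock.sup_eq_top_of_stable (hM : IsPModular p M) {N : Subgroup G} [N.Normal]
    [Fintype N] (hG : IsPGroup p (G ⧸ N)) {b : Set (IrrCharacter N)} (hb : IsPBlock M b)
    (hs : blockStab b = ⊤) {B : Set (IrrCharacter G)} (hB : IsPBlock M B)
    (hcov : ∃ χ ∈ B, ∃ θ ∈ b, classInner (fun n : N => χ.1 n) θ.1 ≠ 0) {P : Subgroup G}
    (hP : IsDefectGroup p M B P) : N ⊔ P = ⊤ := by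
  have : Fact p.Prime := ⟨hM.1⟩
  have := hM.charP
  have hD := (hB.isDefectGroup_iff hM).1 hP
  rw [hb.idemK_eq_subIdem_of_stable hM hG hs hB hcov] at hD
  have h1 := (hb.isBlk_subIdem hM).not_dvd_relIndex le_top top_le_normalizer_of_normal
    (fun g _ => (hb.mem_blockStab_iff_gaConj hM).1 (hs ▸ Subgroup.mem_top g)) hD
  rw [Subgroup.relIndex_top_right] at h1
  obtain ⟨k, hk⟩ := hG.exists_card_eq
  have h2 : (N ⊔ P).index ∣ p ^ k := hk ▸ Subgroup.index_dvd_of_le le_sup_left
  rw [← Subgroup.index_eq_one]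
  exact Nat.eq_one_of_dvd_coprimes
    ((((Nat.Prime.coprime_iff_not_dvd hM.1).2 h1).symm.pow_right k)) dvd_rfl h2

theorem IsPBlock.exists_res_eq_of_comm (hM : IsPModular p M) {N : Subgroup G} [N.Normal]
    [Fintype N] (hG : IsPGroup p (G ⧸ N)) {b : Set (IrrCharacter N)} (hb : IsPBlock M b)
    (hs : blockStab b = ⊤) {B : Set (IrrCharacter G)} (hB : IsPBlock M B)
    (hcov : ∃ χ ∈ B, ∃ θ ∈ b, classInner (fun n : N => χ.1 n) θ.1 ≠ 0) {P : Subgroup G}
    (hP : IsDefectGroup p M B P) (hab : P ≤ Subgroup.centralizer (P : Set G))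
    {χ : IrrCharacter G} (hχ : χ ∈ B) : ∃ θ ∈ b, ∀ n : N, χ.1 n = θ.1 n := by
  have : Fact p.Prime := ⟨hM.1⟩
  have hsup := hb.sup_eq_top_of_stable hM hG hs hB hcov hP
  have hcomm := commutator_le_of_sup_eq_top_of_comm hsup hab
  obtain ⟨θ, hθ, hχθ⟩ := hB.exists_under_of_covers hM hb hcov hχ
  refine ⟨θ, hθ, χ.extends_of_ne_zero_coset hcomm (fun x => ?_) hχθ⟩
  obtain ⟨y, hy, hyx⟩ := exists_mem_coset_of_sup_eq_top hsup (x : G ⧸ N)
  rw [← hyx]
  exact hB.exists_ne_zero_coset_of_comm hM hP hab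
    (fun g hg => mem_of_not_dvd_orderOf_of_isPGroup hG hg) hcomm hχ hy

omit [Finite G] in
theorem blockRank_eq_of_res_eq {N : Subgroup G}
    (hreg : ∀ g : G, ¬ p ∣ orderOf g → g ∈ N) {B : Set (IrrCharacter G)} {b : Set (IrrCharacter N)}
    (h1 : ∀ χ ∈ B, ∃ θ ∈ b, ∀ n : N, χ.1 n = θ.1 n)
    (h2 : ∀ θ ∈ b, ∃ χ ∈ B, ∀ n : N, χ.1 n = θ.1 n) : blockRank p B = blockRank p b := by
  refine blockRank_eq_of_map (LinearMap.funLeft ℂ ℂ (Subtype.val : N → G)) ?_ ?_
  · intro θ hθ h0
    funext g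
    by_cases hg : p ∣ orderOf g
    · exact eq_zero_of_mem_regSpan hθ hg
    · exact congrFun h0 ⟨g, hreg g hg⟩
  · have key : ∀ χ : IrrCharacter G, ∀ θ : IrrCharacter N, (∀ n : N, χ.1 n = θ.1 n) →
        LinearMap.funLeft ℂ ℂ (Subtype.val : N → G) (pRegularPart p χ.1) = pRegularPart p θ.1 := by
      intro χ θ h
      rw [← funext h, pRegularPart_res]
      rfl
    apply le_antisymm
    · rw [Submodule.map_le_iff_le_comap, regSpan_le_iff]
      intro χ hχ
      obtain ⟨θ, hθ, h⟩ := h1 χ hχ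
      rw [Submodule.mem_comap, key χ θ h]
      exact pRegularPart_mem_regSpan hθ
    · rw [regSpan_le_iff]
      intro θ hθ
      obtain ⟨χ, hχ, h⟩ := h2 θ hθ
      exact ⟨_, pRegularPart_mem_regSpan hχ, key χ θ h⟩

theorem card_eq_mul_of_res_fibers {N : Subgroup G} {B : Set (IrrCharacter G)}
    {b : Set (IrrCharacter N)} (h1 : ∀ χ ∈ B, ∃ θ ∈ b, ∀ n : N, χ.1 n = θ.1 n) {m : ℕ}
    (h2 : ∀ θ ∈ b, Nat.card {χ : IrrCharacter G // χ ∈ B ∧ ∀ n : N, χ.1 n = θ.1 n} = m) :
    Nat.card B = m * Nat.card b := by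
  classical
  choose r hr hr' using h1
  let f : B → b := fun χ => ⟨r χ.1 χ.2, hr χ.1 χ.2⟩
  have := Fintype.ofFinite b
  rw [← Nat.card_congr (Equiv.sigmaFiberEquiv f), Nat.card_sigma]
  have : ∀ θ : b, Nat.card {χ : B // f χ = θ} = m := by
    intro θ
    rw [← h2 θ.1 θ.2]
    refine Nat.card_congr ⟨fun χ => ⟨χ.1.1, χ.1.2, fun n => ?_⟩,
      fun χ => ⟨⟨χ.1, χ.2.1⟩, ?_⟩, fun _ => rfl, fun _ => rfl⟩
    · have h3 : r χ.1.1 χ.1.2 = θ.1 := congrArg Subtype.val χ.2
      rw [← h3]; exact hr' _ χ.1.2 n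
    · apply Subtype.ext
      apply Subtype.ext
      funext n
      exact (hr' _ χ.2.1 n).symm.trans (χ.2.2 n)
  simp only [this, Finset.sum_const, Finset.card_univ, smul_eq_mul, Nat.card_eq_fintype_card]
  rw [mul_comm]

end Cfsg
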