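import Cfsg.Agent.Blk.Trace
import Cfsg.Agent.Blk.Idem

/-! Blocks of subgroups inside `k[G]` (`k` a field of characteristic `p`): orbit sums, defect
groups of primitive idempotents of `(k N)^H`, Brauer's first main theorem in algebraic form. -/

set_option autoImplicit false

namespace Cfsg

open scoped MonoidAlgebra

universe u v w

variable {G : Type u} [Group G]

section stab
variable {R : Type v} [CommRing R]

/-- the stabilizer in `K` of an element of the group algebra -/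
def stabGA (K : Subgroup G) (a : R[G]) : Subgroup G where
  carrier := {g | g ∈ K ∧ gaConj R g a = a}
  mul_mem' := fun {x y} hx hy => ⟨K.mul_mem hx.1 hy.1, by rw [gaConj_mul, hy.2, hx.2]⟩
  one_mem' := ⟨K.one_mem, gaConj_one a⟩
  inv_mem' := fun {x} hx => ⟨K.inv_mem hx.1, by
    conv_lhs => rw [← hx.2]
    rw [gaConj_inv_gaConj]⟩

theorem mem_stabGA {K : Subgroup G} {a : R[G]} {g : G} :
    g ∈ stabGA K a ↔ g ∈ K ∧ gaConj R g a = a := Iff.rfl

theorem stabGA_le (K : Subgroup G) (a : R[G]) : stabGA K a ≤ K := fun _ h => h.1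

theorem isFixedGA_stabGA (K : Subgroup G) (a : R[G]) : IsFixedGA (stabGA K a) a := fun _ h => h.2

theorem le_stabGA {K L : Subgroup G} {a : R[G]} : L ≤ stabGA K a ↔ L ≤ K ∧ IsFixedGA L a :=
  ⟨fun h => ⟨fun _ hx => (h hx).1, fun _ hx => (h hx).2⟩, fun h _ hx => ⟨h.1 hx, h.2 _ hx⟩⟩

theorem stabGA_eq_self {K : Subgroup G} {a : R[G]} (h : IsFixedGA K a) : stabGA K a = K :=
  le_antisymm (stabGA_le K a) (le_stabGA.2 ⟨le_rfl, h⟩)

theorem stabGA_conj (K : Subgroup G) (a : R[G]) (g : G) :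
    stabGA (conjSub K g) (gaConj R g a) = conjSub (stabGA K a) g := by
  ext x
  rw [mem_stabGA, mem_conjSub, mem_conjSub, mem_stabGA]
  refine and_congr_right fun _ => ?_
  rw [gaConj_mul, gaConj_mul, ← (gaConj R g).injective.eq_iff (b := a), gaConj_gaConj_inv]

/-- the sum of the distinct `K`-conjugates of `f` -/
noncomputable def orbSum [Finite G] (K : Subgroup G) (f : R[G]) : R[G] :=
  trGA R (stabGA K f) K f

theorem isFixedGA_orbSum [Finite G] (K : Subgroup G) (f : R[G]) : IsFixedGA K (orbSum K f) :=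
  isFixedGA_trGA (stabGA_le K f) (isFixedGA_stabGA K f)

theorem orbSum_of_isFixedGA [Finite G] {K : Subgroup G} {f : R[G]} (h : IsFixedGA K f) :
    orbSum K f = f := by rw [orbSum, stabGA_eq_self h, trGA_self h]

theorem gaConj_orbSum [Finite G] (K : Subgroup G) (f : R[G]) (g : G) :
    gaConj R g (orbSum K f) = orbSum (conjSub K g) (gaConj R g f) := by
  rw [orbSum, orbSum, gaConj_trGA (stabGA_le K f) (isFixedGA_stabGA K f), stabGA_conj]

theorem orbSum_gaConj [Finite G] {K : Subgroup G} (f : R[G]) {g : G} (hg : g ∈ K) :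
    orbSum K (gaConj R g f) = orbSum K f := by
  have := gaConj_orbSum K f g
  rw [conjSub_of_mem hg, isFixedGA_orbSum K f g hg] at this
  exact this.symm

theorem gaConj_mem_fixSuppGA_of_normalizer {N H : Subgroup G} {a : R[G]}
    (ha : a ∈ fixSuppGA R N H) {g : G} (hN : g ∈ Subgroup.normalizer (N : Set G))
    (hH : g ∈ Subgroup.normalizer (H : Set G)) : gaConj R g a ∈ fixSuppGA R N H := by
  have := (gaConj_mem_fixSuppGA_iff (g := g)).2 ha
  rwa [conjSub_eq_self_iff.2 hN, conjSub_eq_self_iff.2 hH] at this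

theorem orbSum_mem_fixSuppGA_self [Finite G] {L K : Subgroup G}
    (hK : K ≤ Subgroup.normalizer (L : Set G)) {f : R[G]} (hf : f ∈ fixSuppGA R L L) :
    orbSum K f ∈ fixSuppGA R L L := by
  rw [orbSum, trGA_apply]
  exact sum_mem fun c hc => gaConj_mem_fixSuppGA_of_normalizer hf (hK (mem_cosetsIn.1 hc))
    (hK (mem_cosetsIn.1 hc))

theorem orbSum_mem_fixSuppGA [Finite G] {L K : Subgroup G}
    (hK : K ≤ Subgroup.normalizer (L : Set G)) {f : R[G]} (hf : f ∈ suppGA R L) :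
    orbSum K f ∈ fixSuppGA R L K :=
  ⟨trGA_mem_suppGA _ hK hf, isFixedGA_orbSum K f⟩

end stab

variable {k : Type v} [Field k]

/-- `e` is a block idempotent of the subgroup `H`, seen inside `k[G]` -/
abbrev IsBlk (k : Type v) [Field k] (H : Subgroup G) (e : k[G]) : Prop :=
  IsPrimIdem (fixSuppGA k H H) e

theorem IsPrimIdem.gaConj {N H : Subgroup G} {c : k[G]} (hc : IsPrimIdem (fixSuppGA k N H) c)
    (g : G) : IsPrimIdem (fixSuppGA k (conjSub N g) (conjSub H g)) (gaConj k g c) :=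
  hc.map_algEquiv (Cfsg.gaConj k g) fun _ => gaConj_mem_fixSuppGA_iff

theorem IsPrimIdem.gaConj_of_normalizer {N H : Subgroup G} {c : k[G]}
    (hc : IsPrimIdem (fixSuppGA k N H) c) {g : G} (hN : g ∈ Subgroup.normalizer (N : Set G))
    (hH : g ∈ Subgroup.normalizer (H : Set G)) : IsPrimIdem (fixSuppGA k N H) (Cfsg.gaConj k g c) := by
  have := hc.gaConj g
  rwa [conjSub_eq_self_iff.2 hN, conjSub_eq_self_iff.2 hH] at this

theorem IsPrimIdem.supp {N H : Subgroup G} {c : k[G]} (hc : IsPrimIdem (fixSuppGA k N H) c) :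
    c ∈ suppGA k N := hc.mem.1

theorem IsPrimIdem.fixed {N H : Subgroup G} {c : k[G]} (hc : IsPrimIdem (fixSuppGA k N H) c) :
    IsFixedGA H c := hc.mem.2

/-- in the commutative algebra `(k N)^H`, `N ≤ H` -/
theorem IsPrimIdem.fix_mul_eq_zero_or_eq {N H : Subgroup G} (hNH : N ≤ H) {c a : k[G]}
    (hc : IsPrimIdem (fixSuppGA k N H) c) (ha : a ∈ fixSuppGA k N H) (haa : IsIdempotentElem a) :
    a * c = 0 ∨ a * c = c := by
  have := commute_of_mem_fixSuppGA hNH hc.mem ha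
  rw [← this.eq]
  exact hc.mul_eq_zero_or_eq ha haa this

theorem IsPrimIdem.fix_mul_eq_of_ne_zero {N H : Subgroup G} (hNH : N ≤ H) {c a : k[G]}
    (hc : IsPrimIdem (fixSuppGA k N H) c) (ha : a ∈ fixSuppGA k N H) (haa : IsIdempotentElem a)
    (h : a * c ≠ 0) : a * c = c := (hc.fix_mul_eq_zero_or_eq hNH ha haa).resolve_left h

theorem IsPrimIdem.fix_eq_of_mul_ne_zero {N H : Subgroup G} (hNH : N ≤ H) {c c' : k[G]}
    (hc : IsPrimIdem (fixSuppGA k N H) c) (hc' : IsPrimIdem (fixSuppGA k N H) c')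
    (h : c * c' ≠ 0) : c = c' :=
  hc.eq_of_mul_ne_zero hc' (commute_of_mem_fixSuppGA hNH hc.mem hc'.mem) h

theorem IsBlk.conj {H : Subgroup G} {e : k[G]} (he : IsBlk k H e) (g : G) :
    IsBlk k (conjSub H g) (gaConj k g e) := he.gaConj g

theorem IsBlk.conj_of_normalizer {H : Subgroup G} {e : k[G]} (he : IsBlk k H e) {g : G}
    (hg : g ∈ Subgroup.normalizer (H : Set G)) : IsBlk k H (gaConj k g e) :=
  he.gaConj_of_normalizer hg hg

theorem IsBlk.eq_of_mul_ne_zero' {H : Subgroup G} {e f : k[G]} (he : IsBlk k H e)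
    (hf : IsBlk k H f) (h : e * f ≠ 0) : e = f := he.fix_eq_of_mul_ne_zero le_rfl hf h

theorem IsBlk.eq_of_mul_eq {H : Subgroup G} {e f : k[G]} (he : IsBlk k H e)
    (hf : IsBlk k H f) (h : e * f = f) : e = f :=
  he.eq_of_mul_ne_zero' hf (by rw [h]; exact hf.ne_zero)

/-- a block of `L` fixed by `K ≥ L` is primitive in `(k L)^K` -/
theorem IsBlk.isPrimIdem_of_isFixed {L K : Subgroup G} {f : k[G]} (hf : IsBlk k L f) (hLK : L ≤ K)
    (h : IsFixedGA K f) : IsPrimIdem (fixSuppGA k L K) f :=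
  hf.mono (fixSuppGA_mono le_rfl hLK) ⟨hf.supp, h⟩

variable [Finite G]

theorem exists_isPrimIdem_mul_eq {N H : Subgroup G} (hNH : N ≤ H) {a : k[G]}
    (ha : a ∈ fixSuppGA k N H) (haa : IsIdempotentElem a) (h0 : a ≠ 0) :
    ∃ f, IsPrimIdem (fixSuppGA k N H) f ∧ a * f = f := by
  obtain ⟨f, hf, h⟩ := exists_primIdem_mul_ne_zero (fixSuppGA k N H) h0
  exact ⟨f, hf, hf.fix_mul_eq_of_ne_zero hNH ha haa h⟩

theorem exists_isBlk_mul_eq {L : Subgroup G} {a : k[G]} (ha : a ∈ fixSuppGA k L L)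
    (haa : IsIdempotentElem a) (h0 : a ≠ 0) : ∃ f, IsBlk k L f ∧ a * f = f :=
  exists_isPrimIdem_mul_eq le_rfl ha haa h0

theorem exists_isBlk_mul_ne_zero (L : Subgroup G) {a : k[G]} (h0 : a ≠ 0) :
    ∃ f, IsBlk k L f ∧ a * f ≠ 0 := exists_primIdem_mul_ne_zero _ h0

theorem IsBlk.orbSum_mul_self {L K : Subgroup G} {f : k[G]} (hf : IsBlk k L f)
    (hK : K ≤ Subgroup.normalizer (L : Set G)) : orbSum K f * f = f := by
  classical
  rw [orbSum, trGA_apply, Finset.sum_mul,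
    Finset.sum_eq_single ((1 : G) : G ⧸ stabGA K f)]
  · rw [(isFixedGA_stabGA K f).gaConj_out_mk, gaConj_one, hf.idem.eq]
  · intro c hc hne
    by_contra h
    have := (hf.conj_of_normalizer (hK (mem_cosetsIn.1 hc))).eq_of_mul_ne_zero' hf h
    apply hne
    rw [← QuotientGroup.out_eq' c, QuotientGroup.eq, mul_one]
    exact (stabGA K f).inv_mem ⟨mem_cosetsIn.1 hc, this⟩
  · intro h
    exact absurd ((mk_mem_cosetsIn (stabGA_le K f)).2 K.one_mem) h

theorem IsBlk.self_mul_orbSum {L K : Subgroup G} {f : k[G]} (hf : IsBlk k L f)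
    (hK : K ≤ Subgroup.normalizer (L : Set G)) : f * orbSum K f = f := by
  rw [(commute_of_mem_fixSuppGA le_rfl hf.mem (orbSum_mem_fixSuppGA_self hK hf.mem)).eq,
    hf.orbSum_mul_self hK]

theorem IsBlk.orbSum_ne_zero {L K : Subgroup G} {f : k[G]} (hf : IsBlk k L f)
    (hK : K ≤ Subgroup.normalizer (L : Set G)) : orbSum K f ≠ 0 := fun h =>
  hf.ne_zero (by rw [← hf.orbSum_mul_self hK, h, zero_mul])

theorem mul_orbSum {K : Subgroup G} {a : k[G]} (ha : IsFixedGA K a) (f : k[G]) :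
    a * orbSum K f = trGA k (stabGA K f) K (a * f) := mul_trGA _ ha f

theorem IsBlk.isIdempotentElem_orbSum {L K : Subgroup G} {f : k[G]} (hf : IsBlk k L f)
    (hK : K ≤ Subgroup.normalizer (L : Set G)) : IsIdempotentElem (orbSum K f) := by
  show _ * _ = _
  rw [mul_orbSum (isFixedGA_orbSum K f), hf.orbSum_mul_self hK]; rfl

theorem IsBlk.isPrimIdem_orbSum {L K : Subgroup G} {f : k[G]} (hf : IsBlk k L f) (hLK : L ≤ K)
    (hK : K ≤ Subgroup.normalizer (L : Set G)) : IsPrimIdem (fixSuppGA k L K) (orbSum K f) := by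
  refine ⟨orbSum_mem_fixSuppGA hK hf.supp, hf.isIdempotentElem_orbSum hK, hf.orbSum_ne_zero hK, ?_⟩
  intro j hj hjj _ hr
  rw [mul_orbSum hj.2] at hr
  rcases hf.fix_mul_eq_zero_or_eq le_rfl (fixSuppGA_mono le_rfl hLK hj) hjj with h | h
  · left; rw [← hr, h, map_zero]
  · right; rw [← hr, h]; rfl

theorem IsBlk.exists_conj_of_orbSum_mul_ne_zero {L K : Subgroup G} {f f' : k[G]}
    (hf : IsBlk k L f) (hf' : IsBlk k L f') (hK : K ≤ Subgroup.normalizer (L : Set G))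
    (h : orbSum K f * f' ≠ 0) : ∃ g ∈ K, gaConj k g f = f' := by
  rw [orbSum, trGA_apply, Finset.sum_mul] at h
  obtain ⟨c, hc, h⟩ := Finset.exists_ne_zero_of_sum_ne_zero h
  exact ⟨c.out, mem_cosetsIn.1 hc,
    (hf.conj_of_normalizer (hK (mem_cosetsIn.1 hc))).eq_of_mul_ne_zero' hf' h⟩

theorem IsPrimIdem.eq_orbSum {L K : Subgroup G} (hLK : L ≤ K)
    (hK : K ≤ Subgroup.normalizer (L : Set G)) {e f : k[G]} (he : IsPrimIdem (fixSuppGA k L K) e)
    (hf : IsBlk k L f) (h : e * f ≠ 0) : e = orbSum K f :=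
  he.fix_eq_of_mul_ne_zero hLK (hf.isPrimIdem_orbSum hLK hK) fun h0 => h (by
    rw [← hf.orbSum_mul_self hK, ← mul_assoc, h0, zero_mul])

/-- the blocks of `L` below a primitive idempotent of `(k L)^K` are `K`-conjugate -/
theorem IsPrimIdem.exists_conj_of_mul_ne_zero {L K : Subgroup G} (hLK : L ≤ K)
    (hK : K ≤ Subgroup.normalizer (L : Set G)) {e f f' : k[G]} (he : IsPrimIdem (fixSuppGA k L K) e)
    (hf : IsBlk k L f) (hf' : IsBlk k L f') (h : e * f ≠ 0) (h' : e * f' ≠ 0) :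
    ∃ g ∈ K, Cfsg.gaConj k g f = f' :=
  hf.exists_conj_of_orbSum_mul_ne_zero hf' hK (by rwa [← he.eq_orbSum hLK hK hf h])

theorem IsPrimIdem.exists_eq_orbSum {L K : Subgroup G} (hLK : L ≤ K)
    (hK : K ≤ Subgroup.normalizer (L : Set G)) {e : k[G]} (he : IsPrimIdem (fixSuppGA k L K) e) :
    ∃ f, IsBlk k L f ∧ e * f = f ∧ e = orbSum K f := by
  obtain ⟨f, hf, h⟩ := exists_isBlk_mul_eq (fixSuppGA_mono le_rfl hLK he.mem) he.idem he.ne_zero
  exact ⟨f, hf, h, he.eq_orbSum hLK hK hf (by rw [h]; exact hf.ne_zero)⟩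

/-! ### defect groups -/

/-- `D` is a defect group of `c` relative to the acting group `H` -/
structure IsDefGrp (p : ℕ) (H : Subgroup G) (c : k[G]) (D : Subgroup G) : Prop where
  pgrp : IsPGroup p D
  le : D ≤ H
  br_ne : brGA k D c ≠ 0
  max : ∀ Q : Subgroup G, IsPGroup p Q → Q ≤ H → brGA k Q c ≠ 0 → ∃ x ∈ H, Q ≤ conjSub D x

variable {p : ℕ}

omit [Finite G] in
theorem brGA_conjSub_ne_zero_iff {Q : Subgroup G} {c : k[G]} {g : G} :
    brGA k (conjSub Q g) (gaConj k g c) ≠ 0 ↔ brGA k Q c ≠ 0 := by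
  rw [← gaConj_brGA]; simp

omit [Finite G] in
theorem brGA_conjSub_ne_zero_of_fixed {Q : Subgroup G} {c : k[G]} {g : G} (hg : gaConj k g c = c)
    (h : brGA k Q c ≠ 0) : brGA k (conjSub Q g) c ≠ 0 := by
  rw [← hg]; exact brGA_conjSub_ne_zero_iff.2 h

namespace IsDefGrp

variable {H D : Subgroup G} {c : k[G]}

omit [Finite G] in
theorem conj (hD : IsDefGrp p H c D) (g : G) :
    IsDefGrp p (conjSub H g) (gaConj k g c) (conjSub D g) := by
  refine ⟨IsPGroup.conjSub hD.pgrp g, conjSub_mono hD.le g, brGA_conjSub_ne_zero_iff.2 hD.br_ne, ?_⟩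
  intro Q hQ hQH hbr
  obtain ⟨x, hx, h⟩ := hD.max (conjSub Q g⁻¹) (IsPGroup.conjSub hQ _)
    (by rw [conjSub_le_iff, inv_inv]; exact hQH)
    (by rw [← brGA_conjSub_ne_zero_iff (g := g), conjSub_inv_conjSub]; exact hbr)
  refine ⟨g * x * g⁻¹, conj_mem_conjSub.2 hx, ?_⟩
  rw [← conjSub_mul, inv_mul_cancel_right, conjSub_mul]
  rw [conjSub_le_iff, inv_inv] at h
  exact h

omit [Finite G] in
theorem conj_mem (hD : IsDefGrp p H c D) (hc : IsFixedGA H c) {x : G} (hx : x ∈ H) :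
    IsDefGrp p H c (conjSub D x) := by
  have := hD.conj x
  rwa [conjSub_of_mem hx, hc x hx] at this

theorem card_le (hD : IsDefGrp p H c D) {Q : Subgroup G} (hQ : IsPGroup p Q) (hQH : Q ≤ H)
    (h : brGA k Q c ≠ 0) : Nat.card Q ≤ Nat.card D := by
  obtain ⟨x, -, hx⟩ := hD.max Q hQ hQH h
  rw [← card_conjSub D x]
  exact Subgroup.card_le_of_le hx

theorem card_eq {D' : Subgroup G} (hD : IsDefGrp p H c D) (hD' : IsDefGrp p H c D') :
    Nat.card D = Nat.card D' :=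
  le_antisymm (hD'.card_le hD.pgrp hD.le hD.br_ne) (hD.card_le hD'.pgrp hD'.le hD'.br_ne)

theorem exists_eq_conj (hD : IsDefGrp p H c D) {Q : Subgroup G} (hQ : IsPGroup p Q) (hQH : Q ≤ H)
    (h : brGA k Q c ≠ 0) (hcard : Nat.card D ≤ Nat.card Q) : ∃ x ∈ H, Q = conjSub D x := by
  obtain ⟨x, hx, h⟩ := hD.max Q hQ hQH h
  exact ⟨x, hx, Subgroup.eq_of_le_of_card_ge h (by rwa [card_conjSub])⟩

theorem exists_conj {D' : Subgroup G} (hD : IsDefGrp p H c D) (hD' : IsDefGrp p H c D') :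
    ∃ x ∈ H, D' = conjSub D x :=
  hD.exists_eq_conj hD'.pgrp hD'.le hD'.br_ne (hD.card_eq hD').le

theorem of_card_le (hD : IsDefGrp p H c D) (hc : IsFixedGA H c) {Q : Subgroup G}
    (hQ : IsPGroup p Q) (hQH : Q ≤ H) (h : brGA k Q c ≠ 0) (hcard : Nat.card D ≤ Nat.card Q) :
    IsDefGrp p H c Q := by
  obtain ⟨x, hx, rfl⟩ := hD.exists_eq_conj hQ hQH h hcard
  exact hD.conj_mem hc hx

omit [Finite G] in
theorem exists_ge (hD : IsDefGrp p H c D) (hc : IsFixedGA H c) {Q : Subgroup G}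
    (hQ : IsPGroup p Q) (hQH : Q ≤ H) (h : brGA k Q c ≠ 0) : ∃ D', IsDefGrp p H c D' ∧ Q ≤ D' := by
  obtain ⟨x, hx, h⟩ := hD.max Q hQ hQH h
  exact ⟨_, hD.conj_mem hc hx, h⟩

theorem eq_of_le (hD : IsDefGrp p H c D) {Q : Subgroup G} (hQ : IsPGroup p Q) (hQH : Q ≤ H)
    (h : brGA k Q c ≠ 0) (hle : D ≤ Q) : Q = D :=
  (Subgroup.eq_of_le_of_card_ge hle (hD.card_le hQ hQH h)).symm

omit [Finite G] in
theorem of_maximal (hD : IsDefGrp p H c D) (hc : IsFixedGA H c) {Q : Subgroup G}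
    (hQ : IsPGroup p Q) (hQH : Q ≤ H) (h : brGA k Q c ≠ 0)
    (hmax : ∀ S : Subgroup G, IsPGroup p S → S ≤ H → brGA k S c ≠ 0 → Q ≤ S → S = Q) :
    IsDefGrp p H c Q := by
  obtain ⟨D', hD', hle⟩ := hD.exists_ge hc hQ hQH h
  rwa [hmax D' hD'.pgrp hD'.le hD'.br_ne hle] at hD'

/-- restricting the acting group -/
theorem of_le (hD : IsDefGrp p H c D) {K D' : Subgroup G} (hKH : K ≤ H) (hDK : D ≤ K)
    (hc : IsFixedGA K c) (hD' : IsDefGrp p K c D') : IsDefGrp p K c D :=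
  hD'.of_card_le hc hD.pgrp hDK hD.br_ne (hD.card_le hD'.pgrp (hD'.le.trans hKH) hD'.br_ne)

omit [Finite G] in
theorem le_of_normal (hD : IsDefGrp p H c D) {Q : Subgroup G} (hQ : IsPGroup p Q) (hQH : Q ≤ H)
    (hH : H ≤ Subgroup.normalizer (Q : Set G)) (h : brGA k Q c ≠ 0) : Q ≤ D := by
  obtain ⟨x, hx, h⟩ := hD.max Q hQ hQH h
  rwa [← conjSub_eq_self_iff.2 (hH hx), conjSub_le_conjSub_iff] at h

omit [Finite G] in
theorem br_ne_zero_iff (hD : IsDefGrp p H c D) (hc : IsFixedGA H c) {Q : Subgroup G}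
    (hQ : IsPGroup p Q) (hQH : Q ≤ H) : brGA k Q c ≠ 0 ↔ ∃ x ∈ H, Q ≤ conjSub D x :=
  ⟨hD.max Q hQ hQH, fun ⟨_, hx, h⟩ => brGA_ne_zero_of_le h (hD.conj_mem hc hx).br_ne⟩

variable [Fact p.Prime] [CharP k p]

theorem exists_trGA (hD : IsDefGrp p H c D) {N : Subgroup G} (hc : c ∈ fixSuppGA k N H) :
    ∃ a ∈ fixSuppGA k N D, trGA k D H a = c :=
  exists_trGA_eq_of_mem_fixSuppGA hD.le hc hD.max

theorem of_trGA (hD : IsPGroup p D) (hDH : D ≤ H) {a : k[G]} (ha : IsFixedGA D a)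
    (h : trGA k D H a = c) (hne : brGA k D c ≠ 0) : IsDefGrp p H c D :=
  ⟨hD, hDH, hne, fun _ hQ hQH hbr =>
    exists_le_conjSub_of_brGA_trGA_ne_zero hQ hQH hDH ha (by rwa [h])⟩

/-- enlarging the acting group by an index prime to `p` -/
theorem of_not_dvd_relIndex (hD : IsDefGrp p H c D) {T : Subgroup G} (hHT : H ≤ T)
    (hc : IsFixedGA T c) (hidx : ¬ p ∣ H.relIndex T) : IsDefGrp p T c D := by
  obtain ⟨a, ha, h⟩ := hD.exists_trGA (N := ⊤) (mem_fixSuppGA_top.2 (hc.mono hHT))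
  have hm : ((H.relIndex T : ℕ) : k) ≠ 0 := by rw [Ne, CharP.cast_eq_zero_iff k p]; exact hidx
  refine of_trGA hD.pgrp (hD.le.trans hHT) (a := ((H.relIndex T : ℕ) : k)⁻¹ • a)
    ((fixedGA k D).smul_mem ha.2 _) ?_ hD.br_ne
  rw [map_smul, ← trGA_trGA hD.le hHT ha.2, h, trGA_of_isFixedGA hHT hc,
    ← Nat.cast_smul_eq_nsmul k, smul_smul, inv_mul_cancel₀ hm, one_smul]

end IsDefGrp

variable [Fact p.Prime] [CharP k p]

variable (p) in
theorem IsPrimIdem.exists_isDefGrp {N H : Subgroup G} (hH : H ≤ Subgroup.normalizer (N : Set G))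
    {c : k[G]} (hc : IsPrimIdem (fixSuppGA k N H) c) : ∃ D, IsDefGrp p H c D := by
  obtain ⟨T, hT, hsum⟩ := exists_eq_sum_trGA_single hc.fixed
  obtain ⟨x, hx, y, hy, h⟩ := hc.rosenberg T _ (fun x hx => trGA_mem_fixSuppGA inf_le_left hH
    ⟨single_mem_suppGA (by
      by_contra h; exact hT x hx (mem_suppGA.1 hc.supp x h)) _, isFixedGA_single inf_le_right _⟩)
    hsum
  set C := H ⊓ Subgroup.centralizer ({x} : Set G) with hC
  obtain ⟨P, hP, hPC, hidx⟩ := exists_sylow_le p C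
  have hm : ((P.relIndex C : ℕ) : k) ≠ 0 := by rw [Ne, CharP.cast_eq_zero_iff k p]; exact hidx
  rw [mul_trGA _ hc.fixed, trGA_mul _ hy.2] at h
  set s := c * MonoidAlgebra.single x (c.coeff x) * y with hs
  have hsC : IsFixedGA C s := (fixedGA k C).mul_mem ((fixedGA k C).mul_mem
    (hc.fixed.mono inf_le_left) (isFixedGA_single inf_le_right _)) (hy.2.mono inf_le_left)
  refine ⟨P, IsDefGrp.of_trGA hP (hPC.trans inf_le_left) (a := ((P.relIndex C : ℕ) : k)⁻¹ • s)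
    ((fixedGA k P).smul_mem (hsC.mono hPC) _) ?_ (brGA_ne_zero_iff.2 ⟨x, ?_, hT x hx⟩)⟩
  · rw [map_smul, ← trGA_trGA hPC inf_le_left (hsC.mono hPC), trGA_of_isFixedGA hPC hsC,
      ← Nat.cast_smul_eq_nsmul k, map_smul, smul_smul, inv_mul_cancel₀ hm, one_smul, h]
  · rw [Subgroup.mem_centralizer_iff]
    intro g hg
    exact (Subgroup.mem_centralizer_iff.1 (hPC hg).2 x rfl).symm

variable (p) in
theorem IsBlk.exists_isDefGrp {H : Subgroup G} {c : k[G]} (hc : IsBlk k H c) :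
    ∃ D, IsDefGrp p H c D := IsPrimIdem.exists_isDefGrp p Subgroup.le_normalizer hc

theorem IsPrimIdem.exists_isDefGrp_ge {N H : Subgroup G} (hH : H ≤ Subgroup.normalizer (N : Set G))
    {c : k[G]} (hc : IsPrimIdem (fixSuppGA k N H) c) {Q : Subgroup G} (hQ : IsPGroup p Q)
    (hQH : Q ≤ H) (h : brGA k Q c ≠ 0) : ∃ D, IsDefGrp p H c D ∧ Q ≤ D := by
  obtain ⟨D, hD⟩ := hc.exists_isDefGrp p hH
  exact hD.exists_ge hc.fixed hQ hQH h

theorem IsPrimIdem.isDefGrp_of_maximal {N H : Subgroup G}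
    (hH : H ≤ Subgroup.normalizer (N : Set G)) {c : k[G]} (hc : IsPrimIdem (fixSuppGA k N H) c)
    {Q : Subgroup G} (hQ : IsPGroup p Q) (hQH : Q ≤ H) (h : brGA k Q c ≠ 0)
    (hmax : ∀ S : Subgroup G, IsPGroup p S → S ≤ H → brGA k S c ≠ 0 → Q ≤ S → S = Q) :
    IsDefGrp p H c Q := by
  obtain ⟨D, hD⟩ := hc.exists_isDefGrp p hH
  exact hD.of_maximal hc.fixed hQ hQH h hmax

/-- if `Br_Q(c x) f = f ≠ 0` for a trace `x` from `Q`, then `Q` is a defect group of `c` -/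
theorem IsPrimIdem.isDefGrp_of_trGA {N H Q : Subgroup G} (hNH : N ≤ H)
    (hH : H ≤ Subgroup.normalizer (N : Set G)) {c : k[G]} (hc : IsPrimIdem (fixSuppGA k N H) c)
    (hQ : IsPGroup p Q) (hQH : Q ≤ H) {a f : k[G]} (ha : a ∈ fixSuppGA k N Q) (hf : f ≠ 0)
    (h1 : brGA k Q c * f = f) (h2 : brGA k Q (trGA k Q H a) * f = f) : IsDefGrp p H c Q := by
  have hx := trGA_mem_fixSuppGA hQH hH ha
  have hcx := mul_mem hc.mem hx
  have hne : brGA k Q c ≠ 0 := fun h => hf (by rw [← h1, h, zero_mul])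
  rcases hc.isNilpotent_or_unit hcx (by rw [← mul_assoc, hc.idem.eq])
    (by rw [mul_assoc, (commute_of_mem_fixSuppGA hNH hx hc.mem).eq, ← mul_assoc, hc.idem.eq])
    with ⟨n, hn⟩ | ⟨y, hy, h, -⟩
  · exfalso
    have h3 : brGA k Q (c * trGA k Q H a) * f = f := by
      rw [brGA_mul hQ (hc.fixed.mono hQH) (hx.2.mono hQH), mul_assoc, h2, h1]
    have h4 : ∀ m : ℕ, brGA k Q (c * trGA k Q H a) ^ m * f = f := by
      intro m
      induction m with
      | zero => simp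
      | succ m ih => rw [pow_succ, mul_assoc, h3, ih]
    apply hf
    rw [← h4 n, ← brGA_pow hQ (hcx.2.mono hQH), hn, map_zero, zero_mul]
  · rw [mul_trGA _ hc.fixed, trGA_mul _ hy.2] at h
    exact IsDefGrp.of_trGA hQ hQH ((fixedGA k Q).mul_mem ((fixedGA k Q).mul_mem
      (hc.fixed.mono hQH) ha.2) (hy.2.mono hQH)) h hne

omit [Finite G] [Fact p.Prime] in
theorem IsPGroup.sup_of_le_normalizer {Q S : Subgroup G} (hQ : IsPGroup p Q) (hS : IsPGroup p S)
    (h : S ≤ Subgroup.normalizer (Q : Set G)) : IsPGroup p (S ⊔ Q : Subgroup G) :=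
  IsPGroup.to_sup_of_normal_right' hS hQ h

omit [Finite G] in
theorem inf_normalizer_le_normalizer_inf_centralizer {N H : Subgroup G} (Q : Subgroup G)
    (hH : H ≤ Subgroup.normalizer (N : Set G)) : H ⊓ Subgroup.normalizer (Q : Set G) ≤
      Subgroup.normalizer ((N ⊓ Subgroup.centralizer (Q : Set G) : Subgroup G) : Set G) := by
  intro g hg
  rw [← conjSub_eq_self_iff, conjSub_inf, ← centralizer_conjSub, conjSub_eq_self_iff.2 (hH hg.1),
    conjSub_eq_self_iff.2 hg.2]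

omit [Finite G] in
theorem inf_centralizer_le_inf_normalizer {N H : Subgroup G} (Q : Subgroup G) (hNH : N ≤ H) :
    N ⊓ Subgroup.centralizer (Q : Set G) ≤ H ⊓ Subgroup.normalizer (Q : Set G) :=
  inf_le_inf hNH (centralizer_le_normalizer' Q)

/-- first main theorem, one direction: `Br_D(c)` is primitive in `(k C_N(D))^{N_H(D)}` -/
theorem IsDefGrp.isPrimIdem_brGA {N H D : Subgroup G}
    (hH : H ≤ Subgroup.normalizer (N : Set G)) {c : k[G]} (hc : IsPrimIdem (fixSuppGA k N H) c)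
    (hD : IsDefGrp p H c D) :
    IsPrimIdem (fixSuppGA k (N ⊓ Subgroup.centralizer (D : Set G))
      (H ⊓ Subgroup.normalizer (D : Set G))) (brGA k D c) := by
  refine hc.map (brGA k D) (map_zero _)
    (fun x hx y hy => brGA_mul hD.pgrp (hx.2.mono hD.le) (hy.2.mono hD.le))
    (brGA_mem_fixSuppGA D hc.mem inf_le_left inf_le_right) ?_ hD.br_ne
  intro f hf hl _
  obtain ⟨a, ha, h⟩ := hD.exists_trGA hc.mem
  have hs : brGA k D a * f ∈ suppGA k (Subgroup.centralizer (D : Set G)) :=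
    mul_mem (brGA_mem_suppGA D a) (suppGA_mono inf_le_right hf.1)
  have hfix := isFixedGA_of_mem_suppGA_centralizer hs
  refine ⟨trGA k D H (brGA k D a * f), trGA_mem_fixSuppGA hD.le hH ⟨mul_mem
    (brGA_mem_suppGA_of_mem D ha.1) (suppGA_mono inf_le_left hf.1), hfix⟩, ?_⟩
  rw [brGA_trGA_self hD.pgrp hD.le hfix, brGA_eq_self hs, ← trGA_mul _ hf.2,
    ← brGA_trGA_self hD.pgrp hD.le ha.2, h, hl]

omit [CharP k p] in
theorem IsDefGrp.isDefGrp_brGA {H D : Subgroup G} {c : k[G]} (hD : IsDefGrp p H c D)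
    {K : Subgroup G} (hDK : D ≤ K) (hK : K ≤ H ⊓ Subgroup.normalizer (D : Set G)) :
    IsDefGrp p K (brGA k D c) D := by
  refine ⟨hD.pgrp, hDK, by rw [brGA_brGA_of_le le_rfl]; exact hD.br_ne, ?_⟩
  intro Q hQ hQK hbr
  rw [brGA_brGA] at hbr
  have := hD.eq_of_le (IsPGroup.sup_of_le_normalizer hD.pgrp hQ (hQK.trans (hK.trans inf_le_right)))
    (sup_le (hQK.trans (hK.trans inf_le_left)) hD.le) hbr le_sup_right
  exact ⟨1, K.one_mem, by rw [conjSub_one, ← this]; exact le_sup_left⟩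

theorem IsPrimIdem.eq_of_brGA_mul_ne_zero {N H Q : Subgroup G} (hNH : N ≤ H) {c c' : k[G]}
    (hc : IsPrimIdem (fixSuppGA k N H) c) (hc' : IsPrimIdem (fixSuppGA k N H) c')
    (hQ : IsPGroup p Q) (hQH : Q ≤ H) (h : brGA k Q c * brGA k Q c' ≠ 0) : c = c' :=
  hc.fix_eq_of_mul_ne_zero hNH hc' fun h0 => h (by
    rw [← brGA_mul hQ (hc.fixed.mono hQH) (hc'.fixed.mono hQH), h0, map_zero])

theorem IsPrimIdem.eq_of_brGA_mul_eq {N H Q : Subgroup G} (hNH : N ≤ H) {c c' f : k[G]}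
    (hc : IsPrimIdem (fixSuppGA k N H) c) (hc' : IsPrimIdem (fixSuppGA k N H) c')
    (hQ : IsPGroup p Q) (hQH : Q ≤ H) (hf : f ≠ 0) (h : brGA k Q c * f = f)
    (h' : brGA k Q c' * f = f) : c = c' :=
  hc.eq_of_brGA_mul_ne_zero hNH hc' hQ hQH fun h0 => hf (by
    rw [← h, ← h', ← mul_assoc, h0, zero_mul])

/-- some primitive idempotent `c` of `(k N)^H` has `Br_Q(c) f ≠ 0` -/
theorem exists_isPrimIdem_brGA_mul_ne_zero (N H Q : Subgroup G) {f : k[G]} (hf : f ≠ 0) :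
    ∃ c, IsPrimIdem (fixSuppGA k N H) c ∧ brGA k Q c * f ≠ 0 := by
  obtain ⟨c, hc, -, -, h⟩ := exists_primIdem_map_ne_zero (fixSuppGA k N H) (one_mem _)
    IsIdempotentElem.one ((AddMonoidHom.mulRight f).comp (brGA k Q).toAddMonoidHom)
    (by simpa [brGA_one] using hf)
  exact ⟨c, hc, h⟩

/-- first main theorem, other direction -/
theorem IsDefGrp.exists_brGA_eq {N H D : Subgroup G} (hNH : N ≤ H)
    (hH : H ≤ Subgroup.normalizer (N : Set G)) {f : k[G]}
    (hf : IsPrimIdem (fixSuppGA k (N ⊓ Subgroup.centralizer (D : Set G))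
      (H ⊓ Subgroup.normalizer (D : Set G))) f)
    (hD : IsDefGrp p (H ⊓ Subgroup.normalizer (D : Set G)) f D) :
    ∃ c, IsPrimIdem (fixSuppGA k N H) c ∧ IsDefGrp p H c D ∧ brGA k D c = f := by
  have hDH : D ≤ H := hD.le.trans inf_le_left
  obtain ⟨c, hc, h⟩ := exists_isPrimIdem_brGA_mul_ne_zero N H D hf.ne_zero
  have hmem := brGA_mem_fixSuppGA D hc.mem
    (inf_le_left : H ⊓ Subgroup.normalizer (D : Set G) ≤ H) inf_le_right
  have hcomm := inf_centralizer_le_inf_normalizer D hNH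
  have h1 := hf.fix_mul_eq_of_ne_zero hcomm hmem
    (isIdempotentElem_brGA hD.pgrp (hc.fixed.mono hDH) hc.idem) h
  obtain ⟨a, ha, h2⟩ := hD.exists_trGA hf.mem
  have hcD := hc.isDefGrp_of_trGA hNH hH hD.pgrp hDH (a := a)
    ⟨suppGA_mono inf_le_left ha.1, ha.2⟩ hf.ne_zero h1 (by
      rw [brGA_trGA_self hD.pgrp hDH ha.2, brGA_eq_self (suppGA_mono inf_le_right ha.1), h2,
        hf.idem.eq])
  exact ⟨c, hc, hcD, (hcD.isPrimIdem_brGA hH hc).fix_eq_of_mul_ne_zero hcomm hf h⟩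

end Cfsg
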