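import Cfsg.Agent.Blk.CycTwo

/-! Finite `2`-groups with a cyclic subgroup of index four. -/

set_option autoImplicit false

namespace Cfsg

universe u v w

variable {D : Type u} [Group D]

/-- the remaining groups with a cyclic subgroup of index four -/
structure CID {D : Type u} [Group D] (x y t : D) (m : ℕ) (α β : D →* ℤˣ) : Prop where
  pow : ∃ a, m = 2 ^ (a + 1)
  cen : Subgroup.center D = Subgroup.zpowers (x ^ (2 * m))
  cen_iff : ∀ j : ℤ, x ^ j ∈ Subgroup.center D ↔ 2 * (m : ℤ) ∣ j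
  exp : ∃ N, (∀ c ∈ Subgroup.center D, c ^ N = 1) ∧ y ^ N = 1 ∧ (x ^ m) ^ N ≠ 1
  y_sq : y * y = 1
  y_not : y ∉ Subgroup.zpowers x
  mem : ∀ a, α a = 1 → ∃ j : ℤ, a = x ^ j ∨ a = x ^ j * y
  α_iff : ∀ d, α d = 1 ↔ x ^ m * d = d * x ^ m
  β_iff : ∀ d, β d = 1 ↔ y * d = d * y
  γ_iff : ∀ d, α d = β d ↔ x ^ m * y * d = d * (x ^ m * y)
  k_cen : ∀ d, ∃ c ∈ Subgroup.center D, d * x ^ m * d⁻¹ = c * x ^ m
  y_cen : ∀ d, ∃ c ∈ Subgroup.center D, d * y * d⁻¹ = c * y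
  αt : α t = -1
  βx : β x = -1
  βt : β t = 1

theorem not_sq_central [Finite D] {x y t : D} (hZ : Subgroup.center D ≤ Subgroup.zpowers x)
    (hsq : ∀ a : D, a * a ∈ Subgroup.center D) {M : Subgroup D} (hx : x ∈ M) (hy : y ∈ M)
    (hy' : y ∉ Subgroup.zpowers x) (ht : t ∉ M)
    (gen : ∀ H : Subgroup D, x ∈ H → y ∈ H → t ∈ H → H = ⊤) : x ∈ Subgroup.center D := by
  have h1 : ∀ a b : D, b * a * b⁻¹ * a⁻¹ ∈ Subgroup.center D := fun a b => by
    have := mul_mem (mul_mem (inv_mem (hsq a)) (hsq (a * b))) (inv_mem (hsq b))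
    have h2 := Subgroup.mem_center_iff.1 this a
    rw [show b * a * b⁻¹ * a⁻¹ = a * ((a * a)⁻¹ * (a * b * (a * b)) * (b * b)⁻¹) * a⁻¹ by group, h2,
      mul_inv_cancel_right]
    exact this
  have h2 : ∀ a b : D, ¬ Commute a b → orderOf (b * a * b⁻¹ * a⁻¹) = 2 := fun a b h => by
    refine orderOf_eq_prime ?_ fun h3 => h (by
      rw [mul_inv_eq_one, mul_inv_eq_iff_eq_mul] at h3; exact h3.symm)
    calc _ = b * a * b⁻¹ * (a⁻¹ * (b * a * b⁻¹ * a⁻¹)) := by rw [sq]; group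
      _ = b * (a * a) * b⁻¹ * (a * a)⁻¹ := by rw [← mul_comm_of_mem_center (h1 a b)]; group
      _ = 1 := by rw [← mul_comm_of_mem_center (hsq a)]; group
  have h3 : ∀ a b c : D, Commute (a * b) c ↔ (Commute a c ↔ Commute b c) := fun a b c => by
    by_cases ha : Commute a c
    · simp only [ha, true_iff]
      exact ⟨fun h => by simpa using ha.inv_left.mul_left h, ha.mul_left⟩
    by_cases hb : Commute b c
    · simp only [hb, ha, iff_true, iff_false]
      exact fun h => ha (by simpa using h.mul_left hb.inv_left)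
    simp only [ha, hb, iff_true]
    have h3 := eq_of_mem_zpowers_of_orderOf_two (hZ (h1 a c)) (hZ (h1 b c)) (h2 a c ha) (h2 b c hb)
    have h4 := pow_orderOf_eq_one (c * a * c⁻¹ * a⁻¹)
    rw [h2 a c ha, sq] at h4
    refine (mul_inv_eq_iff_eq_mul.1 ?_ : c * (a * b) = a * b * c).symm
    calc c * (a * b) * c⁻¹ = c * a * c⁻¹ * a⁻¹ * (a * (c * b * c⁻¹ * b⁻¹)) * b := by group
      _ = a * b := by rw [← mul_comm_of_mem_center (h1 b c), ← h3, ← mul_assoc, h4, one_mul]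
  have h4 : ∀ w : D, Commute w x → Commute w y → Commute w t → w ∈ Subgroup.center D :=
    fun w a b c => Subgroup.mem_center_iff.2 fun g => Subgroup.mem_centralizer_singleton_iff.1
      ((gen (Subgroup.centralizer {w}) (Subgroup.mem_centralizer_singleton_iff.2 a.symm)
        (Subgroup.mem_centralizer_singleton_iff.2 b.symm)
        (Subgroup.mem_centralizer_singleton_iff.2 c.symm)).ge (Subgroup.mem_top g))
  have h5 : ∀ w ∈ M, w * t ∉ Subgroup.center D := fun w hw h5 =>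
    ht ((mul_mem_cancel_left hw).1 (Subgroup.zpowers_le.2 hx (hZ h5)))
  by_contra h6
  have b2 : y ∉ Subgroup.center D := fun h => hy' (hZ h)
  have b4 : x * y ∉ Subgroup.center D := fun h =>
    hy' ((mul_mem_cancel_left (Subgroup.mem_zpowers x)).1 (hZ h))
  have c1 : Commute y x ↔ Commute x y := Commute.symm_iff
  have c2 : Commute t x ↔ Commute x t := Commute.symm_iff
  have c3 : Commute t y ↔ Commute y t := Commute.symm_iff
  by_cases p : Commute x y <;> by_cases q : Commute x t <;> by_cases r : Commute y t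
  · exact h6 (h4 x (Commute.refl x) p q)
  · exact h6 (h4 x (Commute.refl x) p q)
  · exact b2 (h4 y p.symm (Commute.refl y) r)
  · exact b4 (h4 _ (by simp [h3, c1, p]) (by simp [h3, p]) (by simp [h3, q, r]))
  · exact h5 1 (one_mem _) (h4 _ (by simp [c2, q]) (by simp [c3, r]) (by simp))
  · exact h5 x hx (h4 _ (by simp [h3, c2, q]) (by simp [h3, c3, p, r]) (by simp [h3, q]))
  · exact h5 y hy (h4 _ (by simp [h3, c1, c2, p, q]) (by simp [h3, c3, r]) (by simp [h3, r]))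
  · exact h5 _ (mul_mem hx hy) (h4 _ (by simp [h3, c1, c2, p, q]) (by simp [h3, c3, p, r])
      (by simp [h3, q, r]))

/-- `x` generates a subgroup of index four and no quotient by a central cyclic subgroup has a
cyclic subgroup of index at most two -/
structure CIN {D : Type u} [Group D] (x : D) : Prop where
  pg : IsPGroup 2 D
  le : (Subgroup.zpowers x).index ≤ 4
  big : ∀ g ∈ Subgroup.center D, ∀ w, 2 < (Subgroup.zpowers g ⊔ Subgroup.zpowers w).index

namespace CIN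
variable [Finite D] {x : D} (h : CIN x)
include h

theorem index_le {H : Subgroup D} (hH : Subgroup.zpowers x < H) : H.index ≤ 2 := by
  have := two_mul_index_le_of_lt hH
  have := h.le
  omega

theorem not_lt {g : D} (hg : g ∈ Subgroup.center D) (w : D) :
    ¬ Subgroup.zpowers x < Subgroup.zpowers g ⊔ Subgroup.zpowers w :=
  fun h1 => (h.big g hg w).not_ge (h.index_le h1)

theorem cen_le : Subgroup.center D ≤ Subgroup.zpowers x := fun g hg => by
  by_contra h1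
  exact h.not_lt hg x (lt_of_le_not_ge le_sup_right fun h2 =>
    h1 (h2 (Subgroup.mem_sup_left (Subgroup.mem_zpowers g))))

theorem index_eq : (Subgroup.zpowers x).index = 4 := by
  have h1 := h.big 1 (one_mem _) x
  rw [Subgroup.zpowers_one_eq_bot, bot_sup_eq] at h1
  obtain ⟨n, hn⟩ := h.pg.index (Subgroup.zpowers x)
  have h2 := h.le
  have : (Subgroup.zpowers x).index ≠ 3 := fun h3 => by
    obtain _ | n := n <;> omega
  omega

theorem notMem_cen : x ∉ Subgroup.center D := fun hx => by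
  obtain ⟨w, hw⟩ : ∃ w, w ∉ Subgroup.zpowers x := by
    by_contra! h2
    have := h.index_eq
    rw [(Subgroup.eq_top_iff' _).2 h2, Subgroup.index_top] at this
    omega
  exact h.not_lt hx w (lt_of_le_not_ge le_sup_left fun h2 =>
    hw (h2 (Subgroup.mem_sup_right (Subgroup.mem_zpowers w))))

theorem sq_mem {a : D} (ha : a ∉ Subgroup.zpowers x) (h2 : a * a ∈ Subgroup.zpowers x) :
    ∃ j : ℤ, a * a = x ^ (2 * j) := by
  obtain ⟨j, hj⟩ := h2
  obtain ⟨i, rfl | rfl⟩ := Int.even_or_odd' j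
  · exact ⟨i, hj.symm⟩
  obtain ⟨n, hn⟩ := IsPGroup.iff_orderOf.1 h.pg x
  refine absurd (lt_of_le_not_ge (le_trans (Subgroup.zpowers_le.2 ?_) le_sup_right) fun h3 =>
    ha (h3 (Subgroup.mem_sup_right (Subgroup.mem_zpowers a)))) (h.not_lt (one_mem _) a)
  refine Subgroup.zpowers_le.2 ?_ (mem_zpowers_zpow_odd hn i)
  rw [show x ^ (2 * i + 1) = _ from hj]
  exact mul_mem (Subgroup.mem_zpowers a) (Subgroup.mem_zpowers a)

theorem exists_M : ∃ M : Subgroup D, x ∈ M ∧ M.index = 2 := by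
  obtain ⟨n, hn⟩ := IsPGroup.iff_card.1 (h.pg.to_subgroup (Subgroup.zpowers x))
  have h1 := (Subgroup.zpowers x).card_mul_index
  rw [h.index_eq, hn] at h1
  obtain ⟨M, h2, h3⟩ := Sylow.exists_subgroup_card_pow_succ (p := 2) ⟨2, by rw [← h1]; ring⟩ hn
  refine ⟨M, h3 (Subgroup.mem_zpowers x), Nat.eq_of_mul_eq_mul_left (Nat.two_pow_pos (n + 1)) ?_⟩
  rw [← h2, M.card_mul_index, h2, ← h1]; ring

theorem mul_mem_of {M : Subgroup D} (hx : x ∈ M) (hM : M.index = 2) {a b : D} (ha : a ∈ M)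
    (hb : b ∈ M) (ha' : a ∉ Subgroup.zpowers x) (hb' : b ∉ Subgroup.zpowers x) :
    a * b ∈ Subgroup.zpowers x := by
  have := Subgroup.relIndex_mul_index (Subgroup.zpowers_le.2 hx)
  rw [hM, h.index_eq] at this
  exact mul_mem_of_relIndex_le_two (by omega) ha hb ha' hb'

theorem exists_mem {M : Subgroup D} (hM : M.index = 2) :
    (∃ a ∈ M, a ∉ Subgroup.zpowers x) ∧ ∃ t, t ∉ M := by
  constructor <;> by_contra! h1
  · have := Nat.le_of_dvd (by omega) (Subgroup.index_dvd_of_le h1)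
    rw [h.index_eq] at this
    omega
  · rw [(Subgroup.eq_top_iff' _).2 h1, Subgroup.index_top] at hM
    omega

theorem conj_mem {M : Subgroup D} (hx : x ∈ M) (hM : M.index = 2) {a : D} (ha : a ∈ M) :
    a * x * a⁻¹ ∈ Subgroup.zpowers x := by
  have h1 := Subgroup.mem_zpowers x
  by_cases h2 : a ∈ Subgroup.zpowers x
  · exact mul_mem (mul_mem h2 h1) (inv_mem h2)
  · exact h.mul_mem_of hx hM (mul_mem ha hx) (inv_mem ha) (by rwa [mul_mem_cancel_right h1])
      (by rwa [inv_mem_iff])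

theorem conj_sq (d : D) : ∃ j : ℤ, d * x ^ 2 * d⁻¹ = x ^ (2 * j) := by
  obtain ⟨M, hx, hM⟩ := h.exists_M
  have h1 := (Subgroup.normal_of_index_eq_two hM).conj_mem x hx d
  rw [← conj_pow, sq]
  by_cases h2 : d * x * d⁻¹ ∈ Subgroup.zpowers x
  · obtain ⟨j, hj⟩ := h2
    exact ⟨j, by rw [← show x ^ j = _ from hj]; group⟩
  · exact h.sq_mem h2 (h.mul_mem_of hx hM h1 h1 h2 h2)

theorem conj_even (d : D) (i : ℤ) : d * x ^ (2 * i) * d⁻¹ ∈ Subgroup.zpowers x := by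
  obtain ⟨j, hj⟩ := h.conj_sq d
  exact ⟨2 * j * i, by rw [zpow_mul x 2, zpow_ofNat, ← conj_zpow, hj, ← zpow_mul]⟩

theorem sq_notMem_cen : x ^ 2 ∉ Subgroup.center D := fun hx => by
  obtain ⟨M, hxM, hM⟩ := h.exists_M
  obtain ⟨⟨y, hy, hy'⟩, t, ht⟩ := h.exists_mem hM
  refine h.notMem_cen (not_sq_central h.cen_le (fun w => ?_) hxM hy hy' ht fun H h1 h2 h3 => ?_)
  · by_contra hw
    have h1 : (Subgroup.zpowers (x ^ 2)).index ≤ 8 := by
      rw [← Subgroup.relIndex_mul_index (Subgroup.zpowers_le.2 (pow_mem (Subgroup.mem_zpowers x) 2)),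
        h.index_eq]
      refine Nat.mul_le_mul_right 4 (Nat.le_of_dvd two_pos
        (Subgroup.relIndex_dvd_two_iff.2 ⟨x, Subgroup.mem_zpowers x, ?_⟩))
      rintro _ ⟨j, rfl⟩
      obtain ⟨i, rfl | rfl⟩ := Int.even_or_odd' j
      exacts [Or.inr ⟨i, by group⟩, Or.inl ⟨i + 1, by group⟩]
    have h2 := Subgroup.zpowers_le.2 hx
    have h3 := Subgroup.mem_zpowers w
    have h4 := two_mul_index_le_of_lt (lt_of_le_not_ge (le_sup_left (b := Subgroup.zpowers (w * w)))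
      fun h4 => hw (h2 (h4 (Subgroup.mem_sup_right (Subgroup.mem_zpowers _)))))
    have h5 := two_mul_index_le_of_lt (lt_of_le_not_ge (sup_le_sup_left
      (Subgroup.zpowers_le.2 (mul_mem h3 h3)) (Subgroup.zpowers (x ^ 2))) fun h5 => hw (by
        have := (h5.trans (sup_le_sup_right h2 _)) (Subgroup.mem_sup_right h3)
        rw [← SetLike.mem_coe, Subgroup.normal_mul] at this
        obtain ⟨c, hc, _, ⟨j, rfl⟩, h6⟩ := this
        obtain ⟨n, hn⟩ := IsPGroup.iff_orderOf.1 h.pg w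
        have h7 : w ^ (2 * (-j) + 1) = c := by
          rw [← mul_inv_eq_iff_eq_mul.2 (Eq.symm h6), ← sq]; group
        have h8 := Subgroup.zpowers_le.2 (h7 ▸ hc) (mem_zpowers_zpow_odd hn (-j))
        exact mul_mem h8 h8))
    have := h.big _ hx w
    omega
  · have h4 := h.index_le (H := H ⊓ M) (lt_of_le_not_ge (Subgroup.zpowers_le.2 ⟨h1, hxM⟩)
      fun h4 => hy' (h4 ⟨h2, hy⟩))
    have h5 := two_mul_index_le_of_lt (lt_of_le_not_ge (inf_le_left (b := M)) fun h5 => ht (h5 h3).2)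
    have : H.index ≠ 0 := Subgroup.index_ne_zero_of_finite
    exact Subgroup.index_eq_one.1 (by omega)

theorem exists_ord : ∃ a, orderOf x = 2 * 2 ^ (a + 2) := by
  obtain ⟨n, hn⟩ := IsPGroup.iff_orderOf.1 h.pg x
  obtain _ | _ | _ | n := n
  · exact absurd (by simp [orderOf_eq_one_iff.1 hn]) h.notMem_cen
  · exact absurd (by simp [show x ^ 2 = 1 by simpa [hn] using pow_orderOf_eq_one x]) h.sq_notMem_cen
  · refine absurd (Subgroup.mem_center_iff.2 fun d => mul_inv_eq_iff_eq_mul.1 ?_) h.sq_notMem_cen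
    have h1 : orderOf (x ^ 2) = 2 := by rw [orderOf_pow, hn]; rfl
    exact eq_of_mem_zpowers_of_orderOf_two (by simpa using h.conj_even d 1)
      (pow_mem (Subgroup.mem_zpowers x) 2)
      ((orderOf_eq_of_isConj (isConj_iff.2 ⟨d, rfl⟩)).trans h1) h1
  · exact ⟨n, by rw [hn]; ring⟩

variable {n : ℕ} (ho : orderOf x = 2 * 2 ^ (n + 2))
include ho

omit [Finite D] h in
theorem zpow_eq_one_iff {j : ℤ} : x ^ j = 1 ↔ 8 * (2 : ℤ) ^ n ∣ j := by
  rw [← orderOf_dvd_iff_zpow_eq_one, ho]; push_cast; ring_nf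

omit [Finite D] h in
theorem z_sq : x ^ 2 ^ (n + 2) * x ^ 2 ^ (n + 2) = 1 := by
  rw [← pow_add, ← two_mul, ← ho, pow_orderOf_eq_one]

omit [Finite D] h in
theorem z_ne : x ^ 2 ^ (n + 2) ≠ 1 := fun h1 => by
  have := Nat.le_of_dvd (Nat.two_pow_pos _) (ho ▸ orderOf_dvd_of_pow_eq_one h1)
  have := Nat.two_pow_pos (n + 2)
  omega

omit [Finite D] h in
theorem conj_cases {τ : D} (h1 : τ * x * τ⁻¹ ∈ Subgroup.zpowers x)
    (h2 : τ * τ ∈ Subgroup.zpowers x) :
    (τ * x * τ⁻¹ = x ∨ τ * x * τ⁻¹ = x ^ 2 ^ (n + 2) * x) ∧ τ * x ^ 2 * τ⁻¹ = x ^ 2 ∨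
      τ * x ^ 2 * τ⁻¹ = (x ^ 2)⁻¹ := by
  have h3 := z_sq ho
  rw [← sq] at h3
  rcases conj_cases_of_sq rfl ho h1 h2 with (h4 | h4) | h4 | h4 <;>
    simp [← conj_pow, h4, (Commute.pow_self x _).mul_pow, (Commute.pow_self x _).inv_right.mul_pow,
      h3]

omit [Finite D] h in
theorem sq_ne_inv : x ^ 2 ≠ (x ^ 2)⁻¹ := fun h1 => by
  have : x ^ (4 : ℤ) = 1 := by rw [← mul_inv_cancel (x ^ 2), ← h1]; group
  have := Int.le_of_dvd four_pos ((zpow_eq_one_iff ho).1 this)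
  have : (0 : ℤ) < 2 ^ n := by positivity
  omega

theorem z_cen : x ^ 2 ^ (n + 2) ∈ Subgroup.center D := Subgroup.mem_center_iff.2 fun d => by
  have h1 := h.conj_even d (2 ^ (n + 1))
  rw [show x ^ (2 * 2 ^ (n + 1) : ℤ) = x ^ 2 ^ (n + 2) by rw [← zpow_natCast]; push_cast; ring_nf]
    at h1
  rcases eq_of_mem_zpowers_of_sq ho h1 (by rw [conj_mul, z_sq ho]; simp) with h2 | h2
  · exact absurd (by simpa using h2) (z_ne ho)
  · exact mul_inv_eq_iff_eq_mul.1 h2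

theorem index_centralizer : (Subgroup.centralizer {x ^ 2}).index = 2 := by
  have h0 : ∀ {d}, d ∈ Subgroup.centralizer {x ^ 2} ↔ d * x ^ 2 * d⁻¹ = x ^ 2 := by
    simp [Subgroup.mem_centralizer_singleton_iff, mul_inv_eq_iff_eq_mul]
  have h1 : Subgroup.zpowers x ≤ Subgroup.centralizer {x ^ 2} :=
    Subgroup.zpowers_le.2 (h0.2 (by group))
  have h2 : (Subgroup.centralizer {x ^ 2}).index ≠ 1 := fun h2 => h.sq_notMem_cen
    (Subgroup.mem_center_iff.2 fun d => Subgroup.mem_centralizer_singleton_iff.1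
      ((Subgroup.index_eq_one.1 h2).ge (Subgroup.mem_top d)))
  have h3 : (Subgroup.centralizer {x ^ 2}).index ≠ 0 := Subgroup.index_ne_zero_of_finite
  refine le_antisymm (h.index_le (lt_of_le_not_ge h1 fun h4 => ?_)) (by omega)
  have h5 : ∀ d, d ∉ Subgroup.zpowers x → d * d ∈ Subgroup.zpowers x →
      d * x ^ 2 * d⁻¹ = (x ^ 2)⁻¹ := fun d hd hd2 => by
    refine (conj_cases ho (h4 (h0.2 ?_)) hd2).resolve_left fun h5 => hd (h4 (h0.2 h5.2))
    obtain ⟨j, hj⟩ := h.conj_sq d⁻¹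
    calc _ = d * (x * (d⁻¹ * x ^ 2 * d⁻¹⁻¹) * x⁻¹) * d⁻¹ := by group
      _ = d * (d⁻¹ * x ^ 2 * d⁻¹⁻¹) * d⁻¹ := by rw [hj]; group
      _ = _ := by group
  obtain ⟨M, hx, hM⟩ := h.exists_M
  obtain ⟨⟨τ, hτ, hτ'⟩, s, hs⟩ := h.exists_mem hM
  have h6 : ∀ d ∈ M, d ∉ Subgroup.zpowers x → d * x ^ 2 * d⁻¹ = (x ^ 2)⁻¹ := fun d hd hd' =>
    h5 d hd' (h.mul_mem_of hx hM hd hd hd' hd')
  have h7 := Subgroup.zpowers_le.2 hx
  by_cases h8 : s * s ∈ Subgroup.zpowers x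
  · refine hs ((mul_mem_cancel_right hτ).1 (h7 (h4 (h0.2 ?_))))
    calc _ = s * (τ * x ^ 2 * τ⁻¹) * s⁻¹ := by group
      _ = (s * x ^ 2 * s⁻¹)⁻¹ := by rw [h6 τ hτ hτ']; group
      _ = _ := by rw [h5 s (fun h9 => hs (h7 h9)) h8, inv_inv]
  · obtain ⟨j, hj⟩ := h.conj_sq s
    have h9 : x ^ (2 * (j * j + 1)) = 1 := by
      calc _ = (x ^ (2 * j)) ^ j * x ^ 2 := by group
        _ = s * (s * x ^ 2 * s⁻¹) * s⁻¹ * x ^ 2 := by
          rw [← hj, conj_zpow, hj, zpow_mul x 2, zpow_ofNat]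
        _ = s * s * x ^ 2 * (s * s)⁻¹ * x ^ 2 := by group
        _ = 1 := by rw [h6 _ (Subgroup.mul_self_mem_of_index_two hM s) h8, inv_mul_cancel]
    obtain ⟨c, hc⟩ := (dvd_mul_right _ _).trans ((zpow_eq_one_iff ho).1 h9)
    obtain ⟨i, rfl | rfl⟩ := Int.even_or_odd' j
    · have : 2 * (2 * c - 2 * i * i) = 1 := by linarith
      omega
    · have : 2 * (c - i * i - i) = 1 := by linarith
      omega

theorem exists_y : ∃ y, y ∈ Subgroup.centralizer {x ^ 2} ∧ y ∉ Subgroup.zpowers x ∧ y * y = 1 ∧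
    (y * x * y⁻¹ = x ∨ y * x * y⁻¹ = x ^ 2 ^ (n + 2) * x) := by
  have hM := h.index_centralizer ho
  have hx : x ∈ Subgroup.centralizer {x ^ 2} := Subgroup.mem_centralizer_singleton_iff.2 (by group)
  have key : ∀ τ ∈ Subgroup.centralizer {x ^ 2}, τ ∉ Subgroup.zpowers x →
      (τ * x * τ⁻¹ = x ∨ τ * x * τ⁻¹ = x ^ 2 ^ (n + 2) * x) := fun τ hτ hτ' =>
    ((conj_cases ho (h.conj_mem hx hM hτ) (h.mul_mem_of hx hM hτ hτ hτ' hτ')).resolve_right
      fun h1 => sq_ne_inv ho (by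
        rwa [Subgroup.mem_centralizer_singleton_iff.1 hτ, mul_inv_cancel_right] at h1)).1
  obtain ⟨⟨τ, hτ, hτ'⟩, -⟩ := h.exists_mem hM
  obtain ⟨i, hi⟩ := h.sq_mem hτ' (h.mul_mem_of hx hM hτ hτ hτ' hτ')
  obtain ⟨l, hl⟩ := exists_invol_of_modular ho
    ((key τ hτ hτ').imp_right fun h1 => ⟨h1, 2 ^ n, by ring⟩) hi
  have h1 := mul_mem (zpow_mem hx l) hτ
  have h2 : x ^ l * τ ∉ Subgroup.zpowers x := by
    rwa [mul_mem_cancel_left (zpow_mem (Subgroup.mem_zpowers x) l)]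
  exact ⟨_, h1, h2, hl, key _ h1 h2⟩

omit ho in
theorem exists_m : ∃ a, ∀ j : ℤ, x ^ j ∈ Subgroup.center D ↔ 2 * ((2 ^ (a + 1) : ℕ) : ℤ) ∣ j := by
  obtain ⟨k, hk⟩ := IsPGroup.iff_orderOf.1 (h.pg.to_quotient (Subgroup.center D)) (x : D ⧸ _)
  have h1 : ∀ j : ℤ, x ^ j ∈ Subgroup.center D ↔ ((2 ^ k : ℕ) : ℤ) ∣ j := fun j => by
    rw [← hk, orderOf_dvd_iff_zpow_eq_one, ← QuotientGroup.mk_zpow, QuotientGroup.eq_one_iff]
  obtain _ | _ | k := k
  · exact absurd (by simpa using h1 1) h.notMem_cen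
  · exact absurd (by simpa using h1 2) h.sq_notMem_cen
  · exact ⟨k, fun j => by rw [h1, pow_succ' 2 (k + 1)]; push_cast; rfl⟩

omit ho in
theorem exists_CID : ∃ y t m α β, CID x y t m α β := by
  obtain ⟨n, ho⟩ := h.exists_ord
  obtain ⟨a, ha⟩ := h.exists_m
  set m := 2 ^ (a + 1) with hm
  obtain ⟨y, hy, hy', hy2, hyx⟩ := h.exists_y ho
  have hM := h.index_centralizer ho
  have hz := h.z_cen ho
  have hz2 := z_sq ho
  have hz1 := z_ne ho
  set z := x ^ 2 ^ (n + 2) with hz0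
  have hzx : z ∈ Subgroup.zpowers x := h.cen_le hz
  set C := Subgroup.centralizer {x ^ 2} with hC
  have hx : x ∈ C := Subgroup.mem_centralizer_singleton_iff.2 (by group)
  obtain ⟨-, t, ht⟩ := h.exists_mem hM
  have h1 : ∀ b ∈ C, ∃ j : ℤ, b = x ^ j ∨ b = x ^ j * y := fun b hb => by
    by_cases h1 : b ∈ Subgroup.zpowers x
    · exact h1.imp fun j hj => Or.inl hj.symm
    · obtain ⟨j, hj⟩ := h.mul_mem_of hx hM hb hy h1 hy'
      exact ⟨j, Or.inr (by rw [show x ^ j = _ from hj, mul_assoc, hy2, mul_one])⟩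
  have h2 : ∀ w : D, (∀ b ∈ C, b * w = w * b) → ∀ s ∉ C, s * w = w * s → w ∈ Subgroup.center D :=
    fun w h2 s hs h3 => Subgroup.mem_center_iff.2 fun d => by
      by_cases hd : d ∈ C
      · exact h2 d hd
      have h4 : Commute (d * s⁻¹) w := h2 _ ((Subgroup.mul_mem_iff_of_index_two hM).2
        (iff_of_false hd (by rwa [inv_mem_iff])))
      simpa [commute_iff_eq] using h4.mul_left h3
  have h3 : ∀ j : ℤ, ∀ b ∈ C, b * x ^ (2 * j) = x ^ (2 * j) * b := fun j b hb => by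
    rw [zpow_mul, zpow_ofNat]
    exact Commute.zpow_right (Subgroup.mem_centralizer_singleton_iff.1 hb) j
  have hk : x ^ m = x ^ (2 * 2 ^ a : ℤ) := by rw [← zpow_natCast, hm]; push_cast; ring_nf
  have hk1 : x ^ m ∉ Subgroup.center D := fun h4 => by
    have := Int.le_of_dvd (by positivity) ((ha m).1 (by simpa using h4))
    have : 0 < m := by positivity
    omega
  have hk2 : x ^ (2 * m) ∈ Subgroup.center D := by
    exact_mod_cast (ha (2 * m)).2 dvd_rfl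
  have h4 : ∀ d, d * x ^ m * d⁻¹ = x ^ m ∨ d * x ^ m * d⁻¹ = z * x ^ m := fun d => by
    have h4 : d * x ^ m * d⁻¹ ∈ Subgroup.zpowers x := hk ▸ h.conj_even d _
    have h5 := inv_mem (pow_mem (Subgroup.mem_zpowers x) m)
    refine (eq_of_mem_zpowers_of_sq ho (mul_mem h4 h5) ?_).imp mul_inv_eq_one.1
      mul_inv_eq_iff_eq_mul.1
    rw [Commute.mul_mul_mul_comm (setLike_mul_comm h5 h4), conj_mul, ← pow_add, ← two_mul,
      ← mul_comm_of_mem_center hk2]
    group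
  have h5 : ∀ d, d * y * d⁻¹ = y ∨ d * y * d⁻¹ = z * y := fun d => by
    have h5 : d * y * d⁻¹ * (d * y * d⁻¹) = 1 := by rw [conj_mul, hy2]; simp
    obtain ⟨j, h6 | h6⟩ := h1 _ ((Subgroup.normal_of_index_eq_two hM).conj_mem y hy d)
    · refine absurd ?_ hy'
      rcases eq_of_mem_zpowers_of_sq ho ⟨j, h6.symm⟩ h5 with h7 | h7
      · exact (by simpa using h7 : y = 1) ▸ one_mem _
      · rw [mul_inv_eq_iff_eq_mul, mul_comm_of_mem_center hz, mul_right_inj] at h7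
        exact h7 ▸ hzx
    have h7 : x ^ j * (y * x * y⁻¹) ^ j = 1 := by
      rw [← h5, h6, conj_zpow, inv_eq_of_mul_eq_one_right hy2]; group
    have h8 : x ^ j * x ^ j = 1 := by
      rcases hyx with h8 | h8 <;> rw [h8] at h7
      · exact h7
      rw [Commute.mul_zpow (mul_comm_of_mem_center hz x)] at h7
      obtain ⟨i, rfl | rfl⟩ := Int.even_or_odd' j
      · rwa [zpow_of_mul_self hz2, one_mul] at h7
      rw [zpow_add z, zpow_of_mul_self hz2, one_mul, zpow_one, hz0, ← zpow_natCast, ← zpow_add,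
        ← zpow_add, zpow_eq_one_iff ho] at h7
      obtain ⟨c, hc⟩ := (dvd_mul_right _ _).trans h7
      push_cast at hc
      rw [pow_add] at hc
      omega
    rcases eq_of_mem_zpowers_of_sq ho ⟨j, rfl⟩ h8 with h9 | h9 <;> simp [h6, h9, hz0]
  obtain ⟨α, hα⟩ := exists_signHom hz hz2 hz1 h4
  obtain ⟨β, hβ⟩ := exists_signHom hz hz2 hz1 h5
  have h6 : ∀ d, α d = 1 ↔ d ∈ C := fun d => by
    rw [hα]
    exact ⟨fun h6 => by_contra fun h7 => hk1 (h2 _ (hk ▸ h3 _) d h7 h6.symm),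
      fun h6 => hk ▸ (h3 _ d h6).symm⟩
  have h7 : ∀ d, α d = β d ↔ x ^ m * y * d = d * (x ^ m * y) := fun d => by
    have h7 : ∀ w : D, w * d = d * w ↔ d * w * d⁻¹ = w := fun w => by
      rw [mul_inv_eq_iff_eq_mul, eq_comm]
    have h8 : α d = β d ↔ (α d = 1 ↔ β d = 1) := by
      rcases Int.units_eq_one_or (α d) with h8 | h8 <;>
        rcases Int.units_eq_one_or (β d) with h9 | h9 <;> simp [h8, h9]
    rw [h8, hα, hβ, h7, h7, h7, ← conj_mul]
    rcases h4 d with h9 | h9 <;> rcases h5 d with h10 | h10 <;> rw [h9, h10] <;> simp [hz1]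
    rw [← mul_assoc, ← mul_comm_of_mem_center hz, ← mul_assoc, hz2, one_mul]
  have h8 : β x = -1 := intUnits_ne_one.1 fun h8 => by
    have h9 : Commute y x := (hβ x).1 h8
    have h10 : ∀ b ∈ C, b * y = y * b := fun b hb => by
      obtain ⟨j, rfl | rfl⟩ := h1 b hb
      exacts [(h9.zpow_right j).symm, (h9.zpow_right j).symm.mul_left (Commute.refl y)]
    rcases Int.units_eq_one_or (β t) with h11 | h11
    · exact hy' (h.cen_le (h2 y h10 t ht ((hβ t).1 h11).symm))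
    refine hy' ((mul_mem_cancel_left (pow_mem (Subgroup.mem_zpowers x) m)).1 (h.cen_le
      (h2 _ (fun b hb => Commute.mul_right (hk ▸ h3 _ b hb) (h10 b hb)) t ht ((h7 t).1 ?_).symm)))
    rw [h11, intUnits_ne_one.1 (mt (h6 t).1 ht)]
  obtain ⟨t, h9, h10⟩ : ∃ t, α t = -1 ∧ β t = 1 := by
    have h9 := intUnits_ne_one.1 (mt (h6 t).1 ht)
    rcases Int.units_eq_one_or (β t) with h10 | h10
    · exact ⟨t, h9, h10⟩
    · exact ⟨x * t, by simp [h9, (h6 x).2 hx], by simp [h10, h8]⟩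
  have h11 : Subgroup.center D = Subgroup.zpowers (x ^ (2 * m)) := by
    refine le_antisymm (fun c hc => ?_) (Subgroup.zpowers_le.2 hk2)
    obtain ⟨j, rfl⟩ := h.cen_le hc
    obtain ⟨i, rfl⟩ := (ha j).1 hc
    exact ⟨i, by group⟩
  refine ⟨y, t, m, α, β, ⟨a, rfl⟩, h11, ha, ?_, hy2, hy', fun b hb => h1 b ((h6 b).1 hb), hα, hβ,
    h7, fun d => ?_, fun d => ?_, h9, h8, h10⟩
  · obtain ⟨c, hc⟩ : 2 * m ∣ 2 ^ (n + 2) := by
      exact_mod_cast (ha (2 ^ (n + 2) : ℕ)).1 (by rwa [zpow_natCast])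
    refine ⟨2 * c, fun w hw => ?_, by rw [pow_mul, sq, hy2, one_pow], by
      rwa [← pow_mul, ← mul_assoc, mul_comm m, ← hc]⟩
    obtain ⟨j, rfl⟩ := h11.le hw
    rw [← one_zpow j, ← pow_orderOf_eq_one x, ho, hc]
    group
  · exact (h4 d).elim (fun h12 => ⟨1, one_mem _, by rw [h12, one_mul]⟩) fun h12 => ⟨z, hz, h12⟩
  · exact (h5 d).elim (fun h12 => ⟨1, one_mem _, by rw [h12, one_mul]⟩) fun h12 => ⟨z, hz, h12⟩

end CIN

theorem exists_CID [Finite D] (hD : IsPGroup 2 D) {x : D} (hx : (Subgroup.zpowers x).index ≤ 4) :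
    (∃ g ∈ Subgroup.center D, ∃ w, (Subgroup.zpowers g ⊔ Subgroup.zpowers w).index ≤ 2) ∨
      ∃ y t m α β, CID x y t m α β := by
  refine or_iff_not_imp_left.2 fun h => CIN.exists_CID ⟨hD, hx, fun g hg w => ?_⟩
  exact lt_of_not_ge fun h1 => h ⟨g, hg, w, h1⟩

end Cfsg
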