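import Cfsg.Agent.Blk.CycFourB
import Cfsg.Agent.Blk.CycFourD

/-! Blocks whose defect groups have a cyclic subgroup of index four. -/

set_option autoImplicit false

namespace Cfsg

open scoped MonoidAlgebra

universe u v w

theorem eq_or_of_mem_zpowers_invol {T : Type u} [Group T] {z n : T} (hz : z * z = 1)
    (hn : n ∈ Subgroup.zpowers z) : n = 1 ∨ n = z := by
  obtain ⟨j, rfl⟩ := hn
  obtain ⟨i, rfl | rfl⟩ := Int.even_or_odd' j <;> simp [zpow_add, zpow_of_mul_self hz]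

variable {M : Ideal AlgInt} {G : Type u} [Group G] {B : Set (IrrCharacter G)}
  {P : Subgroup G} {e : (resK M)[G]} {x y t v q : P} {m : ℕ} {α β : P →* ℤˣ} {R : P → P → Prop}

theorem CIR.swap (h : CIR (x ^ m) y α β R) (h' : CIB x y t m α β) :
    CIR (x⁻¹ ^ m) (x ^ m * y) α (α * β) R where
  inv := h.inv
  symm := h.symm
  rk := by rw [inv_pow, inv_eq_of_mul_eq_one_right h'.k_sq]; exact h.rk
  rc := fun b => by
    rw [inv_pow, inv_mul_cancel_left, h.ry, MonoidHom.mul_apply]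
    rcases Int.units_eq_one_or (α b) with h1 | h1 <;>
      rcases Int.units_eq_one_or (β b) with h2 | h2 <;> simp [h1, h2]
  ry := fun b => by rw [h.rc, MonoidHom.mul_apply, left_eq_mul]

variable [Fintype G] (S : StarSetup 2 M B P e)
include S

theorem StarSetup.rank_below_le_two {z σ τ s : P} {k : ℤ} {γ : P →* ℤˣ}
    (hz : z ∈ Subgroup.center P) (hz2 : z * z = 1) (hm : ∃ a, m = 2 ^ (a + 1))
    (ho : orderOf σ = 2 * m) (hzσ : z ∉ Subgroup.zpowers σ) (hγσ : γ σ = 1) (hγz : γ z = 1)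
    (hγ : ∀ a, γ a = 1 → ∃ j : ℤ, a = σ ^ j ∨ a = σ ^ j * z) (hτ : γ τ = -1) (hτ2 : τ * τ = 1)
    (hr : τ * σ * τ⁻¹ = σ ^ k ∨ τ * σ * τ⁻¹ = σ ^ k * z) (hk : k = -1 ∨ k = m - 1 ∧ 4 ∣ m)
    (hs : ∀ g a, Cj g z z → Cj g s a → γ a ≠ 1) : blockRank 2 (S.below z) ≤ 2 := by
  obtain ⟨Γ, _, _, b, T, f, φ, S', h1, h2, h3, h4⟩ := S.exists_quot hz
  have h5 : φ z = 1 := h3.ge (Subgroup.mem_zpowers z)
  have h6 : ∀ n ∈ Subgroup.zpowers z, γ n = 1 := fun n hn => by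
    rcases eq_or_of_mem_zpowers_invol hz2 hn with rfl | rfl
    exacts [map_one γ, hγz]
  have h7 : ∀ a, φ a ∈ Subgroup.zpowers (φ σ) ↔ γ a = 1 := fun a => by
    refine ⟨fun ⟨j, hj⟩ => ?_, fun ha => ?_⟩
    · simpa [hγσ] using h6 ((σ ^ j)⁻¹ * a) (h3.le (by
        simp [MonoidHom.mem_ker, ← show φ σ ^ j = _ from hj]))
    · obtain ⟨j, rfl | rfl⟩ := hγ a ha <;> exact ⟨j, by simp [h5]⟩
  have h8 : IsTame (φ σ) (φ τ) m k := by
    refine ⟨hm, ho ▸ orderOf_eq_orderOf_iff.2 fun n => ⟨fun h8 => ?_, fun h8 => by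
      rw [← map_pow, h8, map_one]⟩, Subgroup.index_eq_two_iff.2 ⟨φ τ, fun a => ?_⟩,
      by simp [h7, hτ], ?_, ?_⟩
    · exact (eq_or_of_mem_zpowers_invol hz2 (h3.le (by simpa using h8))).resolve_right
        fun h9 => hzσ (h9 ▸ pow_mem (Subgroup.mem_zpowers σ) n)
    · obtain ⟨a, rfl⟩ := h2 a
      rw [← map_mul, h7, h7]
      rcases Int.units_eq_one_or (γ a) with h9 | h9 <;> simp [h9, hτ]
    · rw [← map_inv, ← map_mul, ← map_mul]
      rcases hr with hr | hr <;> simp [hr, h5]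
    · rw [← map_mul, hτ2, map_one]
      tauto
  rw [← h1]
  refine S'.tame_rank_le_two h8 (s := φ s) fun a ha g hg => ?_
  obtain ⟨c, rfl⟩ := h2 a
  obtain ⟨h, hh, h9⟩ := h4 g
  obtain ⟨n, hn, h10⟩ := h9 s c hg
  refine hs h (c * n⁻¹) ?_ ?_ (by simp [(h7 c).1 ha, h6 n hn])
  · exact (mul_inv_eq_iff_eq_mul.2 (Subgroup.mem_centralizer_singleton_iff.1 hh)).symm
  · simp [Cj, h10]

namespace CIS
variable (h : CIS x y t v q m α β R)
include h

theorem rank_y : blockRank 2 (S.below y) ≤ 2 := by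
  refine S.rank_below_le_two h.y_cen h.y_sq h.pow h.ord h.y_not h.αx h.αy h.mem h.αt h.t_sq
    (k := -1) (s := t) (by rcases h.v_eq with h1 | h1 <;> simp [h.rel, h1]) (Or.inl rfl)
    fun g a h1 h2 h3 => ?_
  have h4 := h.inv _ _ _ _ _ h1.symm h2.symm
    ((h.ry a).2 (h3.trans (h.β_of_sq h3 (h2.sq_iff.2 h.t_sq)).symm))
  simp [h.ry, h.αt, h.βt] at h4

theorem rank_ky (hv : 4 ∣ m ∨ v = 1) : blockRank 2 (S.below (x ^ m * y)) ≤ 2 := by
  have h0 : α (x * t) = -1 := by simp [h.αx, h.αt]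
  have h1 : β (x * t) = -1 := by simp [h.βx, h.βt]
  have h2 := h.sq_of_odd h0 h1
  obtain ⟨k, hk, hk'⟩ : ∃ k : ℤ, (t * x * t⁻¹ = x ^ k ∨ t * x * t⁻¹ = x ^ k * (x ^ m * y)) ∧
      (k = -1 ∨ k = m - 1 ∧ 4 ∣ m) := by
    rcases h.v_eq with h3 | h3
    · exact ⟨-1, Or.inl (by simp [h.rel, h3]), Or.inl rfl⟩
    · refine ⟨m - 1, Or.inr ?_, Or.inr ⟨rfl, hv.resolve_right fun h4 => h.y_ne_one (h3 ▸ h4)⟩⟩
      rw [h.rel, h3, ← mul_one x⁻¹, ← h.k_sq]; group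
  refine S.rank_below_le_two (mul_mem h.k_cen h.y_cen) h.toCIB.swap.y_sq h.pow h.ord
    (by simpa using h.toCIB.swap.y_not) h.αx h.toCIB.swap.αy (fun a ha => ?_) h.αt h.t_sq hk hk' (s := x * t)
    fun g a h3 h4 h5 => ?_
  · obtain ⟨j, hj⟩ := h.toCIB.swap.mem a ha
    exact ⟨-j, by simpa using hj⟩
  have h6 : β a = 1 := hv.elim
    (fun h6 => h.β_of_pow_four h6 h5 ((h4.mul h4).sq_iff.2 (h2 ▸ h.v_sq)))
    fun h6 => h.β_of_sq h5 (h4.sq_iff.2 (h2.trans h6))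
  have h7 := h.inv _ _ _ _ _ h3.symm h4.symm ((h.rc a).2 h6)
  simp [h.rc, h1] at h7

theorem rank_k (hm : m = 2) (hv : v = y) : blockRank 2 (S.below (x ^ m)) ≤ 2 := by
  subst hm hv
  have h0 : α (x * t) = -1 := by simp [h.αx, h.αt]
  have h1 : β (x * t) = -1 := by simp [h.βx, h.βt]
  have h2 := h.sq_of_odd h0 h1
  have h3 : x ^ 2 ≠ v := fun h3 => h.y_not (h3 ▸ pow_mem (Subgroup.mem_zpowers x) 2)
  have h4 : orderOf (x * t) = 2 * 2 := orderOf_eq_prime_pow (p := 2) (n := 1)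
    (by rw [pow_one, sq, h2]; exact h.y_ne_one) (by
      rw [show 2 ^ (1 + 1) = 2 * 2 from rfl, pow_mul, sq, sq, h2, h.y_sq])
  have h5 : ∀ a, α a = 1 → β a = 1 → ∃ j : ℤ, a = (x * t) ^ (2 * j) ∨
      a = (x * t) ^ (2 * j) * x ^ 2 := fun a ha hb => by
    obtain ⟨i, hi⟩ := h.sq_even ha hb
    rw [h.zpow_eq_one_iff.2 ⟨i, by push_cast; ring⟩] at hi
    rcases h.invol ha hi with rfl | rfl | rfl | rfl
    exacts [⟨0, by simp⟩, ⟨0, by simp⟩, ⟨1, Or.inl (by rw [mul_one, zpow_two, h2])⟩,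
      ⟨1, Or.inr (by rw [mul_one, zpow_two, h2, mul_comm_of_mem_center h.y_cen])⟩]
  refine S.rank_below_le_two h.k_cen h.k_sq ⟨0, rfl⟩ h4 (fun h6 => ?_) (γ := α * β) (τ := t)
    (by simp [h0, h1]) (by simp [h.αx, h.βx]) (fun a ha => ?_) (by simp [h.αt, h.βt]) h.t_sq
    (k := -1) (Or.inr ?_) (Or.inl rfl) (s := x) fun g a h6 h7 h8 => ?_
  · rcases eq_of_mem_zpowers_of_sq h4 h6 h.k_sq with h7 | h7
    exacts [h.k_ne_one h7, h3 (by rw [h7, sq, h2])]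
  · rw [MonoidHom.mul_apply] at ha
    rcases Int.units_eq_one_or (α a) with h6 | h6 <;> rw [h6] at ha
    · exact (h5 a h6 (by simpa using ha)).elim fun j hj => ⟨_, hj⟩
    · obtain ⟨j, hj⟩ := h5 ((x * t)⁻¹ * a) (by rw [map_mul, map_inv, h0, h6]; rfl)
        (by rw [map_mul, map_inv, h1, show β a = -1 by simpa [neg_eq_iff_eq_neg] using ha]; rfl)
      refine ⟨1 + 2 * j, ?_⟩
      simpa only [zpow_one_add, inv_mul_eq_iff_eq_mul, mul_assoc] using hj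
  · rw [zpow_neg_one, mul_inv_rev, inv_eq_of_mul_eq_one_right h.t_sq, mul_assoc, mul_assoc, h.t_sq]
    group
  · have h9 : a * a = x ^ 2 := (h7.mul h7).unique (sq x ▸ h6)
    rw [MonoidHom.mul_apply] at h8
    rcases Int.units_eq_one_or (α a) with h10 | h10 <;> rw [h10] at h8
    · obtain ⟨i, hi⟩ := h.sq_even h10 (by simpa using h8)
      rw [h.zpow_eq_one_iff.2 ⟨i, by push_cast; ring⟩] at hi
      exact h.k_ne_one (h9 ▸ hi)
    · exact h3 (h9 ▸ h.sq_of_odd h10 (by simpa [neg_eq_iff_eq_neg] using h8))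

end CIS

theorem CIA.rank_le_three (h : CIA x y t v m α β) (hR : CIR (x ^ m) y α β R) :
    blockRank 2 B ≤ 3 := by
  obtain ⟨q, h1, h2, ⟨c, h3⟩, h4, h5⟩ := h.exists_q
  have h6 : CIS x y t v q m α β R := ⟨h, hR, h1, h2, ⟨c, t, h3⟩, h4⟩
  have h7 := h6.rank_add S
  have h8 := h6.rank_y S
  have h9 := blockRank_pos Nat.prime_two ((S.isPBlock_below q).nonempty S.hM)
  rcases h5 with ⟨rfl, h5⟩ | ⟨rfl, h5, h10⟩
  · have := h6.rank_ky S h5
    omega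
  · have := h6.rank_k S h5 h10
    rw [mul_assoc, h.y_sq, mul_one] at h7
    omega

theorem CIB.rank_eq_one (h : CIB x y t m α β) (ht : t * t = x ^ m * y)
    (hxt : x * t * (x * t) = y) (hQ : ∀ g : G, ¬ Cj g (x ^ m * y) (x ^ m) ∧ ¬ Cj g (x ^ m * y) y) :
    blockRank 2 B = 1 := by
  have h0 : x ^ m * y * x ^ m = y := by
    rw [mul_comm_of_mem_center h.k_cen, mul_assoc, h.k_sq, mul_one]
  have h1 : t * x * t⁻¹ = x⁻¹ * (x ^ m)⁻¹ :=
    calc _ = x⁻¹ * (x * t * (x * t)) * (t * t)⁻¹ := by group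
      _ = _ := by rw [hxt, ht]; group
  have h2 : ∀ s r, α s = -1 → α r = -1 → β s = β r → s * s = r * r := fun s r hs hr hsr => by
    have h2 : α (s * r⁻¹) = 1 := by simp [hs, hr]
    have h3 : ∀ j : ℤ, t * x ^ (2 * j) * t⁻¹ = (x ^ (2 * j))⁻¹ := fun j => by
      rw [← conj_zpow, h1, ← mul_one (x ^ (2 * j))⁻¹, ← h.zpow_eq_one_iff.2 (dvd_mul_right _ (-j))]
      group
    have h4 : t * (s * r⁻¹) * t⁻¹ = (s * r⁻¹)⁻¹ := by
      obtain ⟨j, hj | hj⟩ := h.mem_even h2 (by simp [hsr]) <;> rw [hj]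
      · exact h3 j
      · rw [← mul_assoc, mul_assoc _ y, mul_comm_of_mem_center h.y_cen, ← mul_assoc, h3, mul_inv_rev,
          inv_eq_of_mul_eq_one_right h.y_sq, mul_comm_of_mem_center h.y_cen]
    calc s * s = s * r⁻¹ * (r * t⁻¹ * (t * (s * r⁻¹) * t⁻¹)) * (t * r) := by group
      _ = s * r⁻¹ * ((s * r⁻¹)⁻¹ * (r * t⁻¹)) * (t * r) := by
        rw [h4, h.comm (a := r * t⁻¹) (by simp [hr, h.αt]) (by rw [map_inv, h2, inv_one])]
      _ = _ := by group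
  have h3 : ∀ s, α s = -1 → s * s = y ∨ s * s = x ^ m * y := fun s hs => by
    rcases Int.units_eq_one_or (β s) with h3 | h3
    · exact Or.inr (ht ▸ h2 s t hs h.αt (h3.trans h.βt.symm))
    · exact Or.inl (hxt ▸ h2 s (x * t) hs h.swap.αt (by simp [h3, h.βx, h.βt]))
  have h4 : ∀ a, a * a = 1 → a = 1 ∨ a = x ^ m * y ∨ a = x ^ m ∨ a = x ^ m * y * x ^ m :=
    fun a ha => by
      rcases Int.units_eq_one_or (α a) with h4 | h4
      · rw [h0]; have := h.invol h4 ha; tauto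
      · rcases h3 a h4 with h5 | h5
        exacts [absurd (h5 ▸ ha) h.y_ne_one, absurd (h5 ▸ ha) h.swap.y_ne_one]
  have h5 : ∀ a b : P, a ∈ Subgroup.center P → b ∈ Subgroup.center P → a * a = 1 → b * b = 1 →
      PairFuse 2 P e (a : G) b → a = b := fun a b ha hb ha' hb' =>
    S.eq_of_fuse_of_four h.swap.y_sq (fun g hg => by
      have h5 : Cj g (x ^ m * y) ⟨_, (Subgroup.mem_normalizer_iff.1 hg _).1 (x ^ m * y).2⟩ := rfl
      rcases h4 _ (h5.sq_iff.2 h.swap.y_sq) with h6 | h6 | h6 | h6 <;> rw [h6] at h5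
      exacts [absurd (h5.inj cj_one) h.swap.y_ne_one, h5, absurd h5 (hQ g).1,
        absurd (by rwa [h0] at h5) (hQ g).2]) ha hb (h4 a ha') (h4 b hb')
  refine S.blockRank_eq_one_of_index_two h.index_ker.le (fun a ha b hb => h.comm ha hb)
    (fun a ha b hab => by_contra fun hb => ?_) h.swap.y_sq (fun a _ => h4 a)
    (fun h6 => (hQ _).1 h6.choose_spec.choose_spec.1)
    fun ⟨g, _, h6, _⟩ => (hQ g).2 (by rwa [h0] at h6)
  have h6 := S.fuse_mul_self hab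
  have h7 : b * b ∈ Subgroup.center P ∧ b * b * (b * b) = 1 ∧ b * b ∉ Subgroup.zpowers x := by
    rcases h3 b (intUnits_ne_one.1 hb) with h7 | h7 <;> rw [h7]
    exacts [⟨h.y_cen, h.y_sq, h.y_not⟩,
      ⟨h.swap.y_cen, h.swap.y_sq, by simpa using h.swap.y_not⟩]
  have h8 : a * a * (a * a) = 1 := (Cj.sq_iff h6.choose_spec.choose_spec.1).1 h7.2.1
  exact h7.2.2 (h5 _ _ (h.cen_of_sq (by simp [show α a = 1 from ha]) h8) h7.1 h8 h7.2.1 h6 ▸
    h.sq_mem ha)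

theorem CIB.rank_le_three (h : CIB x y t m α β) (hR : CIR (x ^ m) y α β R)
    (ht : t * t = 1 ∨ t * t = x ^ m * y) (hxt : x * t * (x * t) = 1 ∨ x * t * (x * t) = y)
    (hQ : ∀ g : G, ¬ Cj g (x ^ m * y) (x ^ m) ∧ ¬ Cj g (x ^ m * y) y) : blockRank 2 B ≤ 3 := by
  rcases ht with ht | ht
  · exact (h.cia ht hxt).rank_le_three S hR
  rcases hxt with hxt | hxt
  · exact (h.swap.cia hxt (Or.inr (by simpa using ht))).rank_le_three S (hR.swap h)
  · rw [h.rank_eq_one S ht hxt hQ]; norm_num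

theorem CID.rank_le_three (h : CID x y t m α β) (hz : x ^ (2 * m) ∈ Subgroup.center P) :
    blockRank 2 (S.below (x ^ (2 * m))) ≤ 3 := by
  obtain ⟨Γ, _, _, b, T, f, φ, S', h1, h2, h3, h4⟩ := S.exists_quot hz
  rw [← h.cen] at h3 h4
  have h5 : ∀ a, φ a = 1 ↔ a ∈ Subgroup.center P := fun a => by rw [← h3, MonoidHom.mem_ker]
  have h6 : ∀ {a c}, φ a = φ c → ∀ d, a * d = d * a → c * d = d * c := fun {a c} hac d h6 => by
    have h7 := (h5 (a⁻¹ * c)).1 (by simp [hac])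
    simpa [commute_iff_eq] using Commute.mul_left h6 (mul_comm_of_mem_center h7 d)
  have h7 : ∀ γ : P →* ℤˣ, (∀ c ∈ Subgroup.center P, γ c = 1) → ∃ γ' : T →* ℤˣ,
      ∀ a, γ' (φ a) = γ a := fun γ hγ =>
    ⟨φ.liftOfSurjective h2 ⟨γ, h3 ▸ hγ⟩, fun a => MonoidHom.liftOfRightInverse_comp_apply ..⟩
  obtain ⟨α', hα⟩ := h7 α fun c hc => (h.α_iff c).2 (Subgroup.mem_center_iff.1 hc _)
  obtain ⟨β', hβ⟩ := h7 β fun c hc => (h.β_iff c).2 (Subgroup.mem_center_iff.1 hc _)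
  obtain ⟨n, hn⟩ := h.pow
  have hαx : α x = 1 := (h.α_iff x).2 (Commute.pow_self x m)
  have hβk : β (x ^ m) = 1 := by rw [map_pow, h.βx, hn, pow_succ', pow_mul, neg_one_sq, one_pow]
  have hky : Commute y (x ^ m) := (h.β_iff _).1 hβk
  have hαy : α y = 1 := (h.α_iff y).2 hky.symm
  have hβy : β y = 1 := (h.β_iff y).2 rfl
  have hk2 : φ x ^ m * φ x ^ m = 1 := by rw [← pow_add, ← two_mul, ← map_pow, (h5 _).2 hz]
  have h8 : ∀ w : P, (∀ d, ∃ c ∈ Subgroup.center P, d * w * d⁻¹ = c * w) →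
      φ w ∈ Subgroup.center T := fun w hw => Subgroup.mem_center_iff.2 fun d => by
    obtain ⟨d, rfl⟩ := h2 d
    obtain ⟨c, hc, h8⟩ := hw d
    rw [← mul_inv_eq_iff_eq_mul, ← map_inv, ← map_mul, ← map_mul, h8, map_mul, (h5 c).2 hc, one_mul]
  have h9 : φ x ^ m * φ (x ^ m * y) = φ y := by rw [map_mul, map_pow, ← mul_assoc, hk2, one_mul]
  have hB : CIB (φ x) (φ (x ^ m * y)) (φ t) m α' β' := by
    refine ⟨h.pow, Nat.dvd_antisymm (orderOf_dvd_of_pow_eq_one (by rw [← map_pow, (h5 _).2 hz])) ?_, ?_, ?_, map_pow φ x m ▸ h8 _ h.k_cen,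
      fun ⟨j, hj⟩ => h.y_not ?_, fun a ha => ?_, by rw [hα, hαx], by simp [hα, hαx, hαy],
      by rw [hα, h.αt], by rw [hβ, h.βx], by rw [hβ, map_mul, hβk, hβy, one_mul], by rw [hβ, h.βt]⟩
    · exact_mod_cast (h.cen_iff (orderOf (φ x))).1 ((h5 _).1 (by simp))
    · rw [← map_mul, hky.mul_mul_mul_comm, h.y_sq, mul_one, map_mul, map_pow, hk2]
    · rw [map_mul]; exact mul_mem (h8 _ h.k_cen) (h8 _ h.y_cen)
    · have h10 := (h5 ((x ^ j)⁻¹ * (x ^ m * y))).1 (by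
        rw [map_mul, ← show φ x ^ j = _ from hj]; simp)
      have h11 := Subgroup.mem_zpowers x
      rw [h.cen] at h10
      simpa only [mul_mem_cancel_left (inv_mem (zpow_mem h11 j)),
        mul_mem_cancel_left (pow_mem h11 m)] using Subgroup.zpowers_le.2 (pow_mem h11 _) h10
    · obtain ⟨a, rfl⟩ := h2 a
      obtain ⟨j, rfl | rfl⟩ := h.mem a (hα a ▸ ha)
      · exact ⟨j, Or.inl (map_zpow ..)⟩
      · exact ⟨j - m, Or.inr (by simp only [map_mul, map_zpow, map_pow]; group)⟩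
  have h10 : ∀ s (j : ℤ), α s = -1 → x ^ (2 * j) * s = s * x ^ (2 * j) → φ (x ^ (2 * j)) = 1 :=
    fun s j hs h10 => (h5 _).2 (Subgroup.mem_center_iff.2 fun d => by
      have h11 : ∀ d, α d = 1 → Commute d (x ^ (2 * j)) := fun d hd => by
        have h11 : Commute y (x ^ (2 * j)) := (h.β_iff _).1 (by simp [h.βx, zpow_mul])
        obtain ⟨i, rfl | rfl⟩ := h.mem d hd
        exacts [Commute.zpow_zpow_self x _ _, (Commute.zpow_zpow_self x _ _).mul_left h11]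
      rcases Int.units_eq_one_or (α d) with h12 | h12
      · exact h11 d h12
      · simpa [commute_iff_eq] using (h11 (d * s⁻¹) (by simp [hs, h12])).mul_left h10.symm)
  have h11 : ∀ s w, α s = -1 → w * s = s * w → (∀ a, α a = 1 → β a = 1 →
      ∃ j : ℤ, a = x ^ (2 * j) ∨ a = x ^ (2 * j) * w) → φ s * φ s = 1 ∨ φ s * φ s = φ w :=
    fun s w hs hw h11 => by
      rw [← map_mul]
      obtain ⟨j, hj | hj⟩ := h11 (s * s) (by simp) (by simp)
      · exact Or.inl (hj ▸ h10 s j hs (by rw [← hj, mul_assoc]))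
      · refine Or.inr (by rw [hj, map_mul, h10 s j hs (mul_inv_eq_iff_eq_mul.2 hj ▸
          ((Commute.refl s).mul_left (Commute.refl s)).mul_left (Commute.inv_left hw)), one_mul])
  have h12 : ∀ a, α a = 1 → β a = 1 → ∃ j : ℤ, a = x ^ (2 * j) ∨ a = x ^ (2 * j) * y :=
    fun a ha hb => by
      obtain ⟨j, hj⟩ := h.mem a ha
      obtain ⟨i, rfl | rfl⟩ := Int.even_or_odd' j
      · exact ⟨i, hj⟩
      · rcases hj with rfl | rfl <;> simp [zpow_add, zpow_mul, h.βx, hβy] at hb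
  have h13 : ∀ {a : P} {b : T}, (∃ a' b', φ a' = φ a ∧ φ b' = b ∧ a' * b' = b' * a') ↔
      ∀ b', φ b' = b → a * b' = b' * a := fun {a b} =>
    ⟨fun ⟨a', b', h13, h14, h15⟩ c hc => (h6 (h14.trans hc.symm) a (h6 h13 b' h15).symm).symm,
      fun h13 => (h2 b).elim fun c hc => ⟨a, c, rfl, hc, h13 c hc⟩⟩
  rw [← h1]
  refine hB.rank_le_three S' (R := fun a b => ∃ a' b', φ a' = a ∧ φ b' = b ∧ a' * b' = b' * a')
    ⟨fun g a b a' b' ha hb ⟨c, d, hc, hd, hcd⟩ => ?_,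
      fun a b ⟨c, d, hc, hd, hcd⟩ => ⟨d, c, hd, hc, hcd.symm⟩, fun b => ?_, fun b => ?_, fun b => ?_⟩
    (h9 ▸ h11 t y h.αt ((h.β_iff t).1 h.βt) h12) ?_ fun g => ?_
  · obtain ⟨k, -, hk⟩ := h4 g
    obtain ⟨c', rfl⟩ := h2 a'
    obtain ⟨d', rfl⟩ := h2 b'
    obtain ⟨u, hu, h14⟩ := hk c c' (hc ▸ ha)
    obtain ⟨w, hw, h15⟩ := hk d d' (hd ▸ hb)
    exact ⟨c' * u⁻¹, d' * w⁻¹, by simp [(h5 u).2 hu], by simp [(h5 w).2 hw],
      Cj.comm (g := k) (by simp [Cj, h14]) (by simp [Cj, h15]) hcd⟩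
  · obtain ⟨b, rfl⟩ := h2 b
    rw [← map_pow, h13, hα, h.α_iff]
    exact ⟨fun h14 => h14 b rfl, fun h14 c hc => (h6 hc.symm _ h14.symm).symm⟩
  · obtain ⟨b, rfl⟩ := h2 b
    rw [h9, h13, hβ, h.β_iff]
    exact ⟨fun h14 => h14 b rfl, fun h14 c hc => (h6 hc.symm _ h14.symm).symm⟩
  · obtain ⟨b, rfl⟩ := h2 b
    rw [h13, hα, hβ, h.γ_iff]
    exact ⟨fun h14 => h14 b rfl, fun h14 c hc => (h6 hc.symm _ h14.symm).symm⟩
  · rw [← map_mul]
    refine h11 _ _ (by simp [hαx, h.αt]) ((h.γ_iff _).1 (by simp [hαx, h.αt, h.βx, h.βt]))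
      fun a ha hb => ?_
    obtain ⟨j, rfl | rfl⟩ := h12 a ha hb
    exacts [⟨j, Or.inl rfl⟩, ⟨j - 2 ^ n, Or.inr (by rw [hn, ← zpow_natCast]; push_cast; group)⟩]
  · obtain ⟨N, hN, hN1, hN2⟩ := h.exp
    obtain ⟨k, -, hk⟩ := h4 g
    have h14 : ∀ c, Cj g (φ y) (φ c) → c ^ N = 1 := fun c hc => by
      obtain ⟨u, hu, h14⟩ := hk y c hc
      have h15 : (c * u⁻¹) ^ N = 1 := Subtype.ext (by
        simp [h14, ← Subgroup.coe_pow, hN1])
      rwa [Commute.mul_pow (mul_comm_of_mem_center (inv_mem hu) c).symm, hN _ (inv_mem hu),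
        mul_one] at h15
    rw [h9, ← map_pow]
    exact ⟨fun h15 => hN2 (h14 _ h15), fun h15 => hN2 (by
      simpa [hky.symm.mul_pow, hN1] using h14 _ h15)⟩

/-- a major subsection with at most three Brauer characters -/
theorem StarSetup.exists_rank_below_le_three (hx : (Subgroup.zpowers x).index ≤ 4) :
    ∃ z ∈ Subgroup.center P, blockRank 2 (S.below z) ≤ 3 := by
  rcases exists_CID S.isPGroup hx with ⟨z, hz, w, h⟩ | ⟨y, t, m, α, β, h⟩
  · obtain ⟨Γ, _, _, b, T, f, φ, S', h1, h2, h3, -⟩ := S.exists_quot hz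
    refine ⟨z, hz, h1 ▸ S'.blockRank_le_three_of_index_le_two (σ := φ w) ?_⟩
    rwa [← MonoidHom.map_zpowers, Subgroup.index_map, h3, MonoidHom.range_eq_top.2 h2,
      Subgroup.index_top, mul_one, sup_comm]
  · have hz := h.cen.ge (Subgroup.mem_zpowers _)
    exact ⟨_, hz, h.rank_le_three S hz⟩

end Cfsg
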