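import Cfsg.Agent.Blk.AbSmall
import Cfsg.Agent.Blk.CycFourC

/-! Morphisms of a fusion system stabilizing a chain. -/

set_option autoImplicit false

namespace Cfsg

open scoped MonoidAlgebra commutatorElement

universe u v w

variable {G : Type u} [Group G]

/-- the stabilizer of a chain `1 ≤ N₁ ≤ N₂ ≤ A` -/
def chainStab (A : Subgroup G) {N₁ N₂ : Subgroup G} (h : N₁ ≤ N₂) : Subgroup G where
  carrier := {x | (∀ a ∈ N₁, a * x = x * a) ∧ (∀ a ∈ N₂, ⁅a, x⁆ ∈ N₁) ∧ ∀ a ∈ A, ⁅a, x⁆ ∈ N₂}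
  one_mem' := by simp
  mul_mem' := fun {x y} ⟨h1, h2, h3⟩ ⟨h4, h5, h6⟩ => by
    have key : ∀ a : G, ⁅a, x * y⁆ = ⁅a, x⁆ * (x * ⁅a, y⁆ * x⁻¹) := fun a => by
      simp only [commutatorElement_def]; group
    refine ⟨fun a ha => by rw [← mul_assoc, h1 a ha, mul_assoc, h4 a ha, mul_assoc],
      fun a ha => ?_, fun a ha => ?_⟩ <;> rw [key]
    · rw [← h1 _ (h5 a ha), mul_inv_cancel_right]
      exact mul_mem (h2 a ha) (h5 a ha)
    · have := mul_mem (h6 a ha) (h (h2 _ (inv_mem (h6 a ha))))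
      rw [commutatorElement_def _ x, inv_inv, mul_assoc, mul_assoc, mul_inv_cancel_left,
        ← mul_assoc] at this
      exact mul_mem (h3 a ha) this
  inv_mem' := fun {x} ⟨h1, h2, h3⟩ => by
    have key : ∀ a : G, ⁅a, x⁻¹⁆ = x⁻¹ * ⁅a, x⁆⁻¹ * x := fun a => by
      simp only [commutatorElement_def]; group
    have h4 : ∀ a ∈ N₂, ⁅a, x⁻¹⁆ ∈ N₁ := fun a ha => by
      rw [key, mul_assoc, h1 _ (inv_mem (h2 a ha)), inv_mul_cancel_left]
      exact inv_mem (h2 a ha)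
    refine ⟨fun a ha => (Commute.inv_right (h1 a ha)).eq, h4, fun a ha => ?_⟩
    have := mul_mem (inv_mem (h3 a ha)) (h (h4 _ (h3 a ha)))
    rwa [commutatorElement_def _ x⁻¹, inv_inv, mul_assoc, mul_assoc, inv_mul_cancel_left,
      ← mul_assoc, ← key] at this

/-- `x` centralizes `N` and `A / N` -/
def Stab2 (A N : Subgroup G) (x : G) : Prop := (∀ a ∈ N, a * x = x * a) ∧ ∀ a ∈ A, ⁅a, x⁆ ∈ N

theorem mem_chainStab {A N₁ N₂ : Subgroup G} (h : N₁ ≤ N₂) (h2 : N₂ ≤ A) {x : G}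
    (hx : Stab2 A N₁ x ∨ Stab2 A N₂ x) : x ∈ chainStab A h := by
  rcases hx with ⟨h3, h4⟩ | ⟨h3, h4⟩
  · exact ⟨h3, fun a ha => h4 a (h2 ha), fun a ha => h (h4 a ha)⟩
  · exact ⟨fun a ha => h3 a (h ha), fun a ha => by
      rw [commutatorElement_eq_one_iff_mul_comm.2 (h3 a ha)]; exact one_mem _, h4⟩

variable {p : ℕ} {M : Ideal AlgInt} [Fintype G] {B : Set (IrrCharacter G)} {P : Subgroup G}
  {e : (resK M)[G]}

theorem StarSetup.exists_conj_of_chain (S : StarSetup p M B P e) {A N₁ N₂ : Subgroup G}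
    (h : N₁ ≤ N₂) (h2 : N₂ ≤ A) (hA : A ≤ P) (hn : P ≤ Subgroup.normalizer (A : Set G))
    (hP : ∀ d ∈ P, Stab2 A N₁ d ∨ Stab2 A N₂ d) {x : G} (hx : Stab2 A N₁ x ∨ Stab2 A N₂ x)
    (hxn : x ∈ Subgroup.normalizer (A : Set G)) (hm : PairMor p P e A x) :
    ∃ d ∈ P, ∀ a ∈ A, x * a * x⁻¹ = d * a * d⁻¹ := by
  have := S.hM.fact_prime
  obtain ⟨k, -, h3, h4⟩ := S.exists_fHom_conj hA (chainStab A h) (fun y hy =>
    mem_chainStab h h2 (Or.inl ⟨fun a ha => hy a (h2 (h ha)), fun a ha => by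
      rw [commutatorElement_eq_one_iff_mul_comm.2 (hy a ha)]; exact one_mem _⟩)) fun y hy _ hr => by
      have h3 := Subgroup.zpowers_le.2 hy
      have h4 := fun N (hN : N ≤ A) => coprime_card_of_isPGroup (S.isPGroup.to_le (hN.trans hA))
        (show ¬ p ∣ Nat.card (Subgroup.zpowers y) by rwa [Nat.card_zpowers])
      exact le_centralizer_of_commutator_le_of_coprime (h4 _ h2)
        (Subgroup.commutator_le.2 fun a ha z hz => (h3 hz).2.2 a ha)
        (le_centralizer_of_commutator_le_of_coprime (h4 _ (h.trans h2))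
          (Subgroup.commutator_le.2 fun a ha z hz => (h3 hz).2.1 a ha) fun z hz => (h3 hz).1)
        (Subgroup.mem_zpowers y)
  obtain rfl := h3 (le_inf hn fun d hd => mem_chainStab h h2 (hP d hd))
  simpa using h4 x (mem_chainStab h h2 hx) hxn hm

/-- the transport of an inner automorphism along a morphism -/
theorem StarSetup.exists_conj_of_chain_mor (S : StarSetup p M B P e) {A N₁ N₂ : Subgroup G} {g : G}
    (hg : PairMor p P e A g) (h : N₁ ≤ N₂) (h2 : N₂ ≤ conjSub A g)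
    (hn : P ≤ Subgroup.normalizer (conjSub A g : Set G))
    (hP : ∀ d ∈ P, Stab2 (conjSub A g) N₁ d ∨ Stab2 (conjSub A g) N₂ d) {d : G} (hd : d ∈ P)
    (hdn : d ∈ Subgroup.normalizer (A : Set G))
    (hx : Stab2 (conjSub A g) N₁ (g * d * g⁻¹) ∨ Stab2 (conjSub A g) N₂ (g * d * g⁻¹)) :
    ∃ d' ∈ P, ∀ a ∈ A, g * (d * a * d⁻¹) * g⁻¹ = d' * (g * a * g⁻¹) * d'⁻¹ := by
  have := S.hM.fact_prime
  have := S.hM.charP
  have h3 : conjSub (conjSub A g) g⁻¹ = A := conjSub_conjSub_inv A g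
  have h4 : conjSub A d = A := conjSub_eq_self_iff.2 hdn
  obtain ⟨d', h5, h6⟩ := S.exists_conj_of_chain h h2 hg.conj_le hn hP hx
    (by rw [normalizer_conjSub]; exact conj_mem_conjSub.2 hdn)
    (((hg.inv).mul S.isPair (h3.symm ▸ (pairMor_of_mem S.isPair hg.le hd).mul S.isPair
      (h4.symm ▸ hg))))
  exact ⟨d', h5, fun a ha => by rw [← h6 _ (conj_mem_conjSub.2 ha)]; group⟩

end Cfsg
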