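import Cfsg.Agent.Blk.ChainMor

/-! Blocks whose defect groups have a centre of index four. -/

set_option autoImplicit false

namespace Cfsg

open scoped MonoidAlgebra commutatorElement

universe u v w

/-- the centre has index four and `c` generates the derived subgroup -/
structure Cls2 {T : Type u} [Group T] (c : T) : Prop where
  cen : c ∈ Subgroup.center T
  sq : c * c = 1
  ne : c ≠ 1
  comm : ∀ a b, a * b = b * a ∨ a * b = b * a * c
  idx : (Subgroup.center T).index = 4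

namespace Cls2

section grp
variable {T : Type u} [Group T] {c : T} (h : Cls2 c)
include h

theorem eq_of_ne {a b : T} (h1 : a * b ≠ b * a) : a * b = b * a * c := (h.comm a b).resolve_left h1

theorem mul_c (a b : T) : a * c * b = a * b * c := by
  rw [mul_assoc, mul_comm_of_mem_center h.cen, mul_assoc]

theorem sq_cen (a : T) : a * a ∈ Subgroup.center T := Subgroup.mem_center_iff.2 fun b => by
  rcases h.comm b a with h1 | h1
  · rw [← mul_assoc, h1, mul_assoc, h1, mul_assoc]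
  · rw [← mul_assoc, h1, h.mul_c, mul_assoc a, h1, ← mul_assoc, ← mul_assoc, mul_assoc _ c, h.sq,
      mul_one]

theorem comm_mul {a b u : T} (ha : a * u ≠ u * a) (hb : b * u ≠ u * b) :
    a * b * u = u * (a * b) := by
  rw [mul_assoc, h.eq_of_ne hb, ← mul_assoc, ← mul_assoc, h.eq_of_ne ha, h.mul_c, mul_assoc _ c,
    h.sq, mul_one, mul_assoc]

theorem commutator (a b : T) : ⁅a, b⁆ = 1 ∨ ⁅a, b⁆ = c :=
  (h.comm a b).imp commutatorElement_eq_one_iff_mul_comm.2 fun h1 => by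
    rw [commutatorElement_def, h1, h.mul_c, h.mul_c]; simp

theorem sq_mul {a b : T} (ha : a * a = 1) (hb : b * b = 1) (hab : a * b ≠ b * a) :
    a * b * (a * b) = c := by
  rw [mul_assoc, ← mul_assoc b, h.eq_of_ne hab.symm, h.mul_c, mul_assoc a, hb, mul_one, ← mul_assoc,
    ha, one_mul]

theorem exists_conj {u : T} (hu : u ∉ Subgroup.center T) : ∃ d, d * u * d⁻¹ = u * c := by
  obtain ⟨d, hd⟩ := not_forall.1 (mt Subgroup.mem_center_iff.2 hu)
  exact ⟨d, by rw [h.eq_of_ne hd, h.mul_c, mul_inv_cancel_right]⟩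

theorem index_centralizer {u : T} (hu : u ∉ Subgroup.center T) :
    (Subgroup.centralizer {u}).index = 2 := by
  obtain ⟨d, hd⟩ := not_forall.1 (mt Subgroup.mem_center_iff.2 hu)
  refine Subgroup.index_eq_two_iff.2 ⟨d, fun b => ?_⟩
  simp only [Subgroup.mem_centralizer_singleton_iff]
  by_cases hb : b * u = u * b
  · exact Or.inr ⟨hb, fun h1 => hd (mul_left_cancel (a := b) (by
      rw [← mul_assoc, h1, ← mul_assoc, ← mul_assoc, hb]))⟩
  · exact Or.inl ⟨h.comm_mul hb hd, hb⟩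

variable [Finite T]

theorem mul_cen {u a b : T} (hu : u ∉ Subgroup.center T) (ha : a * u = u * a) (hb : b * u = u * b)
    (ha' : a ∉ Subgroup.center T) (hb' : b ∉ Subgroup.center T) : a * b ∈ Subgroup.center T := by
  have h1 := Subgroup.relIndex_mul_index (Subgroup.center_le_centralizer {u})
  rw [h.idx, h.index_centralizer hu] at h1
  exact mul_mem_of_relIndex_le_two (by omega) (Subgroup.mem_centralizer_singleton_iff.2 ha)
    (Subgroup.mem_centralizer_singleton_iff.2 hb) ha' hb'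

theorem exists_eq_mul {u a : T} (hu : u ∉ Subgroup.center T) (ha : a * u = u * a)
    (ha' : a ∉ Subgroup.center T) : ∃ z ∈ Subgroup.center T, a = u * z :=
  ⟨_, h.mul_cen hu (Commute.refl u).inv_left ha (by simpa using hu) ha',
    (mul_inv_cancel_left _ _).symm⟩

theorem comm_iff {u a : T} (hu : u ∉ Subgroup.center T) (ha : a * u = u * a)
    (ha' : a ∉ Subgroup.center T) {b : T} : b * a = a * b ↔ b * u = u * b := by
  obtain ⟨z, hz, rfl⟩ := h.exists_eq_mul hu ha ha'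
  simp only [← Subgroup.mem_centralizer_singleton_iff, centralizer_mul_of_mem_center hz]

theorem comm_of_notMem {u a b : T} (hu : u ∉ Subgroup.center T) (ha : a * u = u * a)
    (hb : b * u = u * b) : a * b = b * a := by
  by_cases h1 : a ∈ Subgroup.center T
  exacts [mul_comm_of_mem_center h1 b, ((h.comm_iff hu ha h1).2 hb).symm]

theorem exists_not_comm : ∃ a b : T, a * b ≠ b * a := by
  by_contra! h1
  have := h.idx
  rw [(Subgroup.eq_top_iff' _).2 fun a => Subgroup.mem_center_iff.2 fun b => h1 b a] at this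
  simp at this

theorem cen_le {H : Subgroup T} (hi : H.index = 2) (hc : ∀ a ∈ H, ∀ b ∈ H, a * b = b * a) :
    Subgroup.center T ≤ H := fun z hz => by
  by_contra h1
  obtain ⟨a, b, hab⟩ := h.exists_not_comm
  have h2 : ∀ a, ∃ a' ∈ H, ∀ b, b * a' = a' * b → b * a = a * b := fun a => by
    by_cases ha : a ∈ H
    · exact ⟨a, ha, fun _ h => h⟩
    · refine ⟨_, (Subgroup.mul_mem_iff_of_index_two hi).2 (iff_of_false ha h1), fun b => ?_⟩
      simp [← Subgroup.mem_centralizer_singleton_iff, centralizer_mul_of_mem_center hz]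
  obtain ⟨a', ha, h3⟩ := h2 a
  obtain ⟨b', hb, h4⟩ := h2 b
  exact hab (h4 a (h3 b' (hc _ hb _ ha)).symm)

end grp

variable {M : Ideal AlgInt} {G : Type u} [Group G] [Fintype G] {B : Set (IrrCharacter G)}
  {P : Subgroup G} {e : (resK M)[G]} {c u : P} {g : G} (h : Cls2 c)
include h

theorem card_inf (hu : u ∉ Subgroup.center P) :
    Nat.card (P ⊓ Subgroup.centralizer {(u : G)} : Subgroup G) * 2 = Nat.card P := by
  rw [card_inf_centralizer_coe, ← h.index_centralizer hu, Subgroup.card_mul_index]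

theorem cen_mem_conjSub (hu : u ∉ Subgroup.center P)
    (hg : PairMor 2 P e (P ⊓ Subgroup.centralizer {(u : G)}) g) {z : P}
    (hz : z ∈ Subgroup.center P) : (z : G) ∈ conjSub (P ⊓ Subgroup.centralizer {(u : G)}) g := by
  refine h.cen_le (H := (conjSub _ g).subgroupOf P) ?_ (fun a ha b hb => ?_) hz
  · have h1 := ((conjSub (P ⊓ Subgroup.centralizer {(u : G)}) g).subgroupOf P).card_mul_index
    rw [Nat.card_congr (Subgroup.subgroupOfEquivOfLe hg.conj_le).toEquiv, card_conjSub,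
      ← h.card_inf hu] at h1
    exact Nat.eq_of_mul_eq_mul_left Nat.card_pos h1
  · have h1 := mem_conjSub.1 (Subgroup.mem_subgroupOf.1 ha)
    have h2 := mem_conjSub.1 (Subgroup.mem_subgroupOf.1 hb)
    exact Cj.comm (g := g) (a := ⟨_, h1.1⟩) (b := ⟨_, h2.1⟩) (by simp [Cj, mul_assoc])
      (by simp [Cj, mul_assoc]) (h.comm_of_notMem hu (coe_mem_inf_centralizer.1 h1)
        (coe_mem_inf_centralizer.1 h2))

theorem le_normalizer {A : Subgroup G} (hA : A ≤ P) (hc : (c : G) ∈ A) :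
    P ≤ Subgroup.normalizer (A : Set G) := fun d hd => Subgroup.mem_normalizer_fintype fun a ha => by
  rcases h.commutator ⟨d, hd⟩ ⟨a, hA ha⟩ with h1 | h1 <;>
    rw [show d * a * d⁻¹ = (⁅(⟨d, hd⟩ : P), (⟨a, hA ha⟩ : P)⁆ : P) * a by
      simp [commutatorElement_def], h1]
  exacts [by simpa using ha, mul_mem hc ha]

theorem stab2 {A N : Subgroup G} (hA : A ≤ P) (hc : (c : G) ∈ N)
    (hN : N ≤ (Subgroup.center P).map P.subtype) {d : G} (hd : d ∈ P) : Stab2 A N d := by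
  refine ⟨fun a ha => ?_, fun a ha => ?_⟩
  · obtain ⟨z, hz, rfl⟩ := hN ha
    exact congrArg Subtype.val (mul_comm_of_mem_center hz ⟨d, hd⟩)
  · rcases h.commutator ⟨a, hA ha⟩ ⟨d, hd⟩ with h1 | h1 <;>
      rw [show ⁅a, d⁆ = (⁅(⟨a, hA ha⟩ : P), (⟨d, hd⟩ : P)⁆ : P) from rfl, h1]
    exacts [one_mem _, hc]

omit h [Fintype G] in
theorem _root_.Cfsg.Stab2.conj {A N : Subgroup G} {d : G} (h : Stab2 A N d) (g : G) :
    Stab2 (conjSub A g) (conjSub N g) (g * d * g⁻¹) := by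
  refine ⟨fun a ha => ?_, fun a ha => mem_conjSub.2 ?_⟩
  · have := h.1 _ (mem_conjSub.1 ha)
    calc _ = g * (g⁻¹ * a * g * d) * g⁻¹ := by group
      _ = _ := by rw [this]; group
  · convert h.2 _ (mem_conjSub.1 ha) using 1
    simp only [commutatorElement_def]; group

variable (S : StarSetup 2 M B P e)
include S

/-- a morphism on a centralizer preserves the centre or moves `c` out of it -/
theorem pres_or (hu : u ∉ Subgroup.center P)
    (hg : PairMor 2 P e (P ⊓ Subgroup.centralizer {(u : G)}) g) :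
    (∀ a a', a * u = u * a → Cj g a a' → (a ∈ Subgroup.center P ↔ a' ∈ Subgroup.center P)) ∨
      ∃ a, a * u = u * a ∧ a ∉ Subgroup.center P ∧ Cj g a c ∧ (∀ b, b * u = u * b → b * b ≠ c) ∧
        ∀ z ∈ Subgroup.center P, ∃ z' ∈ Subgroup.center P, Cj g z z' ∨ Cj g (z * c) z' := by
  set A := P ⊓ Subgroup.centralizer {(u : G)}
  set Z := (Subgroup.center P).map P.subtype
  have hZ : ∀ z ∈ Subgroup.center P, (z : G) ∈ A := fun z hz =>
    coe_mem_inf_centralizer.2 (mul_comm_of_mem_center hz u)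
  have hZ' : Z ≤ A := by rintro _ ⟨z, hz, rfl⟩; exact hZ z hz
  have hc : Subgroup.zpowers (c : G) ≤ Z := Subgroup.zpowers_le.2 ⟨c, h.cen, rfl⟩
  have h1 := h.cen_mem_conjSub hu hg h.cen
  obtain ⟨d, hd⟩ := h.exists_conj hu
  obtain ⟨c', hc', -⟩ := S.exists_cj hg (hZ c h.cen)
  obtain ⟨u', hu', -⟩ := S.exists_cj hg (coe_mem_inf_centralizer.2 (rfl : u * u = u * u))
  refine or_iff_not_imp_left.2 fun h0 => ?_
  have key : ∀ {N₁ N₂ : Subgroup G}, N₁ ≤ N₂ → N₂ ≤ conjSub A g →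
      (∀ d ∈ P, Stab2 (conjSub A g) N₁ d ∨ Stab2 (conjSub A g) N₂ d) →
      (Stab2 (conjSub A g) N₁ (g * d * g⁻¹) ∨ Stab2 (conjSub A g) N₂ (g * d * g⁻¹)) → False :=
    fun h2 h3 h4 h5 => h0 fun z z' hz h9 => by
      obtain ⟨d', hd', h6⟩ := S.exists_conj_of_chain_mor hg h2 h3 (h.le_normalizer hg.conj_le h1) h4
        d.2 (h.le_normalizer inf_le_left (hZ c h.cen) d.2) h5
      have h7 : ∀ a a' : P, a * u = u * a → Cj g a a' →
          (d * a = a * d ↔ ⟨d', hd'⟩ * a' = a' * ⟨d', hd'⟩) := fun a a' h7 h8 => by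
        rw [← mul_inv_eq_iff_eq_mul, ← mul_inv_eq_iff_eq_mul, Subtype.ext_iff, Subtype.ext_iff]
        push_cast
        rw [h8, ← h6 a (coe_mem_inf_centralizer.2 h7), mul_left_inj, mul_right_inj]
      have h8 : d * u ≠ u * d := fun h8 => h.ne (by simpa [h8] using hd)
      refine ⟨fun h10 => by_contra fun h11 => h8 ((h7 u u' rfl hu').2 ?_),
        fun h10 => by_contra fun h11 => h8 ?_⟩
      · exact h.comm_of_notMem h11 ((h7 z z' hz h9).1 (mul_comm_of_mem_center h10 d).symm)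
          (hu'.comm h9 hz.symm)
      · exact h.comm_of_notMem h11 ((h7 z z' hz h9).2 (mul_comm_of_mem_center h10 _).symm) hz.symm
  have h2 : c' ∉ Subgroup.center P := fun h2 => key (N₁ := Subgroup.zpowers (c' : G)) (N₂ := Z)
    (Subgroup.zpowers_le.2 ⟨c', h2, rfl⟩)
    (by rintro _ ⟨z, hz, rfl⟩; exact h.cen_mem_conjSub hu hg hz)
    (fun d hd => Or.inr (h.stab2 hg.conj_le (hc (Subgroup.mem_zpowers _)) le_rfl hd)) (Or.inl (by
      rw [hc', ← conjSub_zpowers]
      exact (h.stab2 inf_le_left (Subgroup.mem_zpowers _) hc d.2).conj g))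
  have h3 := mem_conjSub.1 h1
  refine ⟨⟨_, h3.1⟩, coe_mem_inf_centralizer.1 h3, fun h4 => key (N₂ := conjSub Z g)
    (Subgroup.zpowers_le.2 (mem_conjSub.2 ⟨_, h4, rfl⟩)) (conjSub_mono hZ' g)
    (fun d hd => Or.inl (h.stab2 hg.conj_le (Subgroup.mem_zpowers _) hc hd))
    (Or.inr ((h.stab2 inf_le_left (hc (Subgroup.mem_zpowers _)) le_rfl d.2).conj g)), by simp [Cj, mul_assoc],
    fun b hb h4 => ?_, fun z hz => ?_⟩
  · obtain ⟨b', h5, -⟩ := S.exists_cj hg (coe_mem_inf_centralizer.2 hb)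
    exact h2 ((h5.mul h5).unique (h4 ▸ hc') ▸ h.sq_cen b')
  · obtain ⟨z', h4, -⟩ := S.exists_cj hg (hZ z hz)
    by_cases h5 : z' ∈ Subgroup.center P
    exacts [⟨z', h5, Or.inl h4⟩, ⟨_, h.mul_cen h2 (h4.comm hc' (mul_comm_of_mem_center hz c)) rfl h5
      h2, Or.inr (h4.mul hc')⟩]

omit S in
theorem cj_c (hg : g ∈ Subgroup.normalizer (P : Set G)) : Cj g c c := by
  obtain ⟨a, b, hab⟩ := h.exists_not_comm
  have h1 := fun a : P => (Subgroup.mem_normalizer_iff.1 hg a).1 a.2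
  have h2 : Cj g ⁅a, b⁆ ⁅(⟨_, h1 a⟩ : P), (⟨_, h1 b⟩ : P)⁆ := by
    rw [Cj]; simp only [commutatorElement_def]; push_cast; group
  have h3 := mt commutatorElement_eq_one_iff_mul_comm.1 hab
  rw [(h.commutator a b).resolve_left h3] at h2
  rwa [(h.commutator _ _).resolve_left fun h4 => h.ne ((h4 ▸ h2).inj cj_one)] at h2

theorem ess_of_fuse {z : P} (hu : u ∉ Subgroup.center P) (hz : z ∈ Subgroup.center P)
    (h1 : PairFuse 2 P e (u : G) z) : ∃ g a, Cj g u z ∧
      PairMor 2 P e (P ⊓ Subgroup.centralizer {(u : G)}) g ∧ a * u = u * a ∧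
      a ∉ Subgroup.center P ∧ Cj g a c ∧ (∀ b, b * u = u * b → b * b ≠ c) ∧
        ∀ z ∈ Subgroup.center P, ∃ z' ∈ Subgroup.center P, Cj g z z' ∨ Cj g (z * c) z' := by
  obtain ⟨g, h2, h3⟩ := S.exists_fHom_of_central h1 hz
  obtain ⟨a, h4⟩ := (h.pres_or S hu h3).resolve_left fun h4 => hu ((h4 u z rfl h2).2 hz)
  exact ⟨g, a, h2, h3, h4⟩

theorem comm_or {a₁ a₂ : P} (h1 : PairFuse 2 P e (a₁ : G) c) (h2 : PairFuse 2 P e (a₂ : G) c)
    (h3 : a₁ * a₂ ≠ a₂ * a₁) (h4 : ¬ CenFree e u) : a₁ * u = u * a₁ ∨ a₂ * u = u * a₂ := by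
  by_contra! h5
  obtain ⟨z, hz, h6⟩ : ∃ z ∈ Subgroup.center P, PairFuse 2 P e (u : G) z := by
    simpa [CenFree] using h4
  obtain ⟨-, -, -, -, -, -, -, h7, -⟩ := h.ess_of_fuse S
    (fun h7 => h5.1 (mul_comm_of_mem_center h7 _).symm) hz h6
  exact h7 _ (h.comm_mul h5.1 h5.2) (h.sq_mul
    ((mul_self_eq_one_iff_of_orderOf_eq h1.orderOf_eq).2 h.sq)
    ((mul_self_eq_one_iff_of_orderOf_eq h2.orderOf_eq).2 h.sq) h3)

theorem exists_fuse_c (hu : u ∉ Subgroup.center P) (h1 : ¬ CenFree e u) :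
    ∃ a, a * u = u * a ∧ a ∉ Subgroup.center P ∧ PairFuse 2 P e (a : G) c := by
  obtain ⟨z, hz, h2⟩ : ∃ z ∈ Subgroup.center P, PairFuse 2 P e (u : G) z := by
    simpa [CenFree] using h1
  obtain ⟨g, a, -, h3, h4, h5, h6, -⟩ := h.ess_of_fuse S hu hz h2
  exact ⟨a, h4, h5, S.fuse_of_cj h3 (coe_mem_inf_centralizer.2 h4) h6⟩

/-- some coset of the centre is not fused to the centre -/
theorem exists_cenFree : ∃ t ∉ Subgroup.center P, ∀ z ∈ Subgroup.center P, CenFree e (t * z) := by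
  by_contra! h0
  have h1 : ∀ t ∉ Subgroup.center P, ∃ a : P, PairFuse 2 P e (a : G) c ∧
      ∀ b, b * a = a * b ↔ b * t = t * b := fun t ht => by
    obtain ⟨z, hz, h1⟩ := h0 t ht
    have h2 : t * z ∉ Subgroup.center P := by rwa [mul_mem_cancel_right hz]
    obtain ⟨a, h3, h4, h5⟩ := h.exists_fuse_c S h2 h1
    exact ⟨a, h5, fun b => (h.comm_iff h2 h3 h4).trans
      (h.comm_iff ht (Commute.mul_left rfl (mul_comm_of_mem_center hz t)) h2)⟩
  obtain ⟨a, b, hab⟩ := h.exists_not_comm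
  obtain ⟨a', h2, h3⟩ := h1 a fun h2 => hab (mul_comm_of_mem_center h2 b)
  obtain ⟨b', h4, h5⟩ := h1 b fun h2 => hab (mul_comm_of_mem_center h2 a).symm
  have h6 : a' * b' ≠ b' * a' := fun h6 => hab ((h5 a).1 ((h3 b').1 h6.symm).symm)
  obtain ⟨z, hz, h7⟩ := h0 (a' * b') fun h7 => h6 (by
    simpa [mul_assoc] using (mul_comm_of_mem_center h7 a').symm)
  rcases h.comm_or S h2 h4 h6 h7 with h8 | h8 <;>
    rw [← Subgroup.mem_centralizer_singleton_iff, centralizer_mul_of_mem_center hz,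
      Subgroup.mem_centralizer_singleton_iff] at h8
  exacts [h6 (by simpa [mul_assoc] using h8), h6 (by simpa [← mul_assoc] using h8.symm)]

omit h in
theorem _root_.Cfsg.StarSetup.notMem_of_cenFree (hu : CenFree e u) : u ∉ Subgroup.center P :=
  fun h0 => hu u h0 (S.fuse_of_isConj (IsConj.refl u))

omit h in
theorem _root_.Cfsg.StarSetup.cenFree_of_fuse {w : P} (hu : CenFree e u)
    (hw : PairFuse 2 P e (u : G) w) : CenFree e w := fun z hz h1 => hu z hz (S.fuse_trans hw h1)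

theorem fullCen (hu : CenFree e u) : FullCen 2 P e u := fun w hw => by
  have h1 := h.card_inf (S.notMem_of_cenFree hu)
  have h2 := h.card_inf (S.notMem_of_cenFree (S.cenFree_of_fuse hu hw))
  omega

section nf
variable (hnf : ∀ a ∈ Subgroup.center P, ∀ b ∈ Subgroup.center P, PairFuse 2 P e (a : G) b → a = b)
include hnf

omit h in
theorem _root_.Cfsg.StarSetup.eq_of_cj_cen {A : Subgroup G} (hg : PairMor 2 P e A g) {z z' : P}
    (hzA : (z : G) ∈ A) (hz : z ∈ Subgroup.center P) (hz' : z' ∈ Subgroup.center P)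
    (h1 : Cj g z z') : Cj g z z := by
  rwa [← hnf z hz z' hz' (S.fuse_of_cj hg hzA h1)] at h1

theorem fix_of_free (hu : CenFree e u)
    (hg : PairMor 2 P e (P ⊓ Subgroup.centralizer {(u : G)}) g) :
    ∀ z ∈ Subgroup.center P, Cj g z z := fun z hz => by
  have h0 := S.notMem_of_cenFree hu
  have h1 := coe_mem_inf_centralizer.2 (mul_comm_of_mem_center hz u)
  obtain ⟨z', h2, -⟩ := S.exists_cj hg h1
  rcases h.pres_or S h0 hg with h3 | ⟨a, h3, h4, h5, -, h6⟩
  · exact S.eq_of_cj_cen hnf hg h1 hz ((h3 z z' (mul_comm_of_mem_center hz u) h2).1 hz) h2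
  obtain ⟨y, hy, rfl⟩ := h.exists_eq_mul h4 h3.symm h0
  obtain ⟨y', h7, h8 | h8⟩ := h6 y hy
  · exact absurd (S.fuse_of_cj hg (coe_mem_inf_centralizer.2 rfl) (h5.mul h8))
      (hu _ (mul_mem h.cen h7))
  · obtain ⟨d, hd⟩ := h.exists_conj h0
    refine absurd (S.fuse_trans (S.fuse_of_isConj (isConj_iff.2 ⟨d, hd⟩)) ?_)
      (hu _ (mul_mem h.cen h7))
    exact S.fuse_of_cj hg (coe_mem_inf_centralizer.2 (Commute.mul_left rfl
      (mul_comm_of_mem_center h.cen _))) (mul_assoc a y c ▸ h5.mul h8)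

theorem exists_aut {w : P} (hu : CenFree e u) (hw : PairFuse 2 P e (u : G) w) :
    ∃ σ ∈ inAut P e, σ u = w := by
  have := S.hM.charP
  have hw' := S.cenFree_of_fuse hu hw
  obtain ⟨g, h1, hg⟩ := S.exists_ext_of_fullCen (h.fullCen S hw') hw
  have h0 := S.notMem_of_cenFree hu
  have h2 := fun z => h.cen_mem_conjSub h0 hg (z := z)
  have h3 := h.le_normalizer hg.conj_le (h2 c h.cen)
  obtain ⟨s, h4, h5, h6⟩ := hg.exists_stab_of_normal S.isBlk S.hmax (h.le_normalizer inf_le_left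
    (coe_mem_inf_centralizer.2 (mul_comm_of_mem_center h.cen u))) h3
  have h7 : ∀ z ∈ Subgroup.center P, Cj s z z := fun z hz => by
    obtain ⟨z', h7, -⟩ := S.exists_cj (pairMor_of_stab S.isPair le_rfl h6) z.2
    have h8 := S.eq_of_cj_cen hnf (pairMor_of_stab S.isPair le_rfl h6) z.2 hz
      (Subgroup.mem_center_iff.2 fun b => ?_) h7
    · rw [Cj, mul_inv_rev, mul_assoc s, mul_assoc s, ← mul_assoc _ g⁻¹,
        ← h.fix_of_free S hnf hu hg z hz, ← mul_assoc] at h8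
      exact h8
    · obtain ⟨b', h8, -⟩ := S.exists_cj (pairMor_of_stab S.isPair le_rfl (inv_mem h6)) b.2
      simpa using (show Cj (s * g) b' b by simpa using h8.symm).comm h7
        (mul_comm_of_mem_center hz b').symm
  have h8 : ∀ a : P, (a : G) ∈ conjSub (P ⊓ Subgroup.centralizer {(u : G)}) g → a * w = w * a :=
    fun a ha => Cj.comm (g := g) (a := ⟨_, (mem_conjSub.1 ha).1⟩) (by simp [Cj, mul_assoc]) h1
      (coe_mem_inf_centralizer.1 (mem_conjSub.1 ha))
  obtain ⟨d, hd, h9⟩ := S.exists_conj_of_chain (N₁ := (Subgroup.center P).map P.subtype) le_rfl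
    (by rintro _ ⟨z, hz, rfl⟩; exact h2 z hz) hg.conj_le h3
    (fun d hd => Or.inl (h.stab2 hg.conj_le (Subgroup.mem_map_of_mem _ h.cen) le_rfl hd))
    (Or.inl ⟨by rintro _ ⟨z, hz, rfl⟩; exact eq_mul_inv_iff_mul_eq.1 (h7 z hz), fun a ha => by
      obtain ⟨b, h9, -⟩ := S.exists_cj h5 (a := ⟨a, hg.conj_le ha⟩⁻¹) (inv_mem ha)
      refine ⟨⟨a, hg.conj_le ha⟩ * b, ?_, by
        simp [show (b : G) = _ from h9, commutatorElement_def, mul_assoc]⟩
      by_cases h10 : (⟨a, hg.conj_le ha⟩ : P) ∈ Subgroup.center P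
      · exact mul_mem h10 (h9.unique (h7 _ (inv_mem h10)) ▸ inv_mem h10)
      · refine h.mul_cen (S.notMem_of_cenFree hw') (h8 _ ha) (h8 _ ?_) h10 fun h11 =>
          h10 (inv_mem_iff.1 (h9.inj (h7 b h11) ▸ h11))
        rw [show (b : G) = _ from h9]
        exact (Subgroup.mem_normalizer_iff.1 h4 _).1 (inv_mem ha)⟩) h4 h5
  obtain ⟨σ, h10, h11⟩ := exists_mem_autInducedBy (pairStab_le_normalizer ⊤ P e)
    (mul_mem (inv_mem ((pairMor_self_iff S.isPair).1 (pairMor_of_mem S.isPair le_rfl hd))) h6)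
  refine ⟨σ, h10, Subtype.ext ?_⟩
  have h12 := h9 w (h1 ▸ conj_mem_conjSub.2 (coe_mem_inf_centralizer.2 rfl))
  calc _ = d⁻¹ * (s * (g * u * g⁻¹) * s⁻¹) * d := by rw [h11]; group
    _ = _ := by rw [← h1, h12]; group

theorem rank_of_free (hu : CenFree e u) : blockRank 2 (S.below u) = 1 := by
  have h0 := S.notMem_of_cenFree hu
  refine S.blockRank_below_eq_one_of_comm (h.fullCen S hu) rfl (fun a ha b hb =>
    congrArg P.subtype (h.comm_of_notMem (a := ⟨b, hb.1⟩) (b := ⟨a, ha.1⟩) h0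
      (coe_mem_inf_centralizer.1 hb) (coe_mem_inf_centralizer.1 ha))) fun g hg h1 _ a ha => ?_
  have h2 := h.fix_of_free S hnf hu h1
  have h3 : Cj g u u := by
    rw [Cj, Subgroup.mem_centralizer_singleton_iff.1 hg, mul_inv_cancel_right]
  suffices h4 : Cj g ⟨a, ha.1⟩ ⟨a, ha.1⟩ from (mul_inv_eq_iff_eq_mul.1 (Eq.symm h4)).symm
  by_cases h4 : (⟨a, ha.1⟩ : P) ∈ Subgroup.center P
  · exact h2 _ h4
  · obtain ⟨z, hz, h5⟩ := h.exists_eq_mul h0 (coe_mem_inf_centralizer.1 ha) h4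
    exact h5 ▸ h3.mul (h2 z hz)

theorem free_mul {z : P} (hu : CenFree e u) (hz : z ∈ Subgroup.center P) :
    CenFree e (u * z) := fun w hw h1 => by
  have h0 := S.notMem_of_cenFree hu
  have h2 : u * z ∉ Subgroup.center P := by rwa [mul_mem_cancel_right hz]
  obtain ⟨g, a, -, hg, h3, h4, h5, -⟩ := h.ess_of_fuse S h2 hw h1
  have h6 : P ⊓ Subgroup.centralizer {((u * z : P) : G)} = P ⊓ Subgroup.centralizer {(u : G)} :=
    Subgroup.ext fun a => and_congr_right fun ha => by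
      simpa [← coe_mem_inf_centralizer, show a ∈ P from ha] using h.comm_iff (b := ⟨a, ha⟩) h0
        (Commute.mul_left rfl (mul_comm_of_mem_center hz u)) h2
  exact h4 (h5.inj (h.fix_of_free S hnf hu (h6 ▸ hg) c h.cen) ▸ h.cen)

theorem fuse_mul {w z : P} (hu : CenFree e u) (hz : z ∈ Subgroup.center P)
    (hw : PairFuse 2 P e (u : G) w) : PairFuse 2 P e ((u * z : P) : G) (w * z : P) := by
  obtain ⟨g, h2, h3⟩ := S.exists_ext_of_fullCen (h.fullCen S (S.cenFree_of_fuse hu hw)) hw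
  exact S.fuse_of_cj h3 (coe_mem_inf_centralizer.2 (Commute.mul_left rfl
    (mul_comm_of_mem_center hz u))) (Cj.mul h2 (h.fix_of_free S hnf hu h3 z hz))

theorem fuseCard_mul {z : P} (hu : CenFree e u) (hz : z ∈ Subgroup.center P) :
    fuseCard 2 P e (u * z) = fuseCard 2 P e u :=
  Nat.card_congr ((Equiv.mulRight z).subtypeEquiv fun w => ⟨h.fuse_mul S hnf hu hz, fun h1 => by
    simpa using h.fuse_mul S hnf (h.free_mul S hnf hu hz) (inv_mem hz) h1⟩).symm

theorem stable {l : P →* ℂˣ} (h1 : ∀ a : P, PairFuse 2 P e (a : G) c → l a = 1)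
    (h2 : ∀ σ ∈ inAut P e, ∀ a, l (σ a) = l a) : IsPairStable 2 P e fun a => (l a : ℂ) := by
  have hc := h1 c (S.fuse_of_isConj (IsConj.refl c))
  have hD : ∀ u : P, ∀ z ∈ Subgroup.center P, PairFuse 2 P e (u : G) z → l u = l z :=
    fun u z hz a1 => by
      by_cases hu : u ∈ Subgroup.center P
      · rw [hnf u hu z hz a1]
      obtain ⟨g, a, h3, hg, h4, h5, h6, -, h7⟩ := h.ess_of_fuse S hu hz a1
      obtain ⟨y, hy, rfl⟩ := h.exists_eq_mul h5 h4.symm hu
      have h8 := fun z hz => coe_mem_inf_centralizer.2 (mul_comm_of_mem_center (a := z) hz (a * y))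
      have h9 := h1 a (S.fuse_of_cj hg (coe_mem_inf_centralizer.2 h4) h6)
      obtain ⟨y', h10, h11 | h11⟩ := h7 y hy
      · simp [h3.unique (h6.mul (S.eq_of_cj_cen hnf hg (h8 y hy) hy h10 h11)), hc, h9]
      · obtain ⟨c', h12, h13⟩ := S.exists_cj hg (h8 c h.cen)
        have h14 := (h6.mul (S.eq_of_cj_cen hnf hg (h8 _ (mul_mem hy h.cen)) (mul_mem hy h.cen)
          h10 h11)).mul h12
        rw [mul_assoc a, mul_assoc y, h.sq, mul_one] at h14
        simp [h3.unique h14, hc, h9, h1 c' h13.symm]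
  intro u w hw
  by_cases hu : CenFree e u
  · obtain ⟨σ, h3, rfl⟩ := h.exists_aut S hnf hu hw
    simp only [h2 σ h3]
  · obtain ⟨z, hz, a1⟩ : ∃ z ∈ Subgroup.center P, PairFuse 2 P e (u : G) z := by
      simpa [CenFree] using hu
    simp only [hD u z hz a1, hD w z hz (S.fuse_trans hw.symm a1)]

end nf

end Cls2

end Cfsg
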