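import Cfsg.Agent.Blk.ClsTwo

/-! Blocks whose defect groups have order sixteen and a centre of order four. -/

set_option autoImplicit false

namespace Cfsg

open scoped MonoidAlgebra commutatorElement

universe u v w

variable {M : Ideal AlgInt} {G : Type u} [Group G] [Fintype G] {B : Set (IrrCharacter G)}
  {P : Subgroup G} {e : (resK M)[G]} {c u w : P} {g : G}

theorem StarSetup.fuse_aut {p : ℕ} (S : StarSetup p M B P e) {σ : MulAut P} (hσ : σ ∈ inAut P e)
    (a : P) : PairFuse p P e (a : G) (σ a) := by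
  obtain ⟨t, ht, h⟩ := mem_autInducedBy.1 hσ
  exact S.pairFuse_of_mem_stab ht (h a)

theorem MulAut.apply_mem_center {T : Type u} [Group T] (σ : MulAut T) {z : T}
    (hz : z ∈ Subgroup.center T) : σ z ∈ Subgroup.center T := Subgroup.mem_center_iff.2 fun b => by
  obtain ⟨b, rfl⟩ := σ.surjective b
  rw [← map_mul, ← map_mul, Subgroup.mem_center_iff.1 hz]

theorem StarSetup.rank_le_three_of_orderOf (S : StarSetup 2 M B P e) (σ : P)
    (h : Nat.card P ≤ orderOf σ * 2) : blockRank 2 B ≤ 3 := by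
  refine S.blockRank_le_three_of_index_le_two (σ := σ) (Nat.le_of_mul_le_mul_left ?_ (orderOf_pos σ))
  rwa [← Nat.card_zpowers, Subgroup.card_mul_index, Nat.card_zpowers]

theorem StarSetup.rank_le_three_of_card_le_four (S : StarSetup 2 M B P e) (h : Nat.card P ≤ 4) :
    blockRank 2 B ≤ 3 := by
  rcases subsingleton_or_nontrivial P with h1 | h1
  · exact S.rank_le_three_of_orderOf 1 (by simp)
  · obtain ⟨σ, h2⟩ := exists_ne (1 : P)
    have := orderOf_pos σ
    have := mt orderOf_eq_one_iff.1 h2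
    exact S.rank_le_three_of_orderOf σ (by omega)

theorem four_le_orderOf {T : Type u} [Group T] [Finite T] (hT : IsPGroup 2 T) {a : T}
    (ha : a * a ≠ 1) : 4 ≤ orderOf a := by
  obtain ⟨n, hn⟩ := IsPGroup.iff_orderOf.1 hT a
  have h1 := mt orderOf_dvd_iff_pow_eq_one.1 (pow_two a ▸ ha)
  obtain _ | _ | n := n
  · simp [hn] at h1
  · simp [hn] at h1
  · rw [hn]; exact Nat.pow_le_pow_right (n := 2) two_pos (i := 2) (by omega)

theorem exists_mul_self_ne_one {T : Type u} [Group T] {a b : T} (h : a * b ≠ b * a) :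
    ∃ x : T, x * x ≠ 1 := by
  by_contra! h1
  have h2 := fun x => inv_eq_of_mul_eq_one_right (h1 x)
  exact h (by rw [← h2 (a * b), mul_inv_rev, h2, h2])

theorem StarSetup.rank_le_three_of_card_le_eight (S : StarSetup 2 M B P e) (h : Nat.card P ≤ 8)
    {a : P} (ha : a * a ≠ 1) : blockRank 2 B ≤ 3 :=
  S.rank_le_three_of_orderOf a (by have := four_le_orderOf S.isPGroup ha; omega)

theorem Cls2.orderOf_eq {T : Type u} [Group T] {c : T} (h : Cls2 c) : orderOf c = 2 :=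
  orderOf_eq_prime (by rw [pow_two, h.sq]) h.ne

open Classical in
theorem Cls2.rank_eight (h : Cls2 c) (S : StarSetup 2 M B P e) (hc : Nat.card P = 8)
    (hE : ∀ σ ∈ inAut P e, ∀ x, σ x * x = x * σ x) : ∃ t₁ t₂ : P, t₁ * t₂ ≠ t₂ * t₁ ∧
      blockRank 2 B + (if CenFree e t₁ then 1 else 0) + (if CenFree e t₂ then 1 else 0) ≤ 3 := by
  have hZ : ∀ z ∈ Subgroup.center P, z = 1 ∨ z = c := fun z hz => by
    have h1 := (Subgroup.center P).card_mul_index
    rw [h.idx, hc] at h1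
    exact eq_or_of_mem_zpowers_invol h.sq ((Subgroup.eq_of_le_of_card_ge
      (Subgroup.zpowers_le.2 h.cen) (by rw [Nat.card_zpowers, h.orderOf_eq]; omega)).ge hz)
  have hnf : ∀ a ∈ Subgroup.center P, ∀ b ∈ Subgroup.center P, PairFuse 2 P e (a : G) b → a = b :=
    fun a ha b hb => S.eq_of_fuse_of_four (w := 1) h.sq (fun _ => h.cj_c) ha hb
      ((hZ a ha).imp_right Or.inl) ((hZ b hb).imp_right Or.inl)
  obtain ⟨σ, h1⟩ : ∃ σ : P, σ * σ = c := by
    obtain ⟨a, b, hab⟩ := h.exists_not_comm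
    rcases hZ _ (h.sq_cen a) with h1 | h1
    · exact (hZ _ (h.sq_cen b)).elim (fun h2 => ⟨_, h.sq_mul h1 h2 hab⟩) fun h2 => ⟨b, h2⟩
    · exact ⟨a, h1⟩
  have h2 : orderOf σ = 2 * 2 := orderOf_eq_prime_pow (p := 2) (n := 1)
    (by rw [pow_one, pow_two, h1]; exact h.ne) (by
      rw [show 2 ^ (1 + 1) = 2 * 2 from rfl, pow_mul, pow_two, pow_two, h1, h.sq])
  obtain ⟨τ, h3⟩ := not_forall.1 (mt Subgroup.mem_center_iff.2 fun h3 => by
    rcases hZ σ h3 with rfl | rfl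
    exacts [h.ne (by simpa using h1.symm), h.ne (h1.symm.trans h.sq)])
  have h4 : ∀ a ∈ Subgroup.zpowers σ, σ * a = a * σ := by
    rintro _ ⟨j, rfl⟩; exact Commute.self_zpow σ j
  have h5 : IsTame σ τ 2 (-1) := ⟨⟨0, rfl⟩, h2, index_zpowers_eq_two two_ne_zero h2 hc,
    fun h5 => h3 (h4 τ h5).symm, by
      rw [h.eq_of_ne h3, h.mul_c, mul_inv_cancel_right, zpow_neg_one, eq_inv_iff_mul_eq_one,
        h.mul_c, h1, h.sq],
    (hZ _ (h.sq_cen τ)).imp (fun h5 => ⟨rfl, h5⟩) fun h5 => Or.inl ⟨rfl, by rw [h5, pow_two, h1]⟩⟩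
  have h6 : ∀ {t a : P}, CenFree e t → PairFuse 2 P e (t : G) a → a * t = t * a := fun ht ha => by
    obtain ⟨α, h6, rfl⟩ := h.exists_aut S hnf ht ha
    exact hE α h6 _
  have h7 : ∀ t : P, t * σ ≠ σ * t → CenFree e t → TameFree e σ t := fun t h7 ht a ha h8 =>
    h7 (h.comm_of_notMem (S.notMem_of_cenFree (S.cenFree_of_fuse ht h8)) (h6 ht h8).symm (h4 a ha))
  have h8 : τ * (σ * τ) ≠ σ * τ * τ := by simpa [← mul_assoc] using h3
  have h9 := S.tame_rank_le h5
  rw [card_tameReps h5] at h9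
  refine ⟨τ, σ * τ, h8, ?_⟩
  have h10 : CenFree e (σ * τ) → TameFree e σ (σ * τ) ∧ ¬ PairFuse 2 P e (τ : G) (σ * τ : P) :=
    fun h10 => ⟨h7 _ (by simpa [mul_assoc] using h3) h10, fun h11 => h8 (h6 h10 h11.symm)⟩
  have h11 := h7 τ h3
  split_ifs at h9 ⊢ <;> first | omega | tauto

/-- the centre is `{1, c, w, c w}` -/
structure Cls2F {T : Type u} [Group T] (c w : T) : Prop extends Cls2 c where
  wcen : w ∈ Subgroup.center T
  w_ne : w ≠ 1
  w_ne_c : w ≠ c
  four : ∀ z ∈ Subgroup.center T, z = 1 ∨ z = c ∨ z = w ∨ z = c * w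

namespace Cls2F
variable (h : Cls2F c w)
include h

omit [Fintype G] in
theorem c_mul (a : P) : c * (c * a) = a := by rw [← mul_assoc, h.sq, one_mul]

omit [Fintype G] in
theorem mul : Cls2F c (c * w) where
  __ := h.toCls2
  wcen := mul_mem h.cen h.wcen
  w_ne := fun h1 => h.w_ne_c (by rw [← h.c_mul w, h1, mul_one])
  w_ne_c := by simpa using h.w_ne
  four := fun z hz => by rw [h.c_mul]; have := h.four z hz; tauto

omit [Fintype G] in
theorem w_sq : w * w = 1 ∨ w * w = c := by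
  rcases h.four _ (mul_mem h.wcen h.wcen) with h1 | h1 | h1 | h1
  exacts [Or.inl h1, Or.inr h1, absurd (by simpa using h1) h.w_ne,
    absurd (by simpa using h1) h.w_ne_c]

variable (S : StarSetup 2 M B P e)
include S

theorem nf : ∀ a ∈ Subgroup.center P, ∀ b ∈ Subgroup.center P, PairFuse 2 P e (a : G) b → a = b :=
  fun a ha b hb => S.eq_of_fuse_of_four h.sq (fun _ => h.cj_c) ha hb (h.four a ha) (h.four b hb)

theorem fuse_mul_c (hu : u ∉ Subgroup.center P) :
    PairFuse 2 P e ((u * w : P) : G) (u * (c * w) : P) := by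
  obtain ⟨d, hd⟩ := h.exists_conj (u := u * w) (by rwa [mul_mem_cancel_right h.wcen])
  exact S.fuse_of_isConj (isConj_iff.2 ⟨d, by rw [hd, ← h.mul_c, mul_assoc]⟩)

theorem not_fuse_mul (hu : u ∉ Subgroup.center P) (h1 : PairFuse 2 P e (u : G) c) :
    ¬ PairFuse 2 P e ((u * w : P) : G) c := fun h2 => by
  obtain ⟨g, -, h3, hg, -, -, -, -, h4⟩ := h.ess_of_fuse S hu h.cen h1
  have h5 : ∀ y ∈ Subgroup.center P, ∀ y' ∈ Subgroup.center P, Cj g y y' →
      PairFuse 2 P e ((u * y : P) : G) c → y = 1 := fun y hy y' hy' h5 h6 => by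
    have h7 := mul_comm_of_mem_center hy u
    simpa using h.nf S _ h.cen _ (mul_mem h.cen hy) (S.fuse_trans h6.symm (S.fuse_of_cj hg
      (coe_mem_inf_centralizer.2 (Commute.mul_left rfl h7)) (h3.mul (S.eq_of_cj_cen (h.nf S) hg
        (coe_mem_inf_centralizer.2 h7) hy hy' h5))))
  obtain ⟨y, hy, h6 | h6⟩ := h4 w h.wcen
  · exact h.w_ne (h5 w h.wcen y hy h6 h2)
  · rw [mul_comm_of_mem_center h.wcen] at h6
    exact h.mul.w_ne (h5 _ h.mul.wcen y hy h6 (S.fuse_trans (h.fuse_mul_c S hu).symm h2))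

theorem eq_or {a : P} (hu : u ∉ Subgroup.center P) (ha : a ∉ Subgroup.center P)
    (h1 : PairFuse 2 P e (u : G) c) (h2 : PairFuse 2 P e (a : G) c) (h3 : a * u = u * a) :
    a = u ∨ a = u * c := by
  obtain ⟨z, hz, rfl⟩ := h.exists_eq_mul hu h3 ha
  rcases h.four z hz with rfl | rfl | rfl | rfl
  exacts [Or.inl (mul_one _), Or.inr rfl, absurd h2 (h.not_fuse_mul S hu h1),
    absurd h2 (h.mul.not_fuse_mul S hu h1)]

theorem exists_hom : ∃ χ : P →* ℂˣ, χ w = -1 ∧ ∀ a : P, PairFuse 2 P e (a : G) c → χ a = 1 := by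
  have h0 := S.fuse_of_isConj (IsConj.refl c)
  have h1 : ∀ a : P, PairFuse 2 P e (a : G) c → a ∈ Subgroup.center P → a = c :=
    fun a ha h1 => h.nf S a h1 c h.cen ha
  obtain ⟨a₁, a₂, h2, h3, h4, h5⟩ : ∃ a₁ a₂ : P, PairFuse 2 P e (a₁ : G) c ∧
      PairFuse 2 P e (a₂ : G) c ∧ (a₂ = c ∨ a₁ * a₂ ≠ a₂ * a₁) ∧ ∀ a ∉ Subgroup.center P,
        PairFuse 2 P e (a : G) c → a₁ ∉ Subgroup.center P ∧ a₁ * a = a * a₁ ∨
          a₂ ∉ Subgroup.center P ∧ a₂ * a = a * a₂ := by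
    by_cases h2 : ∃ a₁ ∉ Subgroup.center P, PairFuse 2 P e (a₁ : G) c
    · obtain ⟨a₁, h2, h3⟩ := h2
      by_cases h4 : ∃ a₂ : P, PairFuse 2 P e (a₂ : G) c ∧ a₁ * a₂ ≠ a₂ * a₁
      · obtain ⟨a₂, h4, h5⟩ := h4
        exact ⟨a₁, a₂, h3, h4, Or.inr h5, fun a _ ha => (h.comm_or S h3 h4 h5 fun h6 =>
          h6 c h.cen ha).imp (⟨h2, ·⟩) (⟨fun h6 => h5 (mul_comm_of_mem_center h6 _).symm, ·⟩)⟩
      · push Not at h4
        exact ⟨a₁, c, h3, h0, Or.inl rfl, fun a _ ha => Or.inl ⟨h2, h4 a ha⟩⟩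
    · exact ⟨c, c, h0, h0, Or.inl rfl, fun a ha h3 => absurd ⟨a, ha, h3⟩ h2⟩
  have h6 : ∀ K : Subgroup P, commutator P ≤ Subgroup.zpowers c ⊔ K := fun K =>
    le_sup_of_le_left (Subgroup.commutator_le.2 fun a _ b _ => by
      rcases h.commutator a b with h6 | h6 <;> simp [h6])
  have h7 : ∀ a : P, PairFuse 2 P e (a : G) c → a * a = 1 := fun a ha =>
    (mul_self_eq_one_iff_of_orderOf_eq ha.orderOf_eq).2 h.sq
  set K := Subgroup.zpowers c ⊔ Subgroup.zpowers a₁ ⊔ Subgroup.zpowers a₂ with hK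
  have hc : c ∈ K := Subgroup.mem_sup_left (Subgroup.mem_sup_left (Subgroup.mem_zpowers c))
  obtain ⟨χ, h8, h9⟩ := exists_unitsHom_le_ker_ne_one (N := K) (g := w)
    ((h6 _).trans le_sup_left) fun h8 => by
      have := Subgroup.Normal.of_commutator_le P (h6 (Subgroup.zpowers a₁))
      have : (Subgroup.zpowers c).Normal := ⟨fun a ha g => by
        rw [← mul_comm_of_mem_center (Subgroup.zpowers_le.2 h.cen ha)]; simpa using ha⟩
      obtain ⟨_, h9, y, hy, h10⟩ := Subgroup.mem_sup_of_normal_left.1 h8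
      obtain ⟨z, hz, x, hx, rfl⟩ := Subgroup.mem_sup_of_normal_left.1 h9
      have h11 : x * y ∈ Subgroup.center P := by
        rw [← mul_mem_cancel_left (Subgroup.zpowers_le.2 h.cen hz), ← mul_assoc, h10]; exact h.wcen
      have h12 : x * y ∈ Subgroup.zpowers c := by
        rcases eq_or_of_mem_zpowers_invol (h7 _ h2) hx with rfl | rfl <;>
          rcases eq_or_of_mem_zpowers_invol (h7 _ h3) hy with rfl | rfl
        · simp
        · simp [h1 _ h3 (by simpa using h11)]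
        · simp [h1 _ h2 (by simpa using h11)]
        · rcases h4 with rfl | h4
          · simp [h1 _ h2 ((mul_mem_cancel_right h.cen).1 h11), mul_mem]
          · exact absurd (by simpa [mul_assoc] using (mul_comm_of_mem_center h11 x).symm) h4
      rcases eq_or_of_mem_zpowers_invol h.sq (h10 ▸ mul_assoc z x y ▸ mul_mem hz h12) with h13 | h13
      exacts [h.w_ne h13, h.w_ne_c h13]
  refine ⟨χ, Units.ext ((mul_self_eq_one_iff.1 ?_).resolve_left (mt Units.val_eq_one.1 h9)),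
    fun a ha => h8 ?_⟩
  · rw [← Units.val_mul, ← map_mul]
    rcases h.w_sq with h10 | h10 <;> simp [h10, show χ c = 1 from h8 hc]
  by_cases h10 : a ∈ Subgroup.center P
  · exact h1 a ha h10 ▸ hc
  have h11 : a₁ ∈ K := Subgroup.mem_sup_left (Subgroup.mem_sup_right (Subgroup.mem_zpowers _))
  have h12 : a₂ ∈ K := Subgroup.mem_sup_right (Subgroup.mem_zpowers _)
  rcases h5 a h10 ha with ⟨h13, h14⟩ | ⟨h13, h14⟩
  · rcases h.eq_or S h13 h10 h2 ha h14.symm with rfl | rfl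
    exacts [h11, mul_mem h11 hc]
  · rcases h.eq_or S h13 h10 h3 ha h14.symm with rfl | rfl
    exacts [h12, mul_mem h12 hc]

theorem aut_cen {σ : MulAut P} (hσ : σ ∈ inAut P e) {z : P} (hz : z ∈ Subgroup.center P) :
    σ z = z := (h.nf S z hz _ (MulAut.apply_mem_center σ hz) (S.fuse_aut hσ z)).symm

omit h S in
theorem _root_.Cfsg.SubQuot.comm_of_cls2 {S : StarSetup 2 M B P e} {v : P} {H : Type u} [Group H]
    [Fintype H] {B' : Set (IrrCharacter H)} {P' : Subgroup H} {e' : (resK M)[H]}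
    {S' : StarSetup 2 M B' P' e'} {ρ : P →* P'} (Q : SubQuot S v P S' ρ) (h : Cls2 c)
    (hc : c ∈ Subgroup.zpowers v) : P' ≤ Subgroup.centralizer (P' : Set H) :=
  Q.comm_of fun a b => coe_mem_zpowers_coe.2 (show ⁅a, b⁆ ∈ Subgroup.zpowers v by
    rcases h.commutator a b with h1 | h1 <;> simp [h1, hc])

theorem exists_stable : ∃ l : P →* ℂˣ, l c = 1 ∧ l w = -1 ∧
    IsPairStable 2 P e fun a => (l a : ℂ) := by
  classical
  obtain ⟨χ, h1, h2⟩ := h.exists_hom S
  obtain ⟨H, _, _, B', P', e', S', ρ, Q⟩ :=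
    S.exists_subQuot_central (StarSetup.le_centralizer_of_mem_center h.cen)
  have h0 := S.fuse_of_isConj (IsConj.refl c)
  have h3 := S'.not_dvd_card_inAut (Q.comm_of_cls2 h.toCls2 (Subgroup.mem_zpowers c))
  obtain ⟨χ', h4⟩ : ∃ χ' : P' →* ℂˣ, ∀ a, χ' (ρ a) = χ a :=
    ⟨ρ.liftOfSurjective Q.surj ⟨χ, Q.ker_eq ▸ Subgroup.zpowers_le.2 (h2 c h0)⟩,
      fun a => MonoidHom.liftOfRightInverse_comp_apply ..⟩
  have := Fintype.ofFinite (inAut P' e')
  set l : P →* ℂˣ := ∏ τ : inAut P' e', (χ'.comp (τ : MulAut P').toMonoidHom).comp ρ with hl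
  have h5 : ∀ a, l a = ∏ τ : inAut P' e', χ' ((τ : MulAut P') (ρ a)) := fun a =>
    MonoidHom.finsetProd_apply ..
  have h6 : ∀ a : P, PairFuse 2 P e (a : G) c → l a = 1 := fun a ha => by
    rw [h5]
    refine Finset.prod_eq_one fun τ _ => ?_
    obtain ⟨σ, h6, -, h7⟩ := Q.lift_aut τ.2
    rw [← h7, h4, h2 _ (S.fuse_trans (S.fuse_aut h6 a).symm ha)]
  refine ⟨l, h6 c h0, ?_, h.stable S (h.nf S) h6 fun σ hσ a => ?_⟩
  · rw [h5, Finset.prod_congr rfl (g := fun _ => -1) fun τ _ => ?_, Finset.prod_const,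
      Finset.card_univ, ← Nat.card_eq_fintype_card, Odd.neg_one_pow (Nat.odd_iff.2 (by omega))]
    obtain ⟨σ, h6, -, h7⟩ := Q.lift_aut τ.2
    rw [← h7, h4, h.aut_cen S h6 h.wcen, h1]
  · obtain ⟨τ, h7, h8⟩ := Q.push_aut hσ (h.aut_cen S hσ h.cen)
    rw [h5, h5, h8]
    exact Equiv.prod_comp (Equiv.mulRight (⟨τ, h7⟩ : inAut P' e'))
      fun τ : inAut P' e' => χ' (τ.1 (ρ a))

theorem rank_add : blockRank 2 B + blockRank 2 (S.below c) =
    blockRank 2 (S.below w) + blockRank 2 (S.below (c * w)) := by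
  classical
  have := Fintype.ofFinite P
  obtain ⟨l, h1, h2, h3⟩ := h.exists_stable S
  have hnf := h.nf S
  have h4 := S.sum_linear_eq_zero_of_central l h3 h.wcen (by rw [h2]; exact neg_units_ne_self 1)
  have h5 : IsPairStable 2 P e fun a => (l a : ℂ) * blockRank 2 (S.below a) := fun a b hab => by
    simp only [h3 a b hab, S.blockRank_below_congr hab]
  have h6 : ∑ a with CenFree e a, (l a : ℂ) / fuseCard 2 P e a * blockRank 2 (S.below a) = 0 := by
    rw [← CharZero.neg_eq_self_iff, ← Finset.sum_neg_distrib]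
    refine Finset.sum_equiv (Equiv.mulRight w) (fun a => ?_) fun a ha => ?_
    · simp only [Finset.mem_filter, Finset.mem_univ, true_and, Equiv.coe_mulRight]
      exact ⟨fun ha => h.free_mul S hnf ha h.wcen, fun ha => by
        simpa using h.free_mul S hnf ha (inv_mem h.wcen)⟩
    · have h6 := (Finset.mem_filter.1 ha).2
      rw [Equiv.coe_mulRight, h.rank_of_free S hnf (h.free_mul S hnf h6 h.wcen)]
      simp [h2, h.fuseCard_mul S hnf h6 h.wcen, h.rank_of_free S hnf h6, neg_div]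
  have h7 : ∀ a : P, (if ¬ CenFree e a then (1 : ℂ) else 0) =
      fuseInd 2 P e 1 a + fuseInd 2 P e c a + fuseInd 2 P e w a + fuseInd 2 P e (c * w) a := by
    intro a
    have h7 : ∀ z ∈ Subgroup.center P, PairFuse 2 P e (a : G) z → ∀ y ∈ Subgroup.center P,
        fuseInd 2 P e y a = if y = z then 1 else 0 := fun z hz h7 y hy =>
      if_congr ⟨fun h8 => hnf _ hy _ hz (S.fuse_trans h8 h7), fun h8 => h8 ▸ h7.symm⟩ rfl rfl
    have := h.ne; have := h.w_ne; have := h.w_ne_c; have := h.mul.w_ne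
    have := h.ne.symm; have := h.w_ne.symm; have := h.w_ne_c.symm; have := h.mul.w_ne.symm
    split_ifs with h9
    · have h10 : ∀ w ∈ Subgroup.center P, fuseInd 2 P e w a = 0 := fun w hw =>
        if_neg fun h10 => h9 w hw h10.symm
      simp [h10, h.cen, h.wcen, mul_mem, one_mem]
    · obtain ⟨z, hz, a1⟩ : ∃ z ∈ Subgroup.center P, PairFuse 2 P e (a : G) z := by
        simpa [CenFree] using h9
      rw [h7 z hz a1 1 (one_mem _), h7 z hz a1 c h.cen, h7 z hz a1 w h.wcen,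
        h7 z hz a1 _ h.mul.wcen]
      rcases h.four z hz with rfl | rfl | rfl | rfl <;> simp [*]
  rw [← Finset.sum_filter_add_sum_filter_not _ (CenFree e), h6, zero_add, Finset.sum_filter,
    Finset.sum_congr rfl (g := fun a => (if ¬ CenFree e a then (1 : ℂ) else 0) *
      ((l a : ℂ) * blockRank 2 (S.below a) / fuseCard 2 P e a)) fun a _ => by
        split_ifs <;> ring] at h4
  simp only [h7, add_mul, Finset.sum_add_distrib, S.sum_fuseInd_mul_div h5, map_one, map_mul, h1,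
    h2, S.blockRank_below_one] at h4
  apply Nat.cast_injective (R := ℂ)
  push_cast at h4 ⊢
  linear_combination h4

theorem rank_w (hc : Nat.card P = 16) : blockRank 2 (S.below w) ≤ 3 := by
  obtain ⟨H, _, _, B', P', e', S', ρ, Q⟩ :=
    S.exists_subQuot_central (StarSetup.le_centralizer_of_mem_center h.wcen)
  have h1 := Q.card_mul
  rw [hc, Subgroup.orderOf_coe] at h1
  rw [← Q.rank]
  rcases h.w_sq with h2 | h2
  · obtain ⟨a, b, hab⟩ := h.exists_not_comm
    obtain ⟨x, hx⟩ := exists_mul_self_ne_one (a := ρ a) (b := ρ b) fun h3 => by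
      have h4 : ρ c = 1 := by rw [← map_mul, h.eq_of_ne hab] at h3; simpa using h3
      exact (eq_or_of_mem_zpowers_invol h2 (Q.ker'.1 h4)).elim h.ne h.w_ne_c.symm
    rw [orderOf_eq_prime (pow_two w ▸ h2) h.w_ne] at h1
    exact S'.rank_le_three_of_card_le_eight (by omega) hx
  · have := four_le_orderOf S.isPGroup (h2 ▸ h.ne)
    exact S'.rank_le_three_of_card_le_four (by nlinarith)

/-- the coset of `t` is essential and `w` is fixed -/
def EssW (e : (resK M)[G]) (c w t : P) : Prop := ∃ a ∉ Subgroup.center P, a * t = t * a ∧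
  PairFuse 2 P e (a : G) c ∧ PairFuse 2 P e ((a * w : P) : G) (c * w : P)

open Classical in
theorem rank_w_add (hc : Nat.card P = 16) (hE : ∀ σ ∈ inAut P e, ∀ x, σ x = x ∨ σ x = x * c) :
    ∃ t₁ t₂ : P, t₁ * t₂ ≠ t₂ * t₁ ∧ blockRank 2 (S.below w) + (if EssW e c w t₁ then 0 else 1) +
      (if EssW e c w t₂ then 0 else 1) ≤ 3 := by
  obtain ⟨H, _, _, B', P', e', S', ρ, Q⟩ :=
    S.exists_subQuot_central (StarSetup.le_centralizer_of_mem_center h.wcen)
  rw [← Q.rank]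
  rcases h.w_sq with h2 | h2
  swap
  · obtain ⟨a, b, hab⟩ := h.exists_not_comm
    have h3 : c ∈ Subgroup.zpowers w := ⟨2, (zpow_two w).trans h2⟩
    have h4 : inAut P' e' = ⊥ := (Subgroup.eq_bot_iff_forall _).2 fun τ hτ => MulEquiv.ext fun x => by
      obtain ⟨σ, h4, -, h5⟩ := Q.lift_aut hτ
      obtain ⟨x, rfl⟩ := Q.surj x
      rcases hE σ h4 x with h6 | h6 <;> simp [← h5, h6, Q.ker'.2 h3]
    rw [S'.blockRank_eq_card_inAut (Q.comm_of_cls2 h.toCls2 h3) (by simp [h4]), h4]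
    exact ⟨a, b, hab, by split_ifs <;> simp⟩
  have h3 : ρ c ≠ 1 := fun h3 =>
    (eq_or_of_mem_zpowers_invol h2 (Q.ker'.1 h3)).elim h.ne h.w_ne_c.symm
  have h4 : ∀ a b, ρ a * ρ b = ρ b * ρ a ↔ a * b = b * a := fun a b =>
    ⟨fun h4 => by_contra fun h5 => h3 (by rw [← map_mul, h.eq_of_ne h5] at h4; simpa using h4),
      fun h4 => by rw [← map_mul, h4, map_mul]⟩
  have h5 : ∀ a, ρ a ∈ Subgroup.center P' ↔ a ∈ Subgroup.center P := fun a => by
    simp only [Subgroup.mem_center_iff, Q.surj.forall, h4]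
  have h6 : Cls2 (ρ c) := ⟨(h5 c).2 h.cen, by rw [← map_mul, h.sq, map_one], h3,
    Q.surj.forall₂.2 fun a b => (h.comm a b).imp (h4 a b).2 fun h6 => by
      rw [← map_mul, h6, map_mul, map_mul], by
    rw [← h.idx, ← Subgroup.index_comap_of_surjective _ Q.surj]
    exact congrArg _ (Subgroup.ext h5)⟩
  have h1 := Q.card_mul
  rw [hc, Subgroup.orderOf_coe, orderOf_eq_prime (pow_two w ▸ h2) h.w_ne] at h1
  obtain ⟨t₁, t₂, h7, h8⟩ := h6.rank_eight S' (by omega) fun τ hτ x => by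
    obtain ⟨σ, h7, -, h8⟩ := Q.lift_aut hτ
    obtain ⟨x, rfl⟩ := Q.surj x
    rw [← h8, h4]
    rcases hE σ h7 x with h9 | h9 <;> simp [h9, h.mul_c, mul_assoc]
  have key : ∀ t, ρ t ∉ Subgroup.center P' → ¬ CenFree e' (ρ t) → EssW e c w t := fun t h9 h10 => by
    obtain ⟨a, h11, h12, h13⟩ := h6.exists_fuse_c S' h9 h10
    obtain ⟨a, rfl⟩ := Q.surj a
    obtain ⟨y, h14, h15⟩ := pairFuse_iff_pairMor.1 h13
    obtain ⟨x, h16, h17, h18⟩ := Q.lift ((Subgroup.zpowers (ρ a)).comap ρ) y (by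
      rwa [Subgroup.map_comap_eq_self_of_surjective Q.surj, MonoidHom.map_zpowers])
    have h19 : Cj x w w := (mul_inv_eq_iff_eq_mul.2 (Subgroup.mem_centralizer_singleton_iff.1 h16)).symm
    have h20 : ρ w = 1 := Q.ker'.2 (Subgroup.mem_zpowers w)
    have h21 := fun a' b (ha : ρ a' = ρ a) => S.fuse_of_cj (a := a') (b := b) h17
      ⟨a', ⟨1, by simp [ha]⟩, rfl⟩
    obtain ⟨b, h22, -⟩ := S.exists_cj h17 (a := a) ⟨a, Subgroup.mem_zpowers _, rfl⟩
    have h23 : ρ (c⁻¹ * b) = 1 := by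
      rw [map_mul, map_inv, inv_mul_eq_one]
      exact Subtype.ext (h14.trans (h18 a (Subgroup.mem_zpowers _) b h22).symm)
    rw [h5] at h12
    rw [h4] at h11
    rcases eq_or_of_mem_zpowers_invol h2 (Q.ker'.1 h23) with h24 | h24
    · obtain rfl := inv_mul_eq_one.1 h24
      exact ⟨a, h12, h11, h21 _ _ rfl h22, h21 _ _ (by simp [h20]) (h22.mul h19)⟩
    · obtain rfl := inv_mul_eq_iff_eq_mul.1 h24
      refine ⟨a * w, by rwa [mul_mem_cancel_right h.wcen],
        Commute.mul_left h11 (mul_comm_of_mem_center h.wcen t),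
        h21 _ _ (by simp [h20]) (by simpa [mul_assoc, h2] using h22.mul h19), ?_⟩
      rw [mul_assoc, h2, mul_one]
      exact h21 _ _ rfl h22
  obtain ⟨t₁, rfl⟩ := Q.surj t₁
  obtain ⟨t₂, rfl⟩ := Q.surj t₂
  have h9 := key t₁ fun h9 => h7 (mul_comm_of_mem_center h9 _)
  have h10 := key t₂ fun h9 => h7 (mul_comm_of_mem_center h9 _).symm
  refine ⟨t₁, t₂, mt (h4 _ _).2 h7, ?_⟩
  split_ifs at h8 ⊢ <;> first | omega | tauto

theorem not_essW {t₁ t₂ s : P} (ht : t₁ * t₂ ≠ t₂ * t₁) (h1 : EssW e c w t₁) (h2 : EssW e c w t₂) :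
    ¬ EssW e c (c * w) s := fun ⟨a, a1, _, a3, a4⟩ => by
  have key : ∀ b ∉ Subgroup.center P, PairFuse 2 P e (b : G) c →
      PairFuse 2 P e ((b * w : P) : G) (c * w : P) → b * a ≠ a * b := fun b b1 b2 b3 b4 => by
    refine h.ne (mul_eq_right.1 (h.nf S _ h.mul.wcen _ h.wcen (S.fuse_trans b3.symm ?_)))
    rw [h.c_mul] at a4
    rcases h.eq_or S b1 a1 b2 a3 b4.symm with rfl | rfl
    · exact S.fuse_trans (h.fuse_mul_c S b1) a4
    · rwa [mul_assoc, h.c_mul] at a4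
  obtain ⟨b, b1, b2, b3, b4⟩ := h1
  obtain ⟨d, d1, d2, d3, d4⟩ := h2
  exact (h.comm_or S b3 d3 (fun h3 => ht (((h.comm_iff (fun h4 => ht (mul_comm_of_mem_center h4 _))
    b2 b1).1 ((h.comm_iff d1 d2.symm fun h4 => ht (mul_comm_of_mem_center h4 _).symm).2
      h3).symm).symm)) fun h3 => h3 c h.cen a3).elim (key b b1 b3 b4) (key d d1 d3 d4)

/-- `l(B) ≤ 3` for a defect group of order sixteen with centre of order four -/
theorem rank_le_three (hc : Nat.card P = 16) : blockRank 2 B ≤ 3 := by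
  obtain ⟨H, _, _, B', P', e', S', ρ, Q⟩ :=
    S.exists_subQuot_central (StarSetup.le_centralizer_of_mem_center h.cen)
  have h1 := Q.card_mul
  rw [hc, Subgroup.orderOf_coe, h.orderOf_eq] at h1
  have hab := Q.comm_of_cls2 h.toCls2 (Subgroup.mem_zpowers c)
  have h2 := S'.not_dvd_card_inAut hab
  have := isMulCommutative_of_le_centralizer hab
  letI : CommGroup P' := { (inferInstance : Group P') with mul_comm := fun a b => mul_comm' a b }
  have h3 : Nat.card (inAut P' e') ≤ 3 := by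
    refine (aut_sixteen S'.isPGroup (by omega) h2 fun h3 => ?_).resolve_right fun h3 => by omega
    have : Fact (Nat.Prime 7) := ⟨by norm_num⟩
    obtain ⟨τ, h4⟩ := exists_prime_orderOf_dvd_card' 7 h3
    obtain ⟨σ, -, h5, h6⟩ := Q.lift_aut τ.2
    obtain ⟨a, b, h7⟩ := h.exists_not_comm
    exact h7 (comm_of_orderOf_seven Q.surj (fun _ => Q.ker') h.cen h5 h6 S'.isPGroup (by omega)
      (by rw [Subgroup.orderOf_coe, h4]) a b)
  have h4 := h.rank_add S
  rw [← Q.rank, S'.blockRank_eq_card_inAut hab h3] at h4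
  have h5 := h.rank_w S hc
  have h6 := h.mul.rank_w S hc
  by_cases h7 : Nat.card (inAut P' e') = 1
  swap
  · have := Nat.card_pos (α := inAut P' e')
    omega
  have hE : ∀ σ ∈ inAut P e, ∀ x, σ x = x ∨ σ x = x * c := fun σ hσ x => by
    obtain ⟨τ, h8, h9⟩ := Q.push_aut hσ (h.aut_cen S hσ h.cen)
    obtain rfl := Subgroup.mem_bot.1 (Subgroup.card_eq_one.1 h7 ▸ h8)
    simpa only [inv_mul_eq_iff_eq_mul, mul_one] using
      eq_or_of_mem_zpowers_invol h.sq (Q.ker'.1 (show ρ (x⁻¹ * σ x) = 1 by simp [h9]))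
  obtain ⟨t₁, t₂, a1, a2⟩ := h.rank_w_add S hc hE
  obtain ⟨s₁, s₂, b1, b2⟩ := h.mul.rank_w_add S hc hE
  have a3 := fun s => h.not_essW S (s := s) a1
  have b3 := fun s => h.mul.not_essW S (s := s) b1
  rw [h.c_mul] at b3
  split_ifs at a2 b2 <;> first | omega | tauto

end Cls2F

end Cfsg
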