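import Cfsg.Agent.Blk.DefOneApp
import Cfsg.Agent.CT.Mult

/-! The principal block of a group with a Sylow `p`-subgroup of order `p`, in elementary terms. -/

set_option autoImplicit false

namespace Cfsg

open scoped ComplexConjugate

universe u v

variable {G : Type u} [Group G]

/-- `|N_G(P) : C_G(P)|` -/
noncomputable abbrev autIdx (P : Subgroup G) : ℕ :=
  (Subgroup.centralizer (P : Set G)).relIndex (Subgroup.normalizer (P : Set G))

theorem exists_conj_eq_sec [Finite G] {p : ℕ} [Fact p.Prime] (P : Sylow p G)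
    (hP : Nat.card P = p) {g : G} (hg : p ∣ orderOf g) :
    ∃ x u s : G, u ∈ (P : Subgroup G) ∧ u ≠ 1 ∧
      s ∈ Subgroup.centralizer ((P : Subgroup G) : Set G) ∧ ¬ p ∣ orderOf s ∧
      x * g * x⁻¹ = u * s := by
  obtain ⟨x, hx⟩ := exists_conj_mem_sylow P (exists_orderOf_pPart (p := p) g)
  rw [← pPart_conj] at hx
  have h1 : pPart p (x * g * x⁻¹) ≠ 1 := by
    rw [pPart_ne_one_iff]
    rwa [show x * g * x⁻¹ = MulAut.conj x g from rfl, MulEquiv.orderOf_eq]
  refine ⟨x, _, pRegPart p (x * g * x⁻¹), hx, h1, ?_, not_dvd_orderOf_pRegPart _,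
    (pPart_mul_pRegPart p _).symm⟩
  rw [Subgroup.mem_centralizer_iff]
  intro y hy
  rw [SetLike.mem_coe, eq_zpowers_of_card_prime hP hx h1] at hy
  obtain ⟨k, rfl⟩ := hy
  exact ((commute_pPart_pRegPart p _).zpow_left k).eq

theorem dvd_orderOf_sec [Finite G] {p : ℕ} [Fact p.Prime] {P : Subgroup G} (hP : Nat.card P = p)
    {u s : G} (hu : u ∈ P) (hu1 : u ≠ 1) (hs : s ∈ Subgroup.centralizer (P : Set G))
    (hsr : ¬ p ∣ orderOf s) : p ∣ orderOf (u * s) := by
  have hus : Commute u s := hs u hu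
  rw [← pPart_ne_one_iff, pPart_mul_of_commute hus ⟨1, by
    rw [orderOf_eq_of_card_prime hP hu hu1, pow_one]⟩ hsr]
  exact hu1

/-- The principal `p`-block when the Sylow `p`-subgroup `P` has order `p`. -/
structure PrinOne [Fintype G] (p : ℕ) (P : Subgroup G) where
  X : Finset (IrrCharacter G)
  Y : Finset (IrrCharacter G)
  δ : IrrCharacter G → ℤ
  δ₀ : ℤ
  triv_mem : IrrCharacter.triv G ∈ X
  δ_triv : δ (IrrCharacter.triv G) = 1
  δ_sign : ∀ χ ∈ X, δ χ = 1 ∨ δ χ = -1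
  δ₀_sign : δ₀ = 1 ∨ δ₀ = -1
  notMem : ∀ ψ ∈ Y, ψ ∉ X
  card_X : X.card = autIdx P
  card_Y : Y.card * autIdx P = p - 1
  X_sing : ∀ χ ∈ X, ∀ g, p ∣ orderOf g → χ.1 g = δ χ
  Y_sing : ∀ g, p ∣ orderOf g → ∑ ψ ∈ Y, ψ.1 g = δ₀
  Y_sec : ∀ ψ ∈ Y, ∀ u ∈ P, u ≠ 1 → ∀ s ∈ Subgroup.centralizer (P : Set G), ¬ p ∣ orderOf s →
    ψ.1 (u * s) = ψ.1 u
  Y_sum : ∀ [Fintype P], ∀ ψ ∈ Y, ∑ u : P, ψ.1 u = ψ.1 1 + δ₀ * autIdx P
  Y_val : ∀ [Fintype (Subgroup.normalizer (P : Set G))], ∀ ψ ∈ Y, ∃ l : P →* ℂˣ, l ≠ 1 ∧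
    ∀ u ∈ P, u ≠ 1 → (Nat.card (Subgroup.centralizer (P : Set G)) : ℂ) * ψ.1 u =
      -δ₀ * ∑ x : Subgroup.normalizer (P : Set G),
        extendByZero P (fun v => (l v : ℂ)) ((x : G)⁻¹ * u * x)
  reg : ∀ ψ ∈ Y, ∀ g, ¬ p ∣ orderOf g → δ₀ * ψ.1 g + ∑ χ ∈ X, δ χ * χ.1 g = 0
  other : Subgroup.centralizer (P : Set G) ≤ P → ∀ χ, χ ∉ X → χ ∉ Y → ∀ g, p ∣ orderOf g →
    χ.1 g = 0

theorem classInner_signed_sum [Fintype G] (f : G → ℂ) (a : ℤ) (ψ : IrrCharacter G)
    (X : Finset (IrrCharacter G)) (δ : IrrCharacter G → ℤ) :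
    classInner f (fun g => a * ψ.1 g + ∑ χ ∈ X, δ χ * χ.1 g) =
      a * classInner f ψ.1 + ∑ χ ∈ X, δ χ * classInner f χ.1 := by
  simp only [classInner_def, map_add, map_mul, map_sum, map_intCast, mul_add,
    Finset.sum_add_distrib, Finset.mul_sum]
  congr 1
  · exact Finset.sum_congr rfl fun g _ => by ring
  · rw [Finset.sum_comm]
    exact Finset.sum_congr rfl fun χ _ => Finset.sum_congr rfl fun g _ => by ring

theorem classInner_const_irr [Fintype G] (c : ℂ) (χ : IrrCharacter G)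
    [Decidable (χ = IrrCharacter.triv G)] :
    classInner (fun _ => c) χ.1 = if χ = IrrCharacter.triv G then c else 0 := by
  have : (fun _ : G => c) = fun g => c * (IrrCharacter.triv G).1 g := by
    funext g; simp
  rw [this, classInner_const_mul_left]
  split_ifs with h
  · rw [h, IrrCharacter.classInner_self, mul_one]
  · rw [IrrCharacter.classInner_of_ne (Ne.symm h), mul_zero]

theorem signed_inner_of_const [Fintype G] {p : ℕ} {f : G → ℂ} {c : ℂ} {a : ℤ} {ψ : IrrCharacter G}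
    {X : Finset (IrrCharacter G)} {δ : IrrCharacter G → ℤ} (hψ : ψ ∉ X)
    (h1 : IrrCharacter.triv G ∈ X) (h2 : δ (IrrCharacter.triv G) = 1)
    (hreg : ∀ g, ¬ p ∣ orderOf g → a * ψ.1 g + ∑ χ ∈ X, δ χ * χ.1 g = 0)
    (hf : ∀ g, p ∣ orderOf g → f g = c) :
    a * classInner f ψ.1 + ∑ χ ∈ X, δ χ * classInner f χ.1 = c := by
  classical
  rw [← classInner_signed_sum, classInner_congr_of_support (φ' := fun _ => c)
    (fun g hg => hf g (by_contra fun h => hg (hreg g h))), classInner_signed_sum]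
  simp only [classInner_const_irr]
  rw [if_neg (fun h : ψ = IrrCharacter.triv G => hψ (h ▸ h1)), Finset.sum_eq_single_of_mem _ h1 fun χ _ h => by
    rw [if_neg h, mul_zero]]
  simp [h2]

theorem exists_prinOne [Fintype G] {p : ℕ} [hp : Fact p.Prime] (P : Sylow p G)
    (hP : Nat.card P = p) : Nonempty (PrinOne p (P : Subgroup G)) := by
  classical
  obtain ⟨M, hM⟩ := exists_isPModular hp.out
  obtain ⟨O⟩ := hM.nonempty_defOne_principal P hP
  have hsec := fun g => exists_conj_eq_sec P hP (g := g)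
  generalize (P : Subgroup G) = D at *
  replace hP : Nat.card D = p := hP
  set C := Subgroup.centralizer (D : Set G) with hC
  set N := Subgroup.normalizer (D : Set G) with hN
  have htriv : IrrCharacter.triv C ∈ principalBlock M C := hM.triv_mem_principalBlock
  have hDC : D ≤ C := le_centralizer_of_card_prime hP
  have hCN : C ≤ N := Subgroup.centralizer_le_normalizer _
  have hθ1 := O.θ_one_eq_triv hDC htriv
  have hfin : Finite (D →* ℂˣ) :=
    Nat.finite_of_card_ne_zero (by rw [card_unitsHom_of_card_prime hP]; exact hp.out.ne_zero)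
  have := Fintype.ofFinite (D →* ℂˣ)
  have hcyc : IsCyclic D := isCyclic_of_prime_card hP
  have hq0 : (C.relIndex N : ℂ) ≠ 0 := by exact_mod_cast O.relIndex_pos.ne'
  have hC0 : (Nat.card C : ℂ) ≠ 0 := by exact_mod_cast Nat.card_pos.ne'
  have hconj : ∀ (x : N) (u : G), u ∈ D → (x : G)⁻¹ * u * x ∈ D := fun x u hu => by
    simpa using (Subgroup.mem_normalizer_iff.1 (Subgroup.inv_mem _ x.2) u).1 hu
  have hval : ∀ [Fintype N], ∀ l, l ≠ 1 → ∀ u ∈ D, u ≠ 1 → ∀ s ∈ C, ¬ p ∣ orderOf s →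
      (Nat.card C : ℂ) * (O.ψ l).1 (u * s) =
        -O.δ₀ * ∑ x : N, extendByZero D (fun v => (l v : ℂ)) ((x : G)⁻¹ * u * x) := by
    intro _ l hl u hu hu1 s hs hsr
    rw [O.ψ_sing l hl _ (dvd_orderOf_sec hP hu hu1 hs hsr), O.indFun_sec hP rfl l hu hu1 hs hsr,
      mul_left_comm, ← mul_assoc (Nat.card C : ℂ), mul_inv_cancel₀ hC0, one_mul]
    congr 1
    refine Finset.sum_congr rfl fun x _ => ?_
    have h1 : (x : G)⁻¹ * s * x ∈ C := by
      have := normalizer_le_normalizer_centralizer D (Subgroup.inv_mem _ x.2)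
      simpa using (Subgroup.mem_normalizer_iff.1 this _).1 hs
    have h2 : (x : G)⁻¹ * (u * s) * x = (x : G)⁻¹ * u * x * ((x : G)⁻¹ * s * x) := by group
    have h3 : (x : G)⁻¹ * (u * s) * x ∈ C := h2 ▸ C.mul_mem (hDC (hconj x u hu)) h1
    rw [extendByZero_of_mem C _ h3, extendByZero_of_mem D _ (hconj x u hu),
      O.θ_mul l ⟨_, hconj x u hu⟩ ⟨_, h1⟩ ⟨_, h3⟩ ?_ h2, hθ1]
    · simp
    · rw [← Subgroup.orderOf_coe]
      have : (x : G)⁻¹ * s * x = MulAut.conj (x : G)⁻¹ s := by simp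
      simp only [this, MulEquiv.orderOf_eq]
      exact hsr
  have iN := Fintype.ofFinite N
  have hcardN : (Fintype.card N : ℂ) = Nat.card C * C.relIndex N := by
    rw [← Nat.card_eq_fintype_card, ← card_mul_relIndex hCN]; push_cast; rfl
  have hXsing : ∀ χ ∈ O.X, ∀ g, p ∣ orderOf g → χ.1 g = O.δ χ := by
    intro χ hχ g hg
    obtain ⟨x, u, s, hu, hu1, hs, hsr, h⟩ := hsec g hg
    rw [← χ.isClassFunction g x, h, O.X_apply_of_triv hP rfl htriv hχ hu hu1 hs hsr]
  have hlsum : ∀ g, p ∣ orderOf g →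
      ∑ l ∈ Finset.univ.erase (1 : D →* ℂˣ), (O.ψ l).1 g = O.δ₀ * C.relIndex N := by
    intro g hg
    obtain ⟨x, u, s, hu, hu1, hs, hsr, h⟩ := hsec g hg
    refine mul_left_cancel₀ hC0 ?_
    rw [Finset.mul_sum, Finset.sum_congr rfl fun l hl => by
      rw [← (O.ψ l).isClassFunction g x, h, hval l (Finset.ne_of_mem_erase hl) u hu hu1 s hs hsr],
      ← Finset.mul_sum, Finset.sum_comm, Finset.sum_congr rfl (g := fun _ => (-1 : ℂ))]
    · rw [Finset.sum_const, Finset.card_univ, nsmul_eq_mul, hcardN]; ring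
    · intro y _
      simp only [extendByZero_of_mem D _ (hconj y u hu)]
      have h1 := sum_unitsHom_apply (A := D) ⟨_, hconj y u hu⟩
      rw [if_neg (fun h => hu1 (by
          have h2 : (y : G)⁻¹ * u * y = 1 := congrArg Subtype.val h
          rwa [mul_assoc, inv_mul_eq_one, eq_comm, mul_eq_right] at h2)),
        ← Finset.add_sum_erase _ _ (Finset.mem_univ (1 : D →* ℂˣ))] at h1
      simp only [MonoidHom.one_apply, Units.val_one] at h1
      linear_combination h1
  set Y := (Finset.univ.erase (1 : D →* ℂˣ)).image O.ψ with hY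
  have hmemY : ∀ χ, χ ∈ Y ↔ ∃ l, l ≠ 1 ∧ O.ψ l = χ := fun χ => by simp [hY]
  obtain ⟨ht1, ht2⟩ := O.triv_mem hM.triv_mem_principalBlock
  have hfib : ∀ χ ∈ Y,
      ((Finset.univ.erase (1 : D →* ℂˣ)).filter (fun l => O.ψ l = χ)).card = C.relIndex N := by
    intro χ hχ
    obtain ⟨l, hl, rfl⟩ := (hmemY χ).1 hχ
    have h1 := signed_inner_of_const (O.ψ_notMem l hl) ht1 ht2 (O.reg l hl)
      (f := ∑ l ∈ Finset.univ.erase (1 : D →* ℂˣ), (O.ψ l).1) (c := O.δ₀ * C.relIndex N)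
      (fun g hg => by rw [Finset.sum_apply, hlsum g hg])
    simp only [classInner_sum_left, IrrCharacter.classInner_eq] at h1
    rw [Finset.sum_eq_zero (s := O.X) fun χ hχ => by
      rw [Finset.sum_eq_zero fun m hm => if_neg fun h : O.ψ m = χ =>
        O.ψ_notMem m (Finset.ne_of_mem_erase hm) (h ▸ hχ), mul_zero], add_zero,
      Finset.sum_boole] at h1
    have h2 : (O.δ₀ : ℂ) ≠ 0 := by rcases O.δ₀_sign with h | h <;> simp [h]
    exact_mod_cast mul_left_cancel₀ h2 h1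
  refine ⟨⟨O.X, Y, O.δ, O.δ₀, ht1, ht2, O.δ_sign, O.δ₀_sign, ?_, O.card_X, ?_, hXsing, ?_, ?_, ?_,
    ?_, ?_, ?_⟩⟩
  · intro χ hχ
    obtain ⟨l, hl, rfl⟩ := (hmemY χ).1 hχ
    exact O.ψ_notMem l hl
  · rw [← O.card_Y]
    congr 1
    rw [← Nat.card_eq_finsetCard]
    exact Nat.card_congr (Equiv.subtypeEquivRight hmemY)
  · intro g hg
    have h1 := hlsum g hg
    rw [Finset.sum_comp (fun χ : IrrCharacter G => χ.1 g) O.ψ, ← hY,
      Finset.sum_congr rfl fun χ hχ => by rw [hfib χ hχ, nsmul_eq_mul], ← Finset.mul_sum,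
      mul_comm] at h1
    exact mul_right_cancel₀ hq0 h1
  · intro χ hχ u hu hu1 s hs hsr
    obtain ⟨l, hl, rfl⟩ := (hmemY χ).1 hχ
    refine mul_left_cancel₀ hC0 ?_
    have := hval l hl u hu hu1 1 C.one_mem (by rw [orderOf_one]; exact hp.out.not_dvd_one)
    rw [mul_one] at this
    rw [hval l hl u hu hu1 s hs hsr, this]
  · intro _ χ hχ
    obtain ⟨l, hl, rfl⟩ := (hmemY χ).1 hχ
    rw [← Finset.add_sum_erase _ _ (Finset.mem_univ (1 : D))]
    congr 1
    refine mul_left_cancel₀ hC0 ?_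
    have h0 : ∀ u ∈ Finset.univ.erase (1 : D), (Nat.card C : ℂ) * (O.ψ l).1 u =
        -O.δ₀ * ∑ x : N, extendByZero D (fun v => (l v : ℂ)) ((x : G)⁻¹ * u * x) := by
      intro u hu
      have := hval l hl u u.2 (fun h => Finset.ne_of_mem_erase hu (Subtype.ext h)) 1 C.one_mem
        (by rw [orderOf_one]; exact hp.out.not_dvd_one)
      rwa [mul_one] at this
    rw [Finset.mul_sum, Finset.sum_congr rfl h0,
      ← Finset.mul_sum, Finset.sum_comm, Finset.sum_congr rfl (g := fun _ => (-1 : ℂ))]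
    · rw [Finset.sum_const, Finset.card_univ, nsmul_eq_mul, hcardN]; ring
    · intro y _
      have h1 : ∑ u : D, extendByZero D (fun v => (l v : ℂ)) ((y : G)⁻¹ * u * y) =
          ∑ u : D, (l u : ℂ) := by
        refine Fintype.sum_bijective (fun u : D => (⟨_, hconj y u u.2⟩ : D)) ?_ _ _ fun u => ?_
        · rw [← Finite.injective_iff_bijective]
          intro a b hab
          simpa using congrArg Subtype.val hab
        · rw [extendByZero_of_mem D _ (hconj y u u.2)]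
      have h2 : ∑ u : D, (l u : ℂ) = 0 :=
        sum_hom_units_eq_zero ((Units.coeHom ℂ).comp l) fun h => hl (by
          ext u; simpa using DFunLike.congr_fun h u)
      rw [h2, ← Finset.add_sum_erase _ _ (Finset.mem_univ (1 : D))] at h1
      simp only [Subgroup.coe_one, mul_one, inv_mul_cancel,
        extendByZero_of_mem D _ D.one_mem] at h1
      rw [show (⟨1, D.one_mem⟩ : D) = 1 from rfl, map_one, Units.val_one] at h1
      linear_combination h1
  · intro _ χ hχ
    obtain ⟨l, hl, rfl⟩ := (hmemY χ).1 hχ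
    refine ⟨l, hl, fun u hu hu1 => ?_⟩
    have := hval l hl u hu hu1 1 C.one_mem (by rw [orderOf_one]; exact hp.out.not_dvd_one)
    rwa [mul_one] at this
  · intro χ hχ
    obtain ⟨l, hl, rfl⟩ := (hmemY χ).1 hχ
    exact O.reg l hl
  · intro hCD χ hX hχY g hg
    obtain ⟨x, u, s, hu, hu1, hs, hsr, h⟩ := hsec g hg
    have hs1 : s = 1 := by
      by_contra h1
      exact hsr (by rw [orderOf_eq_of_card_prime hP (hCD hs) h1])
    rw [← χ.isClassFunction g x, h, hs1, mul_one]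
    have iC := Fintype.ofFinite C
    have h1 : ∀ l : D →* ℂˣ, ∑ c : C, χ.1 c * conj (l ⟨c, hCD c.2⟩ : ℂ) = ∑ c : C, χ.1 c := by
      intro l
      by_cases hl : l = 1
      · simp [hl]
      have h2 := congrArg (classInner χ.1) (O.ind_sub l hl)
      rw [← indFun_sub, classInner_indFun_right _ _ χ.isClassFunction, classInner_add_right,
        classInner_smul_right, classInner_sum_right,
        IrrCharacter.classInner_of_ne (fun h => hχY ((hmemY χ).2 ⟨l, hl, h.symm⟩)),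
        Finset.sum_eq_zero fun ξ hξ => by
          rw [classInner_smul_right, IrrCharacter.classInner_of_ne (fun h : χ = ξ => hX (h ▸ hξ)),
            mul_zero], mul_zero, add_zero, classInner_sub_right, sub_eq_zero, classInner_def,
        classInner_def, hθ1] at h2
      have h3 := mul_left_cancel₀ (inv_ne_zero hC0) h2
      simp only [IrrCharacter.triv_apply, map_one, mul_one] at h3
      rw [h3]
      refine Finset.sum_congr rfl fun c _ => ?_
      rw [O.θ_mul l ⟨c, hCD c.2⟩ 1 c (by rw [orderOf_one]; exact hp.out.not_dvd_one) (by simp),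
        hθ1]
      simp
    have h2 : ∑ l : D →* ℂˣ, (l ⟨u, hu⟩ : ℂ) * ∑ c : C, χ.1 c * conj (l ⟨c, hCD c.2⟩ : ℂ) = 0 := by
      simp only [h1]
      rw [← Finset.sum_mul, sum_unitsHom_apply, if_neg (fun h => hu1 (congrArg Subtype.val h)),
        zero_mul]
    simp only [Finset.mul_sum] at h2
    rw [Finset.sum_comm, Finset.sum_eq_single (⟨u, hDC hu⟩ : C)] at h2
    · simp only [conj_unitsHom] at h2
      rw [Finset.sum_congr rfl (g := fun _ => χ.1 u) fun l _ => by
        rw [mul_left_comm, ← Units.val_mul, ← map_mul, mul_inv_cancel, map_one, Units.val_one,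
          mul_one], Finset.sum_const, nsmul_eq_mul, Finset.card_univ] at h2
      exact (mul_eq_zero.1 h2).resolve_left (by exact_mod_cast Fintype.card_ne_zero)
    · intro c _ hc
      simp only [conj_unitsHom]
      rw [Finset.sum_congr rfl (g := fun l => χ.1 c * l (⟨u, hu⟩ * (⟨c, hCD c.2⟩ : D)⁻¹))
        fun l _ => by rw [map_mul, Units.val_mul]; ring, ← Finset.mul_sum, sum_unitsHom_apply,
        if_neg, mul_zero]
      intro h
      rw [mul_inv_eq_one] at h
      exact hc (Subtype.ext (congrArg Subtype.val h).symm)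
    · simp

theorem sum_subgroup_of_const {P : Subgroup G} [Fintype P] {f : G → ℂ} {c : ℂ}
    (h : ∀ u ∈ P, u ≠ 1 → f u = c) : ∑ u : P, f u = f 1 + ((Nat.card P : ℂ) - 1) * c := by
  classical
  rw [← Finset.add_sum_erase _ _ (Finset.mem_univ (1 : P)),
    Finset.sum_congr rfl (g := fun _ => c) fun (u : P) hu =>
      h u u.2 fun h1 => Finset.ne_of_mem_erase hu (Subtype.ext h1),
    Finset.sum_const, Finset.card_erase_of_mem (Finset.mem_univ _), Finset.card_univ,
    nsmul_eq_mul, Nat.cast_sub Fintype.card_pos, Nat.card_eq_fintype_card]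
  simp

theorem centralizer_singleton_of_card_prime [Finite G] {p : ℕ} [Fact p.Prime] {P : Subgroup G}
    (hP : Nat.card P = p) {u : G} (hu : u ∈ P) (hu1 : u ≠ 1) :
    Subgroup.centralizer ({u} : Set G) = Subgroup.centralizer (P : Set G) := by
  ext x
  rw [Subgroup.mem_centralizer_singleton_iff, Subgroup.mem_centralizer_iff]
  constructor
  · intro h y hy
    rw [SetLike.mem_coe, eq_zpowers_of_card_prime hP hu hu1] at hy
    obtain ⟨k, rfl⟩ := hy
    exact ((show Commute u x from h.symm).zpow_left k).eq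
  · intro h
    exact (h u hu).symm

theorem exists_ne_one_of_card_prime {p : ℕ} [hp : Fact p.Prime] {P : Subgroup G}
    (hP : Nat.card P = p) : ∃ u ∈ P, u ≠ 1 := by
  have : Finite P := Nat.finite_of_card_ne_zero (hP ▸ hp.out.ne_zero)
  have : Nontrivial P := Finite.one_lt_card_iff_nontrivial.1 (hP ▸ hp.out.one_lt)
  obtain ⟨u, hu⟩ := exists_ne (1 : P)
  exact ⟨u, u.2, fun h => hu (Subtype.ext h)⟩

namespace PrinOne

variable [Fintype G] {p : ℕ} [hp : Fact p.Prime] {P : Subgroup G} (O : PrinOne p P)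

omit hp in
theorem inner_const {ψ : IrrCharacter G} (hψ : ψ ∈ O.Y) {f : G → ℂ} {c : ℂ}
    (hf : ∀ g, p ∣ orderOf g → f g = c) :
    O.δ₀ * classInner f ψ.1 + ∑ χ ∈ O.X, O.δ χ * classInner f χ.1 = c :=
  signed_inner_of_const (O.notMem ψ hψ) O.triv_mem O.δ_triv (O.reg ψ hψ) hf

omit hp in
include O in
theorem autIdx_pos : 0 < autIdx P := by
  rw [← O.card_X]
  exact Finset.card_pos.2 ⟨_, O.triv_mem⟩

theorem card_Y_pos : 0 < O.Y.card := by
  have h1 := O.card_Y
  have h2 := hp.out.two_le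
  rcases Nat.eq_zero_or_pos O.Y.card with h | h
  · rw [h] at h1; omega
  · exact h

theorem Y_nonempty : O.Y.Nonempty := Finset.card_pos.1 O.card_Y_pos

omit hp in
theorem δ₀_sq : O.δ₀ * O.δ₀ = 1 := by rcases O.δ₀_sign with h | h <;> simp [h]

omit hp in
theorem δ₀_ne : (O.δ₀ : ℂ) ≠ 0 := by rcases O.δ₀_sign with h | h <;> simp [h]

omit hp in
theorem Y_reg_eq {ψ ψ' : IrrCharacter G} (h : ψ ∈ O.Y) (h' : ψ' ∈ O.Y) {g : G}
    (hg : ¬ p ∣ orderOf g) : ψ.1 g = ψ'.1 g :=
  mul_left_cancel₀ O.δ₀_ne (add_right_cancel ((O.reg ψ h g hg).trans (O.reg ψ' h' g hg).symm))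

theorem Y_deg_eq {ψ ψ' : IrrCharacter G} (h : ψ ∈ O.Y) (h' : ψ' ∈ O.Y) :
    charDegree ψ.1 = charDegree ψ'.1 :=
  charDegree_congr (O.Y_reg_eq h h' (by rw [orderOf_one]; exact hp.out.not_dvd_one))

theorem sum_Y_deg {ψ : IrrCharacter G} (h : ψ ∈ O.Y) :
    ∑ ξ ∈ O.Y, charDegree ξ.1 = O.Y.card * charDegree ψ.1 := by
  rw [Finset.sum_congr rfl fun ξ hξ => O.Y_deg_eq hξ h, Finset.sum_const, smul_eq_mul]

omit hp in
theorem sum_Y_reg {ψ : IrrCharacter G} (h : ψ ∈ O.Y) {g : G} (hg : ¬ p ∣ orderOf g) :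
    ∑ ξ ∈ O.Y, ξ.1 g = O.Y.card * ψ.1 g := by
  rw [Finset.sum_congr rfl fun ξ hξ => O.Y_reg_eq hξ h hg, Finset.sum_const, nsmul_eq_mul]

theorem degree_rel {ψ : IrrCharacter G} (h : ψ ∈ O.Y) :
    O.δ₀ * charDegree ψ.1 + ∑ χ ∈ O.X, O.δ χ * charDegree χ.1 = 0 := by
  have := O.reg ψ h 1 (by rw [orderOf_one]; exact hp.out.not_dvd_one)
  simp only [IrrCharacter.one_eq_charDegree] at this
  exact_mod_cast this

omit hp in
theorem inner_Y_eq {ψ ψ' : IrrCharacter G} (h : ψ ∈ O.Y) (h' : ψ' ∈ O.Y) {f : G → ℂ} {c : ℂ}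
    (hf : ∀ g, p ∣ orderOf g → f g = c) : classInner f ψ.1 = classInner f ψ'.1 :=
  mul_left_cancel₀ O.δ₀_ne
    (add_right_cancel ((O.inner_const h hf).trans (O.inner_const h' hf).symm))

omit hp in
theorem inner_X_of_reg {f : G → ℂ} (hf : ∀ g, ¬ p ∣ orderOf g → f g = 0) {χ : IrrCharacter G}
    (hχ : χ ∈ O.X) : classInner f χ.1 = O.δ χ * classInner f (fun _ => 1) := by
  rw [← conj_classInner, classInner_congr_of_support (φ' := fun _ => (O.δ χ : ℂ) * 1)
    fun g hg => by rw [O.X_sing χ hχ g (by_contra fun h => hg (hf g h)), mul_one],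
    classInner_const_mul_left, map_mul, conj_classInner, map_intCast]

omit hp in
theorem inner_Y_of_reg {f : G → ℂ} (hf : ∀ g, ¬ p ∣ orderOf g → f g = 0) :
    ∑ ψ ∈ O.Y, classInner f ψ.1 = O.δ₀ * classInner f (fun _ => 1) := by
  rw [← classInner_sum_right, ← conj_classInner,
    classInner_congr_of_support (φ' := fun _ => (O.δ₀ : ℂ) * 1)
    fun g hg => by rw [Finset.sum_apply, O.Y_sing g (by_contra fun h => hg (hf g h)), mul_one],
    classInner_const_mul_left, map_mul, conj_classInner, map_intCast]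

theorem fixDim_X (hP : Nat.card P = p) {χ : IrrCharacter G} (hχ : χ ∈ O.X) :
    (p : ℤ) * fixDim P χ.1 = charDegree χ.1 + (p - 1) * O.δ χ := by
  have := Fintype.ofFinite P
  have h1 := χ.isCharacter.card_mul_fixDim P
  rw [sum_subgroup_of_const (c := O.δ χ) fun u hu hu1 =>
    O.X_sing χ hχ u (by rw [orderOf_eq_of_card_prime hP hu hu1]), hP,
    χ.one_eq_charDegree] at h1
  exact_mod_cast h1

omit hp in
theorem fixDim_Y (hP : Nat.card P = p) {ψ : IrrCharacter G} (hψ : ψ ∈ O.Y) :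
    (p : ℤ) * fixDim P ψ.1 = charDegree ψ.1 + O.δ₀ * autIdx P := by
  have := Fintype.ofFinite P
  have h1 := ψ.isCharacter.card_mul_fixDim P
  rw [O.Y_sum ψ hψ, hP, ψ.one_eq_charDegree] at h1
  exact_mod_cast h1

theorem fixDim_other (hP : Nat.card P = p) (hC : Subgroup.centralizer (P : Set G) ≤ P)
    {χ : IrrCharacter G} (hX : χ ∉ O.X) (hY : χ ∉ O.Y) : p * fixDim P χ.1 = charDegree χ.1 := by
  have := Fintype.ofFinite P
  have h1 := χ.isCharacter.card_mul_fixDim P
  rw [sum_subgroup_of_const (c := 0) fun u hu hu1 =>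
    O.other hC χ hX hY u (by rw [orderOf_eq_of_card_prime hP hu hu1]), hP,
    χ.one_eq_charDegree, mul_zero, add_zero] at h1
  exact_mod_cast h1

theorem X_dvd (hP : Nat.card P = p) {χ : IrrCharacter G} (hχ : χ ∈ O.X) :
    charDegree χ.1 ∣ (Subgroup.centralizer (P : Set G)).index := by
  obtain ⟨u, hu, hu1⟩ := exists_ne_one_of_card_prime hP
  have h1 := centralChar_isIntegral χ u
  rw [centralChar, centralizer_singleton_of_card_prime hP hu hu1,
    O.X_sing χ hχ u (by rw [orderOf_eq_of_card_prime hP hu hu1]), χ.one_eq_charDegree] at h1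
  refine nat_dvd_of_isIntegral_div χ.charDegree_pos.ne' ?_
  rcases O.δ_sign χ hχ with h | h
  · simpa [h] using h1
  · have := h1.neg
    rw [h] at this
    simpa [neg_div] using this

theorem Y_dvd (hP : Nat.card P = p) {ψ : IrrCharacter G} (hψ : ψ ∈ O.Y) :
    charDegree ψ.1 ∣ (Subgroup.centralizer (P : Set G)).index := by
  obtain ⟨u, hu, hu1⟩ := exists_ne_one_of_card_prime hP
  have h1 : IsIntegral ℤ (∑ ξ ∈ O.Y, centralChar ξ.1 u) :=
    IsIntegral.sum _ fun ξ _ => centralChar_isIntegral ξ u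
  rw [Finset.sum_congr rfl (g := fun ξ => ((Subgroup.centralizer (P : Set G)).index : ℂ) /
      charDegree ψ.1 * ξ.1 u) fun ξ hξ => by
    rw [centralChar, centralizer_singleton_of_card_prime hP hu hu1, ξ.one_eq_charDegree,
      O.Y_deg_eq hξ hψ]
    ring, ← Finset.mul_sum, O.Y_sing u (by rw [orderOf_eq_of_card_prime hP hu hu1])] at h1
  refine nat_dvd_of_isIntegral_div ψ.charDegree_pos.ne' ?_
  rcases O.δ₀_sign with h | h
  · simpa [h] using h1
  · have := h1.neg
    rw [h] at this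
    simpa using this

theorem apply_eq_of_fixDim (hP : Nat.card P = p) {χ : IrrCharacter G} (hχ : χ ∈ O.X ∨ χ ∈ O.Y)
    (h0 : fixDim P χ.1 = 0) {s : G} (hs : s ∈ Subgroup.centralizer (P : Set G))
    (hsr : ¬ p ∣ orderOf s) : χ.1 s = χ.1 1 := by
  classical
  have := Fintype.ofFinite P
  have h1 := χ.isCharacter.sum_mul_eq_zero_of_fixDim h0 s
  have h2 := χ.isCharacter.sum_mul_eq_zero_of_fixDim h0 1
  rw [← Finset.add_sum_erase _ _ (Finset.mem_univ (1 : P))] at h1 h2
  rw [Finset.sum_congr rfl (g := fun u : P => χ.1 (u * 1)) fun u hu => ?_] at h1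
  · simpa using add_right_cancel (h1.trans h2.symm)
  · have hu1 : (u : G) ≠ 1 := fun h => Finset.ne_of_mem_erase hu (Subtype.ext h)
    rw [mul_one]
    rcases hχ with h | h
    · rw [O.X_sing χ h _ (dvd_orderOf_sec hP u.2 hu1 hs hsr),
        O.X_sing χ h _ (by rw [orderOf_eq_of_card_prime hP u.2 hu1])]
    · exact O.Y_sec χ h u u.2 hu1 s hs hsr

end PrinOne

end Cfsg
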