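import Cfsg.Agent.Blk.AbelCover
import Cfsg.Agent.CT.Galois

open scoped ComplexConjugate MonoidAlgebra

namespace Cfsg

universe u v
variable {G : Type u} [Group G] [Finite G] {p : ℕ} {M : Ideal AlgInt} {N : Subgroup G}

theorem omega_mul_of_isFixedGA (χ : IrrCharacter G) {θ : IrrCharacter N}
    (h : ∀ n : N, χ.1 n = θ.1 n) {a : ℂ[G]} (ha : IsFixedGA N a) (b : ℂ[G]) :
    omega χ.1 (a * b) = omega χ.1 a * omega χ.1 b := by
  have := Fintype.ofFinite N
  have h1 := χ.one_ne_zero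
  obtain ⟨χ, n, ρ, hρ, rfl⟩ := χ
  have hirr : Representation.IsIrreducible (ρ.comp N.subtype : Representation ℂ N (Fin n → ℂ)) := by
    apply rep_isIrreducible_of_classInner_self
    have : Representation.character (ρ.comp N.subtype : Representation ℂ N (Fin n → ℂ)) = θ.1 :=
      funext h
    rw [this, θ.classInner_self]
  obtain ⟨c, hc⟩ := exists_eq_smul_one_of_commute _ hirr (T := ρ.asAlgebraHom a) fun g => by
    have := congrArg ρ.asAlgebraHom (ha.commute_single g.2 1).eq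
    rw [map_mul, map_mul, Representation.asAlgebraHom_single_one] at this
    exact this.symm
  have h2 : charAlg ρ.character (a * b) = c * charAlg ρ.character b := by
    rw [charAlg_character, map_mul, hc, smul_mul_assoc, one_mul, map_smul, smul_eq_mul,
      ← charAlg_character]
  have h3 : charAlg ρ.character a = c * ρ.character 1 := by
    rw [← charAlg_one ρ.character, charAlg_character, charAlg_character, hc, map_one,
      map_smul, smul_eq_mul]
  simp only [omega] at h1 ⊢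
  rw [h2, h3]
  field_simp

theorem IsPModular.red_mul_three_of_extends [N.Normal] (hM : IsPModular p M) {θ : IrrCharacter N}
    (hθ : θ ∈ principalBlock M N) (hd : ¬ p ∣ charDegree θ.1) {η : IrrCharacter G}
    (hη : ∀ n : N, η.1 n = θ.1 n) {x y z : G}
    (hx : ¬ p ∣ (Subgroup.centralizer ({x} : Set G)).relIndex N)
    (hy : ¬ p ∣ (Subgroup.centralizer ({y} : Set G)).relIndex N)
    (hz : ¬ p ∣ (Subgroup.centralizer ({z} : Set G)).relIndex N) (h : x * y * z ∈ N) :
    red M (η.1 x / η.1 1) * red M (η.1 y / η.1 1) * red M (η.1 z / η.1 1) = 1 := by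
  classical
  have := hM.charP
  have := Fintype.ofFinite G
  have h1 : η.1 1 = charDegree θ.1 := by rw [← θ.one_eq_charDegree]; exact hη 1
  have hv : valM M (η.1 1) = 1 := by rw [h1]; exact hM.valM_natCast_eq_one_iff.2 hd
  let w : G → (valO M)[G] := fun x =>
    trGA (valO M) (N ⊓ Subgroup.centralizer ({x} : Set G)) N (MonoidAlgebra.single x 1)
  let m : G → ℕ := fun x => (Subgroup.centralizer ({x} : Set G)).relIndex N
  have w1 : ∀ x, IsFixedGA N (w x) := fun x =>
    isFixedGA_trGA inf_le_left (isFixedGA_single inf_le_right 1)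
  have w2 : ∀ x y : G, (y : G ⧸ N) ≠ x → (w x).coeff y = 0 := fun x y hy => by
    simp only [w]
    rw [coeff_trGA_single, if_neg]
    rintro ⟨h, hh, rfl⟩
    apply hy
    rw [QuotientGroup.mk_mul_of_mem _ (N.inv_mem hh), QuotientGroup.mk_mul,
      (QuotientGroup.eq_one_iff h).2 hh, one_mul]
  have w3 : ∀ x, augGA (resK M) G (toK M G (w x)) = m x := fun x => by
    simp only [w, m]
    rw [toK_trGA', augGA_trGA inf_le_left, toK_single, augGA_single, OneMemClass.coe_one, red_one,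
      mul_one, Subgroup.inf_relIndex_left]
  have w4 : ∀ x, omega η.1 (toC M G (w x)) = m x * (η.1 x / η.1 1) := fun x => by
    simp only [w, m]
    rw [toC_trGA, toC_single, OneMemClass.coe_one, omega, trGA_apply, map_sum]
    simp only [η.isClassFunction.charAlg_gaConj, charAlg_single, one_mul, Finset.sum_const,
      card_cosetsIn inf_le_left, nsmul_eq_mul, Subgroup.inf_relIndex_left]
    rw [mul_div_assoc]
  have hmem : ∀ x, η.1 x / η.1 1 ∈ valO M := fun x => div_mem_valO_of_valM_eq_one (η.mem_valO x) hv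
  have hfix : IsFixedGA N (w x * w y * w z) :=
    mem_fixedGA.1 (mul_mem (mul_mem (mem_fixedGA.2 (w1 _)) (mem_fixedGA.2 (w1 _)))
      (mem_fixedGA.2 (w1 _)))
  have hsupp : w x * w y * w z ∈ suppGA (valO M) N := by
    refine mul_mem_suppGA_of_coset (s := ((x * y : G) : G ⧸ N)) ?_ ?_
    · have := gaCut_coset_mul_of_coset (w2 x) (y : G ⧸ N) (w y)
      rw [(gaCut_eq_self_iff (S := {g : G | (g : G ⧸ N) = y})).2 (w2 y)] at this
      exact gaCut_eq_self_iff.1 this
    · intro g hg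
      refine w2 z g fun h' => hg ?_
      rw [h', eq_inv_iff_mul_eq_one, ← QuotientGroup.mk_mul, QuotientGroup.eq_one_iff]
      have := (inferInstance : N.Normal).conj_mem _ h z
      simpa [mul_assoc] using this
  have h2 := red_omega_gaTrunc_toC N θ hfix
  rw [isPBlock_principalBlock.lam_eq hM hθ hM.triv_mem_principalBlock,
    ← augGA_eq_lam_triv (gaTrunc_mem_center hfix.map_toK), ← augGA_gaIncl,
    gaIncl_gaTrunc_of_mem (toK_mem_suppGA hsupp), map_mul (toK M G), map_mul (toK M G),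
    map_mul (augGA _ _), map_mul (augGA _ _), w3, w3, w3] at h2
  have h3 : omega θ.1 (gaTrunc ℂ N (toC M G (w x * w y * w z))) =
      omega η.1 (toC M G (w x * w y * w z)) := by
    conv_rhs => rw [← gaIncl_gaTrunc_of_mem (toC_mem_suppGA hsupp), omega, charAlg_gaIncl, funext hη]
    rw [omega, ← hη 1]
    rfl
  have w5 : ∀ x, IsFixedGA N (toC M G (w x)) := fun x g hg => by rw [← toC_gaConj, w1 x g hg]
  rw [h3, mul_assoc (w x), map_mul (toC M G), map_mul (toC M G), omega_mul_of_isFixedGA η hη (w5 x),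
    omega_mul_of_isFixedGA η hη (w5 y), w4, w4, w4,
    red_mul (mul_mem (natCast_mem_valO _) (hmem _))
      (mul_mem (mul_mem (natCast_mem_valO _) (hmem _)) (mul_mem (natCast_mem_valO _) (hmem _))),
    red_mul (mul_mem (natCast_mem_valO _) (hmem _)) (mul_mem (natCast_mem_valO _) (hmem _)),
    red_mul (natCast_mem_valO _) (hmem _), red_mul (natCast_mem_valO _) (hmem _),
    red_mul (natCast_mem_valO _) (hmem _), red_natCast, red_natCast, red_natCast] at h2
  have hm : (m x : resK M) * m y * m z ≠ 0 := by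
    refine mul_ne_zero (mul_ne_zero ?_ ?_) ?_ <;> rwa [Ne, CharP.cast_eq_zero_iff (resK M) p]
  apply mul_left_cancel₀ hm
  rw [mul_one]
  refine Eq.trans ?_ h2
  ring

/-- lifting a homomorphism into the residue field to a linear character -/
theorem IsPModular.exists_lift_hom (hM : IsPModular p M) (μ : G →* resK M) :
    ∃ l : G →* ℂˣ, (∀ g, red M (l g : ℂ) = μ g) ∧
      ∀ g, l g ^ (Nat.card G / p ^ (Nat.card G).factorization p) = 1 := by
  have : Fact p.Prime := ⟨hM.1⟩
  have := hM.charP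
  set m := Nat.card G / p ^ (Nat.card G).factorization p
  have hm : ¬ p ∣ m := Nat.not_dvd_ordCompl hM.1 Nat.card_pos.ne'
  have hm0 : m ≠ 0 := fun h => hm (h ▸ dvd_zero p)
  have h1 : ∀ g, μ g ^ m = 1 := fun g => by
    have h2 : (μ g ^ m) ^ p ^ (Nat.card G).factorization p = 1 := by
      rw [← pow_mul, Nat.div_mul_cancel (Nat.ordProj_dvd _ _), ← map_pow, pow_card_eq_one', map_one]
    rw [← sub_eq_zero] at h2 ⊢
    rw [← one_pow (p ^ (Nat.card G).factorization p), ← sub_pow_char_pow] at h2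
    exact pow_eq_zero_iff (pow_ne_zero _ hM.1.ne_zero) |>.1 h2
  choose f hf1 hf2 using fun g => hM.exists_lift_rootOfUnity hm (h1 g)
  have hv : ∀ g, valM M (f g) = 1 := fun g => valM_eq_one_of_pow_eq_one hm0 (hf1 g)
  have hf0 : ∀ g, f g ≠ 0 := fun g h => by
    have := hf1 g
    rw [h, zero_pow hm0] at this
    exact zero_ne_one this
  have hO : ∀ g, f g ∈ valO M := fun g => mem_valO_iff.2 (hv g).le
  have hμ0 : ∀ g, μ g ≠ 0 := fun g h => by
    have := h1 g
    rw [h, zero_pow hm0] at this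
    exact zero_ne_one this
  refine ⟨MonoidHom.mk' (fun g => Units.mk0 (f g) (hf0 g)) fun a b => ?_, hf2, fun g => ?_⟩
  · apply Units.ext
    simp only [Units.val_mk0, Units.val_mul]
    have h3 : f a * f b / f (a * b) = 1 := by
      refine hM.eq_one_of_red_eq_one hm ?_ ?_
      · rw [div_pow, mul_pow, hf1, hf1, hf1, one_mul, div_one]
      · rw [red_div (mul_mem (hO _) (hO _)) (hv _), red_mul (hO _) (hO _), hf2, hf2, hf2, map_mul,
          div_self (mul_ne_zero (hμ0 _) (hμ0 _))]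
    exact ((div_eq_one_iff_eq (hf0 _)).1 h3).symm
  · apply Units.ext
    simpa using hf1 g

theorem red_unitsHom_mul_div (l : G →* ℂˣ) {η : IrrCharacter G} (hv : valM M (η.1 1) = 1) (x : G) :
    red M ((η.twist l).1 x / (η.twist l).1 1) = red M (l x : ℂ) * red M (η.1 x / η.1 1) := by
  have hl : valM M (l x : ℂ) = 1 := valM_eq_one_of_pow_eq_one (n := Nat.card G) Nat.card_pos.ne'
    (by rw [← Units.val_pow_eq_pow_val, ← map_pow, pow_card_eq_one', map_one, Units.val_one])
  rw [IrrCharacter.twist_apply, IrrCharacter.twist_apply, map_one, Units.val_one, one_mul,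
    mul_div_assoc, red_mul (mem_valO_iff.2 hl.le) (div_mem_valO_of_valM_eq_one (η.mem_valO x) hv)]

theorem IsPModular.exists_good_extension [N.Normal] (hM : IsPModular p M) {θ : IrrCharacter N}
    (hθ : θ ∈ principalBlock M N) (hd : ¬ p ∣ charDegree θ.1) {η : IrrCharacter G}
    (hη : ∀ n : N, η.1 n = θ.1 n) {C : Subgroup G} (hsup : N ⊔ C = ⊤)
    (hC : ∀ c ∈ C, ¬ p ∣ (Subgroup.centralizer ({c} : Set G)).relIndex N) :
    ∃ η' : IrrCharacter G, (∀ n : N, η'.1 n = θ.1 n) ∧
      ∀ x, ¬ p ∣ (Subgroup.centralizer ({x} : Set G)).relIndex N → red M (η'.1 x / η'.1 1) = 1 := by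
  have h1 : η.1 1 = charDegree θ.1 := by rw [← θ.one_eq_charDegree]; exact hη 1
  have hv : valM M (η.1 1) = 1 := by rw [h1]; exact hM.valM_natCast_eq_one_iff.2 hd
  choose c hc hc' using fun g : G => exists_mem_coset_of_sup_eq_top hsup (g : G ⧸ N)
  have h3 := fun {x y z : G} => hM.red_mul_three_of_extends hθ hd hη (x := x) (y := y) (z := z)
  have hone : red M (η.1 1 / η.1 1) = 1 := by rw [div_self η.one_ne_zero, red_one]
  have h2 : ∀ x, ¬ p ∣ (Subgroup.centralizer ({x} : Set G)).relIndex N →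
      red M (η.1 x / η.1 1) * red M (η.1 (c x⁻¹) / η.1 1) = 1 := fun x hx => by
    have := h3 hx (hC _ (hc x⁻¹)) (hC 1 C.one_mem) (by
      rw [← QuotientGroup.eq_one_iff, mul_one, QuotientGroup.mk_mul, hc', QuotientGroup.mk_inv,
        mul_inv_cancel])
    rwa [hone, mul_one] at this
  have h4 : ∀ g, red M (η.1 (c g) / η.1 1) * red M (η.1 (c g⁻¹) / η.1 1) = 1 := fun g => by
    have := h3 (hC _ (hc g)) (hC _ (hc g⁻¹)) (hC 1 C.one_mem) (by
      rw [← QuotientGroup.eq_one_iff, mul_one, QuotientGroup.mk_mul, hc', hc', QuotientGroup.mk_inv,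
        mul_inv_cancel])
    rwa [hone, mul_one] at this
  have h5 : ∀ x, ¬ p ∣ (Subgroup.centralizer ({x} : Set G)).relIndex N →
      red M (η.1 x / η.1 1) = red M (η.1 (c x) / η.1 1) := fun x hx =>
    mul_right_cancel₀ (right_ne_zero_of_mul_eq_one (h4 x)) ((h2 x hx).trans (h4 x).symm)
  let μ : G →* resK M :=
    { toFun := fun g => red M (η.1 (c g) / η.1 1)
      map_one' := by rw [← h5 1 (hC 1 C.one_mem), hone]
      map_mul' := fun g h => by
        refine mul_right_cancel₀ (right_ne_zero_of_mul_eq_one (h4 (g * h))) ?_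
        rw [h4, h3 (hC _ (hc g)) (hC _ (hc h)) (hC _ (hc (g * h)⁻¹))]
        rw [← QuotientGroup.eq_one_iff, QuotientGroup.mk_mul, QuotientGroup.mk_mul, hc', hc', hc',
          QuotientGroup.mk_inv, QuotientGroup.mk_mul, mul_inv_cancel] }
  obtain ⟨l, hl1, hl2⟩ := hM.exists_lift_hom μ
  have hm : ¬ p ∣ Nat.card G / p ^ (Nat.card G).factorization p :=
    Nat.not_dvd_ordCompl hM.1 Nat.card_pos.ne'
  have hlN : ∀ n ∈ N, l n = 1 := fun n hn => by
    apply Units.ext
    refine hM.eq_one_of_red_eq_one hm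
      (by rw [← Units.val_pow_eq_pow_val, hl2, Units.val_one]) ?_
    rw [hl1]
    have := h3 (hC _ (hc n)) (hC 1 C.one_mem) (hC 1 C.one_mem) (by
      rw [← QuotientGroup.eq_one_iff, mul_one, mul_one, hc', QuotientGroup.eq_one_iff]
      exact hn)
    rwa [hone, mul_one, mul_one] at this
  refine ⟨η.twist l⁻¹, fun n => ?_, fun x hx => ?_⟩
  · rw [IrrCharacter.twist_apply, MonoidHom.inv_apply, hlN n n.2, inv_one, Units.val_one, one_mul, hη]
  · rw [red_unitsHom_mul_div _ hv, MonoidHom.inv_apply, ← map_inv, hl1, mul_comm]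
    exact h2 x hx

theorem exists_pow_mul_not_dvd_orderOf [Fact p.Prime] {A : Type v} [Group A] [Finite A] (δ : A)
    {d : ℕ} (hd : ¬ p ∣ d) : ∃ l : A, (∃ i : ℕ, l = (pPart p δ) ^ i) ∧
      (∃ j : ℕ, l ^ p ^ j = 1) ∧ ¬ p ∣ orderOf (l ^ d * δ) := by
  obtain ⟨j, hj⟩ := exists_orderOf_pPart (p := p) δ
  obtain ⟨m, hm⟩ := exists_pow_eq_self_of_coprime (x := (pPart p δ)⁻¹) (n := d) (by
    rw [orderOf_inv, hj]
    exact ((Nat.Prime.coprime_iff_not_dvd Fact.out).2 hd).symm.pow_right j)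
  refine ⟨(pPart p δ)⁻¹ ^ m, ?_, ⟨j, ?_⟩, ?_⟩
  · have : (pPart p δ)⁻¹ ^ m ∈ Submonoid.powers (pPart p δ) := by
      rw [mem_powers_iff_mem_zpowers]
      exact pow_mem (inv_mem (Subgroup.mem_zpowers _)) _
    obtain ⟨i, hi⟩ := this
    exact ⟨i, hi.symm⟩
  · rw [← pow_mul, mul_comm, pow_mul, inv_pow, ← hj, pow_orderOf_eq_one, inv_one, one_pow]
  · have : ((pPart p δ)⁻¹ ^ m) ^ d * δ = pRegPart p δ := by
      rw [← pow_mul, mul_comm m, pow_mul, hm, inv_mul_eq_iff_eq_mul, pPart_mul_pRegPart]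
    rw [this]
    exact not_dvd_orderOf_pRegPart δ

theorem exists_twist_not_dvd_detOrder [Fact p.Prime] {θ : IrrCharacter N}
    (hd : ¬ p ∣ charDegree θ.1) (ho : ¬ p ∣ detOrder θ.1) {η : IrrCharacter G}
    (hη : ∀ n : N, η.1 n = θ.1 n) : ∃ l : G →* ℂˣ, (∀ n ∈ N, l n = 1) ∧
      (∃ j : ℕ, ∀ g, l g ^ p ^ j = 1) ∧ ¬ p ∣ detOrder (η.twist l).1 := by
  have : Finite (G →* ℂˣ) := Finite.of_injective _ IrrCharacter.ofHom_injective
  have : Finite (N →* ℂˣ) := Finite.of_injective _ IrrCharacter.ofHom_injective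
  have hdeg : charDegree η.1 = charDegree θ.1 := charDegree_eq_of_extends hη
  obtain ⟨l, ⟨i, hi⟩, ⟨j, hj⟩, hl⟩ := exists_pow_mul_not_dvd_orderOf (p := p) (detHom η.1) hd
  let r : (G →* ℂˣ) →* (N →* ℂˣ) := MonoidHom.mk' (fun f => f.comp N.subtype) fun _ _ => rfl
  have h1 : r (pPart p (detHom η.1)) = 1 := by
    rw [map_pPart, pPart_eq_one_iff]
    have : r (detHom η.1) = detHom θ.1 := by
      rw [← funext hη]
      exact (η.isCharacter.detHom_comp N.subtype).symm
    rwa [this, ← detOrder_eq_orderOf_detHom]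
  refine ⟨l, fun n hn => ?_, ⟨j, fun g => DFunLike.congr_fun hj g⟩, ?_⟩
  · have := DFunLike.congr_fun h1 ⟨n, hn⟩
    change pPart p (detHom η.1) n = 1 at this
    rw [hi]
    change (pPart p (detHom η.1) n) ^ i = 1
    rw [this, one_pow]
  · rw [detOrder_eq_orderOf_detHom]
    have : detHom (η.twist l).1 = l ^ charDegree θ.1 * detHom η.1 :=
      hdeg ▸ η.isCharacter.detHom_hom_mul _
    rw [this]
    exact hl

theorem IsPModular.eq_of_extends_of_red [N.Normal] (hM : IsPModular p M) {θ : IrrCharacter N}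
    (hd : ¬ p ∣ charDegree θ.1) {η η' : IrrCharacter G} (hη : ∀ n : N, η.1 n = θ.1 n)
    (hη' : ∀ n : N, η'.1 n = θ.1 n) (ho : ¬ p ∣ detOrder η.1) (ho' : ¬ p ∣ detOrder η'.1)
    (h : ∀ g : G, ∃ (j : ℕ) (c : G), (c : G ⧸ N) = (g ^ p ^ j : G) ∧
      red M (η.1 c / η.1 1) = 1 ∧ red M (η'.1 c / η'.1 1) = 1) : η = η' := by
  have h1 : η.1 1 = charDegree θ.1 := by rw [← θ.one_eq_charDegree]; exact hη 1
  have hv : valM M (η.1 1) = 1 := by rw [h1]; exact hM.valM_natCast_eq_one_iff.2 hd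
  obtain ⟨l, hl, hl'⟩ := exists_linear_of_extends' η.isCharacter η'.isCharacter hη hη'
  have he : η' = η.twist l := Subtype.ext hl'
  have h2 : detHom η'.1 = l ^ charDegree θ.1 * detHom η.1 := by
    rw [hl', ← charDegree_eq_of_extends hη]
    exact η.isCharacter.detHom_hom_mul l
  set n := charDegree θ.1 * (detOrder η.1 * detOrder η'.1) with hn
  have hnp : ¬ p ∣ n := fun h =>
    (hM.1.dvd_mul.1 h).elim hd fun h => (hM.1.dvd_mul.1 h).elim ho ho'
  have h3 : ∀ g, l g ^ n = 1 := fun g => by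
    have e1 : detHom η'.1 g = l g ^ charDegree θ.1 * detHom η.1 g := by rw [h2]; rfl
    have e2 : ∀ χ : G → ℂ, detHom χ g ^ detOrder χ = 1 := fun χ => Units.ext (by
      rw [Units.val_pow_eq_pow_val, coe_detHom, detChar_pow_detOrder, Units.val_one])
    rw [hn, pow_mul, eq_mul_inv_of_mul_eq e1.symm, mul_pow, inv_pow, pow_mul (detHom η.1 g), e2,
      mul_comm (detOrder η.1), pow_mul, e2]
    simp
  have h4 : l = 1 := by
    ext1 g
    obtain ⟨j, c, hc, hc1, hc2⟩ := h g
    rw [he, red_unitsHom_mul_div _ hv, hc1, mul_one] at hc2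
    have h5 : l c = 1 := Units.ext (hM.eq_one_of_red_eq_one hnp
      (by rw [← Units.val_pow_eq_pow_val, h3]; rfl) hc2)
    have h6 : l g ^ p ^ j = 1 := by
      have := hl _ (QuotientGroup.eq.1 hc)
      rwa [map_mul, map_inv, h5, inv_one, one_mul, map_pow] at this
    have h7 : l g ^ n = 1 := h3 g
    rw [MonoidHom.one_apply, ← orderOf_eq_one_iff]
    exact Nat.eq_one_of_dvd_coprimes (((Nat.Prime.coprime_iff_not_dvd hM.1).2 hnp).pow_left j)
      (orderOf_dvd_of_pow_eq_one h6) (orderOf_dvd_of_pow_eq_one h7)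
  rw [he, h4]
  apply Subtype.ext
  funext g
  simp

theorem IsPModular.mem_principalBlock_of_red (hM : IsPModular p M) {η : IrrCharacter G}
    (hd : ¬ p ∣ charDegree η.1)
    (h : ∀ x, ¬ p ∣ (Subgroup.centralizer ({x} : Set G)).index → red M (η.1 x / η.1 1) = 1) :
    η ∈ principalBlock M G := by
  have := hM.charP
  have hv : valM M (η.1 1) = 1 := by
    rw [η.one_eq_charDegree]; exact hM.valM_natCast_eq_one_iff.2 hd
  rw [isPBlock_principalBlock.mem_iff_sameBlock hM hM.triv_mem_principalBlock, hM.sameBlock_iff_red]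
  intro g
  rw [centralChar_triv, centralChar, mul_div_assoc,
    red_mul (natCast_mem_valO _) (div_mem_valO_of_valM_eq_one (η.mem_valO g) hv), red_natCast]
  by_cases hg : p ∣ (Subgroup.centralizer ({g} : Set G)).index
  · rw [(CharP.cast_eq_zero_iff (resK M) p _).2 hg, zero_mul]
  · rw [h g hg, mul_one]

theorem IsCharacter.not_dvd_detOrder_of_pRational (hp : p.Prime) (hp2 : p ≠ 2) {θ : G → ℂ}
    (hθ : IsCharacter G θ) (h : ∃ n : ℕ, ¬ p ∣ n ∧ ∀ g, θ g ∈ cycField n) : ¬ p ∣ detOrder θ := by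
  rw [not_dvd_detOrder_iff hp]
  intro g k hg
  set H := Subgroup.zpowers g
  have h1 : (fun x : H => conj (θ x)) = fun x : H => θ x := by
    funext x
    obtain ⟨q, hq⟩ := hθ.isGeneralizedCharacter.exists_rat_of_pRational hp h (g := x) (a := k) (by
      obtain ⟨i, hi⟩ := x.2
      rw [← hi]
      simp only
      rw [← zpow_natCast, ← zpow_mul, mul_comm, zpow_mul, zpow_natCast, hg, one_zpow])
    rw [hq, map_ratCast]
  have h2 := (hθ.res H).detChar_conj ⟨g, Subgroup.mem_zpowers g⟩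
  rw [h1, hθ.detChar_res H] at h2
  simp only at h2
  set z := detChar θ g
  have h3 : z ^ p ^ k = 1 := by rw [← detChar_apply_pow, hg, detChar_apply_one]
  have h4 : z ^ 2 = 1 := by
    have h5 : ‖z‖ = 1 := Complex.norm_eq_one_of_pow_eq_one h3 (pow_ne_zero _ hp.ne_zero)
    rw [sq]
    nth_rewrite 2 [h2]
    rw [Complex.mul_conj, Complex.normSq_eq_norm_sq, h5]
    simp
  rw [← orderOf_eq_one_iff]
  exact Nat.eq_one_of_dvd_coprimes (((Nat.coprime_primes hp Nat.prime_two).2 hp2).pow_left k)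
    (orderOf_dvd_of_pow_eq_one h3) (orderOf_dvd_of_pow_eq_one h4)

theorem IsPModular.subgroupOf_mem_principalBlock_iff (hM : IsPModular p M) {K : Subgroup G}
    (hNK : N ≤ K) {θ : IrrCharacter N} :
    θ.subgroupOf hNK ∈ principalBlock M (N.subgroupOf K) ↔ θ ∈ principalBlock M N :=
  (hM.mem_principalBlock_iff_of_res_eq (Subgroup.subgroupOfEquivOfLe hNK).toMonoidHom
    (Subgroup.subgroupOfEquivOfLe hNK).injective
    (fun g _ => (Subgroup.subgroupOfEquivOfLe hNK).surjective g) fun _ => rfl).symm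

omit [Finite G] in
theorem subgroupOf_sup_centralizer_eq_top [N.Normal] {Q K : Subgroup G} (hNK : N ≤ K)
    (hK : K ≤ N ⊔ Subgroup.centralizer (Q : Set G)) :
    N.subgroupOf K ⊔ Subgroup.centralizer (Q.subgroupOf K : Set K) = ⊤ := by
  rw [eq_top_iff]
  intro x _
  obtain ⟨n, hn, c, hc, h⟩ := mem_sup_normal_left.1 (hK x.2)
  have hcK : c ∈ K := by
    have := K.mul_mem (K.inv_mem (hNK hn)) x.2
    rwa [← h, inv_mul_cancel_left] at this
  have : x = ⟨n, hNK hn⟩ * ⟨c, hcK⟩ := Subtype.ext h.symm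
  rw [this]
  refine Subgroup.mul_mem_sup hn ?_
  rw [Subgroup.mem_centralizer_iff]
  intro y hy
  exact Subtype.ext (hc _ hy)

theorem IsPModular.exists_extension_of_sup_centralizer [N.Normal] (hM : IsPModular p M)
    {θ : IrrCharacter N} (hθ : θ ∈ principalBlock M N) (hd : ¬ p ∣ charDegree θ.1)
    (ho : ¬ p ∣ detOrder θ.1) (hinv : charInertia θ.1 = ⊤) {Q : Subgroup G} (hQN : Q ≤ N)
    (hQ : ¬ p ∣ Q.relIndex N) (hsup : N ⊔ Subgroup.centralizer (Q : Set G) = ⊤) :
    ∃ η : IrrCharacter G, ∀ n : N, η.1 n = θ.1 n := by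
  refine exists_extension_of_sylow hinv fun q hq _ hq' => ?_
  have hqp : q ≠ p := by
    rintro rfl
    exact (hq.dvd_mul.1 hq').elim hd ho
  have : Fact q.Prime := ⟨hq⟩
  obtain ⟨S⟩ : Nonempty (Sylow q G) := inferInstance
  refine ⟨N ⊔ S, le_sup_left, fun h => S.not_dvd_index (h.trans (Subgroup.index_dvd_of_le le_sup_right)), ?_⟩
  have hidx : ¬ p ∣ (N.subgroupOf (N ⊔ (S : Subgroup G))).index := by
    intro h
    have h1 : (N.subgroupOf (N ⊔ (S : Subgroup G))).index = N.relIndex S :=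
      relIndex_sup_of_le_normalizer (le_normalizer_of_normal' _)
    obtain ⟨j, hj⟩ := S.isPGroup'.exists_card_eq
    rw [h1] at h
    have h2 := h.trans (Subgroup.relIndex_dvd_card N (S : Subgroup G))
    rw [hj] at h2
    exact hqp ((Nat.prime_dvd_prime_iff_eq hM.1 hq).1 (hM.1.dvd_of_dvd_pow h2)).symm
  obtain ⟨η, ⟨-, hη⟩, -⟩ := hM.alperinDade_existsUnique hidx (Q := Q.subgroupOf _)
    (Subgroup.subgroupOf_mono _ hQN) (by rwa [Subgroup.relIndex_subgroupOf le_sup_left])
    (subgroupOf_sup_centralizer_eq_top le_sup_left (hsup ▸ le_top))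
    ((hM.subgroupOf_mem_principalBlock_iff le_sup_left).2 hθ)
  exact ⟨η, fun n => hη ⟨⟨n, Subgroup.mem_sup_left n.2⟩, n.2⟩⟩

omit [Finite G] in
theorem not_dvd_relIndex_centralizer_of_le {Q : Subgroup G} (hQ : ¬ p ∣ Q.relIndex N)
    {c : G} (hc : c ∈ Subgroup.centralizer (Q : Set G)) :
    ¬ p ∣ (Subgroup.centralizer ({c} : Set G)).relIndex N := fun h =>
  hQ (h.trans (Subgroup.relIndex_dvd_of_le_left N (le_centralizer_singleton_iff.2 hc)))

omit [Finite G] in
theorem relIndex_centralizer_subgroupOf {K : Subgroup G} (hNK : N ≤ K) (x : K) :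
    (Subgroup.centralizer ({x} : Set K)).relIndex (N.subgroupOf K) =
      (Subgroup.centralizer ({(x : G)} : Set G)).relIndex N := by
  rw [← Subgroup.relIndex_subgroupOf hNK]
  congr 1
  ext y
  rw [Subgroup.mem_subgroupOf, Subgroup.mem_centralizer_singleton_iff,
    Subgroup.mem_centralizer_singleton_iff, Subtype.ext_iff, Subgroup.coe_mul, Subgroup.coe_mul]

theorem relIndex_centralizer_conj [N.Normal] (g x : G) :
    (Subgroup.centralizer ({g * x * g⁻¹} : Set G)).relIndex N =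
      (Subgroup.centralizer ({x} : Set G)).relIndex N := by
  rw [centralizer_singleton_conj]
  conv_lhs => rw [conjSub_normal (N := N) g]
  exact Subgroup.relIndex_map_map_of_injective _ _ (MulAut.conj g).injective

/-- canonical extension to `N C_G(Q)` -/
theorem IsPModular.exists_canonical_extension_of_sup_centralizer [N.Normal] (hM : IsPModular p M)
    {θ : IrrCharacter N} (hθ : θ ∈ principalBlock M N) (hd : ¬ p ∣ charDegree θ.1)
    (ho : ¬ p ∣ detOrder θ.1) (hinv : charInertia θ.1 = ⊤) {Q : Subgroup G} (hQN : Q ≤ N)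
    (hQ : ¬ p ∣ Q.relIndex N) (hsup : N ⊔ Subgroup.centralizer (Q : Set G) = ⊤) :
    ∃ η : IrrCharacter G, (∀ n : N, η.1 n = θ.1 n) ∧ ¬ p ∣ detOrder η.1 ∧
      ∀ x, ¬ p ∣ (Subgroup.centralizer ({x} : Set G)).relIndex N → red M (η.1 x / η.1 1) = 1 := by
  have : Fact p.Prime := ⟨hM.1⟩
  obtain ⟨η, hη⟩ := hM.exists_extension_of_sup_centralizer hθ hd ho hinv hQN hQ hsup
  obtain ⟨η', hη', hg⟩ := hM.exists_good_extension hθ hd hη hsup
    fun c hc => not_dvd_relIndex_centralizer_of_le hQ hc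
  obtain ⟨l, hl, ⟨j, hj⟩, hl'⟩ := exists_twist_not_dvd_detOrder hd ho hη'
  have h1 : η'.1 1 = charDegree θ.1 := by rw [← θ.one_eq_charDegree]; exact hη' 1
  have hv : valM M (η'.1 1) = 1 := by rw [h1]; exact hM.valM_natCast_eq_one_iff.2 hd
  refine ⟨η'.twist l, fun n => ?_, hl', fun x hx => ?_⟩
  · rw [IrrCharacter.twist_apply, hl n n.2, Units.val_one, one_mul, hη']
  · rw [red_unitsHom_mul_div _ hv, hg x hx, mul_one]
    exact hM.red_eq_one_of_pow_p_pow (n := j)
      (by rw [← Units.val_pow_eq_pow_val, hj, Units.val_one])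

theorem IsPModular.exists_pRational_principal_extension [N.Normal] (hM : IsPModular p M)
    (hp2 : p ≠ 2) {θ : IrrCharacter N} (hθ : θ ∈ principalBlock M N) (hd : ¬ p ∣ charDegree θ.1)
    (hrat : ∃ n : ℕ, ¬ p ∣ n ∧ ∀ g, θ.1 g ∈ cycField n) (hinv : charInertia θ.1 = ⊤)
    {Q : Subgroup G} (hQN : Q ≤ N) (hQ : ¬ p ∣ Q.relIndex N)
    (hF : Subgroup.normalizer (Q : Set G) ⊔ N = ⊤)
    (hidx : ∃ a : ℕ, (N ⊔ Subgroup.centralizer (Q : Set G)).index = p ^ a) :
    ∃ χ ∈ principalBlock M G, (∃ n : ℕ, ¬ p ∣ n ∧ ∀ g, χ.1 g ∈ cycField n) ∧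
      ∀ n : N, χ.1 n = θ.1 n := by
  have : Fact p.Prime := ⟨hM.1⟩
  obtain ⟨a, ha⟩ := hidx
  set C := Subgroup.centralizer (Q : Set G) with hC
  set K := N ⊔ C with hK
  have hNK : N ≤ K := le_sup_left
  have hKn : K.Normal := by
    rw [← Subgroup.normalizer_eq_top_iff, eq_top_iff, ← hF, sup_le_iff]
    exact ⟨le_normalizer_sup' (le_normalizer_of_normal' _) (normalizer_le_normalizer_centralizer Q),
      hNK.trans Subgroup.le_normalizer⟩
  have ho := θ.isCharacter.not_dvd_detOrder_of_pRational hM.1 hp2 hrat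
  have hsup := subgroupOf_sup_centralizer_eq_top (Q := Q) hNK le_rfl
  have hQ' : ¬ p ∣ (Q.subgroupOf K).relIndex (N.subgroupOf K) := by
    rwa [Subgroup.relIndex_subgroupOf hNK]
  obtain ⟨η, hη, hηo, hg⟩ := hM.exists_canonical_extension_of_sup_centralizer
    ((hM.subgroupOf_mem_principalBlock_iff hNK).2 hθ) hd
    (fun h => ho (h.trans (θ.isCharacter.detOrder_comp_dvd
      (Subgroup.subgroupOfEquivOfLe hNK).toMonoidHom)))
    (charInertia_subgroupOf_eq_top hNK (hinv ▸ le_top)) (Subgroup.subgroupOf_mono K hQN) hQ' hsup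
  have hηd : charDegree η.1 = charDegree θ.1 := charDegree_eq_of_extends hη
  have hη0 : η ∈ principalBlock M K := hM.mem_principalBlock_of_red (hηd ▸ hd) fun x hx =>
    hg x fun h => hx (h.trans (relIndex_dvd_index_of_normal_right _ _))
  have hηinv : charInertia η.1 = ⊤ := by
    rw [IrrCharacter.charInertia_eq_top_iff]
    intro g
    refine hM.eq_of_extends_of_red (θ := θ.subgroupOf hNK) hd (fun n => ?_) hη ?_ hηo fun x => ?_
    · have h1 : g⁻¹ * n * g ∈ N := (inferInstance : N.Normal).conj_mem' _ n.2 g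
      rw [IrrCharacter.smul_apply]
      refine (hη ⟨⟨_, hNK h1⟩, h1⟩).trans ?_
      exact (mem_charInertia_iff_forall (θ := θ.1)).1 (hinv ▸ Subgroup.mem_top g⁻¹) ⟨n, n.2⟩
        ⟨_, h1⟩ (by simp)
    · exact fun h => hηo (h.trans (η.isCharacter.detOrder_comp_dvd
        (MulAut.conjNormal g⁻¹ : MulAut K).toMonoidHom))
    · obtain ⟨c, hc, hcx⟩ := exists_mem_coset_of_sup_eq_top hsup (x : K ⧸ N.subgroupOf K)
      have h2 := not_dvd_relIndex_centralizer_of_le hQ' hc
      refine ⟨0, c, by simpa using hcx, ?_, hg c h2⟩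
      rw [IrrCharacter.smul_apply_one, IrrCharacter.smul_apply]
      refine hg _ ?_
      rw [relIndex_centralizer_subgroupOf hNK] at h2 ⊢
      have := relIndex_centralizer_conj (N := N) g⁻¹ c
      rw [inv_inv] at this
      rwa [this]
  obtain ⟨χ, hχ, hχo⟩ := exists_extension_detOrder_eq hηinv (by
    rw [ha, hηd]
    refine Nat.Coprime.pow_right a ((Nat.Prime.coprime_iff_not_dvd hM.1).2 fun h => ?_).symm
    exact (hM.1.dvd_mul.1 h).elim hd hηo)
  have hχθ : ∀ n : N, χ.1 n = θ.1 n := fun n => (hχ ⟨n, hNK n.2⟩).trans (hη ⟨⟨n, hNK n.2⟩, n.2⟩)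
  have hG : IsPGroup p (G ⧸ K) := IsPGroup.of_card ha
  have := Fintype.ofFinite K
  refine ⟨χ, (hM.mem_principalBlock_iff_of_res_eq K.subtype K.subtype_injective (fun g hg =>
    ⟨⟨g, mem_of_not_dvd_orderOf_of_isPGroup hG hg⟩, rfl⟩) hχ).2 hη0, ?_, hχθ⟩
  rw [χ.isCharacter.isGeneralizedCharacter.pRational_iff hM.1]
  intro k hk hk1
  have hgC : ∀ c ∈ C, red M (χ.1 c / χ.1 1) = 1 := fun c hc => by
    have h1 : χ.1 1 = η.1 1 := hχ 1
    rw [h1, hχ ⟨c, Subgroup.mem_sup_right hc⟩]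
    refine hg _ ?_
    rw [relIndex_centralizer_subgroupOf hNK]
    exact not_dvd_relIndex_centralizer_of_le hQ hc
  have : χ.powConj k hk = χ := by
    refine hM.eq_of_extends_of_red hd (fun n => ?_) hχθ ?_ (hχo ▸ hηo) fun g => ?_
    · rw [IrrCharacter.powConj_apply, ← Subgroup.coe_pow, hχθ]
      have hNG : Nat.card N ∣ Nat.card G := Subgroup.card_subgroup_dvd_card N
      exact (θ.isCharacter.isGeneralizedCharacter.pRational_iff hM.1).1 hrat k
        (hk.coprime_dvd_right hNG)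
        (hk1.of_dvd (Nat.ordCompl_dvd_ordCompl_of_dvd hNG p)) n
    · obtain ⟨σ, hσ⟩ := exists_ringEquiv_complex_pow (n := Nat.card G) Nat.card_pos.ne' hk
      rw [χ.powConj_eq_galois hk (σ := (σ : ℂ →+* ℂ)) (fun g => pow_card_eq_one') hσ,
        not_dvd_detOrder_iff hM.1]
      intro g i hgi
      rw [IrrCharacter.galois_val, χ.isCharacter.detChar_map _ (χ.isCharacter.galois _),
        (not_dvd_detOrder_iff hM.1 _).1 (hχo ▸ hηo) g i hgi, map_one]
    · have h1 : g ^ p ^ a ∈ K := ha ▸ K.pow_index_mem g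
      obtain ⟨n, hn, c, hc, h2⟩ := mem_sup_normal_left.1 h1
      refine ⟨a, c, ?_, ?_, hgC c hc⟩
      · rw [← h2, QuotientGroup.mk_mul, (QuotientGroup.eq_one_iff n).2 hn, one_mul]
      · rw [IrrCharacter.powConj_apply, IrrCharacter.powConj_apply, one_pow]
        exact hgC _ (C.pow_mem hc k)
  intro g
  rw [← IrrCharacter.powConj_apply χ k hk, this]

end Cfsg
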