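import Cfsg.Agent.Blk.PrinTwo
import Cfsg.Agent.Blk.PairMisc
import Cfsg.Agent.Blk.PairReg
import Cfsg.Agent.Grp.Frobenius

/-! Self-centralizing Sylow subgroups of prime order. -/

set_option autoImplicit false
set_option linter.unusedSectionVars false

namespace Cfsg

open scoped ComplexConjugate

universe u v

variable {G : Type u} [Group G]

/-- the normalizer of a Sylow subgroup -/
abbrev sylN {p : ℕ} (P : Sylow p G) : Subgroup G := Subgroup.normalizer ((P : Subgroup G) : Set G)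

/-- the base point of `G ⧸ H` -/
abbrev basePt (H : Subgroup G) : G ⧸ H := ((1 : G) : G ⧸ H)

theorem smul_mk_eq_iff {H : Subgroup G} {g x : G} :
    g • (x : G ⧸ H) = (x : G ⧸ H) ↔ x⁻¹ * g * x ∈ H := by
  rw [MulAction.Quotient.smul_mk, eq_comm, QuotientGroup.eq, smul_eq_mul, mul_assoc]

theorem smul_basePt_eq_iff {H : Subgroup G} {g : G} : g • basePt H = basePt H ↔ g ∈ H := by
  rw [smul_mk_eq_iff]; simp

theorem mk_eq_basePt_iff {H : Subgroup G} {x : G} : (x : G ⧸ H) = basePt H ↔ x ∈ H := by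
  rw [eq_comm, QuotientGroup.eq]; simp

theorem card_subtype_ne_add_one {α : Type*} [Finite α] (a : α) :
    Nat.card {b : α // b ≠ a} + 1 = Nat.card α := by
  classical
  have := Fintype.ofFinite α
  have : Nonempty α := ⟨a⟩
  rw [Nat.card_eq_fintype_card, Nat.card_eq_fintype_card, Fintype.card_subtype_compl,
    Fintype.card_subtype_eq]
  exact Nat.sub_add_cancel Fintype.card_pos

/-- A self-centralizing Sylow subgroup of order `p`. -/
structure SCP (p : ℕ) (P : Sylow p G) : Prop where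
  card : Nat.card (P : Subgroup G) = p
  cen : Subgroup.centralizer ((P : Subgroup G) : Set G) ≤ P

namespace SCP

variable [Finite G] {p : ℕ} [hp : Fact p.Prime] {P : Sylow p G} (H : SCP p P)
include H

theorem cen_eq : Subgroup.centralizer ((P : Subgroup G) : Set G) = P :=
  le_antisymm H.cen (le_centralizer_of_card_prime H.card)

theorem relIndex_eq : (P : Subgroup G).relIndex (sylN P) = autIdx (P : Subgroup G) := by
  rw [autIdx, H.cen_eq]

theorem card_N : Nat.card (sylN P) = p * autIdx (P : Subgroup G) := by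
  rw [← card_mul_relIndex Subgroup.le_normalizer, H.relIndex_eq, H.card]

theorem card_G : Nat.card G = p * autIdx (P : Subgroup G) * (sylN P).index := by
  rw [← H.card_N, Subgroup.card_mul_index]

theorem index_P : (P : Subgroup G).index = autIdx (P : Subgroup G) * (sylN P).index := by
  rw [← H.relIndex_eq, Subgroup.relIndex_mul_index Subgroup.le_normalizer]

theorem eq_one_of_commute {y u : G} (hy : y ∉ (P : Subgroup G)) (hu : u ∈ (P : Subgroup G))
    (h : Commute y u) : u = 1 := by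
  by_contra h1
  apply hy
  apply H.cen
  rw [← centralizer_singleton_of_card_prime H.card hu h1, Subgroup.mem_centralizer_singleton_iff]
  exact h.eq

theorem pow_eq_one_of_mem {u : G} (hu : u ∈ (P : Subgroup G)) : u ^ p = 1 := by
  have := pow_card_eq_one' (G := (P : Subgroup G)) (x := ⟨u, hu⟩)
  rw [H.card] at this
  exact congrArg Subtype.val this

theorem dvd_of_mem {u : G} (hu : u ∈ (P : Subgroup G)) (hu1 : u ≠ 1) : p ∣ orderOf u := by
  rw [orderOf_eq_of_card_prime H.card hu hu1]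

theorem exists_conj_mem {g : G} (hg : p ∣ orderOf g) : ∃ x : G, x * g * x⁻¹ ∈ (P : Subgroup G) := by
  obtain ⟨x, u, s, hu, -, hs, -, h⟩ := exists_conj_eq_sec P H.card hg
  exact ⟨x, h ▸ Subgroup.mul_mem _ hu (H.cen hs)⟩

theorem pow_eq_one_of_dvd {g : G} (hg : p ∣ orderOf g) : g ^ p = 1 := by
  obtain ⟨x, hx⟩ := H.exists_conj_mem hg
  have := H.pow_eq_one_of_mem hx
  rwa [conj_pow, mul_inv_eq_one, mul_eq_left] at this

theorem mem_of_pow_eq_one {g : G} (hg : g ∈ sylN P) (h : g ^ p = 1) : g ∈ (P : Subgroup G) := by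
  refine mem_of_pElement_of_not_dvd_relIndex (p := p) le_rfl (fun h1 => P.not_dvd_index
    (h1.trans (Subgroup.relIndex_dvd_index_of_le Subgroup.le_normalizer))) hg ?_
  obtain ⟨k, -, hk⟩ := (Nat.dvd_prime_pow hp.out).1 (orderOf_dvd_of_pow_eq_one (n := p ^ 1)
    (by rw [pow_one, h]))
  exact ⟨k, hk⟩

theorem mem_iff_pow_eq_one {g : G} (hg : g ∈ sylN P) : g ∈ (P : Subgroup G) ↔ g ^ p = 1 :=
  ⟨H.pow_eq_one_of_mem, H.mem_of_pow_eq_one hg⟩

theorem not_dvd_of_notMem {y : G} (hy : y ∈ sylN P) (hyP : y ∉ (P : Subgroup G)) :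
    ¬ p ∣ orderOf y := fun h => hyP (H.mem_of_pow_eq_one hy (H.pow_eq_one_of_dvd h))

theorem eq_one_of_mem_of_not_dvd {u : G} (hu : u ∈ (P : Subgroup G)) (h : ¬ p ∣ orderOf u) :
    u = 1 := by_contra fun h1 => h (H.dvd_of_mem hu h1)

theorem pow_eq_one_of_commute {z y : G} (hz : p ∣ orderOf z) (h : Commute z y) : y ^ p = 1 := by
  obtain ⟨x, hx⟩ := H.exists_conj_mem hz
  have h1 : x * y * x⁻¹ ∈ (P : Subgroup G) := by
    by_contra h2
    have h3 := H.eq_one_of_commute h2 hx (h.symm.conj x)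
    rw [mul_inv_eq_one, mul_eq_left] at h3
    rw [h3, orderOf_one, Nat.dvd_one] at hz
    exact hp.out.ne_one hz
  have := H.pow_eq_one_of_mem h1
  rwa [conj_pow, mul_inv_eq_one, mul_eq_left] at this

theorem exists_conj_eq_mul {y u : G} (hy : y ∈ sylN P) (hyP : y ∉ (P : Subgroup G))
    (hu : u ∈ (P : Subgroup G)) : ∃ v ∈ (P : Subgroup G), v * y * v⁻¹ = u * y :=
  exists_conj_eq_mul_of_fixedPointFree hy (fun _ hn h => H.eq_one_of_commute hyP hn h) hu

theorem isConj_mul {y u : G} (hy : y ∈ sylN P) (hyP : y ∉ (P : Subgroup G))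
    (hu : u ∈ (P : Subgroup G)) : IsConj y (u * y) :=
  let ⟨v, _, h⟩ := H.exists_conj_eq_mul hy hyP hu
  isConj_iff.2 ⟨v, h⟩

theorem conj_eq_inv {y u : G} (hy : y ∈ sylN P) (hyP : y ∉ (P : Subgroup G)) (h2 : y * y = 1)
    (hu : u ∈ (P : Subgroup G)) : y * u * y⁻¹ = u⁻¹ :=
  conj_eq_inv_of_fixedPointFree hy (h2 ▸ Subgroup.one_mem _)
    (fun _ hn h => H.eq_one_of_commute hyP hn h) hu

theorem mul_mem_of_invol {y z : G} (hy : y ∈ sylN P) (hyP : y ∉ (P : Subgroup G))
    (hy2 : y * y = 1) (hz : z ∈ sylN P) (hzP : z ∉ (P : Subgroup G)) (hz2 : z * z = 1) :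
    z * y⁻¹ ∈ (P : Subgroup G) := by
  apply H.cen
  rw [Subgroup.mem_centralizer_iff]
  intro u hu
  have h1 := H.conj_eq_inv hy hyP hy2 hu
  have h2 := H.conj_eq_inv hz hzP hz2 (Subgroup.inv_mem _ hu)
  rw [inv_eq_of_mul_eq_one_right hy2] at h1 ⊢
  rw [inv_inv, ← h1] at h2
  calc u * (z * y) = z * (y * u * y) * z⁻¹ * (z * y) := by rw [h2]
    _ = z * y * u * (y * y) := by group
    _ = _ := by rw [hy2, mul_one]

theorem eq_one_of_smul_eq {u : G} (hu : u ∈ (P : Subgroup G)) {γ : G ⧸ sylN P}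
    (hγ : γ ≠ basePt _) (h : u • γ = γ) : u = 1 := by
  by_contra hu1
  induction γ using QuotientGroup.induction_on with
  | H x =>
    rw [smul_mk_eq_iff] at h
    refine hγ (mk_eq_basePt_iff.2 (mem_normalizer_of_conj_mem_of_card_prime H.card hu hu1
      (H.mem_of_pow_eq_one h ?_)))
    have := conj_pow (a := x⁻¹) (b := u) (i := p)
    rw [inv_inv] at this
    rw [this, H.pow_eq_one_of_mem hu, mul_one, inv_mul_cancel]

theorem indFun_sing [Fintype G] {θ : sylN P → ℂ} {c : ℂ}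
    (h : ∀ u : sylN P, (u : G) ∈ (P : Subgroup G) → u ≠ 1 → θ u = c) {g : G}
    (hg : p ∣ orderOf g) : indFun (sylN P) θ g = c := by
  classical
  obtain ⟨x, hx⟩ := H.exists_conj_mem hg
  have hx1 : x * g * x⁻¹ ≠ 1 := by
    intro h1
    rw [mul_inv_eq_one, mul_eq_left] at h1
    rw [h1, orderOf_one, Nat.dvd_one] at hg
    exact hp.out.ne_one hg
  rw [← indFun_isClassFunction (sylN P) θ g x]
  generalize x * g * x⁻¹ = u at hx hx1
  have h1 : ∀ z : G, extendByZero (sylN P) θ (z⁻¹ * u * z) = if z ∈ sylN P then c else 0 := by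
    intro z
    split_ifs with hz
    · have h2 : z⁻¹ * u * z ∈ (P : Subgroup G) := by
        simpa using (Subgroup.mem_normalizer_iff.1 (Subgroup.inv_mem _ hz) u).1 hx
      rw [extendByZero_of_mem _ _ (Subgroup.le_normalizer h2)]
      refine h _ h2 fun h3 => hx1 ?_
      have h4 : z⁻¹ * u * z = 1 := congrArg Subtype.val h3
      rwa [mul_eq_one_iff_eq_inv, mul_eq_left] at h4
    · refine extendByZero_of_not_mem _ _ fun h2 => hz (mk_eq_basePt_iff.1 ?_)
      by_contra h3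
      exact hx1 (H.eq_one_of_smul_eq hx h3 (smul_mk_eq_iff.2 h2))
  rw [indFun_apply]
  simp only [h1]
  rw [← Finset.sum_filter, Finset.sum_const, nsmul_eq_mul, ← mul_assoc]
  have h2 : ((Finset.univ.filter (· ∈ sylN P)).card : ℂ) = Nat.card (sylN P) := by
    rw [Nat.card_eq_fintype_card, Fintype.card_subtype]
  rw [h2, inv_mul_cancel₀ (by exact_mod_cast Nat.card_pos.ne'), one_mul]

theorem card_fixedBy_le {y : G} (hy : y ∈ sylN P) (hyP : y ∉ (P : Subgroup G)) :
    p * Nat.card (MulAction.fixedBy (G ⧸ sylN P) y) + 1 ≤ (sylN P).index + p := by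
  classical
  let S := {γ : G ⧸ sylN P // γ ≠ basePt _}
  let T := {γ : MulAction.fixedBy (G ⧸ sylN P) y // γ ≠ ⟨basePt _, smul_basePt_eq_iff.2 hy⟩}
  have hS : Nat.card S + 1 = (sylN P).index := card_subtype_ne_add_one _
  have hT : Nat.card T + 1 = Nat.card (MulAction.fixedBy (G ⧸ sylN P) y) :=
    card_subtype_ne_add_one _
  have hne : ∀ γ : T, (γ.1.1 : G ⧸ sylN P) ≠ basePt _ := fun γ h => γ.2 (Subtype.ext h)
  let f : ↥(P : Subgroup G) × T → S := fun x => ⟨(x.1 : G) • x.2.1.1, fun h => hne x.2 (by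
    rw [← inv_smul_smul (x.1 : G) x.2.1.1, h]
    exact smul_basePt_eq_iff.2 (Subgroup.le_normalizer (Subgroup.inv_mem _ x.1.2)))⟩
  have hf : Function.Injective f := by
    rintro ⟨u, γ⟩ ⟨v, δ⟩ h
    have h1 : (u : G) • γ.1.1 = (v : G) • δ.1.1 := congrArg Subtype.val h
    have h2 : δ.1.1 = ((v : G)⁻¹ * u) • γ.1.1 := by rw [mul_smul, h1, inv_smul_smul]
    have hw : (v : G)⁻¹ * u ∈ (P : Subgroup G) := Subgroup.mul_mem _ (Subgroup.inv_mem _ v.2) u.2
    generalize hw' : (v : G)⁻¹ * u = w at h2 hw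
    have h3 : y • γ.1.1 = γ.1.1 := γ.1.2
    have h4 : y • δ.1.1 = δ.1.1 := δ.1.2
    have h5 : (w⁻¹ * (y * w * y⁻¹)) • γ.1.1 = γ.1.1 := by
      rw [mul_smul, mul_smul, mul_smul, inv_smul_eq_iff.2 h3.symm, ← h2, h4, h2, inv_smul_smul]
    have h6 := H.eq_one_of_smul_eq (Subgroup.mul_mem _ (Subgroup.inv_mem _ hw)
      ((Subgroup.mem_normalizer_iff.1 hy w).1 hw)) (hne γ) h5
    have h7 : w = 1 := H.eq_one_of_commute hyP hw (by
      rw [inv_mul_eq_one, eq_mul_inv_iff_mul_eq] at h6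
      exact h6.symm)
    rw [h7, one_smul] at h2
    rw [h7, inv_mul_eq_one] at hw'
    exact Prod.ext (Subtype.ext hw'.symm) (Subtype.ext (Subtype.ext h2.symm))
  have := Nat.card_le_card_of_injective f hf
  rw [Nat.card_prod, H.card] at this
  rw [← hS, ← hT]
  nlinarith

theorem exists_hom : ∃ φ : sylN P →* (ZMod p)ˣ, ∀ y, φ y = 1 ↔ (y : G) ∈ (P : Subgroup G) := by
  obtain ⟨φ, hφ⟩ := exists_hom_units_of_cyclic (T := sylN P) P.isPGroup'
    (isCyclic_of_prime_card H.card) (by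
      intro h
      have := H.card
      rw [h, Subgroup.card_bot] at this
      exact hp.out.ne_one this.symm) le_rfl (by
      rw [H.cen_eq]
      exact fun h1 => P.not_dvd_index
        (h1.trans (Subgroup.relIndex_dvd_index_of_le Subgroup.le_normalizer)))
  refine ⟨φ, fun y => ?_⟩
  rw [← MonoidHom.mem_ker, hφ, Subgroup.mem_subgroupOf, H.cen_eq]

theorem commutator_mem {y z : G} (hy : y ∈ sylN P) (hz : z ∈ sylN P) :
    y * z * y⁻¹ * z⁻¹ ∈ (P : Subgroup G) := by
  obtain ⟨φ, hφ⟩ := H.exists_hom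
  refine (hφ (⟨y, hy⟩ * ⟨z, hz⟩ * ⟨y, hy⟩⁻¹ * ⟨z, hz⟩⁻¹)).1 ?_
  rw [map_mul, map_mul, map_mul, map_inv, map_inv, mul_comm (φ ⟨y, hy⟩), mul_inv_cancel_right,
    mul_inv_cancel]

theorem card_centralizer_inf {y : G} (hy : y ∈ sylN P) (hyP : y ∉ (P : Subgroup G)) :
    Nat.card ↥(Subgroup.centralizer ({y} : Set G) ⊓ sylN P) = autIdx (P : Subgroup G) := by
  rw [← H.relIndex_eq, Subgroup.relIndex, Subgroup.index_eq_card]
  refine Nat.card_eq_of_bijective (fun x => ((⟨x, x.2.2⟩ : sylN P) : sylN P ⧸ _)) ⟨?_, ?_⟩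
  · rintro ⟨x, hx⟩ ⟨z, hz⟩ h
    have h1 : x⁻¹ * z ∈ (P : Subgroup G) :=
      QuotientGroup.eq (s := (P : Subgroup G).subgroupOf (sylN P)).1 h
    have h2 : x⁻¹ * z ∈ Subgroup.centralizer ({y} : Set G) :=
      Subgroup.mul_mem _ (Subgroup.inv_mem _ hx.1) hz.1
    have h3 := H.eq_one_of_commute hyP h1 (Subgroup.mem_centralizer_singleton_iff.1 h2).symm
    exact Subtype.ext (inv_mul_eq_one.1 h3)
  · intro a
    induction a using QuotientGroup.induction_on with
    | H x =>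
      obtain ⟨v, hv, h⟩ := H.exists_conj_eq_mul hy hyP
        (H.commutator_mem (Subgroup.inv_mem _ x.2) hy)
      refine ⟨⟨x * v, Subgroup.mem_centralizer_singleton_iff.2 ?_,
        Subgroup.mul_mem _ x.2 (Subgroup.le_normalizer hv)⟩, ?_⟩
      · rw [inv_inv, inv_mul_cancel_right] at h
        calc x * v * y = x * (v * y * v⁻¹) * v := by group
          _ = _ := by rw [h]; group
      · refine QuotientGroup.eq.2 ?_
        simpa [Subgroup.mem_subgroupOf] using hv

end SCP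

end Cfsg
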