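import Cfsg.Agent.Blk.MultFree
import Cfsg.Agent.Blk.CoverDeg
import Cfsg.Agent.Blk.RatExt
import Cfsg.Agent.Blk.PrinOne
import Cfsg.Agent.CT.ClassSum
import Cfsg.Agent.CT.PermChar
import Cfsg.Agent.Blk.SylowSC
import Cfsg.Agent.S4702

/-! Groups in which `χ(1) - χ(u)` is constant on the nontrivial characters of the principal
`2`-block. -/

set_option autoImplicit false

namespace Cfsg

open scoped ComplexConjugate

universe u v

variable {G : Type u} [Group G] [Finite G] {p : ℕ} {M : Ideal AlgInt}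

/-- the nontrivial characters of the principal block -/
noncomputable def prinNT (M : Ideal AlgInt) (G : Type u) [Group G] [Finite G] :
    Finset (IrrCharacter G) := irrFinset (principalBlock M G \ {IrrCharacter.triv G})

theorem mem_prinNT {χ : IrrCharacter G} :
    χ ∈ prinNT M G ↔ χ ∈ principalBlock M G ∧ χ ≠ IrrCharacter.triv G := mem_irrFinset

theorem IsPModular.sum_principal_eq (hM : IsPModular p M) {A : Type v} [AddCommMonoid A]
    (f : IrrCharacter G → A) : ∑ χ ∈ irrFinset (principalBlock M G), f χ =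
      f (IrrCharacter.triv G) + ∑ χ ∈ prinNT M G, f χ := by
  classical
  rw [← Finset.add_sum_erase _ _ (mem_irrFinset.2 hM.triv_mem_principalBlock)]
  congr 2
  ext χ
  rw [mem_prinNT, Finset.mem_erase, mem_irrFinset, and_comm]

theorem IsCharacter.card_mul_lmul_of_const {χ : G → ℂ} (h : IsCharacter G χ) {P : Subgroup G}
    {c : ℂ} (hc : ∀ v ∈ P, v ≠ 1 → χ v = c) {l : P →* ℂˣ} (hl : l ≠ 1) :
    (Nat.card P : ℂ) * lmul P χ l = χ 1 - c := by
  classical
  have := Fintype.ofFinite P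
  have h1 := sum_unitsHom (l⁻¹)
  rw [if_neg fun h => hl ((@inv_eq_one (_ →* ℂˣ) _ l).1 h)] at h1
  rw [h.cast_lmul, classInner_def, mul_inv_cancel_left₀ (Nat.cast_ne_zero.2 Nat.card_pos.ne'),
    Finset.sum_congr rfl fun (v : P) _ => show _ = c * (l⁻¹ v : ℂ) + if v = 1 then χ 1 - c else 0 by
      rw [IrrCharacter.ofHom_apply, conj_unitsHom, map_inv]
      split_ifs with hv
      · simp [hv]
      · rw [hc v v.2 fun e => hv (Subtype.ext e), add_zero]
        rfl,
    Finset.sum_add_distrib, ← Finset.mul_sum, h1]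
  simp

theorem IsCharacter.card_mul_fixDim_of_const {χ : G → ℂ} (h : IsCharacter G χ) {P : Subgroup G}
    {c : ℂ} (hc : ∀ v ∈ P, v ≠ 1 → χ v = c) :
    (Nat.card P : ℂ) * fixDim P χ = χ 1 + (Nat.card P - 1) * c := by
  have := Fintype.ofFinite P
  rw [h.card_mul_fixDim, sum_subgroup_of_const hc]

theorem IsCharacter.le_charKer_of_fixDim_eq {χ : G → ℂ} (h : IsCharacter G χ) {Q : Subgroup G}
    (h1 : fixDim Q χ = charDegree χ) : Q ≤ charKer χ := by
  have := Fintype.ofFinite Q
  have h2 := (h.res Q).sub_sum_mul {IrrCharacter.triv Q} (fun _ => charDegree χ) fun ξ hξ => by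
    rw [Finset.mem_singleton.1 hξ, ← h1, fixDim_eq_cmult h Q, IrrCharacter.ofHom_one]
  have h3 := h2.eq_zero_of_one_eq_zero (by simp [h.one_eq_charDegree])
  intro x hx
  have h4 := congrFun h3 ⟨x, hx⟩
  simp only [Finset.sum_singleton, IrrCharacter.triv_apply, mul_one, Pi.zero_apply] at h4
  rw [h.mem_charKer, h.one_eq_charDegree, ← sub_eq_zero, h4]

theorem IsPModular.card_sylow_dvd_sum_sq [Fact p.Prime] (hM : IsPModular p M) (P : Sylow p G) :
    Nat.card (P : Subgroup G) ∣ ∑ χ ∈ irrFinset (principalBlock M G), charDegree χ.1 ^ 2 := by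
  have h1 := IsCharacter.sum (irrFinset (principalBlock M G)) fun χ _ =>
    χ.isCharacter.nsmul (charDegree χ.1)
  have h2 := h1.card_mul_fixDim_of_const (P := (P : Subgroup G)) (c := 0) fun v hv hv1 => by
    have := (isPBlock_principalBlock.isBlockUnion hM).sum_one_mul_eq_zero hM (g := v)
      (pPart_ne_one_iff.1 (by
        rwa [pPart_eq_self_iff.2 (exists_orderOf_eq_pow_of_mem P.isPGroup' hv)]))
    simpa only [Finset.sum_apply, IrrCharacter.one_eq_charDegree] using this
  simp only [Finset.sum_apply, IrrCharacter.one_eq_charDegree, mul_zero, add_zero, ← sq] at h2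
  exact ⟨_, by exact_mod_cast h2.symm⟩

theorem exists_unitsHom_ne_one_of_comm {P : Type v} [Group P] [Finite P] [IsMulCommutative P]
    {t : P} (ht : t ≠ 1) : ∃ l : P →* ℂˣ, l t ≠ 1 := by
  by_contra h
  push Not at h
  have := mem_commutator_iff_forall_unitsHom.2 h
  rw [commutator_eq_bot] at this
  exact ht this

section partA

variable (hM : IsPModular 2 M) {u : G} {k : ℂ}
  (hk : ∀ χ ∈ principalBlock M G, χ ≠ IrrCharacter.triv G → χ.1 1 - χ.1 u = k)
include hM hk

theorem constDiff_sum (g : G) :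
    k * ∑ χ ∈ prinNT M G, conj (χ.1 g) =
      ∑ χ ∈ irrFinset (principalBlock M G), χ.1 1 * conj (χ.1 g) -
        ∑ χ ∈ irrFinset (principalBlock M G), χ.1 u * conj (χ.1 g) := by
  rw [← Finset.sum_sub_distrib, hM.sum_principal_eq, Finset.mul_sum]
  simp only [IrrCharacter.triv_apply, sub_self, zero_add]
  refine Finset.sum_congr rfl fun χ hχ => ?_
  rw [← hk χ (mem_prinNT.1 hχ).1 (mem_prinNT.1 hχ).2, sub_mul]

omit hk in
theorem constDiff_odd (he : 2 ∣ Nat.card G) : ¬ 2 ∣
    ∑ χ ∈ prinNT M G, charDegree χ.1 := by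
  obtain ⟨P⟩ : Nonempty (Sylow 2 G) := inferInstance
  have h1 := (P.dvd_card_of_dvd_card he).trans (hM.card_sylow_dvd_sum_sq P)
  rw [hM.sum_principal_eq, IrrCharacter.charDegree_triv] at h1
  have h2 : ∑ χ ∈ prinNT M G, charDegree χ.1 ^ 2 ≡
      ∑ χ ∈ prinNT M G, charDegree χ.1 [MOD 2] :=
    Nat.ModEq.sum fun χ _ => by
      unfold Nat.ModEq
      rcases Nat.mod_two_eq_zero_or_one (charDegree χ.1) with h | h <;> simp [Nat.pow_mod, h]
  unfold Nat.ModEq at h2
  omega

theorem constDiff_isConj (he : 2 ∣ Nat.card G) (hk0 : k ≠ 0) {v : G} (hv : ∃ n, orderOf v = 2 ^ n)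
    (hv1 : v ≠ 1) : IsConj (pPart 2 u) v := by
  classical
  by_contra h
  have h1 := constDiff_sum hM hk v
  rw [isPBlock_principalBlock.sum_mul_conj_eq_zero hM (g := u) (by rwa [pPart_eq_self_iff.2 hv]),
    (isPBlock_principalBlock.isBlockUnion hM).sum_mul_conj_eq_zero_of_regular hM
      (by rw [orderOf_one]; decide) (pPart_ne_one_iff.1 (by rwa [pPart_eq_self_iff.2 hv])),
    sub_zero, mul_eq_zero, ← map_sum, map_eq_zero] at h1
  have h2 := IsCharacter.sum (prinNT M G)
    fun χ _ => χ.isCharacter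
  obtain ⟨n, hn⟩ := hv
  have h3 := h2.dvd_charDegree_of_eq_zero Nat.prime_two (hn ▸ pow_orderOf_eq_one v)
    (by rw [Finset.sum_apply]; exact h1.resolve_left hk0)
  rw [charDegree_eq_of_one_eq (n := ∑ χ ∈ prinNT M G, charDegree χ.1) (by
      simp only [Finset.sum_apply, IrrCharacter.one_eq_charDegree, Nat.cast_sum])] at h3
  exact constDiff_odd hM he h3

theorem constDiff_eq_card (he : 2 ∣ Nat.card G) (hu : 2 ∣ orderOf u) (P : Sylow 2 G) :
    k = Nat.card (P : Subgroup G) := by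
  classical
  have := Fintype.ofFinite G
  have hU := (isPBlock_principalBlock (G := G)).isBlockUnion hM
  have h1 : ∀ g, k * pRegularPart 2 (∑ χ ∈ prinNT M G, χ.cconj.1) g =
        (∑ χ ∈ irrFinset (principalBlock M G), χ.1 1 • χ.cconj.1) g := fun g => by
    simp only [Finset.sum_apply, Pi.smul_apply, smul_eq_mul, IrrCharacter.cconj_apply]
    by_cases hg : 2 ∣ orderOf g
    · rw [pRegularPart_of_dvd hg, mul_zero,
        hU.sum_mul_conj_eq_zero_of_regular hM (by rw [orderOf_one]; decide) hg]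
    · rw [pRegularPart_of_not_dvd hg, Finset.sum_apply]
      simp only [IrrCharacter.cconj_apply]
      rw [constDiff_sum hM hk, hU.sum_mul_conj_eq_zero_of_regular' hM hu hg, sub_zero]
  have h2 := (IsCharacter.sum (prinNT M G)
    fun χ _ => χ.cconj.isCharacter).isGeneralizedCharacter
  obtain ⟨n, hn⟩ := (h2.ordProj_mul_pRegularPart 2).exists_classInner_eq_int
    (IrrCharacter.triv G).isCharacter.isGeneralizedCharacter
  rw [classInner_const_mul_left, ← Sylow.card_eq_multiplicity P] at hn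
  have h3 := congrArg (fun f => classInner f (IrrCharacter.triv G).1) (funext h1)
  simp only [classInner_const_mul_left] at h3
  rw [classInner_sum_left, Finset.sum_eq_single (IrrCharacter.triv G) (fun χ _ hχ => by
    rw [classInner_smul_left, IrrCharacter.classInner_of_ne, mul_zero]
    rwa [Ne, ← IrrCharacter.cconj_triv, IrrCharacter.cconj_involutive.injective.eq_iff])
    (fun h => absurd (mem_irrFinset.2 hM.triv_mem_principalBlock) h), classInner_smul_left,
    IrrCharacter.cconj_triv, IrrCharacter.classInner_self, IrrCharacter.triv_apply, mul_one] at h3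
  have h4 : k * n = Nat.card (P : Subgroup G) := by
    rw [← hn, mul_left_comm, h3, mul_one]
  have h5 := h1 1
  rw [pRegularPart_of_not_dvd (by rw [orderOf_one]; decide)] at h5
  simp only [Finset.sum_apply, Pi.smul_apply, smul_eq_mul, IrrCharacter.cconj_apply,
    IrrCharacter.one_eq_charDegree, map_natCast, ← sq] at h5
  have h6 := constDiff_odd hM he
  obtain ⟨d, hd⟩ := hM.card_sylow_dvd_sum_sq P
  have hq : (Nat.card (P : Subgroup G) : ℂ) ≠ 0 := Nat.cast_ne_zero.2 Nat.card_pos.ne'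
  have h7 : ((∑ χ ∈ prinNT M G,
      charDegree χ.1 : ℕ) : ℤ) = n * d := by
    refine Int.cast_injective (α := ℂ) (mul_left_cancel₀ hq ?_)
    have hd' := congrArg (Nat.cast (R := ℂ)) hd
    push_cast at hd' ⊢
    rw [← h4, mul_right_comm, h5, hd', ← h4]
    ring
  obtain ⟨χ, hχ⟩ : (prinNT M G).Nonempty :=
    Finset.nonempty_of_ne_empty fun h => h6 (by rw [h]; simp)
  have h8 : IsIntegral ℤ k := by
    rw [← hk χ (mem_prinNT.1 hχ).1 (mem_prinNT.1 hχ).2]
    exact (χ.isIntegral _).sub (χ.isIntegral _)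
  have h9 := int_dvd_of_eq_mul_isIntegral (a := Nat.card (P : Subgroup G)) (b := n) h8
    (by rw [mul_comm, h4]; simp)
  obtain ⟨m, hm⟩ := P.isPGroup'.exists_card_eq
  have h10 : n.natAbs = 1 := by
    have h11 : n.natAbs ∣ 2 ^ m := by rwa [← hm, ← Int.natAbs_natCast (Nat.card _),
      Int.natAbs_dvd_natAbs]
    obtain ⟨j, -, hj⟩ := (Nat.dvd_prime_pow Nat.prime_two).1 h11
    rcases j with _ | j
    · exact hj
    · refine absurd ?_ h6
      rw [← Int.natCast_dvd_natCast, h7]
      exact Dvd.dvd.mul_right (Int.natCast_dvd.2 (hj ▸ dvd_pow_self 2 j.succ_ne_zero)) _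
  rcases Int.natAbs_eq_iff.1 h10 with h | h
  · rw [← h4, h]
    simp
  · rw [h] at h7
    refine absurd ?_ h6
    omega

theorem constDiff_sup_eq_top (hk0 : k ≠ 0) (P : Sylow 2 G) (hkP : k = Nat.card (P : Subgroup G))
    (he : 2 ∣ Nat.card G) :
    pPrimeResidual 2 G ⊔ Subgroup.centralizer ((P : Subgroup G) : Set G) = ⊤ := by
  classical
  obtain ⟨L, hL⟩ : ∃ L, L = pPrimeResidual 2 G ⊔ Subgroup.centralizer ((P : Subgroup G) : Set G) :=
    ⟨_, rfl⟩
  have hPK := le_pPrimeResidual_of_isPGroup P.isPGroup'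
  have hn : L.Normal := by
    rw [← Subgroup.normalizer_eq_top_iff, eq_top_iff, ← P.normalizer_sup_eq_top' hPK, hL]
    exact sup_le (le_normalizer_sup' Subgroup.le_normalizer_of_normal
      (normalizer_le_normalizer_centralizer' _)) (le_sup_left.trans Subgroup.le_normalizer)
  have hi : ¬ 2 ∣ L.index := fun h => not_dvd_index_pPrimeResidual (G := G) 2
    (h.trans (Subgroup.index_dvd_of_le (hL ▸ le_sup_left)))
  have h1 : ∀ χ : IrrCharacter G, L ≤ charKer χ.1 → χ ∈ principalBlock M G := fun χ hχ => by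
    refine hM.mem_principalBlock_of_red (fun h => hi (h.trans
      (χ.charDegree_dvd_index_charKer.trans (Subgroup.index_dvd_of_le hχ)))) fun x hx => ?_
    obtain ⟨Q, hQ⟩ := exists_sylow_le_of_not_dvd_index' hx
    obtain ⟨g, rfl⟩ := MulAction.exists_smul_eq G P Q
    have h2 : g⁻¹ * x * g⁻¹⁻¹ ∈ Subgroup.centralizer ((P : Subgroup G) : Set G) :=
      Subgroup.mem_centralizer_iff.2 fun y hy => by
        have h3 := Subgroup.mem_centralizer_singleton_iff.1 (hQ (show g * y * g⁻¹ ∈ _ from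
          Subgroup.smul_mem_pointwise_smul y (MulAut.conj g) _ hy))
        rw [inv_inv, show y * (g⁻¹ * x * g) = g⁻¹ * (g * y * g⁻¹ * x) * g by group, h3]
        group
    rw [← χ.isClassFunction x g⁻¹, χ.mem_charKer.1 (hχ (hL ▸ Subgroup.mem_sup_right h2)),
      div_self χ.one_ne_zero, red_one]
  rw [← hL]
  by_contra hL1
  have h2 := sum_irr_one_mul_le_charKer L 1
  have h3 := sum_irr_one_mul_le_charKer L u
  have h4 : ∑ χ : IrrCharacter G with L ≤ charKer χ.1, χ.1 1 * (χ.1 1 - χ.1 u) =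
      k * (∑ χ ∈ (Finset.univ.filter fun χ : IrrCharacter G => L ≤ charKer χ.1).erase
        (IrrCharacter.triv G), charDegree χ.1 : ℕ) := by
    rw [← Finset.sum_erase (a := IrrCharacter.triv G) _ (by simp), Nat.cast_sum, Finset.mul_sum]
    refine Finset.sum_congr rfl fun χ hχ => ?_
    rw [hk χ (h1 χ (Finset.mem_filter.1 (Finset.mem_of_mem_erase hχ)).2) (Finset.ne_of_mem_erase hχ),
      χ.one_eq_charDegree, mul_comm]
  simp only [mul_sub, Finset.sum_sub_distrib, h2, h3, one_mem, if_true] at h4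
  split_ifs at h4 with h5
  · obtain ⟨g, hg⟩ : ∃ g, g ∉ L := by
      by_contra h
      push Not at h
      exact hL1 ((Subgroup.eq_top_iff' _).2 h)
    rw [mem_iff_forall_charKer] at hg
    push Not at hg
    obtain ⟨χ, hχ, hg⟩ := hg
    refine hk0 ?_
    rw [← hk χ (h1 χ hχ) fun h => hg (by rw [h, IrrCharacter.mem_charKer]; rfl),
      χ.mem_charKer.1 (hχ h5), sub_self]
  · rw [sub_zero, hkP, ← Nat.cast_mul, Nat.cast_inj] at h4
    exact hi (h4 ▸ (P.dvd_card_of_dvd_card he).mul_right _)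

theorem constDiff_apply (hk0 : k ≠ 0) (he : 2 ∣ Nat.card G) {P : Sylow 2 G}
    (ht : pPart 2 u ∈ (P : Subgroup G)) (ht1 : pPart 2 u ≠ 1) [IsMulCommutative (P : Subgroup G)]
    {χ : IrrCharacter G} (hχ : χ ∈ principalBlock M G) (h1 : χ ≠ IrrCharacter.triv G) :
    χ.1 1 - χ.1 (pPart 2 u) = Nat.card (P : Subgroup G) := by
  have hu := pPart_ne_one_iff.1 ht1
  have hkP := constDiff_eq_card hM hk he hu P
  have hq : (Nat.card (P : Subgroup G) : ℂ) ≠ 0 := Nat.cast_ne_zero.2 Nat.card_pos.ne'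
  have hU := (isPBlock_principalBlock (G := G)).isBlockUnion hM
  obtain ⟨l, hl⟩ := exists_unitsHom_ne_one_of_comm (t := (⟨_, ht⟩ : (P : Subgroup G)))
    fun h => ht1 (congrArg Subtype.val h)
  have h2 : ∀ ψ : IrrCharacter G, (Nat.card (P : Subgroup G) : ℂ) * lmul P ψ.1 l =
      ψ.1 1 - ψ.1 (pPart 2 u) := fun ψ => ψ.isCharacter.card_mul_lmul_of_const (fun v hv hv1 =>
    (ψ.isClassFunction.eq_of_isConj (constDiff_isConj hM hk he hk0
      (exists_orderOf_eq_pow_of_mem P.isPGroup' hv) hv1)).symm) fun h => hl (by rw [h]; rfl)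
  have h3 : ∀ ψ ∈ prinNT M G, 1 ≤ lmul P ψ.1 l := fun ψ hψ => by
    refine Nat.pos_of_ne_zero fun h => (mem_prinNT.1 hψ).2 ?_
    have hPK := le_pPrimeResidual_of_isPGroup P.isPGroup'
    refine hM.eq_triv_of_le_charKer (not_dvd_index_pPrimeResidual 2) hPK
      (fun hd => P.not_dvd_index (hd.trans (Subgroup.relIndex_dvd_index_of_le hPK)))
      (constDiff_sup_eq_top hM hk hk0 P hkP he) (mem_prinNT.1 hψ).1 (pPrimeResidual_le fun hd =>
        P.not_dvd_index (hd.trans (Subgroup.index_dvd_of_le fun v hv => ?_)))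
    have h4 := h2 ψ
    rw [h, Nat.cast_zero, mul_zero, eq_comm, sub_eq_zero] at h4
    rw [ψ.mem_charKer]
    by_cases hv1 : v = 1
    · rw [hv1]
    · rw [h4]
      exact (ψ.isClassFunction.eq_of_isConj (constDiff_isConj hM hk he hk0
        (exists_orderOf_eq_pow_of_mem P.isPGroup' hv) hv1)).symm
  have h4 := hU.sum_one_mul_eq_zero hM hu
  have h5 := hU.sum_one_mul_eq_zero hM (g := pPart 2 u) (pPart_ne_one_iff.1 (by rwa [pPart_pPart]))
  have h6 : ∑ ψ ∈ prinNT M G, charDegree ψ.1 * 1 = ∑ ψ ∈ prinNT M G, charDegree ψ.1 * lmul P ψ.1 l := by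
    refine Nat.cast_injective (R := ℂ) (mul_left_cancel₀ hq ?_)
    rw [hM.sum_principal_eq] at h4 h5
    push_cast
    have e1 : ∀ ψ ∈ prinNT M G, (Nat.card (P : Subgroup G) : ℂ) * (charDegree ψ.1 * 1) =
        ψ.1 1 * ψ.1 1 - ψ.1 1 * ψ.1 u := fun ψ hψ => by
      rw [← mul_sub, hk ψ (mem_prinNT.1 hψ).1 (mem_prinNT.1 hψ).2, hkP, ψ.one_eq_charDegree]
      ring
    have e2 : ∀ ψ ∈ prinNT M G, (Nat.card (P : Subgroup G) : ℂ) * (charDegree ψ.1 * lmul P ψ.1 l) =
        ψ.1 1 * ψ.1 1 - ψ.1 1 * ψ.1 (pPart 2 u) := fun ψ hψ => by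
      rw [mul_left_comm, h2, ← mul_sub, ψ.one_eq_charDegree]
    rw [Finset.mul_sum, Finset.mul_sum, Finset.sum_congr rfl e1, Finset.sum_congr rfl e2,
      Finset.sum_sub_distrib, Finset.sum_sub_distrib]
    simp only [IrrCharacter.triv_apply] at h4 h5
    linear_combination h5 - h4
  have h7 := (Finset.sum_eq_sum_iff_of_le fun ψ hψ =>
    Nat.mul_le_mul_left (charDegree ψ.1) (h3 ψ hψ)).1 h6 χ (mem_prinNT.2 ⟨hχ, h1⟩)
  rw [← h2, ← Nat.eq_of_mul_eq_mul_left χ.charDegree_pos h7, Nat.cast_one, mul_one]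

end partA

theorem constDiff_comb {α β : Type*} (I : Finset α) (J : Finset β) (d : α → ℕ) (m : β → α → ℕ)
    (f : β → ℕ) (hd : ∀ a ∈ I, ¬ 2 ∣ d a) (hf : ∀ b ∈ J, f b = ∑ a ∈ I, m b a * d a)
    (h1 : ∀ a ∈ I, ∑ b ∈ J, m b a * (f b - 1) ≤ d a)
    (h2 : ∀ a ∈ I, d a ≠ 1 → ∑ b ∈ J, m b a * (f b - 1) = d a) :
    (∀ a ∈ I, d a = 1) ∧ ∀ b ∈ J, f b ≤ 2 := by
  classical
  have k1 : ∀ b ∈ J, ∀ a ∈ I, m b a ≠ 0 → f b - 1 ≤ d a := fun b hb a ha h =>
    (Nat.le_mul_of_pos_left _ (Nat.pos_of_ne_zero h)).trans ((Finset.single_le_sum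
      (f := fun b => m b a * (f b - 1)) (fun _ _ => Nat.zero_le _) hb).trans (h1 a ha))
  have k2 : ∀ b ∈ J, 3 ≤ f b → ∀ a ∈ I, m b a ≠ 0 → d a = f b := fun b hb h3 a ha h => by
    have e1 := hf b hb
    rw [← Finset.add_sum_erase _ _ ha] at e1
    have e2 := k1 b hb a ha h
    have e3 := Nat.le_mul_of_pos_left (d a) (Nat.pos_of_ne_zero h)
    by_contra e4
    have e5 : m b a = 1 := by
      by_contra e5
      have := Nat.mul_le_mul_right (d a) (show 2 ≤ m b a by omega)
      omega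
    rw [e5] at e1
    obtain ⟨a', ha', e6⟩ := Finset.exists_ne_zero_of_sum_ne_zero (s := I.erase a)
      (f := fun a => m b a * d a) (by omega)
    have e7 := k1 b hb a' (Finset.mem_of_mem_erase ha') (left_ne_zero_of_mul e6)
    have e8 := Finset.single_le_sum (f := fun a => m b a * d a) (fun _ _ => Nat.zero_le _) ha'
    have e9 := Nat.le_mul_of_pos_left (d a') (Nat.pos_of_ne_zero (left_ne_zero_of_mul e6))
    omega
  have k3 : ∀ a ∈ I, d a = 1 := fun a ha => by
    by_contra h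
    have e1 := hd a ha
    have e2 : d a - 1 ∣ d a := by
      conv_rhs => rw [← h2 a ha h]
      refine Finset.dvd_sum fun b hb => ?_
      by_cases e3 : m b a = 0
      · rw [e3, zero_mul]
        exact dvd_zero _
      have e4 := Finset.single_le_sum (f := fun a => m b a * d a) (fun _ _ => Nat.zero_le _) ha
      have e5 := Nat.le_mul_of_pos_left (d a) (Nat.pos_of_ne_zero e3)
      rw [k2 b hb (by have := hf b hb; omega) a ha e3]
      exact dvd_mul_left _ _
    have e3 := (Nat.dvd_add_right dvd_rfl).1 (show d a - 1 ∣ d a - 1 + 1 by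
      rwa [Nat.sub_add_cancel (by omega)])
    have := Nat.le_of_dvd one_pos e3
    omega
  refine ⟨k3, fun b hb => ?_⟩
  by_contra h
  obtain ⟨a, ha, e⟩ := Finset.exists_ne_zero_of_sum_ne_zero (s := I)
    (f := fun a => m b a * d a) (by have := hf b hb; omega)
  have := k2 b hb (by omega) a ha (left_ne_zero_of_mul e)
  have := k3 a ha
  omega

/-- the configuration after the first reductions -/
structure CDiff (M : Ideal AlgInt) (P : Sylow 2 G) (t : G) : Prop where
  hM : IsPModular 2 M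
  mem : t ∈ (P : Subgroup G)
  ne : t ≠ 1
  msq : ∀ v ∈ (P : Subgroup G), v * v = 1
  fus : ∀ v ∈ (P : Subgroup G), v ≠ 1 → IsConj t v
  core : pPrimeCore 2 G = ⊥
  val : ∀ χ ∈ prinNT M G, χ.1 1 - χ.1 t = Nat.card (P : Subgroup G)
  four : 2 < Nat.card (P : Subgroup G)

namespace CDiff

variable {P : Sylow 2 G} {t : G} (H : CDiff M P t)
include H

theorem const (χ : IrrCharacter G) : ∀ v ∈ (P : Subgroup G), v ≠ 1 → χ.1 v = χ.1 t :=
  fun v hv h1 => (χ.isClassFunction.eq_of_isConj (H.fus v hv h1)).symm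

theorem of_mem {v : G} (hv : v ∈ (P : Subgroup G)) (h1 : v ≠ 1) : CDiff M P v :=
  ⟨H.hM, hv, h1, H.msq, fun w hw h2 => (H.fus v hv h1).symm.trans (H.fus w hw h2), H.core,
    fun χ hχ => H.const χ v hv h1 ▸ H.val χ hχ, H.four⟩

theorem comm : IsMulCommutative (P : Subgroup G) := isMulCommutative_of_mul_self H.msq

theorem q_ne : (Nat.card (P : Subgroup G) : ℂ) ≠ 0 := Nat.cast_ne_zero.2 Nat.card_pos.ne'

theorem pElt : ∃ k, orderOf t = 2 ^ k := exists_orderOf_eq_pow_of_mem P.isPGroup' H.mem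

theorem two_dvd : 2 ∣ orderOf t := pPart_ne_one_iff.1 (by
  rw [pPart_eq_self_iff.2 H.pElt]; exact H.ne)

theorem lmul_le {χ : IrrCharacter G} (hχ : χ ∈ principalBlock M G) {l : (P : Subgroup G) →* ℂˣ}
    (hl : l ≠ 1) : lmul P χ.1 l ≤ 1 := by
  have h1 := χ.isCharacter.card_mul_lmul_of_const (H.const χ) hl
  by_cases h : χ = IrrCharacter.triv G
  · rw [h, IrrCharacter.triv_apply, IrrCharacter.triv_apply, sub_self, mul_eq_zero,
      Nat.cast_eq_zero, Nat.cast_eq_zero] at h1
    rw [h, h1.resolve_left Nat.card_pos.ne']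
    exact zero_le_one
  · rw [H.val χ (mem_prinNT.2 ⟨hχ, h⟩), mul_eq_left₀ H.q_ne, Nat.cast_eq_one] at h1
    exact h1.le

theorem apply_eq {χ : IrrCharacter G} (hχ : χ ∈ prinNT M G) :
    χ.1 t = (fixDim (P : Subgroup G) χ.1 : ℂ) - 1 := by
  have h1 := χ.isCharacter.card_mul_fixDim_of_const (H.const χ)
  refine mul_left_cancel₀ H.q_ne ?_
  linear_combination -h1 - H.val χ hχ

theorem degree_eq {χ : IrrCharacter G} (hχ : χ ∈ prinNT M G) :
    charDegree χ.1 + 1 = Nat.card (P : Subgroup G) + fixDim (P : Subgroup G) χ.1 := by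
  have h1 := H.val χ hχ
  rw [H.apply_eq hχ, χ.one_eq_charDegree] at h1
  refine Nat.cast_injective (R := ℂ) ?_
  push_cast
  linear_combination h1

theorem isConj_of_sq {z : G} (hz : z * z = 1) (h1 : z ≠ 1) : IsConj t z := by
  obtain ⟨g, hg⟩ := exists_conj_mem_sylow P (g := z)
    ⟨1, orderOf_eq_prime (p := 2) (by rw [sq, hz]) h1⟩
  exact (H.fus _ hg (by simpa using h1)).trans (isConj_iff.2 ⟨g, rfl⟩).symm

theorem charKer_eq_bot {χ : IrrCharacter G} (hχ : χ ∈ prinNT M G) : charKer χ.1 = ⊥ := by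
  rw [eq_bot_iff, ← H.core]
  refine le_pPrimeCore_of_not_dvd inferInstance fun hd => ?_
  obtain ⟨z, hz⟩ := exists_prime_orderOf_dvd_card' 2 hd
  have h1 := H.isConj_of_sq (z := z) (by
    rw [← sq, ← hz, ← Subgroup.coe_pow, pow_orderOf_eq_one, OneMemClass.coe_one])
    fun h => by rw [show z = 1 from Subtype.ext h, orderOf_one] at hz; exact absurd hz (by decide)
  have h2 := H.val χ hχ
  rw [χ.isClassFunction.eq_of_isConj h1, χ.mem_charKer.1 z.2, sub_self] at h2
  exact H.q_ne h2.symm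

theorem exists_fixDim_eq_zero : ∃ χ ∈ prinNT M G, fixDim (P : Subgroup G) χ.1 = 0 := by
  by_contra h
  push Not at h
  have h1 := ((isPBlock_principalBlock (G := G)).isBlockUnion H.hM).sum_one_mul_eq_zero H.hM
    H.two_dvd
  rw [H.hM.sum_principal_eq, Finset.sum_congr rfl fun χ hχ => show _ =
      ((charDegree χ.1 * (fixDim (P : Subgroup G) χ.1 - 1) : ℕ) : ℂ) by
    rw [H.apply_eq hχ, χ.one_eq_charDegree, Nat.cast_mul,
      Nat.cast_sub (Nat.pos_of_ne_zero (h χ hχ)), Nat.cast_one], IrrCharacter.triv_apply,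
    IrrCharacter.triv_apply, mul_one, add_comm, ← Nat.cast_sum, ← Nat.cast_succ,
    Nat.cast_eq_zero] at h1
  exact Nat.succ_ne_zero _ h1

theorem centralizer_le : Subgroup.centralizer ((P : Subgroup G) : Set G) ≤ P := by
  classical
  have := H.comm
  obtain ⟨χ, hχ, h0⟩ := H.exists_fixDim_eq_zero
  obtain ⟨N, hN⟩ : ∃ N, N = Subgroup.normalizer ((P : Subgroup G) : Set G) := ⟨_, rfl⟩
  have := Fintype.ofFinite N
  have := Fintype.ofFinite (pPrimeCore 2 N)
  have := Fintype.ofFinite (P : Subgroup G)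
  have hPN : (P : Subgroup G) ≤ N := hN ▸ Subgroup.le_normalizer
  have hn : ((P : Subgroup G).subgroupOf N).Normal :=
    Subgroup.normal_subgroupOf_of_le_normalizer hN.le
  have hd := H.degree_eq hχ
  have hr := χ.isCharacter.res N
  obtain ⟨θ, hθ, hθ'⟩ : ∃ θ : N → ℂ, IsCharacter N θ ∧
      ∀ g : N, ∑ s : pPrimeCore 2 N, χ.1 (g * s : N) = Nat.card (pPrimeCore 2 N) * θ g := by
    refine ⟨_, IsCharacter.sum (Finset.univ.filter fun ξ : IrrCharacter N => pPrimeCore 2 N ≤
      charKer ξ.1) fun ξ _ => ξ.isCharacter.nsmul (cmult (fun n : N => χ.1 n) ξ.1), fun g => ?_⟩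
    rw [hr.avg_normal_eq, Finset.sum_apply]
  have hO : (Nat.card (pPrimeCore 2 N) : ℂ) ≠ 0 := Nat.cast_ne_zero.2 Nat.card_pos.ne'
  have h1 : θ 1 = fixDim (pPrimeCore 2 N) fun n : N => χ.1 n := by
    refine mul_left_cancel₀ hO ?_
    simp only [← hθ', hr.card_mul_fixDim, one_mul]
  have h2 : ∑ v : (P : Subgroup G), extendByZero N θ v = 0 := by
    refine mul_left_cancel₀ hO ?_
    rw [Finset.mul_sum, Finset.sum_congr rfl fun (v : (P : Subgroup G)) _ => by
      rw [extendByZero_of_mem _ _ (hPN v.2), ← hθ'], Finset.sum_comm, mul_zero]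
    exact Finset.sum_eq_zero fun s _ => χ.isCharacter.sum_mul_eq_zero_of_fixDim h0 _
  rw [sum_subgroup_of_const (c := θ ⟨t, hPN H.mem⟩) fun v hv hv1 => by
    obtain ⟨g, hg⟩ := isConj_iff.1 (H.fus v hv hv1)
    obtain ⟨n, hn, e⟩ := P.conj_eq_normalizer_conj_of_mem t g⁻¹ H.mem (by rwa [inv_inv, hg])
    rw [inv_inv, hg] at e
    rw [extendByZero_of_mem _ _ (hPN hv), ← hθ.isClassFunction ⟨t, hPN H.mem⟩ (⟨n, hN ▸ hn⟩ : N)⁻¹]
    exact congrArg θ (Subtype.ext (by simpa using e)), extendByZero_of_mem _ _ (one_mem _)] at h2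
  have h3 : Nat.card (P : Subgroup G) - 1 ∣ fixDim (pPrimeCore 2 N) fun n : N => χ.1 n := by
    rw [← Int.natCast_dvd_natCast]
    refine int_dvd_of_eq_mul_isIntegral (hθ.isIntegral ⟨t, hPN H.mem⟩).neg ?_
    rw [Nat.cast_sub Nat.card_pos]
    push_cast
    rw [← h1]
    linear_combination h2
  have h4 : (fixDim (pPrimeCore 2 N) fun n : N => χ.1 n) ≠ 0 := fun h => by
    have := H.hM.charP
    have h5 := hr.card_mul_fixDim (pPrimeCore 2 N)
    have h6 := congrArg (red M) h5
    rw [h, Nat.cast_zero, mul_zero, red_zero, red_sum _ fun s _ => χ.mem_valO _,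
      Finset.sum_congr rfl fun (s : pPrimeCore 2 N) _ => show _ = (charDegree χ.1 : resK M) by
        obtain ⟨k1, k2⟩ := H.hM.red_div_eq_one_of_mem_principalBlock (mem_prinNT.1 hχ).1
          (x := (s : N)) fun hd => P.not_dvd_index (hd.trans (Subgroup.index_dvd_of_le fun y hy =>
            Subgroup.mem_centralizer_singleton_iff.2 (congrArg Subtype.val
              (Subgroup.mem_centralizer_iff.1 (pPrimeCore_le_centralizer_pCore 2 s.2) ⟨y, hPN hy⟩
                (le_pCore hn (isPGroup_subgroupOf P.isPGroup' _) hy)))))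
        rw [← div_mul_cancel₀ (χ.1 (s : N)) χ.one_ne_zero, red_mul k1 (χ.mem_valO _), k2, one_mul,
          χ.one_eq_charDegree, red_natCast],
      Finset.sum_const, Finset.card_univ, ← Nat.card_eq_fintype_card, nsmul_eq_mul, ← Nat.cast_mul,
      eq_comm, CharP.cast_eq_zero_iff (resK M) 2, Nat.prime_two.dvd_mul] at h6
    refine h6.elim (not_dvd_card_pPrimeCore 2) fun h7 => ?_
    have h8 := H.two_dvd.trans (Subgroup.orderOf_dvd_natCard _ H.mem)
    omega
  have h5 : pPrimeCore 2 N ≤ charKer fun n : N => χ.1 n := by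
    refine hr.le_charKer_of_fixDim_eq (le_antisymm ?_ ?_)
    · have := hr.fixDim_anti (bot_le : ⊥ ≤ pPrimeCore 2 N)
      refine this.trans (le_of_eq (Nat.cast_injective (R := ℂ) ?_))
      have h6 := hr.card_mul_fixDim ⊥
      rw [Fintype.sum_subsingleton _ 1] at h6
      simpa [χ.one_eq_charDegree, charDegree_res] using h6
    · have := Nat.le_of_dvd (Nat.pos_of_ne_zero h4) h3
      rw [charDegree_res]
      omega
  intro x hx
  have h6 : pRegPart 2 x = 1 := by
    have h7 := (hasNormalPComplement_iff_forall_mem_pPrimeCore.1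
      (hasNormalPComplement_centralizer_sylow P)) ⟨_, pRegPart_mem 2 hx⟩
      (by rw [← Subgroup.orderOf_coe]; exact not_dvd_orderOf_pRegPart x)
    obtain ⟨s, hs, e⟩ := map_pPrimeCore_centralizer_le_map_pPrimeCore_normalizer (p := 2)
      (P : Subgroup G) ⟨_, h7, rfl⟩
    subst hN
    have h8 := h5 hs
    rw [χ.isCharacter.charKer_res, H.charKer_eq_bot hχ, Subgroup.mem_subgroupOf,
      Subgroup.mem_bot] at h8
    exact e.symm.trans h8
  exact mem_sylow_of_mem_normalizer (Subgroup.centralizer_le_normalizer _ hx)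
    (pRegPart_eq_one_iff.1 h6)

theorem le_cent : (P : Subgroup G) ≤ Subgroup.centralizer {t} := fun _ hx =>
  have := H.comm
  Subgroup.mem_centralizer_singleton_iff.2 (setLike_mul_comm hx H.mem)

theorem isPSolvable_aux : IsPSolvable 2 (Subgroup.centralizer ({t} : Set G)) := by
  have hle := H.le_cent
  have := Fintype.ofFinite ((P : Subgroup G).subgroupOf (Subgroup.centralizer ({t} : Set G)))
  have h1 : ∀ ψ ∈ principalBlock M (Subgroup.centralizer ({t} : Set G)), ∀ l, l ≠ 1 →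
      lmul ((P : Subgroup G).subgroupOf _) ψ.1 l ≤ 1 := fun ψ hψ l hl => by
    obtain ⟨χ, hχ, h⟩ := H.hM.lmul_subtype_le P hle hψ
    refine (h l).trans (H.lmul_le hχ fun e => hl (MonoidHom.ext fun x => ?_))
    simpa using DFunLike.congr_fun e (Subgroup.subgroupOfEquivOfLe hle x)
  refine H.hM.isPSolvable_of_multFree _ _ (P.subtype hle) rfl
    (fun v hv => Subtype.ext (H.msq v hv)) ?_ fun ψ hψ l => ?_
  · rw [Sylow.coe_subtype, centralizer_subgroupOf hle]
    exact fun x hx => H.centralizer_le hx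
  by_cases hl : l = 1
  swap
  · exact h1 ψ hψ l hl
  have h2 : (⟨t, hle H.mem⟩ : Subgroup.centralizer ({t} : Set G)) ∉ commutator _ := fun h => by
    have h3 := commutator_inf_center_inf_sylow_le (P.subtype hle) ⟨⟨h, Subgroup.mem_center_iff.2
      fun g => Subtype.ext (Subgroup.mem_centralizer_singleton_iff.1 g.2)⟩, H.mem⟩
    rw [Subgroup.commutator_eq_bot_iff_le_centralizer.2 fun x hx =>
      Subgroup.mem_centralizer_iff.2 fun y hy => Subtype.ext (by
        have := H.comm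
        exact setLike_mul_comm (s := (P : Subgroup G)) hy hx)] at h3
    exact H.ne (congrArg Subtype.val h3)
  obtain ⟨f, -, hf⟩ := exists_unitsHom_le_ker_ne_one le_rfl h2
  obtain ⟨m, hm⟩ := exists_pPart_eq_pow 2 (Subgroup.centralizer ({t} : Set G))
  have h3 : ψ.twist (f ^ m) ∈ principalBlock M (Subgroup.centralizer ({t} : Set G)) :=
    (isPBlock_principalBlock.mem_iff_sameBlock H.hM hψ _).2 (H.hM.sameBlock_of_eq_on_pRegular fun g hg => by
      rw [IrrCharacter.twist_apply, MonoidHom.pow_apply, ← map_pow, ← hm, pPart_eq_one_iff.2 hg,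
        map_one, Units.val_one, one_mul])
  refine le_of_eq_of_le (Nat.cast_injective (R := ℂ) ?_) (h1 _ h3 ((f ^ m).comp (Subgroup.subtype _))
    fun e => hf ?_)
  · subst hl
    change (lmul ((P : Subgroup G).subgroupOf (Subgroup.centralizer ({t} : Set G))) ψ.1 1 : ℂ) = _
    rw [IsCharacter.cast_lmul (IrrCharacter.isCharacter _),
      IsCharacter.cast_lmul (IrrCharacter.isCharacter _), classInner_def, classInner_def]
    refine congrArg _ (Finset.sum_congr rfl fun x _ => ?_)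
    simp only [IrrCharacter.ofHom_apply, IrrCharacter.twist_apply, conj_unitsHom, map_inv,
      MonoidHom.comp_apply, Subgroup.coe_subtype, MonoidHom.one_apply, Units.val_one, map_one, mul_one,
      Units.val_inv_eq_inv_val]
    field_simp
  · have h4 := DFunLike.congr_fun e ⟨⟨t, hle H.mem⟩, H.mem⟩
    rwa [MonoidHom.comp_apply, Subgroup.coe_subtype, MonoidHom.pow_apply, ← map_pow, ← hm, pPart_eq_self_iff.2
      (by rw [← Subgroup.orderOf_coe]; exact H.pElt)] at h4

theorem isPSolvable (v : G) (hv : v ∈ (P : Subgroup G)) (h1 : v ≠ 1) :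
    IsPSolvable 2 (Subgroup.centralizer ({v} : Set G)) := (H.of_mem hv h1).isPSolvable_aux

theorem degrees : (∀ a ∈ Subgroup.normalizer ((P : Subgroup G) : Set G),
    ∀ b ∈ Subgroup.normalizer ((P : Subgroup G) : Set G), a * b * a⁻¹ * b⁻¹ ∈ (P : Subgroup G)) ∧
    ∀ χ ∈ prinNT M G, fixDim (P : Subgroup G) χ.1 ≤ 2 := by
  classical
  have := H.comm
  have := Fintype.ofFinite (Subgroup.normalizer ((P : Subgroup G) : Set G))
  have hPN : (P : Subgroup G) ≤ _ := Subgroup.le_normalizer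
  have hn : ((P : Subgroup G).subgroupOf (Subgroup.normalizer ((P : Subgroup G) : Set G))).Normal :=
    Subgroup.normal_subgroupOf_of_le_normalizer le_rfl
  have hV : ∀ β : IrrCharacter (Subgroup.normalizer ((P : Subgroup G) : Set G)),
      (P : Subgroup G).subgroupOf _ ≤ charKer β.1 →
      (if β = IrrCharacter.triv _ then 1 else 0) + ∑ χ ∈ prinNT M G,
        cmult (fun n : Subgroup.normalizer ((P : Subgroup G) : Set G) => χ.1 n) β.1 *
          (fixDim (P : Subgroup G) χ.1 - 1) = charDegree β.1 := fun β hβ => by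
    have h1 := H.hM.sum_classInner_normalizer' H.centralizer_le H.mem H.isPSolvable_aux
      β.isClassFunction
    rw [H.hM.sum_principal_eq, β.mem_charKer.1 (hβ (show (⟨t, hPN H.mem⟩ :
      Subgroup.normalizer ((P : Subgroup G) : Set G)) ∈ _ from H.mem)), β.one_eq_charDegree] at h1
    refine Nat.cast_injective (R := ℂ) (Eq.trans ?_ h1)
    push_cast
    congr 1
    · rw [IrrCharacter.triv_apply, mul_one]
      exact (β.classInner_eq (IrrCharacter.triv _)).symm
    refine Finset.sum_congr rfl fun χ hχ => ?_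
    rw [← conj_classInner, ← (χ.isCharacter.res _).cast_cmult β.isCharacter, map_natCast,
      H.apply_eq hχ]
    by_cases h0 : fixDim (P : Subgroup G) χ.1 = 0
    · rw [← fixDim_subgroupOf hPN χ.isCharacter, (χ.isCharacter.res _).fixDim_eq_sum_filter,
        Finset.sum_eq_zero_iff] at h0
      rw [(mul_eq_zero.1 (h0 β (Finset.mem_filter.2 ⟨Finset.mem_univ _, hβ⟩))).resolve_right
        β.charDegree_pos.ne', Nat.cast_zero, zero_mul, zero_mul]
    · rw [Nat.cast_sub (Nat.pos_of_ne_zero h0), Nat.cast_one]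
  obtain ⟨h1, h2⟩ := constDiff_comb (Finset.univ.filter fun β : IrrCharacter
      (Subgroup.normalizer ((P : Subgroup G) : Set G)) => (P : Subgroup G).subgroupOf _ ≤ charKer β.1)
    (prinNT M G) (fun β => charDegree β.1) (fun χ β =>
      cmult (fun n : Subgroup.normalizer ((P : Subgroup G) : Set G) => χ.1 n) β.1)
    (fun χ => fixDim (P : Subgroup G) χ.1) (fun β hβ hd => not_dvd_relIndex_of_le (U := ⊤) hPN le_top
      (by rw [Subgroup.relIndex_top_right]; exact P.not_dvd_index)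
      (hd.trans (β.charDegree_dvd_index_charKer.trans
        (Subgroup.index_dvd_of_le (Finset.mem_filter.1 hβ).2))))
    (fun χ _ => by
      rw [← fixDim_subgroupOf hPN χ.isCharacter, (χ.isCharacter.res _).fixDim_eq_sum_filter])
    (fun β hβ => le_of_le_of_eq (Nat.le_add_left _ _) (hV β (Finset.mem_filter.1 hβ).2))
    (fun β hβ h => by
      rw [← hV β (Finset.mem_filter.1 hβ).2, if_neg fun e => h (by
        rw [e]; exact IrrCharacter.charDegree_triv), zero_add])
  refine ⟨fun a ha b hb => ?_, h2⟩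
  have h3 : (⟨a, ha⟩ * ⟨b, hb⟩ * ⟨a, ha⟩⁻¹ * ⟨b, hb⟩⁻¹ :
      Subgroup.normalizer ((P : Subgroup G) : Set G)) ∈ (P : Subgroup G).subgroupOf _ := by
    rw [mem_iff_forall_charKer]
    exact fun β hβ => (IrrCharacter.charDegree_eq_one_iff_commutator_le β).1
      (h1 β (Finset.mem_filter.2 ⟨Finset.mem_univ _, hβ⟩))
      (Subgroup.commutator_mem_commutator (Subgroup.mem_top _) (Subgroup.mem_top _))
  exact h3

theorem exists_conj {v : G} (hv : v ∈ (P : Subgroup G)) (h1 : v ≠ 1) :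
    ∃ n ∈ Subgroup.normalizer ((P : Subgroup G) : Set G), v = n⁻¹ * t * n := by
  have := H.comm
  obtain ⟨g, hg⟩ := isConj_iff.1 (H.fus v hv h1)
  obtain ⟨n, hn, e⟩ := P.conj_eq_normalizer_conj_of_mem t g⁻¹ H.mem (by rwa [inv_inv, hg])
  exact ⟨n, hn, by rwa [inv_inv, hg] at e⟩

theorem mem_of_commute {x : G} (hx : x ∈ Subgroup.normalizer ((P : Subgroup G) : Set G))
    (h : x * t = t * x) : x ∈ (P : Subgroup G) := by
  have := H.comm
  refine H.centralizer_le (Subgroup.mem_centralizer_iff.2 fun v hv => ?_)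
  by_cases h1 : v = 1
  · simp [h1]
  obtain ⟨n, hn, rfl⟩ := H.exists_conj hv h1
  have h2 := setLike_mul_comm (H.degrees.1 n hn x hx) H.mem
  calc n⁻¹ * t * n * x = n⁻¹ * (t * (n * x * n⁻¹ * x⁻¹)) * x * n := by group
    _ = n⁻¹ * (n * x * n⁻¹ * x⁻¹) * (t * x) * n := by rw [← h2]; group
    _ = x * (n⁻¹ * t * n) := by rw [← h]; group

theorem hasNormalPComplement : HasNormalPComplement 2 (Subgroup.centralizer ({t} : Set G)) := by
  have := H.comm
  refine hasNormalPComplement_centralizer_of_frob (fun y hy h1 => le_antisymm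
    (fun x hx => Subgroup.le_centralizer _ ((H.of_mem hy h1).mem_of_commute hx.2
      (Subgroup.mem_centralizer_singleton_iff.1 hx.1))) (le_inf
        (Subgroup.centralizer_le (Set.singleton_subset_iff.2 hy))
        (Subgroup.centralizer_le_normalizer _))) H.mem H.ne

theorem centralizer_eq : Subgroup.centralizer ({t} : Set G) = P := by
  classical
  have := H.comm
  have hle := H.le_cent
  obtain ⟨O, hO⟩ : ∃ O, O = (pPrimeCore 2 (Subgroup.centralizer ({t} : Set G))).map
    (Subgroup.subtype _) := ⟨_, rfl⟩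
  have hO1 : ∀ s, s ∈ O ↔ s * t = t * s ∧ ¬ 2 ∣ orderOf s := fun s => by
    rw [hO]
    constructor
    · rintro ⟨s, hs, rfl⟩
      exact ⟨Subgroup.mem_centralizer_singleton_iff.1 s.2, by
        rw [Subgroup.coe_subtype, Subgroup.orderOf_coe]; exact not_dvd_orderOf_of_mem_pPrimeCore hs⟩
    · exact fun h => ⟨⟨s, Subgroup.mem_centralizer_singleton_iff.2 h.1⟩,
        hasNormalPComplement_iff_forall_mem_pPrimeCore.1 H.hasNormalPComplement _
          (by rw [← Subgroup.orderOf_coe]; exact h.2), rfl⟩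
  suffices h : O = ⊥ by
    refine le_antisymm (fun x hx => ?_) hle
    have h1 := (hasNormalPComplement_iff_sup_sylow (P.subtype hle)).1 H.hasNormalPComplement
    rw [hO, Subgroup.map_eq_bot_iff_of_injective _ (Subgroup.subtype_injective _)] at h
    rw [h, bot_sup_eq] at h1
    exact (h1.ge (Subgroup.mem_top (⟨x, hx⟩ : Subgroup.centralizer ({t} : Set G))) :)
  by_contra hO0
  have hone : ∀ s : G, ¬ 2 ∣ orderOf s → s * s = 1 → s = 1 := fun s h1 h2 => by
    by_contra h
    exact h1 (orderOf_eq_prime (p := 2) (by rw [sq, h2]) h).symm.dvd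
  obtain ⟨Q, ⟨hQP, hQ⟩, hmax⟩ := exists_maximal_of_wellFoundedGT (fun Q : Subgroup G =>
    Q ≤ P ∧ O ⊓ Subgroup.centralizer (Q : Set G) ≠ ⊥) ⟨⊥, bot_le, by
      rwa [Subgroup.centralizer_eq_top_iff_subset.2 (bot_le (a := Subgroup.center G)), inf_top_eq]⟩
  have h1 : ∀ w ∈ (P : Subgroup G), ∀ s ∈ O ⊓ Subgroup.centralizer (Q : Set G), s ≠ 1 →
      w * s = s * w → w ∈ Q := fun w hw s hs hs1 h => by
    refine hmax (y := Q ⊔ Subgroup.zpowers w) ⟨sup_le hQP (Subgroup.zpowers_le.2 hw), fun e => hs1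
      (Subgroup.mem_bot.1 (e ▸ ⟨hs.1, ?_⟩))⟩ le_sup_left
      (Subgroup.mem_sup_right (Subgroup.mem_zpowers w))
    refine Subgroup.le_centralizer_iff.1 (sup_le (Subgroup.le_centralizer_iff.1
      (Subgroup.zpowers_le.2 hs.2)) (Subgroup.zpowers_le.2 ?_)) (Subgroup.mem_zpowers s)
    exact Subgroup.mem_centralizer_iff.2 fun y hy => by
      obtain ⟨k, rfl⟩ := hy
      exact ((show Commute w s from h).zpow_right k).symm
  have h2 : ∀ w ∈ (P : Subgroup G), w ∉ Q → ∀ s ∈ O ⊓ Subgroup.centralizer (Q : Set G),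
      w * s * w⁻¹ = s⁻¹ := fun w hw hwQ s hs => by
    have h3 : ∀ s ∈ O ⊓ Subgroup.centralizer (Q : Set G),
        w * s * w⁻¹ ∈ O ⊓ Subgroup.centralizer (Q : Set G) := fun s hs => by
      refine ⟨(hO1 _).2 ⟨?_, by
        rw [← MulAut.conj_apply, MulEquiv.orderOf_eq]; exact ((hO1 s).1 hs.1).2⟩,
        Subgroup.mem_centralizer_iff.2 fun y hy => ?_⟩
      · exact ((show Commute w t from setLike_mul_comm hw H.mem).mul_left
          ((hO1 s).1 hs.1).1).mul_left (show Commute w⁻¹ t from setLike_mul_comm (inv_mem hw) H.mem)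
      · exact (((show Commute y w from setLike_mul_comm (hQP hy) hw).mul_right
          (Subgroup.mem_centralizer_iff.1 hs.2 y hy)).mul_right
            (show Commute y w⁻¹ from setLike_mul_comm (hQP hy) (inv_mem hw)))
    let φ : ↥(O ⊓ Subgroup.centralizer (Q : Set G)) →* ↥(O ⊓ Subgroup.centralizer (Q : Set G)) :=
      ((MulAut.conj w).toMonoidHom.comp (O ⊓ Subgroup.centralizer (Q : Set G)).subtype).codRestrict
        (O ⊓ Subgroup.centralizer (Q : Set G)) fun s => h3 s s.2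
    have hφ : ∀ s, (φ s : G) = w * s * w⁻¹ := fun _ => rfl
    have h4 := MonoidHom.FixedPointFree.coe_eq_inv_of_involutive (φ := φ) (fun s e => by
      by_contra h
      exact hwQ (h1 w hw s s.2 (fun e' => h (Subtype.ext e'))
        (mul_inv_eq_iff_eq_mul.1 (congrArg Subtype.val e)))) fun s => Subtype.ext (by
      rw [hφ, hφ, show w * (w * s * w⁻¹) * w⁻¹ = (w * w) * s * (w * w)⁻¹ by group, H.msq w hw]
      simp)
    exact congrArg Subtype.val (congrFun h4 ⟨s, hs⟩)
  obtain ⟨⟨s, hs⟩, hs1⟩ := Subgroup.ne_bot_iff_exists_ne_one.1 hQ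
  have hs1' : s ≠ 1 := fun e => hs1 (Subtype.ext e)
  have hso := ((hO1 s).1 hs.1).2
  obtain ⟨w, hw, hwQ⟩ : ∃ w ∈ (P : Subgroup G), w ∉ Q := by
    by_contra h
    push Not at h
    exact hs1' (hone s hso (H.msq s (H.centralizer_le (Subgroup.centralizer_le h hs.2))))
  have h3 : Q.relIndex P = 2 := Subgroup.relIndex_eq_two_iff.2 ⟨w, hw, fun b hb => by
    by_cases h : b ∈ Q
    · exact Or.inr ⟨h, fun e => hwQ ((mul_mem_cancel_left h).1 e)⟩
    · refine Or.inl ⟨h1 _ (mul_mem hb hw) s hs hs1' (mul_inv_eq_iff_eq_mul.1 ?_), h⟩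
      rw [show b * w * s * (b * w)⁻¹ = b * (w * s * w⁻¹) * b⁻¹ by group, h2 w hw hwQ s hs,
        h2 b hb h _ (inv_mem hs), inv_inv]⟩
  have h4 := card_mul_relIndex hQP
  rw [h3] at h4
  obtain ⟨χ, hχ, h0⟩ := H.exists_fixDim_eq_zero
  have h5 := H.apply_eq hχ
  have h6 := H.degree_eq hχ
  rw [h0] at h5 h6
  have hq : (Nat.card Q : ℂ) ≠ 0 := Nat.cast_ne_zero.2 Nat.card_pos.ne'
  have h7 : χ.1 1 + 1 = Nat.card Q * 2 := by
    rw [χ.one_eq_charDegree]
    exact_mod_cast h6.trans h4.symm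
  have hPC : (P : Subgroup G) ≤ Subgroup.centralizer (Q : Set G) := fun x hx =>
    Subgroup.mem_centralizer_iff.2 fun y hy => setLike_mul_comm (hQP hy) hx
  have hn : (Q.subgroupOf (Subgroup.centralizer (Q : Set G))).Normal :=
    Subgroup.normal_subgroupOf_of_le_normalizer (Subgroup.centralizer_le_normalizer _)
  have := Fintype.ofFinite (Q.subgroupOf (Subgroup.centralizer (Q : Set G)))
  have := Fintype.ofFinite Q
  obtain ⟨β, -, hβ⟩ := (χ.isCharacter.res _).exists_hom_of_fixDim_eq_one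
    (Q := Q.subgroupOf (Subgroup.centralizer (Q : Set G))) (by
      rw [fixDim_subgroupOf (hQP.trans hPC) χ.isCharacter]
      have := χ.isCharacter.card_mul_fixDim_of_const fun v hv => H.const χ v (hQP hv)
      refine Nat.cast_injective (R := ℂ) (mul_left_cancel₀ hq ?_)
      rw [this, h5]
      push_cast
      linear_combination h7)
  have h8 : β ⟨s, hs.2⟩ = 1 := by
    have e1 : β ⟨s, hs.2⟩ = β ⟨s, hs.2⟩⁻¹ := by
      rw [show (⟨s, hs.2⟩⁻¹ : Subgroup.centralizer (Q : Set G)) = ⟨w, hPC hw⟩ * ⟨s, hs.2⟩ *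
        ⟨w, hPC hw⟩⁻¹ from Subtype.ext (h2 w hw hwQ s hs).symm, map_mul, map_mul, map_inv,
        mul_inv_cancel_comm]
    obtain ⟨k, hk⟩ := Nat.odd_iff.2 (Nat.two_dvd_ne_zero.1 hso)
    have e2 : β ⟨s, hs.2⟩ ^ 2 = 1 := by
      rw [sq]
      nth_rewrite 1 [e1]
      rw [map_inv, inv_mul_cancel]
    have e3 : β ⟨s, hs.2⟩ ^ orderOf s = 1 := by
      rw [← map_pow, show (⟨s, hs.2⟩ : Subgroup.centralizer (Q : Set G)) ^ orderOf s = 1 from
        Subtype.ext (pow_orderOf_eq_one s), map_one]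
    rwa [hk, pow_succ, pow_mul, e2, one_pow, one_mul] at e3
  have h9 := hβ ⟨s, hs.2⟩
  rw [h8, card_subgroupOf_of_le (hQP.trans hPC), show ∑ u : Q.subgroupOf
      (Subgroup.centralizer (Q : Set G)), χ.1 ((⟨s, hs.2⟩ * u : Subgroup.centralizer (Q : Set G)) : G)
      = ∑ u : Q, χ.1 (s * u) from Equiv.sum_comp
        (Subgroup.subgroupOfEquivOfLe (hQP.trans hPC)).toEquiv fun u : Q => χ.1 (s * u),
    sum_subgroup_of_const (f := fun u => χ.1 (s * u)) (c := χ.1 t) fun v hv hv1 => by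
      have e := (show Commute v s from Subgroup.mem_centralizer_iff.1 hs.2 v hv)
      refine H.hM.apply_eq_of_hasNormalPComplement rfl H.hasNormalPComplement (mem_prinNT.1 hχ).1 ?_
      rw [← e.eq, pPart_mul_of_commute e (exists_orderOf_eq_pow_of_mem P.isPGroup' (hQP hv)) hso]
      exact H.fus v (hQP hv) hv1, h5] at h9
  refine hs1' (Subgroup.mem_bot.1 (H.charKer_eq_bot hχ ▸ χ.mem_charKer.2 ?_))
  simp only [mul_one, Units.val_one, Nat.cast_zero] at h9
  linear_combination h9 - h7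

theorem card_eq : Nat.card G + Nat.card (P : Subgroup G) = Nat.card (P : Subgroup G) ^ 3 := by
  classical
  have hq := H.q_ne
  have hC := H.centralizer_eq
  have hti : t⁻¹ = t := inv_eq_of_mul_eq_one_right (H.msq t H.mem)
  have hr : ∀ χ : IrrCharacter G, conj (χ.1 t) = χ.1 t := fun χ => by rw [← χ.apply_inv, hti]
  have h1 := H.hM.sum_principalBlock_mul_conj_of_hasNormalPComplement H.pElt rfl
    H.hasNormalPComplement
  obtain ⟨n, hn⟩ := P.isPGroup'.exists_card_eq
  rw [hC, hn, Nat.prime_two.factorization_pow, Finsupp.single_eq_same, ← hn] at h1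
  have h2 := sum_irr_mul_conj t t
  rw [if_pos (IsConj.refl t), hC, ← Finset.sum_add_sum_compl (irrFinset (principalBlock M G)), h1,
    add_eq_left] at h2
  have h3 : ∀ χ ∈ (irrFinset (principalBlock M G))ᶜ, χ.1 t = 0 := by
    simp only [Complex.mul_conj, ← Complex.ofReal_sum, Complex.ofReal_eq_zero] at h2
    intro χ hχ
    exact Complex.normSq_eq_zero.1 ((Finset.sum_eq_zero_iff_of_nonneg fun _ _ =>
      Complex.normSq_nonneg _).1 h2 χ hχ)
  have h4 := ((isPBlock_principalBlock (G := G)).isBlockUnion H.hM).sum_one_mul_eq_zero H.hM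
    H.two_dvd
  rw [H.hM.sum_principal_eq, Finset.sum_congr rfl fun χ hχ => show χ.1 1 * χ.1 t =
      (Nat.card (P : Subgroup G) : ℂ) * χ.1 t + χ.1 t * χ.1 t by rw [← H.val χ hχ]; ring,
    Finset.sum_add_distrib, ← Finset.mul_sum] at h4
  simp only [hr] at h1
  rw [H.hM.sum_principal_eq] at h1
  have h5 := card_isConj_mul_isConj_eq t t t
  have h6 : ((Nat.card (P : Subgroup G) : ℂ) ^ 2 - 1) *
      ∑ χ : IrrCharacter G, χ.1 t * χ.1 t * conj (χ.1 t) / χ.1 1 =
        Nat.card (P : Subgroup G) * (Nat.card (P : Subgroup G) - 2) := by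
    rw [← Finset.sum_add_sum_compl (irrFinset (principalBlock M G)), Finset.sum_eq_zero
      (s := (irrFinset (principalBlock M G))ᶜ) fun χ hχ => by rw [h3 χ hχ]; simp, add_zero,
      H.hM.sum_principal_eq, mul_add, Finset.mul_sum, Finset.sum_congr rfl fun χ hχ =>
        show _ = (Nat.card (P : Subgroup G) : ℂ) * χ.1 t - χ.1 t * χ.1 t by
      have e1 := H.val χ hχ
      have e2 := H.apply_eq hχ
      have e3 := H.degrees.2 χ hχ
      rw [hr, mul_div_assoc', div_eq_iff χ.one_ne_zero, eq_add_of_sub_eq e1, e2]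
      generalize fixDim (P : Subgroup G) χ.1 = f at *
      interval_cases f <;> push_cast <;> ring, Finset.sum_sub_distrib, ← Finset.mul_sum]
    simp only [IrrCharacter.triv_apply, map_one] at h1 h4 ⊢
    linear_combination h4 - 2 * h1
  have h7 : Nat.card {p : G × G // IsConj t p.1 ∧ IsConj t p.2 ∧ p.1 * p.2 = t} + 2 =
      Nat.card (P : Subgroup G) := by
    have := Fintype.ofFinite (P : Subgroup G)
    have k1 : ∀ a, IsConj t a → a * a = 1 ∧ a ≠ 1 := fun a ha => by
      obtain ⟨g, rfl⟩ := isConj_iff.1 ha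
      exact ⟨by rw [conj_mul, H.msq t H.mem]; simp, by simpa using H.ne⟩
    have e : {p : G × G // IsConj t p.1 ∧ IsConj t p.2 ∧ p.1 * p.2 = t} ≃
        {a : (P : Subgroup G) // a ∉ ({1, ⟨t, H.mem⟩} : Finset (P : Subgroup G))} :=
      { toFun := fun x => ⟨⟨x.1.1, by
          obtain ⟨⟨a, b⟩, ha, hb, h⟩ := x
          rw [← hC, Subgroup.mem_centralizer_singleton_iff]
          change a * t = t * a
          change a * b = t at h
          nth_rewrite 2 [← hti]
          rw [← h, mul_inv_rev, inv_mul_cancel_right, ← mul_assoc, (k1 a ha).1, one_mul,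
            inv_eq_of_mul_eq_one_right (k1 b hb).1]⟩, by
          obtain ⟨⟨a, b⟩, ha, hb, h⟩ := x
          simp only [Finset.mem_insert, Finset.mem_singleton, Subtype.ext_iff, not_or]
          exact ⟨(k1 a ha).2, fun e => (k1 b hb).2 (mul_left_cancel (a := a) (by
            rw [mul_one]; exact h.trans e.symm))⟩⟩
        invFun := fun a => ⟨(a.1, (a.1 : G)⁻¹ * t), by
          obtain ⟨⟨a, ha⟩, h⟩ := a
          simp only [Finset.mem_insert, Finset.mem_singleton, Subtype.ext_iff, not_or] at h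
          exact ⟨H.fus a ha h.1, H.fus _ (mul_mem (inv_mem ha) H.mem) fun e =>
            h.2 (inv_mul_eq_one.1 e), mul_inv_cancel_left _ _⟩⟩
        left_inv := fun x => Subtype.ext (Prod.ext rfl (inv_mul_eq_iff_eq_mul.2 x.2.2.2.symm))
        right_inv := fun a => rfl }
    rw [Nat.card_congr e, Nat.card_eq_fintype_card, Fintype.card_subtype_compl, Fintype.card_coe,
      Finset.card_pair fun h => H.ne (congrArg Subtype.val h).symm, ← Nat.card_eq_fintype_card]
    have := H.four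
    omega
  have h8 := congrArg (Nat.cast (R := ℂ)) h7
  have h9 := congrArg (Nat.cast (R := ℂ)) (P : Subgroup G).card_mul_index
  have h10 : (Nat.card (P : Subgroup G) : ℂ) - 2 ≠ 0 := by
    rw [sub_ne_zero]
    exact_mod_cast H.four.ne'
  have h11 : ((P : Subgroup G).index : ℂ) ≠ 0 := Nat.cast_ne_zero.2 Subgroup.index_ne_zero_of_finite
  push_cast at h8 h9
  rw [hC, ← h9, eq_sub_of_add_eq h8] at h5
  refine Nat.cast_injective (R := ℂ) (mul_left_cancel₀ h10 ?_)
  push_cast
  rw [← h9]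
  generalize ∑ χ : IrrCharacter G, χ.1 t * χ.1 t * conj (χ.1 t) / χ.1 1 = S at h5 h6
  field_simp at h5
  linear_combination ((P : Subgroup G).index : ℂ) * (-h6) - ((Nat.card (P : Subgroup G) : ℂ) ^ 2 - 1) * h5

theorem smul (g : G) : CDiff M (g • P) (g * t * g⁻¹) := by
  have h1 : ∀ v ∈ ((g • P : Sylow 2 G) : Subgroup G), g⁻¹ * v * g ∈ (P : Subgroup G) := fun v hv => by
    simpa using Subgroup.mem_pointwise_smul_iff_inv_smul_mem.1 hv
  have h2 : Nat.card ((g • P : Sylow 2 G) : Subgroup G) = Nat.card (P : Subgroup G) := by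
    rw [Sylow.card_eq_multiplicity, Sylow.card_eq_multiplicity]
  refine ⟨H.hM, Subgroup.smul_mem_pointwise_smul t (MulAut.conj g) _ H.mem, by simpa using H.ne,
    fun v hv => ?_, fun v hv hv1 => ?_, H.core, fun χ hχ => ?_, h2 ▸ H.four⟩
  · simpa [mul_assoc] using congrArg (fun x => g * x * g⁻¹) (H.msq _ (h1 v hv))
  · refine (isConj_iff.2 ⟨g, rfl⟩).symm.trans ((H.fus _ (h1 v hv) fun e => hv1 ?_).trans
      (isConj_iff.2 ⟨g, by group⟩))
    simpa [mul_assoc] using congrArg (fun x => g * x * g⁻¹) e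
  · rw [h2, χ.isClassFunction, H.val χ hχ]

theorem eq_of_smul_eq {R : Sylow 2 G} (h : t • R = R) : R = P := by
  obtain ⟨g, rfl⟩ := MulAction.exists_smul_eq G P R
  have h1 := mem_sylow_of_mem_normalizer (Sylow.smul_eq_iff_mem_normalizer.1 h) H.pElt
  exact Sylow.ext ((((H.smul g).of_mem h1 H.ne).centralizer_eq).symm.trans H.centralizer_eq)

theorem card_sylow : Nat.card (Sylow 2 G) = Nat.card (P : Subgroup G) + 1 := by
  have h1 := MulAction.index_stabilizer (Subgroup.normalizer ((P : Subgroup G) : Set G))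
    (⟨t, H.mem⟩ : (P : Subgroup G))
  have h2 : MulAction.stabilizer (Subgroup.normalizer ((P : Subgroup G) : Set G))
      (⟨t, H.mem⟩ : (P : Subgroup G)) = (P : Subgroup G).subgroupOf _ := by
    ext n
    rw [MulAction.mem_stabilizer_iff, Subtype.ext_iff, coe_normalizer_smul, mul_inv_eq_iff_eq_mul,
      Subgroup.mem_subgroupOf, ← Subgroup.mem_centralizer_singleton_iff, H.centralizer_eq]
  have h3 : MulAction.orbit (Subgroup.normalizer ((P : Subgroup G) : Set G))
      (⟨t, H.mem⟩ : (P : Subgroup G)) = {1}ᶜ := by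
    ext v
    constructor
    · rintro ⟨n, rfl⟩ h
      have e : (n : G) * t * (n : G)⁻¹ = 1 := congrArg Subtype.val h
      exact H.ne (by simpa using e)
    · intro h
      obtain ⟨n, hn, e⟩ := H.exists_conj v.2 fun e => h (Subtype.ext e)
      exact ⟨⟨n, hn⟩⁻¹, Subtype.ext (show n⁻¹ * t * n⁻¹⁻¹ = v by rw [inv_inv, e])⟩
  have h4 := Set.ncard_add_ncard_compl ({1} : Set (P : Subgroup G))
  rw [h2, h3] at h1
  rw [Set.ncard_singleton, ← h1] at h4
  have h5 := Subgroup.relIndex_mul_index (Subgroup.le_normalizer (H := (P : Subgroup G)))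
  have h6 := (P : Subgroup G).card_mul_index
  have h7 := H.card_eq
  have h8 := H.four
  rw [show (Subgroup.normalizer ((P : Subgroup G) : Set G)).index = Nat.card (Sylow 2 G) from
    P.card_eq_index_normalizer.symm, Subgroup.relIndex] at h5
  rw [← h6, ← h5, ← h4] at h7
  rw [← h4] at h8 ⊢
  generalize ((P : Subgroup G).subgroupOf (Subgroup.normalizer ((P : Subgroup G) : Set G))).index = a
    at h7 h8 ⊢
  refine Nat.eq_of_mul_eq_mul_left (show 0 < (1 + a) * a from Nat.mul_pos (by omega) (by omega)) ?_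
  nlinarith

theorem eq_one_of_fixed {g : G} {R R' : Sylow 2 G} (h : g • P = P) (hR : g • R = R)
    (hR' : g • R' = R') (h1 : R ≠ P) (h2 : R' ≠ P) (h3 : R ≠ R') : g = 1 := by
  have hfree : ∀ v ∈ (P : Subgroup G), ∀ S : Sylow 2 G, S ≠ P → v • S = S → v = 1 :=
    fun v hv S hS e => by
      by_contra hv1
      exact hS ((H.of_mem hv hv1).eq_of_smul_eq e)
  have hne : ∀ v ∈ (P : Subgroup G), v • R ≠ P := fun v hv e => h1 (by
    rw [← inv_smul_smul v R, e]
    exact Sylow.smul_eq_iff_mem_normalizer.2 (Subgroup.le_normalizer (inv_mem hv)))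
  have hb : Function.Bijective fun v : (P : Subgroup G) => (⟨(v : G) • R, hne v v.2⟩ : {S // S ≠ P}) :=
    (Nat.bijective_iff_injective_and_card _).2 ⟨fun v w e => by
      have e1 : (v : G) • R = (w : G) • R := congrArg Subtype.val e
      have := hfree _ (mul_mem (inv_mem w.2) v.2) R h1 (by rw [mul_smul, e1, inv_smul_smul])
      exact Subtype.ext (inv_mul_eq_one.1 this).symm, by
      have := card_subtype_ne_add_one P
      rw [H.card_sylow] at this
      omega⟩
  obtain ⟨⟨v, hv⟩, e⟩ := hb.2 ⟨R', h2⟩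
  obtain rfl : v • R = R' := congrArg Subtype.val e
  have hv1 : v ≠ 1 := fun e => h3 (by rw [e, one_smul])
  have h4 := hfree (v⁻¹ * (g * v * g⁻¹)) (mul_mem (inv_mem hv)
    ((Subgroup.mem_normalizer_iff.1 (Sylow.smul_eq_iff_mem_normalizer.1 h) v).1 hv)) R h1 (by
      rw [mul_smul, mul_smul, inv_smul_eq_iff.2 hR.symm, mul_smul, hR', inv_smul_smul])
  rw [inv_mul_eq_one, eq_mul_inv_iff_mul_eq] at h4
  refine hfree g ?_ R h1 hR
  rw [← (H.of_mem hv hv1).centralizer_eq, Subgroup.mem_centralizer_singleton_iff]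
  exact h4.symm

theorem eq_one_of_card_fixedBy {g : G} (h : 3 ≤ Nat.card (MulAction.fixedBy (Sylow 2 G) g)) :
    g = 1 := by
  obtain ⟨a, b, c, ha, hb, hc, h1, h2, h3⟩ := (Set.two_lt_ncard_iff (Set.toFinite _)).1
    (show 2 < (MulAction.fixedBy (Sylow 2 G) g).ncard from h)
  obtain ⟨x, rfl⟩ := MulAction.exists_smul_eq G P a
  exact (H.smul x).eq_one_of_fixed ha hb hc h1.symm h2.symm h3

theorem exists_iso : ∃ (F : Type) (_ : Field F) (_ : Fintype F) (n : ℕ), 2 ≤ n ∧
    Fintype.card F = 2 ^ n ∧ Nonempty (G ≃* Matrix.SpecialLinearGroup (Fin 2) F) := by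
  classical
  have := Fintype.ofFinite (Sylow 2 G)
  have hα := H.card_sylow
  have h4 := H.four
  have hinj : Function.Injective (MulAction.toPermHom G (Sylow 2 G)) := by
    rw [injective_iff_map_eq_one]
    intro g hg
    refine H.eq_one_of_card_fixedBy ?_
    rw [show MulAction.fixedBy (Sylow 2 G) g = Set.univ from
      Set.eq_univ_of_forall fun a => DFunLike.congr_fun hg a, Nat.card_univ, hα]
    omega
  have h2 : ∀ g : (MulAction.toPermHom G (Sylow 2 G)).range,
      3 ≤ Nat.card (MulAction.fixedBy (Sylow 2 G) g) → g = 1 := by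
    rintro ⟨_, g, rfl⟩ hg
    exact Subtype.ext (by rw [H.eq_one_of_card_fixedBy (g := g) hg]; exact map_one _)
  obtain ⟨n, hn⟩ := P.isPGroup'.exists_card_eq
  have hn2 : 2 ≤ n := by
    by_contra h
    have := Nat.pow_le_pow_right two_pos (show n ≤ 1 by omega)
    omega
  rw [Nat.card_eq_fintype_card] at hα
  obtain ⟨a, -, ha, F, _, _, hF, ⟨e⟩⟩ := Agent.S4702.result (by omega) (by
      rw [hα, hn]
      exact (Nat.even_pow.2 ⟨even_two, by omega⟩).add_one) _
    (isMultiplyPretransitive_three_of_card (by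
      have h5 := H.card_eq
      rw [← Nat.card_congr (MonoidHom.ofInjective hinj).toEquiv, H.card_sylow]
      obtain ⟨m, hm⟩ : ∃ m, Nat.card (P : Subgroup G) = m + 1 := ⟨_, (Nat.sub_add_cancel (by omega)).symm⟩
      rw [hm] at h5 ⊢
      simp only [Nat.add_sub_cancel, show m + 1 + 1 - 2 = m by omega]
      nlinarith) h2) h2
  refine ⟨F, _, _, a, ?_, hF, ⟨(MonoidHom.ofInjective hinj).trans e⟩⟩
  rwa [← Nat.pow_right_injective le_rfl (show 2 ^ n = 2 ^ a by omega)]

end CDiff

end Cfsg
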