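import Cfsg.Agent.Blk.CycFourF

/-! Blocks whose defect groups have an abelian subgroup `C_{2m} × C_2` of index two. -/

set_option autoImplicit false

namespace Cfsg

open scoped ComplexConjugate MonoidAlgebra

universe u v w

/-- a conjugation invariant relation distinguishing the central involutions -/
structure CIR {G : Type u} [Group G] {P : Subgroup G} (k y : P) (α β : P →* ℤˣ)
    (R : P → P → Prop) : Prop where
  inv : ∀ (g : G) (a b a' b' : P), Cj g a a' → Cj g b b' → R a b → R a' b'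
  symm : ∀ a b, R a b → R b a
  rk : ∀ b, R k b ↔ α b = 1
  rc : ∀ b, R (k * y) b ↔ β b = 1
  ry : ∀ b, R y b ↔ α b = β b

/-- the setup, `q` being the involution of the derived subgroup -/
structure CIS {G : Type u} [Group G] {P : Subgroup G} (x y t v q : P) (m : ℕ) (α β : P →* ℤˣ)
    (R : P → P → Prop) : Prop extends CIA x y t v m α β, CIR (x ^ m) y α β R where
  q_sq : q * q = 1
  q_ne : q ≠ 1
  q_comm : ∃ c d, q = c * d * c⁻¹ * d⁻¹
  q_K : ∀ k ∈ Subgroup.zpowers (x * x * v), k * k = 1 → k = 1 ∨ k = q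

variable {M : Ideal AlgInt} {G : Type u} [Group G] {B : Set (IrrCharacter G)}
  {P : Subgroup G} {e : (resK M)[G]} {g : G} {x y t v q : P} {m : ℕ} {α β : P →* ℤˣ}
  {R : P → P → Prop}

/-- `u` is not fused to a central element -/
def CenFree (e : (resK M)[G]) (u : P) : Prop :=
  ∀ z ∈ Subgroup.center P, ¬ PairFuse 2 P e (u : G) z

theorem centralizer_mul_of_mem_center {z : G} (hz : z ∈ Subgroup.center G) (u : G) :
    Subgroup.centralizer {u * z} = Subgroup.centralizer {u} := by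
  ext a
  simp only [Subgroup.mem_centralizer_singleton_iff]
  rw [mul_assoc, mul_comm_of_mem_center hz a, ← mul_assoc, ← mul_assoc, mul_left_inj]

namespace CIS
variable (h : CIS x y t v q m α β R)
include h

theorem mul_y_mul_y (a b : P) : a * y * (b * y) = a * b := by
  rw [mul_assoc, ← mul_assoc y, mul_comm_of_mem_center h.y_cen, mul_assoc, h.y_sq, mul_one]

theorem mul_t' : CIS x y (t * y) v q m α β R where
  __ := h.toCIA.mul_t
  __ := h.toCIR
  q_sq := h.q_sq
  q_ne := h.q_ne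
  q_comm := h.q_comm
  q_K := h.q_K

theorem mul_x' : CIS (x * y) y t v q m α β R where
  __ := h.toCIA.mul_x
  __ := (h.mul_y_pow ▸ h.toCIR : CIR ((x * y) ^ m) y α β R)
  q_sq := h.q_sq
  q_ne := h.q_ne
  q_comm := h.q_comm
  q_K := by rw [h.mul_y_sq]; exact h.q_K

theorem q_mem : q ∈ Subgroup.zpowers (x * x * v) := by
  obtain ⟨c, d, rfl⟩ := h.q_comm
  exact h.comm_mem c d

theorem q_cen : q ∈ Subgroup.center P := h.cen_of_sq (h.α_K h.q_mem) h.q_sq

theorem y_ne_q : y ≠ q := fun h1 => h.y_notMem_K (h1 ▸ h.q_mem)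

theorem cen_four {a : P} (ha : a ∈ Subgroup.center P) : a = 1 ∨ a = q ∨ a = y ∨ a = q * y := by
  rcases h.mem_K_or (h.α_cen ha) (h.β_cen ha) with h1 | h1
  · exact (h.q_K a h1 (h.sq_cen ha)).imp_right Or.inl
  · rcases h.q_K _ h1 (by rw [h.mul_y_sq, h.sq_cen ha]) with h2 | h2 <;>
      rw [eq_mul_inv_of_mul_eq h2, inv_eq_of_mul_eq_one_right h.y_sq] <;> simp

theorem cen_four' {a c : P} (hc : c ∈ Subgroup.center P) (h1 : c ≠ 1) (h2 : c ≠ q)
    (ha : a ∈ Subgroup.center P) : a = 1 ∨ a = q ∨ a = c ∨ a = q * c := by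
  rcases ((h.cen_four hc).resolve_left h1).resolve_left h2 with rfl | rfl
  · exact h.cen_four ha
  · rw [← mul_assoc, h.q_sq, one_mul]
    have := h.cen_four ha
    tauto

theorem α_of_rel {a b s : P} (ha : a ∈ Subgroup.center P) (hb : b ∈ Subgroup.center P)
    (ha1 : a ≠ 1) (hb1 : b ≠ 1) (hab : a ≠ b) (h1 : R a s) (h2 : R b s) : α s = 1 := by
  rcases (h.invol (h.α_cen ha) (h.sq_cen ha)).resolve_left ha1 with rfl | rfl | rfl
  · exact (h.rk s).1 h1
  all_goals rcases (h.invol (h.α_cen hb) (h.sq_cen hb)).resolve_left hb1 with rfl | rfl | rfl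
  · exact (h.rk s).1 h2
  · exact absurd rfl hab
  · rw [(h.ry s).1 h1, (h.rc s).1 h2]
  · exact (h.rk s).1 h2
  · rw [(h.ry s).1 h2, (h.rc s).1 h1]
  · exact absurd rfl hab

theorem exists_rad {u : P} (hu : α u = -1) : ∃ c ∈ Subgroup.center P, c ≠ 1 ∧ c ≠ x ^ m ∧
    ∀ b, u * b = b * u → R c b := by
  rcases Int.units_eq_one_or (β u) with h1 | h1
  · refine ⟨x ^ m * y, mul_mem h.k_cen h.y_cen, fun h2 => h.y_not ?_, by simpa using h.y_ne_one,
      fun b hb => (h.rc b).2 ?_⟩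
    · rw [eq_inv_of_mul_eq_one_right h2]; exact inv_mem (pow_mem (Subgroup.mem_zpowers x) m)
    · rcases h.cen_or_of_commute hu hb with h2 | ⟨z, h2, rfl⟩
      exacts [h.β_cen h2, by simp [h1, h.β_cen h2]]
  · refine ⟨y, h.y_cen, h.y_ne_one, fun h2 => h.y_not (h2 ▸ pow_mem (Subgroup.mem_zpowers x) m),
      fun b hb => (h.ry b).2 ?_⟩
    rcases h.cen_or_of_commute hu hb with h2 | ⟨z, h2, rfl⟩ <;>
      simp [h1, hu, h.β_cen h2, h.α_cen h2]

theorem αβ_of_fix (hg : ∀ z ∈ Subgroup.center P, Cj g z z) {a b : P} (hab : Cj g a b) :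
    α b = α a ∧ β b = β a := by
  have h1 : ∀ z ∈ Subgroup.center P, R z b ↔ R z a := fun z hz =>
    ⟨h.inv _ _ _ _ _ (hg z hz).symm hab.symm, h.inv _ _ _ _ _ (hg z hz) hab⟩
  have h2 := h1 _ h.k_cen
  have h3 := h1 _ (mul_mem h.k_cen h.y_cen)
  rw [h.rk, h.rk] at h2
  rw [h.rc, h.rc] at h3
  constructor
  · rcases Int.units_eq_one_or (α a) with h4 | h4 <;> rw [h4] at h2 ⊢
    exacts [h2.2 rfl, intUnits_ne_one.1 fun h5 => by simpa using h2.1 h5]
  · rcases Int.units_eq_one_or (β a) with h4 | h4 <;> rw [h4] at h3 ⊢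
    exacts [h3.2 rfl, intUnits_ne_one.1 fun h5 => by simpa using h3.1 h5]

theorem comm_of_notMem {u a b : P} (hu : u ∉ Subgroup.center P) (ha : u * a = a * u)
    (hb : u * b = b * u) : a * b = b * a := by
  rcases Int.units_eq_one_or (α u) with h1 | h1
  · have h2 := h.centralizer_eq h1 fun h2 => hu (h.cen_of_sq h1 h2)
    exact h.comm (h2.le (Subgroup.mem_centralizer_singleton_iff.2 ha.symm))
      (h2.le (Subgroup.mem_centralizer_singleton_iff.2 hb.symm))
  · rcases h.cen_or_of_commute h1 ha with h2 | ⟨z, h2, rfl⟩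
    · exact mul_comm_of_mem_center h2 b
    · exact Commute.mul_left hb (mul_comm_of_mem_center h2 b)

variable [Fintype G] (S : StarSetup 2 M B P e)
include S

theorem eq_of_fuse {a b : P} (ha : a ∈ Subgroup.center P) (hb : b ∈ Subgroup.center P)
    (hab : PairFuse 2 P e (a : G) b) : a = b := by
  refine S.eq_of_fuse_of_four h.q_sq (fun g hg => ?_) ha hb (h.cen_four ha) (h.cen_four hb) hab
  obtain ⟨c, d, hq⟩ := h.q_comm
  have h1 := fun a : P => (Subgroup.mem_normalizer_iff.1 hg a).1 a.2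
  have h2 : Cj g q (⟨_, h1 c⟩ * ⟨_, h1 d⟩ * (⟨_, h1 c⟩ : P)⁻¹ * (⟨_, h1 d⟩ : P)⁻¹) := by
    rw [hq, Cj]; push_cast; group
  rwa [(h.q_K _ (h.comm_mem _ _) (h2.sq_iff.2 h.q_sq)).resolve_left fun h3 =>
    h.q_ne ((h3 ▸ h2).inj cj_one)] at h2

theorem α_of_fuse {a b : P} (ha : α a = 1) (h2 : a * a ≠ 1) (hab : PairFuse 2 P e (a : G) b) :
    α b = 1 := by
  by_contra hb
  have h3 := (h.sq_of_ne (intUnits_ne_one.1 hb)
    (mt (mul_self_eq_one_iff_of_orderOf_eq hab.orderOf_eq).2 h2)).2.2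
  have h4 := S.fuse_mul_self hab
  rw [h3] at h4
  exact h.sq_ne_y ha (h.eq_of_fuse S (h.cen_of_sq (by simp [ha])
    ((mul_self_eq_one_iff_of_orderOf_eq h4.orderOf_eq).2 h.y_sq)) h.y_cen h4)

theorem fix_or {u : P} (hu : u ∉ Subgroup.center P)
    (hg : FHom 2 P e (P ⊓ Subgroup.centralizer {(u : G)}) g) :
    (∀ z ∈ Subgroup.center P, Cj g z z) ∨ ∃ c s q', c ∈ Subgroup.center P ∧ c ≠ 1 ∧ c ≠ q ∧
      Cj g c c ∧ Cj g q q' ∧ α q' = -1 ∧ Cj g s q ∧ α s = -1 ∧ s * u = u * s := by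
  have him : ∀ a : P, a * u = u * a → ∃ b, Cj g a b ∧ PairFuse 2 P e (a : G) b := fun a ha =>
    S.exists_cj hg (coe_mem_inf_centralizer.2 ha)
  have hfix : ∀ z ∈ Subgroup.center P, ∀ z', Cj g z z' → α z' = 1 → z' = z := fun z hz z' h1 h2 =>
    (h.eq_of_fuse S hz (h.cen_of_sq h2 (h1.sq_iff.2 (h.sq_cen hz))) (S.fuse_of_cj hg
      (coe_mem_inf_centralizer.2 (mul_comm_of_mem_center hz u)) h1)).symm
  refine or_iff_not_imp_left.2 fun hall => ?_
  push Not at hall
  obtain ⟨z, hz, hz1⟩ := hall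
  obtain ⟨z', h1, h2⟩ := him z (mul_comm_of_mem_center hz u)
  have h3 : α z' = -1 := intUnits_ne_one.1 fun h3 => hz1 (hfix z hz z' h1 h3 ▸ h1)
  obtain ⟨u', h4, h5⟩ := him u rfl
  have h6 := h1.comm h4 (mul_comm_of_mem_center hz u)
  have h7 : u * u = 1 := by_contra fun h7 => by
    have h8 := mt h4.sq_iff.1 h7
    rcases Int.units_eq_one_or (α u') with h9 | h9
    · exact h8 (h.sq_of_commute h3 h9 h6)
    · rcases h.cen_or_of_commute h9 h6.symm with h10 | ⟨w, h10, rfl⟩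
      · simpa [h3] using h.α_cen h10
      · have h11 := h1.sq_iff.2 (h.sq_cen hz)
        rw [mul_assoc, ← mul_assoc w, mul_comm_of_mem_center h10, mul_assoc, h.sq_cen h10,
          mul_one] at h11
        exact h8 h11
  have h8 : α u = -1 := intUnits_ne_one.1 fun h8 => hu (h.cen_of_sq h8 h7)
  have key : ∀ a a' b : P, Cj g a a' → α a' = -1 → a * u = u * a → b * u = u * b →
      ∃ b₁ b', (b₁ = b ∨ b₁ = b * a) ∧ Cj g b₁ b' ∧ α b' = 1 := fun a a' b h9 h10 h11 h12 => by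
    obtain ⟨b', h13, -⟩ := him b h12
    rcases Int.units_eq_one_or (α b') with h14 | h14
    exacts [⟨_, _, Or.inl rfl, h13, h14⟩, ⟨_, _, Or.inr rfl, h13.mul h9, by simp [h14, h10]⟩]
  have hsq : ∀ c ∈ Subgroup.center P, ∀ b, b = u ∨ b = u * c → b * b = 1 ∧ α b = -1 ∧
      b * u = u * b := by
    rintro c hc _ (rfl | rfl)
    · exact ⟨h7, h8, rfl⟩
    · refine ⟨?_, by simp [h8, h.α_cen hc], by rw [mul_assoc, mul_comm_of_mem_center hc]⟩
      rw [mul_assoc, ← mul_assoc c, mul_comm_of_mem_center hc, mul_assoc, h.sq_cen hc, mul_one, h7]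
  obtain ⟨c, hc, hc1, hc2, hc3⟩ := h.exists_rad h8
  obtain ⟨c', h9, -⟩ := him c (mul_comm_of_mem_center hc u)
  have h10 : α c' = 1 := by_contra fun h10 => by
    obtain ⟨b₁, b₁', a1, a2, a3⟩ := key c c' _ h9 (intUnits_ne_one.1 h10)
      (mul_comm_of_mem_center hc u) (mul_comm_of_mem_center h.k_cen u)
    obtain ⟨b₂, b₂', a4, a5, a6⟩ := key c c' u h9 (intUnits_ne_one.1 h10)
      (mul_comm_of_mem_center hc u) rfl
    have a7 : b₁ ∈ Subgroup.center P := by
      rcases a1 with rfl | rfl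
      exacts [h.k_cen, mul_mem h.k_cen hc]
    obtain ⟨a8, a9, a10⟩ := hsq c hc b₂ a4
    refine h10 (h.α_of_rel (h.cen_of_sq a3 (a2.sq_iff.2 (h.sq_cen a7)))
      (h.cen_of_sq a6 (a5.sq_iff.2 a8)) (fun a11 => ?_) (fun a11 => ?_) (fun a11 => ?_)
      (h.symm _ _ (h.inv _ _ _ _ _ h9 a2 (hc3 _ (mul_comm_of_mem_center a7 u).symm)))
      (h.symm _ _ (h.inv _ _ _ _ _ h9 a5 (hc3 _ a10.symm))))
    · rcases a1 with rfl | rfl
      · exact h.k_ne_one ((a11 ▸ a2).inj cj_one)
      · exact hc2 ((eq_inv_of_mul_eq_one_right ((a11 ▸ a2).inj cj_one)).trans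
          (inv_eq_of_mul_eq_one_right h.k_sq))
    · simp [(a11 ▸ a5).inj cj_one] at a9
    · simp [← (a11 ▸ a2).inj a5, h.α_cen a7] at a9
  obtain rfl := hfix c hc c' h9 h10
  have h11 : c' ≠ q := by
    rintro rfl
    have h11 := S.fuse_trans (S.fuse_trans h2 (S.fuse_of_isConj (h.isConj_mul h3 h.q_mem)))
      (S.fuse_of_cj hg (coe_mem_inf_centralizer.2 (mul_comm_of_mem_center (mul_mem hc hz) u))
        (h9.mul h1)).symm
    exact hc1 (mul_eq_right.1 (h.eq_of_fuse S hz (mul_mem hc hz) h11).symm)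
  obtain ⟨q', h12, -⟩ := him q (mul_comm_of_mem_center h.q_cen u)
  have h13 : α q' = -1 := intUnits_ne_one.1 fun h13 => hz1 (by
    obtain rfl := hfix q h.q_cen q' h12 h13
    rcases h.cen_four' hc hc1 h11 hz with rfl | rfl | rfl | rfl
    exacts [cj_one, h12, h9, h12.mul h9])
  obtain ⟨s, w, a1, a2, a3⟩ := key q q' u h12 h13 (mul_comm_of_mem_center h.q_cen u) rfl
  obtain ⟨a4, a5, a6⟩ := hsq q h.q_cen s a1
  rcases h.cen_four' hc hc1 h11 (h.cen_of_sq a3 (a2.sq_iff.2 a4)) with rfl | rfl | rfl | rfl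
  · simp [a2.inj cj_one] at a5
  · exact ⟨c', s, q', hc, hc1, h11, h9, h12, h13, a2, a5, a6⟩
  · simp [a2.inj h9, h10] at a5
  · exact ⟨c', s * c', q', hc, hc1, h11, h9, h12, h13,
      by simpa [mul_assoc, h.sq_cen hc] using a2.mul h9, by simp [a5, h10],
      Commute.mul_left a6 (mul_comm_of_mem_center hc u)⟩

theorem fix_of_free {u : P} (hu : CenFree e u)
    (hg : FHom 2 P e (P ⊓ Subgroup.centralizer {(u : G)}) g) :
    ∀ z ∈ Subgroup.center P, Cj g z z := by
  have h0 : u ∉ Subgroup.center P := fun h0 => hu u h0 (S.fuse_of_isConj (IsConj.refl u))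
  refine (h.fix_or S h0 hg).resolve_right ?_
  rintro ⟨c, s, q', h1, h2, h3, h4, h5, h6, h7, h8, h9⟩
  have h10 := fun a b => S.fuse_of_cj (a := a) (b := b) hg
  obtain ⟨z, hz, rfl⟩ := (h.cen_or_of_commute h8 h9).resolve_left h0
  have h11 : ∀ w ∈ Subgroup.center P, Cj g w w → PairFuse 2 P e ((s * w : P) : G) (q * w : P) :=
    fun w hw h11 => h10 _ _ (coe_mem_inf_centralizer.2
      (Commute.mul_left h9 (mul_comm_of_mem_center hw _))) (h7.mul h11)
  have h12 : ∀ w ∈ Subgroup.center P, IsConj (s * w) (s * (q * w)) := fun w hw => by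
    rw [← mul_assoc, ← mul_comm_of_mem_center h.q_cen s, mul_assoc]
    exact h.isConj_mul (by simp [h8, h.α_cen hw]) h.q_mem
  rcases h.cen_four' h1 h2 h3 hz with rfl | rfl | rfl | rfl
  · exact hu _ (mul_mem h.q_cen hz) (h11 1 hz cj_one)
  · exact hu _ (mul_mem hz (one_mem _)) (S.fuse_trans (S.fuse_of_isConj
      (by simpa using (h12 1 (one_mem _)).symm)) (h11 1 (one_mem _) cj_one))
  · exact hu _ (mul_mem h.q_cen hz) (h11 z hz h4)
  · exact hu _ (mul_mem h.q_cen h1) (S.fuse_trans (S.fuse_of_isConj (h12 c h1).symm) (h11 c h1 h4))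

theorem not_fuse_both {s : P} (hs : α s = -1) (h1 : PairFuse 2 P e (s : G) q) :
    ¬ PairFuse 2 P e ((s * y : P) : G) q := fun h2 => by
  obtain ⟨g, h3, hg⟩ := S.exists_fHom_of_central h1 h.q_cen
  rcases h.fix_or S (fun h4 => by simpa [hs] using h.α_cen h4) hg with h4 |
    ⟨c, -, -, a1, a2, a3, a4, -⟩
  · simpa [hs, ← h3.inj (h4 q h.q_cen)] using h.α_cen h.q_cen
  have h4 := S.fuse_of_cj hg (coe_mem_inf_centralizer.2
    (Commute.mul_left rfl (mul_comm_of_mem_center a1 s))) (h3.mul a4)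
  have h5 : IsConj (s * y) (s * c) := by
    rcases ((h.cen_four a1).resolve_left a2).resolve_left a3 with rfl | rfl
    · exact IsConj.refl _
    · rw [← mul_assoc, ← mul_comm_of_mem_center h.q_cen s, mul_assoc]
      exact h.isConj_mul (by simp [hs, h.αy]) h.q_mem
  exact a2 (mul_eq_left.1 (h.eq_of_fuse S h.q_cen (mul_mem h.q_cen a1)
    (S.fuse_trans h2.symm (S.fuse_trans (S.fuse_of_isConj h5) h4))).symm)

theorem α_eq_of_free {u w : P} (hu : CenFree e u) (hw : PairFuse 2 P e (u : G) w) :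
    α w = α u := by
  have key : ∀ {u w : P}, CenFree e u → PairFuse 2 P e (u : G) w → α u = 1 → α w = 1 :=
    fun {u w} hu hw h1 => h.α_of_fuse S h1
      (fun h2 => hu u (h.cen_of_sq h1 h2) (S.fuse_of_isConj (IsConj.refl u))) hw
  rcases Int.units_eq_one_or (α u) with h1 | h1 <;> rw [h1]
  · exact key hu hw h1
  · exact intUnits_ne_one.1 fun h2 => by
      simpa [h1] using key (fun z hz h3 => hu z hz (S.fuse_trans hw h3)) hw.symm h2

theorem full_of_free {u : P} (hu : CenFree e u) (w : P) (hw : PairFuse 2 P e (u : G) w) :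
    Nat.card (P ⊓ Subgroup.centralizer {(w : G)} : Subgroup G) ≤
      Nat.card (P ⊓ Subgroup.centralizer {(u : G)} : Subgroup G) := by
  have h1 := h.α_eq_of_free S hu hw
  rw [card_inf_centralizer_coe, card_inf_centralizer_coe]
  rcases Int.units_eq_one_or (α u) with h2 | h2
  · have h3 : u * u ≠ 1 := fun h3 => hu u (h.cen_of_sq h2 h3) (S.fuse_of_isConj (IsConj.refl u))
    rw [h.centralizer_eq h2 h3, h.centralizer_eq (h1.trans h2)
      (mt (mul_self_eq_one_iff_of_orderOf_eq hw.orderOf_eq).2 h3)]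
  · rw [h.card_centralizer h2, h.card_centralizer (h1.trans h2)]

/-- a morphism normalizing a centralizer and fixing the centre -/
theorem exists_conj {u : P} (hu : u ∉ Subgroup.center P) : ∃ k : G,
    FHom 2 P e (P ⊓ Subgroup.centralizer {(u : G)}) k ∧ (α u = 1 → k = 1) ∧ ∀ g u',
      FHom 2 P e (P ⊓ Subgroup.centralizer {(u : G)}) g → (∀ z ∈ Subgroup.center P, Cj g z z) →
      Cj g u u' → Subgroup.centralizer {u'} = Subgroup.centralizer {u} → ∃ d : P,
      ∀ a a' b b' : P, a * u = u * a → Cj g a a' → Cj k a b → Cj k a' b' → b' = d * b * d⁻¹ := by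
  set Q := P ⊓ Subgroup.centralizer {(u : G)} with hQ
  set Z := (Subgroup.center P).map P.subtype with hZ
  have hZQ : Z ≤ Q := by
    rintro _ ⟨z, hz, rfl⟩
    exact coe_mem_inf_centralizer.2 (mul_comm_of_mem_center hz u)
  have hQ' : Q = (Subgroup.centralizer {u}).map P.subtype := by
    ext a
    exact ⟨fun ha => ⟨⟨a, ha.1⟩, Subgroup.mem_centralizer_singleton_iff.2
      (coe_mem_inf_centralizer.1 ha), rfl⟩, by
        rintro ⟨a, ha, rfl⟩
        exact coe_mem_inf_centralizer.2 (Subgroup.mem_centralizer_singleton_iff.1 ha)⟩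
  have hp : IsPGroup 2 Q := S.isPGroup.to_le inf_le_left
  obtain ⟨k, h1, h2, h3⟩ := S.exists_fHom_conj (Q := Q) inf_le_left (Subgroup.centralizer Z)
    (Subgroup.centralizer_le hZQ) fun w hw hn hr => by
      rcases Int.units_eq_one_or (α u) with h1 | h1
      · refine le_centralizer_of_comm_of_omega (A := Subgroup.zpowers w) hp ⟨⟨fun a b =>
          Subtype.ext (congrArg P.subtype (h.comm_of_notMem (a := ⟨a, a.2.1⟩) (b := ⟨b, b.2.1⟩) hu
            (coe_mem_inf_centralizer.1 a.2).symm (coe_mem_inf_centralizer.1 b.2).symm))⟩⟩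
          (Subgroup.zpowers_le.2 hn) (by rwa [Nat.card_zpowers]) (fun a ha h2 => ?_)
          (Subgroup.mem_zpowers w)
        rw [hQ', h.centralizer_eq h1 fun h2 => hu (h.cen_of_sq h1 h2)] at ha
        obtain ⟨a, ha, rfl⟩ := ha
        rw [centralizer_zpowers, Subgroup.mem_centralizer_singleton_iff]
        exact Subgroup.mem_centralizer_iff.1 hw _
          ⟨a, h.cen_of_sq ha (Subtype.ext ((sq _).symm.trans h2)), rfl⟩
      · refine mem_centralizer_of_relIndex_le_two hp hZQ ?_ hn hw hr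
        rw [hQ', hZ, Subgroup.relIndex_map_map_of_injective _ _ P.subtype_injective,
          h.relIndex_center h1]
  refine ⟨k, h1, fun h4 => h2 (le_inf ?_ fun a ha => ?_), fun g u' h4 h5 h6 h7 => ?_⟩
  · rw [hQ', h.centralizer_eq h4 fun h2 => hu (h.cen_of_sq h4 h2)]
    refine fun a ha => Subgroup.le_normalizer_map P.subtype ⟨⟨a, ha⟩, ?_, rfl⟩
    exact Subgroup.le_normalizer_of_normal (Subgroup.mem_top _)
  · rintro _ ⟨z, hz, rfl⟩
    exact congrArg P.subtype (mul_comm_of_mem_center hz ⟨a, ha⟩)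
  · obtain ⟨d, hd, h8⟩ := h3 g (by
      rintro _ ⟨z, hz, rfl⟩
      exact mul_inv_eq_iff_eq_mul.1 (Eq.symm (h5 z hz)) |>.symm)
      (Subgroup.mem_normalizer_fintype fun a ha => by
        obtain ⟨b, h8, -⟩ := S.exists_cj h4 (a := ⟨a, ha.1⟩) ha
        rw [← show _ = g * a * g⁻¹ from h8, SetLike.mem_coe, hQ, coe_mem_inf_centralizer,
          ← Subgroup.mem_centralizer_singleton_iff, ← h7, Subgroup.mem_centralizer_singleton_iff]
        exact h8.comm h6 (coe_mem_inf_centralizer.1 ha)) h4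
    refine ⟨⟨d, hd⟩, fun a a' b b' a1 a2 a3 a4 => Subtype.ext ?_⟩
    rw [show (b' : G) = _ from a4, show (a' : G) = _ from a2,
      h8 a (coe_mem_inf_centralizer.2 a1), ← show (b : G) = _ from a3]
    rfl

theorem exists_conj_of_mem {u u' : P} (hu : α u = 1) (h2 : u * u ≠ 1)
    (hg : FHom 2 P e (P ⊓ Subgroup.centralizer {(u : G)}) g)
    (hfix : ∀ z ∈ Subgroup.center P, Cj g z z) (h1 : Cj g u u') :
    ∃ d : P, ∀ a a', α a = 1 → Cj g a a' → a' = d * a * d⁻¹ := by
  obtain ⟨k, -, h3, h4⟩ := h.exists_conj S fun h3 => h2 (h.sq_cen h3)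
  obtain rfl := h3 hu
  obtain ⟨d, hd⟩ := h4 g u' hg hfix h1 (by
    rw [h.centralizer_eq hu h2, h.centralizer_eq ((h.αβ_of_fix hfix h1).1.trans hu)
      (mt h1.sq_iff.1 h2)])
  exact ⟨d, fun a a' ha h5 => hd a a' a a' (h.comm ha hu) h5 (by simp [Cj]) (by simp [Cj])⟩

theorem mem_K_of_fix {u u' : P} (hu : α u = -1)
    (hg : FHom 2 P e (P ⊓ Subgroup.centralizer {(u : G)}) g)
    (hfix : ∀ z ∈ Subgroup.center P, Cj g z z) (h1 : Cj g u u') :
    u' * u⁻¹ ∈ Subgroup.zpowers (x * x * v) := by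
  have := S.hM.charP
  obtain ⟨h2, h3⟩ := h.αβ_of_fix hfix h1
  refine (h.mem_K_or (by simp [h2]) (by simp [h3])).resolve_right fun h4 => ?_
  obtain ⟨d, hd⟩ := isConj_iff.1 (h.isConj_mul (s := u * y) (by simp [hu, h.αy]) h4).symm
  rw [h.mul_y_mul_y, inv_mul_cancel_right] at hd
  obtain ⟨k, h5, -, h6⟩ := h.exists_conj S (u := u) fun h3 => by simpa [hu] using h.α_cen h3
  obtain ⟨c, hc⟩ := h6 (d * g) (u * y) (hg.mul_left S.isPair d.2) (fun z hz => by
    simpa [← mul_comm_of_mem_center hz d] using (hfix z hz).mul_left d) (hd ▸ h1.mul_left d)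
      (centralizer_mul_of_mem_center h.y_cen u)
  obtain ⟨b, h7, -⟩ := S.exists_cj h5 (coe_mem_inf_centralizer.2 (rfl : u * u = u * u))
  obtain ⟨y', h8, h9⟩ := S.exists_cj h5
    (coe_mem_inf_centralizer.2 (mul_comm_of_mem_center h.y_cen u))
  have h10 := hc u _ b _ rfl (hd ▸ h1.mul_left d) h7 (h7.mul h8)
  rcases h.q_K y' (by
    simpa [eq_inv_mul_of_mul_eq h10, mul_assoc] using h.comm_mem b⁻¹ c) (h8.sq_iff.2 h.y_sq) with
    rfl | rfl
  · exact h.y_ne_one (h8.inj cj_one)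
  · exact h.y_ne_q (h.eq_of_fuse S h.y_cen h.q_cen h9)

theorem rank_of_free {u : P} (hu : CenFree e u) : blockRank 2 (S.below u) = 1 := by
  have h0 : u ∉ Subgroup.center P := fun h0 => hu u h0 (S.fuse_of_isConj (IsConj.refl u))
  refine S.blockRank_below_eq_one_of_comm (h.full_of_free S hu) rfl (fun a ha b hb =>
    congrArg P.subtype (h.comm_of_notMem (a := ⟨b, hb.1⟩) (b := ⟨a, ha.1⟩) h0
      (coe_mem_inf_centralizer.1 hb).symm (coe_mem_inf_centralizer.1 ha).symm))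
    fun g hg h1 _ a ha => ?_
  have h2 := h.fix_of_free S hu h1
  have h3 : Cj g u u := by
    rw [Cj, Subgroup.mem_centralizer_singleton_iff.1 hg, mul_inv_cancel_right]
  suffices h4 : Cj g ⟨a, ha.1⟩ ⟨a, ha.1⟩ from (mul_inv_eq_iff_eq_mul.1 (Eq.symm h4)).symm
  have h4 := (coe_mem_inf_centralizer (a := ⟨a, ha.1⟩)).1 ha
  rcases Int.units_eq_one_or (α u) with h5 | h5
  · have h6 : u * u ≠ 1 := fun h6 => h0 (h.cen_of_sq h5 h6)
    obtain ⟨d, hd⟩ := h.exists_conj_of_mem S h5 h6 h1 h2 h3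
    obtain ⟨b, h7, -⟩ := S.exists_cj h1 (a := ⟨a, ha.1⟩) ha
    have h8 := (h.centralizer_eq h5 h6).le (Subgroup.mem_centralizer_singleton_iff.2 h4)
    rwa [hd _ b h8 h7, h.comm ((h.centralizer_eq h5 h6).le (Subgroup.mem_centralizer_singleton_iff.2
      (mul_inv_eq_iff_eq_mul.1 (hd u u h5 h3).symm))) h8, mul_inv_cancel_right] at h7
  · rcases h.cen_or_of_commute h5 h4.symm with h6 | ⟨z, hz, h6⟩
    exacts [h2 _ h6, h6 ▸ h3.mul (h2 z hz)]

theorem free_mul {u z : P} (hu : CenFree e u) (hz : z ∈ Subgroup.center P) :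
    CenFree e (u * z) := fun w hw h1 => by
  obtain ⟨g, h2, h3⟩ := S.exists_fHom_of_central h1 hw
  have h4 : P ⊓ Subgroup.centralizer {((u * z : P) : G)} = P ⊓ Subgroup.centralizer {(u : G)} := by
    ext a
    refine ⟨fun ha => ?_, fun ha => ?_⟩ <;> refine (coe_mem_inf_centralizer (a := ⟨a, ha.1⟩)).2 ?_ <;>
      have h4 := (coe_mem_inf_centralizer (a := ⟨a, ha.1⟩)).1 ha <;>
      rw [← Subgroup.mem_centralizer_singleton_iff] at h4 ⊢
    · rwa [← centralizer_mul_of_mem_center hz]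
    · rwa [centralizer_mul_of_mem_center hz]
  rw [h4] at h3
  exact hu _ (mul_mem hw hz) (S.fuse_of_cj h3 (coe_mem_inf_centralizer.2 rfl)
    (by simpa [mul_assoc, h.sq_cen hz] using h2.mul (h.fix_of_free S hu h3 z hz)))

theorem fuse_mul {u w z : P} (hu : CenFree e u) (hz : z ∈ Subgroup.center P)
    (hw : PairFuse 2 P e (u : G) w) : PairFuse 2 P e ((u * z : P) : G) (w * z : P) := by
  obtain ⟨g, h2, h3⟩ := S.exists_fHom hw
    (h.full_of_free S fun c hc h1 => hu c hc (S.fuse_trans hw h1))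
  exact S.fuse_of_cj h3 (coe_mem_inf_centralizer.2 (Commute.mul_left rfl
    (mul_comm_of_mem_center hz u))) (Cj.mul h2 (h.fix_of_free S hu h3 z hz))

theorem fuseCard_mul {u z : P} (hu : CenFree e u) (hz : z ∈ Subgroup.center P) :
    fuseCard 2 P e (u * z) = fuseCard 2 P e u :=
  Nat.card_congr ((Equiv.mulRight z).subtypeEquiv fun w => ⟨h.fuse_mul S hu hz, fun h1 => by
    simpa [mul_assoc, h.sq_cen hz] using h.fuse_mul S (h.free_mul S hu hz) hz h1⟩).symm

theorem stable {l : P →* ℂˣ} (hK : ∀ k ∈ Subgroup.zpowers (x * x * v), l k = 1) (ht : l t = 1)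
    (hx : v = 1 → l x = 1) (h1 : ¬ PairFuse 2 P e ((t * y : P) : G) q)
    (h2 : v = 1 → ¬ PairFuse 2 P e ((x * t * y : P) : G) q) :
    IsPairStable 2 P e fun a => (l a : ℂ) := by
  have hA : ∀ s s' : P, α s = -1 → α s' = -1 → β s' = β s → PairFuse 2 P e (s' : G) q →
      ¬ PairFuse 2 P e ((s * y : P) : G) q → l s' = l s := fun s s' a1 a2 a3 a4 a5 => by
    rcases h.mem_K_or (a := s' * s⁻¹) (by simp [a1, a2]) (by simp [a3]) with a6 | a6
    · simpa [mul_inv_eq_one] using hK _ a6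
    · refine absurd (S.fuse_trans (S.fuse_of_isConj (h.isConj_mul (by simp [a1, h.αy]) a6)) ?_) a5
      rwa [h.mul_y_mul_y, inv_mul_cancel_right]
  have hB : ∀ s : P, α s = -1 → PairFuse 2 P e (s : G) q → l s = 1 := fun s a1 a2 => by
    rcases Int.units_eq_one_or (β s) with a3 | a3
    · rw [hA t s h.αt a1 (by rw [a3, h.βt]) a2 h1, ht]
    · have a4 := (h.sq_of_odd a1 a3).symm.trans
        ((mul_self_eq_one_iff_of_orderOf_eq a2.orderOf_eq).2 h.q_sq)
      rw [hA (x * t) s (by simp [h.αx, h.αt]) a1 (by simp [a3, h.βx, h.βt]) a2 (h2 a4), map_mul,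
        hx a4, ht, one_mul]
  have hC : ∀ u u' g, u ∉ Subgroup.center P → Cj g u u' →
      FHom 2 P e (P ⊓ Subgroup.centralizer {(u : G)}) g → l u = l u' := fun u u' g a1 a2 a3 => by
    rcases h.fix_or S a1 a3 with a4 | ⟨c, s, q', b1, b2, b3, b4, b5, b6, b7, b8, b9⟩
    · rcases Int.units_eq_one_or (α u) with a5 | a5
      · obtain ⟨d, hd⟩ := h.exists_conj_of_mem S a5 (fun a6 => a1 (h.cen_of_sq a5 a6)) a3 a4 a2
        simp [hd u u' a5 a2]
      · exact Eq.symm (by simpa [mul_inv_eq_one] using hK _ (h.mem_K_of_fix S a5 a3 a4 a2))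
    · have a4 := hB s b8 (S.fuse_of_cj a3 (coe_mem_inf_centralizer.2 b9) b7)
      have a5 := hB q' b6 (S.fuse_of_cj a3
        (coe_mem_inf_centralizer.2 (mul_comm_of_mem_center h.q_cen u)) b5).symm
      have a6 := hK q h.q_mem
      obtain ⟨z, hz, rfl⟩ := (h.cen_or_of_commute b8 b9).resolve_left a1
      rcases h.cen_four' b1 b2 b3 hz with rfl | rfl | rfl | rfl
      · simp [a2.unique (b7.mul cj_one), a4, a6]
      · simp [a2.unique (b7.mul b5), a4, a5, a6]
      · simp [a2.unique (b7.mul b4), a4, a6]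
      · simp [a2.unique (b7.mul (b5.mul b4)), a4, a5, a6]
  have hD : ∀ u : P, ∀ z ∈ Subgroup.center P, PairFuse 2 P e (u : G) z → l u = l z :=
    fun u z hz a1 => by
      by_cases a2 : u ∈ Subgroup.center P
      · rw [h.eq_of_fuse S a2 hz a1]
      · obtain ⟨g, a3, a4⟩ := S.exists_fHom_of_central a1 hz
        exact hC u z g a2 a3 a4
  intro u w hw
  by_cases hu : CenFree e u
  · obtain ⟨g, a3, a4⟩ := S.exists_fHom hw
      (h.full_of_free S fun c hc h1 => hu c hc (S.fuse_trans hw h1))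
    simp only [hC u w g (fun h0 => hu u h0 (S.fuse_of_isConj (IsConj.refl u))) a3 a4]
  · obtain ⟨z, hz, a1⟩ : ∃ z ∈ Subgroup.center P, PairFuse 2 P e (u : G) z := by
      simpa [CenFree] using hu
    simp only [hD u z hz a1, hD w z hz (S.fuse_trans hw.symm a1)]

theorem exists_stable : ∃ l : P →* ℂˣ, l q = 1 ∧ l y = -1 ∧
    IsPairStable 2 P e fun a => (l a : ℂ) := by
  wlog h1 : ¬ PairFuse 2 P e ((t * y : P) : G) q generalizing t
  · exact this h.mul_t' (h.not_fuse_both S (by simp [h.αt, h.αy]) (not_not.1 h1))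
  wlog h2 : ¬ PairFuse 2 P e ((x * t * y : P) : G) q generalizing x
  · refine this h.mul_x' ?_
    rw [mul_assoc x, mul_comm_of_mem_center h.y_cen, ← mul_assoc]
    exact h.not_fuse_both S (by simp [h.αx, h.αt, h.αy]) (not_not.1 h2)
  obtain ⟨l, a1, a2, a3, a4⟩ := h.exists_hom
  exact ⟨l, a1 q h.q_mem, a2, h.stable S a1 a3 a4 h1 fun _ => h2⟩

theorem rank_add : blockRank 2 B + blockRank 2 (S.below q) =
    blockRank 2 (S.below y) + blockRank 2 (S.below (q * y)) := by
  classical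
  have := Fintype.ofFinite P
  obtain ⟨l, h1, h2, h3⟩ := h.exists_stable S
  have h4 := S.sum_linear_eq_zero_of_central l h3 h.y_cen (by rw [h2]; exact neg_units_ne_self 1)
  have h5 : IsPairStable 2 P e fun a => (l a : ℂ) * blockRank 2 (S.below a) := fun a b hab => by
    simp only [h3 a b hab, S.blockRank_below_congr hab]
  have h6 : ∑ a with CenFree e a, (l a : ℂ) / fuseCard 2 P e a * blockRank 2 (S.below a) = 0 := by
    rw [← CharZero.neg_eq_self_iff, ← Finset.sum_neg_distrib]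
    refine Finset.sum_equiv (Equiv.mulRight y) (fun a => ?_) fun a ha => ?_
    · simp only [Finset.mem_filter, Finset.mem_univ, true_and, Equiv.coe_mulRight]
      exact ⟨fun ha => h.free_mul S ha h.y_cen, fun ha => by
        simpa [mul_assoc, h.y_sq] using h.free_mul S ha h.y_cen⟩
    · have h6 := (Finset.mem_filter.1 ha).2
      rw [Equiv.coe_mulRight, h.rank_of_free S (h.free_mul S h6 h.y_cen)]
      simp [h2, h.fuseCard_mul S h6 h.y_cen, h.rank_of_free S h6, neg_div]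
  have h7 : ∀ a : P, (if ¬ CenFree e a then (1 : ℂ) else 0) =
      fuseInd 2 P e 1 a + fuseInd 2 P e q a + fuseInd 2 P e y a + fuseInd 2 P e (q * y) a := by
    intro a
    have h7 : ∀ z ∈ Subgroup.center P, PairFuse 2 P e (a : G) z → ∀ w ∈ Subgroup.center P,
        fuseInd 2 P e w a = if w = z then 1 else 0 := fun z hz h7 w hw =>
      if_congr ⟨fun h8 => h.eq_of_fuse S hw hz (S.fuse_trans h8 h7), fun h8 => h8 ▸ h7.symm⟩ rfl rfl
    have h8 : q * y ≠ 1 := fun h8 => h.y_ne_q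
      ((eq_inv_of_mul_eq_one_right h8).trans (inv_eq_of_mul_eq_one_right h.q_sq))
    have := h.q_ne; have := h.y_ne_one; have := h.y_ne_q
    have := h.q_ne.symm; have := h.y_ne_one.symm; have := h.y_ne_q.symm; have := h8.symm
    split_ifs with h9
    · have h10 : ∀ w ∈ Subgroup.center P, fuseInd 2 P e w a = 0 := fun w hw =>
        if_neg fun h10 => h9 w hw h10.symm
      simp [h10, h.q_cen, h.y_cen, mul_mem, one_mem]
    · obtain ⟨z, hz, a1⟩ : ∃ z ∈ Subgroup.center P, PairFuse 2 P e (a : G) z := by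
        simpa [CenFree] using h9
      rw [h7 z hz a1 1 (one_mem _), h7 z hz a1 q h.q_cen, h7 z hz a1 y h.y_cen,
        h7 z hz a1 _ (mul_mem h.q_cen h.y_cen)]
      rcases h.cen_four hz with rfl | rfl | rfl | rfl <;> simp [*]
  rw [← Finset.sum_filter_add_sum_filter_not _ (CenFree e), h6, zero_add, Finset.sum_filter,
    Finset.sum_congr rfl (g := fun a => (if ¬ CenFree e a then (1 : ℂ) else 0) *
      ((l a : ℂ) * blockRank 2 (S.below a) / fuseCard 2 P e a)) fun a _ => by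
        split_ifs <;> ring] at h4
  simp only [h7, add_mul, Finset.sum_add_distrib, S.sum_fuseInd_mul_div h5, map_one, map_mul, h1,
    h2, S.blockRank_below_one] at h4
  apply Nat.cast_injective (R := ℂ)
  push_cast at h4 ⊢
  linear_combination h4

end CIS

end Cfsg
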