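import Cfsg.Agent.Blk.SecMM

/-! Morphisms of the fusion system below a maximal Brauer pair, element by element. -/

set_option autoImplicit false

namespace Cfsg

open scoped ComplexConjugate MonoidAlgebra

universe u v w

section alg
variable {G : Type u} [Group G] {k : Type v} [Field k] {p : ℕ} {P Q R : Subgroup G} {e : k[G]}
  {g d : G}

/-- conjugation by `g` is a morphism `Q → P` of the fusion system of the pair `(P, e)` -/
def FHom (p : ℕ) (P : Subgroup G) (e : k[G]) (Q : Subgroup G) (g : G) : Prop :=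
  ∃ f, PairLE p ⊤ Q f P e ∧ PairLE p ⊤ (conjSub Q g) (gaConj k g f) P e

theorem FHom.conj_mem (h : FHom p P e Q g) {q : G} (hq : q ∈ Q) : g * q * g⁻¹ ∈ P :=
  h.choose_spec.2.le (conj_mem_conjSub.2 hq)

theorem FHom.inv (h : FHom p P e Q g) : FHom p P e (conjSub Q g) g⁻¹ := by
  obtain ⟨f, h1, h2⟩ := h
  exact ⟨_, h2, by rwa [conjSub_conjSub_inv, gaConj_inv_gaConj]⟩

variable [Finite G] [Fact p.Prime] [CharP k p]

theorem FHom.mono (he : IsPair p ⊤ P e) (h : FHom p P e Q g) (hR : R ≤ Q) : FHom p P e R g := by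
  obtain ⟨f, h1, h2⟩ := h
  obtain ⟨f', h3⟩ := exists_pairLE (h1.isPair_left he) hR
  exact ⟨f', h3.trans h1, (h3.conj_of_normalizer (mem_normalizer_top g)).trans h2⟩

theorem FHom.fuse (he : IsPair p ⊤ P e) (h : FHom p P e Q g) {q : G} (hq : q ∈ Q) :
    PairFuse p P e q (g * q * g⁻¹) := by
  obtain ⟨f, h1, h2⟩ := h.mono he (Subgroup.zpowers_le.2 hq)
  exact ⟨g, f, rfl, h1, by rwa [← conjSub_zpowers]⟩

omit [Finite G] [Fact p.Prime] [CharP k p] in
theorem FHom.mul_left (he : IsPair p ⊤ P e) (h : FHom p P e Q g) (hd : d ∈ P) :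
    FHom p P e Q (d * g) := by
  obtain ⟨f, h1, h2⟩ := h
  exact ⟨f, h1, by rw [conjSub_mul, gaConj_mul]; exact h2.conj_of_mem he hd⟩

theorem FHom.mem_pairStab (he : IsPair p ⊤ P e) (h : FHom p P e Q g)
    (hg : g ∈ Subgroup.normalizer (Q : Set G)) {f : k[G]} (hf : PairLE p ⊤ Q f P e) :
    g ∈ pairStab ⊤ Q f := by
  obtain ⟨f', h1, h2⟩ := h
  obtain rfl := h1.unique he hf
  rw [conjSub_eq_self_iff.2 hg] at h2
  exact Cfsg.mem_pairStab.2 ⟨trivial, hg, h2.unique he hf⟩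

omit [Finite G] [Fact p.Prime] [CharP k p] in
theorem PairLE.fHom {f : k[G]} (hf : PairLE p ⊤ Q f P e) (hg : g ∈ pairStab ⊤ Q f) :
    FHom p P e Q g :=
  ⟨f, hf, by rwa [conjSub_eq_self_iff.2 (mem_pairStab.1 hg).2.1, (mem_pairStab.1 hg).2.2]⟩

end alg

variable {p : ℕ} {M : Ideal AlgInt} {G : Type u} [Group G] [Fintype G] {B : Set (IrrCharacter G)}
  {P Q : Subgroup G} {e : (resK M)[G]} {g : G}

namespace StarSetup
variable (S : StarSetup p M B P e)
include S

/-- extension of a fusion to the centralizer -/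
theorem exists_fHom {u v : P} (h : PairFuse p P e (u : G) v) (hv : ∀ w : P,
    PairFuse p P e (v : G) w → Nat.card (P ⊓ Subgroup.centralizer {(w : G)} : Subgroup G) ≤
      Nat.card (P ⊓ Subgroup.centralizer {(v : G)} : Subgroup G)) :
    ∃ g, (v : G) = g * u * g⁻¹ ∧ FHom p P e (P ⊓ Subgroup.centralizer {(u : G)}) g := by
  have := S.hM.fact_prime
  have := S.hM.charP
  have hD := S.isDefGrp_below hv
  obtain ⟨x, f, h1, h2, h3⟩ := h
  rw [(S.below_le v).unique S.isPair h3] at hD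
  have hC : cenIn ⊤ (Subgroup.zpowers (v : G)) = Subgroup.centralizer ({(v : G)} : Set G) := by
    rw [cenIn_top, centralizer_zpowers_eq_singleton]
  obtain ⟨f', h4⟩ := exists_pairLE S.isPair
    (inf_le_left : P ⊓ Subgroup.centralizer {(u : G)} ≤ P)
  have h5 : Subgroup.zpowers (u : G) ≤ P ⊓ Subgroup.centralizer {(u : G)} :=
    Subgroup.zpowers_le.2 ⟨u.2, Subgroup.mem_centralizer_singleton_iff.2 rfl⟩
  have h6 := ((h2.of_le_of_le S.isPair h4 h5).nsub (h4.isPair_left S.isPair) (inf_le_right.trans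
    (by rw [← centralizer_zpowers_eq_singleton]; exact Subgroup.centralizer_le_normalizer _))
    ).conj_of_normalizer (mem_normalizer_top x)
  rw [conjSub_zpowers, ← h1] at h6
  have h7 : conjSub (P ⊓ Subgroup.centralizer {(u : G)}) x ≤ Subgroup.centralizer {(v : G)} := by
    rw [h1, centralizer_singleton_conj]; exact conjSub_mono inf_le_right x
  obtain ⟨z, hz, h8⟩ := h3.exists_conj_of_nsub S.isPair hC.le (le_normalizer_top _)
    (hC ▸ cenIn_le_normalizer _ _) (hC ▸ (h3.isPair_left S.isPair).fixed_cenIn) hD h7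
    (by rwa [sup_eq_right.2 h6.le])
  rw [sup_eq_right.2 h6.le, ← conjSub_mul, ← gaConj_mul] at h8
  refine ⟨z * x, ?_, f', h4, h8⟩
  rw [mul_inv_rev, mul_assoc z, mul_assoc z, ← mul_assoc (x * u), ← h1, ← mul_assoc,
    Subgroup.mem_centralizer_singleton_iff.1 hz, mul_inv_cancel_right]

/-- a `p`-group of automorphisms is conjugate into the automizer in `P` -/
theorem exists_fHom_conj (hQ : Q ≤ P) (L : Subgroup G)
    (hL : Subgroup.centralizer (Q : Set G) ≤ L) (hr : ∀ x ∈ L,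
      x ∈ Subgroup.normalizer (Q : Set G) → IsPRegular p x → x ∈ Subgroup.centralizer (Q : Set G)) :
    ∃ h, FHom p P e Q h ∧ (P ≤ Subgroup.normalizer (Q : Set G) ⊓ L → h = 1) ∧
      ∀ g ∈ L, g ∈ Subgroup.normalizer (Q : Set G) → FHom p P e Q g →
        ∃ d ∈ P, ∀ q ∈ Q, h * (g * q * g⁻¹) * h⁻¹ = d * (h * q * h⁻¹) * d⁻¹ := by
  have := S.hM.fact_prime
  have := S.hM.charP
  obtain ⟨f, hf⟩ := exists_pairLE S.isPair hQ
  have hf' := hf.isPair_left S.isPair
  set K := pairStab ⊤ Q f ⊓ L with hK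
  have hCK : cenIn ⊤ Q ≤ K := le_inf (hf'.cenIn_le_pairStab le_rfl) (inf_le_right.trans hL)
  have hKN : K ≤ norIn ⊤ Q := inf_le_left.trans (pairStab_le_norIn _ _ _)
  have hfix : IsFixedGA K f := fun x hx => isFixedGA_pairStab _ _ _ x hx.1
  obtain ⟨h, D, h1, h2, hD, h3⟩ : ∃ h D, PairLE p ⊤ (conjSub Q h) (gaConj (resK M) h f) P e ∧
      (P ≤ Subgroup.normalizer (Q : Set G) ⊓ L → h = 1) ∧ IsDefGrp p K f D ∧ conjSub D h ≤ P := by
    by_cases h0 : P ≤ Subgroup.normalizer (Q : Set G) ⊓ L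
    · refine ⟨1, P, by rwa [conjSub_one, gaConj_one], fun _ => rfl, S.hmax.isDefGrp_of_le le_rfl
        top_le_normalizer_top S.isBlk hf hCK hKN hfix fun y hy => ⟨mem_pairStab.2
          ⟨trivial, (h0 hy).1, (hf.nsub S.isPair (h0.trans inf_le_left)).fixed y hy⟩, (h0 hy).2⟩,
        (conjSub_one P).le⟩
    · obtain ⟨D, hD, -⟩ := hf.exists_isDefGrp_ge S.isPair hCK (le_normalizer_top _)
        (hKN.trans inf_le_right) hfix
      obtain ⟨h, -, h1, h2⟩ := S.hmax.exists_conj_isDefGrp' le_rfl top_le_normalizer_top S.isBlk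
        (S.isPairOf_of_pairLE hf) hKN hfix hD
      exact ⟨h, D, h1, fun h3 => absurd h3 h0, hD, h2 ▸ inf_le_left⟩
  refine ⟨h, ⟨f, hf, h1⟩, h2, fun g hg hg' h4 => ?_⟩
  have hn := (hKN.trans inf_le_right).trans (normalizer_le_normalizer_centralizer Q)
  have h5 := hf'.not_dvd_relIndex hCK (by rwa [cenIn_top]) hfix hD
  rw [cenIn_top] at h5
  obtain ⟨d, hd, z, hz, rfl⟩ := (mem_sup_of_le_normalizer' (hD.le.trans hn)).1
    (le_of_regular_of_not_dvd hn (fun y hy => hr y hy.2 (hKN hy).2)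
      (inf_le_left.trans le_sup_left) h5 ⟨h4.mem_pairStab S.isPair hg' hf, hg⟩)
  refine ⟨h * d * h⁻¹, h3 (conj_mem_conjSub.2 hd), fun q hq => ?_⟩
  rw [mul_assoc d z, ← Subgroup.mem_centralizer_iff.1 hz q hq]
  group

theorem exists_odd_of_central {u v : P} (hu : u ∈ Subgroup.center P) (hv : v ∈ Subgroup.center P)
    (h : PairFuse p P e (u : G) v) : ∃ t ∈ Subgroup.normalizer (P : Set G),
      (v : G) = t * u * t⁻¹ ∧ FHom p P e P t ∧ ∃ n, ¬ p ∣ n ∧
        ∀ z ∈ Subgroup.center P, t ^ n * z = z * t ^ n := by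
  have := S.hM.fact_prime
  have := S.hM.charP
  obtain ⟨t, ht, h1⟩ := S.exists_conj_of_central (le_centralizer_of_mem_center hu)
    (le_centralizer_of_mem_center hv) h
  have h2 := S.hmax.not_dvd_relIndex le_rfl top_le_normalizer_top S.isBlk
  rw [cenIn_top] at h2
  have hn : pairStab ⊤ P e ≤ Subgroup.normalizer ((Subgroup.centralizer (P : Set G) ⊔ P :
      Subgroup G) : Set G) := le_normalizer_sup' ((pairStab_le_normalizer _ _ _).trans
    (normalizer_le_normalizer_centralizer P)) (pairStab_le_normalizer _ _ _)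
  refine ⟨t, (mem_pairStab.1 ht).2.1, h1, (PairLE.refl P e).fHom ht, _, h2, fun z hz => ?_⟩
  have : ((Subgroup.centralizer (P : Set G) ⊔ P).subgroupOf (pairStab ⊤ P e)).Normal :=
    Subgroup.normal_subgroupOf_of_le_normalizer hn
  have h3 : t ^ _ ∈ Subgroup.centralizer (P : Set G) ⊔ P :=
    Subgroup.mem_subgroupOf.1 (Subgroup.pow_index_mem
      ((Subgroup.centralizer (P : Set G) ⊔ P).subgroupOf (pairStab ⊤ P e)) ⟨t, ht⟩)
  refine Subgroup.mem_centralizer_singleton_iff.1 ((sup_le (fun y hy => ?_)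
    (le_centralizer_of_mem_center hz) : _ ≤ Subgroup.centralizer {(z : G)}) h3)
  exact Subgroup.mem_centralizer_singleton_iff.2 (Subgroup.mem_centralizer_iff.1 hy z z.2).symm

theorem blockRank_eq_one_of_fHom (h : ∀ Q x, FHom p P e Q x →
    x ∈ Subgroup.normalizer (Q : Set G) → IsPRegular p x → x ∈ Subgroup.centralizer (Q : Set G)) :
    blockRank p B = 1 := by
  have := S.hM.fact_prime
  have := S.hM.charP
  exact ((S.hB.isNilpotentBlock_iff S.hM).2 (S.hmax.isNilpGA_of_forall le_rfl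
    top_le_normalizer_top S.isBlk fun Q _ hf x hx =>
      h Q x (hf.fHom hx) (mem_pairStab.1 hx).2.1)).blockRank_eq_one S.hM

theorem blockRank_below_eq_one_of_comm {v : P} (h : ∀ w : P, PairFuse p P e (v : G) w →
    Nat.card (P ⊓ Subgroup.centralizer {(w : G)} : Subgroup G) ≤
      Nat.card (P ⊓ Subgroup.centralizer {(v : G)} : Subgroup G))
    (hQ : Q = P ⊓ Subgroup.centralizer {(v : G)}) (hab : Q ≤ Subgroup.centralizer (Q : Set G))
    (hnil : ∀ x ∈ Subgroup.centralizer {(v : G)}, FHom p P e Q x →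
      x ∈ Subgroup.normalizer (Q : Set G) → x ∈ Subgroup.centralizer (Q : Set G)) :
    blockRank p (S.below v) = 1 := by
  have := S.hM.fact_prime
  have := S.hM.charP
  have hb := (S.isPBlock_below v).isBlk_subIdem S.hM
  have hC : cenIn ⊤ (Subgroup.zpowers (v : G)) = Subgroup.centralizer ({(v : G)} : Set G) := by
    rw [cenIn_top, centralizer_zpowers_eq_singleton]
  obtain ⟨f, hf⟩ := exists_pairLE S.isPair (hQ.le.trans inf_le_left)
  have h5 : Subgroup.zpowers (v : G) ≤ Q :=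
    hQ ▸ Subgroup.zpowers_le.2 ⟨v.2, Subgroup.mem_centralizer_singleton_iff.2 rfl⟩
  have h1 := (S.below_le v).isPairOf_cenIn S.isPair (K := Subgroup.centralizer {(v : G)})
    (le_normalizer_top _) (hC ▸ cenIn_le_normalizer _ _) hb.mem.2 (hQ.le.trans inf_le_right)
    (by rwa [sup_eq_right.2 h5])
  rw [hC] at h1
  have hm := h1.isMaxPair_of_isDefGrp (hQ ▸ S.isDefGrp_below h)
  exact (((S.isPBlock_below v).isNilpotentBlock_iff_sub S.hM).2
    ((hm.isNilpGA_iff_of_comm le_rfl Subgroup.le_normalizer hb hab).2 fun x hx =>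
      hnil x (mem_pairStab.1 hx).1 (hf.fHom (mem_pairStab.2 ⟨trivial, (mem_pairStab.1 hx).2⟩))
        (mem_pairStab.1 hx).2.1)).blockRank_eq_one S.hM

theorem sum_linear_eq_zero_of_central [Fintype P] (l : P →* ℂˣ)
    (hl : IsPairStable p P e fun v => (l v : ℂ)) {v : P} (hv : v ∈ Subgroup.center P)
    (hl1 : l v ≠ 1) :
    ∑ v : P, (l v : ℂ) / fuseCard p P e v * blockRank p (S.below v) = 0 := by
  rw [← S.sum_classInner_bstar hl]
  refine Finset.sum_eq_zero fun χ hχ => ?_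
  have hχB := mem_irrFinset.1 hχ
  obtain ⟨ψ, -, h1, -⟩ := S.exists_bstar_linear l hl hχB
  rw [h1, IrrCharacter.classInner_of_ne]
  rintro rfl
  apply hl1
  have h2 := S.secProj_below_bstar hl ψ.isClassFunction v
  rw [h1] at h2
  have h3 := S.bstar_fuseInd_ne_zero_of_central hχB v fun y hy =>
    congrArg Subtype.val (Subgroup.mem_center_iff.1 hv ⟨y, hy⟩)
  rw [S.bstar_fuseInd_eq ψ.isClassFunction] at h3
  have h4 : ((l v : ℂ) - 1) • secProj p (v : G) (S.below v) ψ.1 = 0 := by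
    rw [sub_smul, ← h2, one_smul, sub_self]
  simpa using sub_eq_zero.1 ((smul_eq_zero.1 h4).resolve_right h3)

/-- passing to the centralizer of a central element modulo that element -/
theorem exists_quot {z : P} (hz : z ∈ Subgroup.center P) :
    ∃ (Γ : Type u) (_ : Group Γ) (_ : Fintype Γ) (b : Set (IrrCharacter Γ)) (T : Subgroup Γ)
      (f : (resK M)[Γ]) (φ : P →* T), StarSetup p M b T f ∧
      blockRank p b = blockRank p (S.below z) ∧ Function.Surjective φ ∧
      φ.ker = Subgroup.zpowers z ∧ ∀ γ : Γ, ∃ h ∈ Subgroup.centralizer {(z : G)},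
        ∀ a c : P, (φ c : Γ) = γ * φ a * γ⁻¹ →
          ∃ n ∈ Subgroup.zpowers z, (c : G) = h * a * h⁻¹ * n := by
  have hle := le_centralizer_of_mem_center hz
  set C := Subgroup.centralizer {(z : G)} with hC
  set N := Subgroup.zpowers (⟨z, hle z.2⟩ : C) with hN
  have hz' : (⟨z, hle z.2⟩ : C) ∈ Subgroup.center C := Subgroup.mem_center_iff.2 fun x =>
    Subtype.ext (Subgroup.mem_centralizer_singleton_iff.1 x.2)
  have : N.Normal := ⟨fun n hn g => by
    rwa [Subgroup.mem_center_iff.1 (Subgroup.zpowers_le.2 hz' hn) g, mul_inv_cancel_right]⟩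
  have hD := S.isDefectGroup_below hle
  have hk : IsPGroup p (QuotientGroup.mk' N).ker := by
    rw [QuotientGroup.ker_mk']; exact hD.isPGroup.to_le (Subgroup.zpowers_le.2 z.2)
  have hreg : ∀ g : C, ¬ p ∣ orderOf g →
      g ∈ Subgroup.centralizer ((QuotientGroup.mk' N).ker : Set C) := fun g _ x hx => by
    rw [QuotientGroup.ker_mk'] at hx
    exact (Subgroup.mem_center_iff.1 (Subgroup.zpowers_le.2 hz' hx) g).symm
  have hb := (S.isPBlock_below z).preimage_comap_of_regular S.hM _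
    (QuotientGroup.mk'_surjective N) hk hreg
  obtain ⟨f, hf⟩ := (((S.isPBlock_below z).isDefectGroup_preimage_iff_of_regular S.hM _
    (QuotientGroup.mk'_surjective N) hk hreg _).2 ⟨_, hD, rfl⟩).exists_starSetup S.hM hb
  have h1 : ∀ x : C, x ∈ N ↔ ∃ n ∈ Subgroup.zpowers z, (x : G) = n := fun x =>
    ⟨fun ⟨j, hj⟩ => ⟨z ^ j, ⟨j, rfl⟩, by rw [← hj]; rfl⟩,
      fun ⟨_, ⟨j, rfl⟩, hj⟩ => ⟨j, Subtype.ext (by rw [hj]; rfl)⟩⟩
  refine ⟨C ⧸ N, inferInstance, Fintype.ofFinite _, _, _, f,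
    ((QuotientGroup.mk' N).comp (Subgroup.inclusion hle)).codRestrict
      ((P.subgroupOf C).map (QuotientGroup.mk' N)) fun a => ⟨_, a.2, rfl⟩, hf, (S.isBlockUnion_below z).blockRank_preimage_comap_of_isPGroup
      S.hM _ _ hk, ?_, ?_, fun γ => ?_⟩
  · rintro ⟨_, x, hx, rfl⟩
    exact ⟨⟨x, hx⟩, rfl⟩
  · ext a
    refine (Subtype.ext_iff.trans ((QuotientGroup.eq_one_iff _).trans (h1 _))).trans ?_
    exact ⟨fun ⟨n, hn, h⟩ => by rwa [show a = n from Subtype.ext h], fun h => ⟨a, h, rfl⟩⟩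
  · obtain ⟨h, rfl⟩ := QuotientGroup.mk'_surjective N γ
    refine ⟨h, h.2, fun a c hc => ?_⟩
    obtain ⟨n, hn, h2⟩ := (h1 _).1 (QuotientGroup.eq.1 (show ((h * Subgroup.inclusion hle a * h⁻¹ :
      C) : C ⧸ N) = (Subgroup.inclusion hle c : C) from hc.symm))
    exact ⟨n, hn, by rw [← h2]; simp [mul_assoc]⟩

end StarSetup

end Cfsg
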