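import Cfsg.Agent.Blk.Tame3
import Cfsg.Agent.Mod.SymFive
import Cfsg.Agent.S4648

/-! Blocks with dihedral, semidihedral or quaternion defect groups. -/

set_option autoImplicit false

namespace Cfsg

open scoped ComplexConjugate MonoidAlgebra

universe u

theorem IsPBlock.card_le_eight_of_rank_one {p : ℕ} {M : Ideal AlgInt} {G : Type u} [Group G]
    [Finite G] {B : Set (IrrCharacter G)} (hM : IsPModular p M) (hB : IsPBlock M B)
    {D : Subgroup G} (hD : IsDefectGroup p M B D) (hl : blockRank p B = 1) (hk : Nat.card B ≤ 5) :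
    Nat.card D ≤ 8 := by
  have := hM.fact_prime
  by_cases h1 : D = ⊥
  · simp [h1]
  rcases hk.lt_or_eq with h2 | h2
  · have := (Agent.S4648.result p M hM B hB D hD h1 hl (by omega)).2.1
    omega
  · have := hB.card_defect_of_rank_one_card_five hM hl h2
    rw [← hD.card_eq hM hB] at this
    omega

theorem IsTame.mul_self_eq {T : Type u} [Group T] {σ τ : T} {m : ℕ} (h : IsTame σ τ m (-1))
    {t : T} (ht : t ∉ Subgroup.zpowers σ) : t * t = τ * τ := by
  obtain ⟨a, ha, rfl⟩ := h.exists_eq_mul ht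
  calc a * τ * (a * τ) = a * (τ * a * τ⁻¹) * (τ * τ) := by group
    _ = τ * τ := by rw [h.τ_conj ha]; simp

variable {M : Ideal AlgInt} {G : Type u} [Group G] [Fintype G] {B : Set (IrrCharacter G)}
  {P : Subgroup G} {e : (resK M)[G]} {σ τ : P} {m : ℕ} {k : ℤ}

namespace StarSetup
variable (S : StarSetup 2 M B P e) (h : IsTame σ τ m k)
include S h

omit h in
theorem tame_sum_X [Fintype (Subgroup.zpowers σ)] (h : IsTame σ τ m k)
    {L : Subgroup.zpowers σ → Prop} (hL : ∀ a, a * a ≠ 1 → L a) {ρ : Subgroup.zpowers σ → ℂ}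
    {χ : IrrCharacter G} (hρ : ∀ a, L a → ‖ρ a‖ ^ 2 =
      Nat.card (P ⊓ Subgroup.centralizer {((a : P) : G)} : Subgroup G) * S.dg a χ) :
    ∑ a ∈ tameX σ, ‖ρ a‖ ^ 2 = 2 * m * ∑ a ∈ tameX σ, S.dg a χ := by
  rw [Finset.mul_sum]
  refine Finset.sum_congr rfl fun a ha => ?_
  rw [hρ a (hL a (mem_tameX.1 ha)), tame_card_inf_of_mem h a.2 (mem_tameX'.1 ha)]
  push_cast; ring

open Classical in
theorem tame_dihedral (hD : ∀ t ∉ Subgroup.zpowers σ, t * t = 1) : Nat.card B = m + 3 ∧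
    blockRank 2 B + (tameReps e σ τ).card = 3 ∧
    ((irrFinset B).filter fun χ => blockHeight 2 B χ.1 = 0).card = 4 ∧
    ∀ χ ∈ B, blockHeight 2 B χ.1 ≤ 1 := by
  have := Fintype.ofFinite (Subgroup.zpowers σ)
  have hA : ∀ x : G, ∀ a b : P, a ∈ Subgroup.zpowers σ → a * a ≠ 1 → (b : G) = x * a * x⁻¹ →
      b ∈ Subgroup.zpowers σ := fun x a b _ ha hb => by_contra fun h1 => ha (Subtype.ext (by
    have h2 := congrArg Subtype.val (hD b h1)
    simp only [Subgroup.coe_mul, hb, conj_mul, OneMemClass.coe_one, conj_eq_one_iff] at h2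
    exact h2))
  obtain ⟨ρ, C, h1, -⟩ := S.exists_tameCols h IsTame.z_mem h.z_ne_one (L := (· ≠ 1))
    (fun a ha => h.z_mem_zpowers a.2 fun h1 => ha (Subtype.ext h1))
    (fun h1 => h.σ_mul_σ_ne_one (by rw [show σ = 1 from congrArg Subtype.val h1, mul_one]))
    fun x _ => hA x
  obtain ⟨h4, Y, hY, h2, h3, h5⟩ := C.level_one h
  replace h4 : ((irrFinset B).filter fun χ => blockHeight 2 B χ.1 = 0).card = 4 := by convert h4
  have h6 : ∀ χ ∈ B, blockHeight 2 B χ.1 ≠ 0 → χ ∈ Y := fun χ hχ h0 => by_contra fun h6 => by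
    have hz : (⟨σ ^ m, IsTame.z_mem⟩ : Subgroup.zpowers σ) ≠ 1 := fun h7 =>
      h.z_ne_one (congrArg Subtype.val h7)
    have h7 := h1 χ _ hz
    rw [h3 χ (mem_irrFinset.2 hχ) h0 h6 _ hz, norm_zero, zero_pow two_ne_zero, eq_comm,
      mul_eq_zero, Nat.cast_eq_zero] at h7
    exact h7.elim Nat.card_pos.ne' (S.dg_z_pos h hχ).ne'
  have h7 : Nat.card B = 4 + Y.card := by
    rw [← card_irrFinset, ← Finset.card_filter_add_card_filter_not
      (fun χ => blockHeight 2 B χ.1 = 0), h4]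
    congr 2
    ext χ
    exact ⟨fun hχ => h6 χ (mem_irrFinset.1 (Finset.mem_filter.1 hχ).1) (Finset.mem_filter.1 hχ).2,
      fun hχ => Finset.mem_filter.2 ⟨hY hχ, h2 χ hχ⟩⟩
  have h8 : blockRank 2 (S.below (σ ^ m)) = 1 := S.blockRank_below_eq_one
    (fun w _ => by
      rw [inf_eq_left.2 (tame_le_centralizer_z h)]; exact Subgroup.card_le_of_le inf_le_left)
    fun R hR x hx hxR ho => h.mem_centralizer (hR.trans inf_le_left) hxR ho hx (hA x)
  have h9 := S.tame_card h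
  have h10 := blockRank_pos Nat.prime_two (S.hB.nonempty S.hM)
  obtain ⟨h11, h12⟩ := h5.resolve_right fun h5 => by
    have := S.hB.card_le_eight_of_rank_one S.hM S.isDefectGroup (by omega) (by omega)
    rw [h.card] at this
    omega
  refine ⟨by omega, by omega, h4, fun χ hχ => ?_⟩
  by_cases h0 : blockHeight 2 B χ.1 = 0
  · omega
  · refine (S.height_eq_one h hχ h0 ?_).le
    rw [← S.tame_sum_X h (fun a ha (e : a = 1) => ha (by rw [e, mul_one])) (h1 χ)]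
    exact h12 χ (h6 χ hχ h0)

variable (hq : (σ * τ) * (σ * τ) = σ ^ m) [Fintype (Subgroup.zpowers σ)]
include hq

open Classical in
theorem tame_rest (h4 : ((irrFinset B).filter fun χ => blockHeight 2 B χ.1 = 0).card = 4)
    {χ : IrrCharacter G} (hχ : χ ∈ B) (h0 : blockHeight 2 B χ.1 ≠ 0)
    (hX : ∀ a ∈ tameX σ, S.dg a χ = 0) : 2 ^ blockHeight 2 B χ.1 = m ∧ S.dg 1 χ = 1 / 2 ∧
      S.dg (σ ^ m) χ = 1 / 2 ∧ ∀ ψ ∈ B, blockHeight 2 B ψ.1 ≠ 0 → ψ ≠ χ →
        S.mm 1 χ.1 ψ.1 = 0 ∧ S.mm (σ ^ m) χ.1 ψ.1 = 0 := by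
  obtain ⟨θ, hθ, ⟨n₀, hn₀⟩, hθz, hθt⟩ := h.exists_theta hq
  have hst : IsPairStable 2 P e θ := fun u v huv => by
    by_cases hu : u ∈ Subgroup.zpowers σ
    · by_cases hv : v ∈ Subgroup.zpowers σ
      · exact hθ.isClassFunction.eq_of_isConj
          ((h.isConj_iff_of_mem hu).2 ((S.fuse_iff_of_mem h hu hv).1 huv))
      · exact hθt v hv u huv.orderOf_eq
    · exact (hθt u hu v huv.orderOf_eq.symm).symm
  have h1 : ∀ ψ ∈ B, ∀ a ∈ tameX σ, S.mm a χ.1 ψ.1 = 0 := fun ψ hψ a ha =>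
    S.mm_eq_zero_of_dg (hX a ha) hψ
  have h2 : ∀ ψ ∈ B, ∀ t ∈ tameReps e σ τ, S.mm t χ.1 ψ.1 = 0 := fun ψ hψ t ht =>
    S.mm_eq_zero_of_dg (S.dg_of_free h (free_of_mem_tameReps ht) h4 hχ h0) hψ
  have h3 : ∀ ψ ∈ B, S.mm 1 χ.1 ψ.1 + S.mm (σ ^ m) χ.1 ψ.1 = if χ = ψ then 1 else 0 :=
    fun ψ hψ => by
      rw [← S.tame_decomp_one h hχ, Finset.sum_eq_zero (h1 ψ hψ), Finset.sum_eq_zero (h2 ψ hψ)]
      simp
  have h5 : ∀ ψ ∈ B, ∃ N : ℤ, S.mm (σ ^ m) χ.1 ψ.1 = N / 4 := fun ψ hψ => by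
    obtain ⟨n, hn⟩ := S.exists_int_classInner_bstar hst hθ χ ψ
    rw [S.tame_decomp h hst χ.isClassFunction, Finset.sum_eq_zero fun a ha => by
      rw [h1 ψ hψ a ha, mul_zero], Finset.sum_eq_zero fun a ha => by
      rw [h2 ψ hψ a ha, mul_zero], hθz, hn₀] at hn
    refine ⟨n₀ * (if χ = ψ then 1 else 0) - n, ?_⟩
    push_cast
    rw [← h3 ψ hψ, ← hn]
    ring
  obtain ⟨a, ha⟩ := h.pow
  have hd : blockDefect 2 B = a + 3 := Nat.pow_right_injective le_rfl (by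
    simp only [← S.card_eq, h.card, ha]; ring)
  have hd' : blockDefect 2 (S.below (σ ^ m)) = blockDefect 2 B := Nat.pow_right_injective le_rfl (by
    simp only [← S.card_eq, ← S.card_eq_pow_below (tame_le_centralizer_z h)])
  have h6 : ∀ ψ ∈ (irrFinset B).filter fun χ => blockHeight 2 B χ.1 = 0,
      1 / 16 ≤ ‖S.mm (σ ^ m) χ.1 ψ.1‖ ^ 2 ∧ a + 1 ≤ blockHeight 2 B χ.1 := fun ψ hψ => by
    obtain ⟨hψ, hψ0⟩ := Finset.mem_filter.1 hψ
    obtain ⟨N, hN⟩ := h5 ψ (mem_irrFinset.1 hψ)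
    have h6 := (S.isInducedBlock_below (σ ^ m)).valM_secCon_of_height_zero S.hM (S.orderOf_eq _)
      rfl hd' (mem_irrFinset.1 hψ) hχ hψ0
    rw [S.secCon_below, ← S.conj_mm χ.isClassFunction ψ.isClassFunction, hN, hd', hd,
      show ((2 : ℕ) : ℂ) ^ (a + 3) * conj ((N : ℂ) / 4) = ((2 : ℕ) : ℂ) ^ (a + 1) * N by
        simp only [map_div₀, map_intCast, map_ofNat]; push_cast; ring, map_mul, map_pow] at h6
    have h7 : N ≠ 0 := by
      rintro rfl
      simp only [Int.cast_zero, map_zero, mul_zero] at h6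
      exact (pow_pos S.hM.valM_p_pos _).ne h6
    refine ⟨?_, S.hM.valM_p_pow_le_iff.1 (h6 ▸ mul_le_of_le_one_right'
      (mem_valO_iff.1 (intCast_mem_valO N)))⟩
    have h8 : (1 : ℝ) ≤ |(N : ℝ)| := by exact_mod_cast Int.one_le_abs h7
    rw [hN, norm_div, Complex.norm_intCast, Complex.norm_ofNat]
    nlinarith
  obtain ⟨ψ₀, hψ₀⟩ := Finset.card_pos.1 (h4 ▸ four_pos)
  have h7 := S.hB.blockHeight_add_two_le S.hM hχ h0
  have h8 := Finset.card_nsmul_le_sum _ _ _ fun ψ hψ => (h6 ψ hψ).1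
  have h9 := S.sum_normSq_mm χ.isClassFunction (σ ^ m)
  have hχ' : χ ∈ (irrFinset B).filter fun χ => ¬ blockHeight 2 B χ.1 = 0 :=
    Finset.mem_filter.2 ⟨mem_irrFinset.2 hχ, h0⟩
  rw [← Finset.sum_filter_add_sum_filter_not _ fun χ => blockHeight 2 B χ.1 = 0,
    ← Finset.add_sum_erase _ _ hχ', ← S.cast_dg, Complex.norm_real, Real.norm_eq_abs, sq_abs,
    Complex.ofReal_re] at h9
  rw [h4] at h8
  have h10 := Finset.sum_nonneg fun ψ (_ : ψ ∈ ((irrFinset B).filter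
    fun χ => ¬ blockHeight 2 B χ.1 = 0).erase χ) => sq_nonneg ‖S.mm (σ ^ m) χ.1 ψ.1‖
  norm_num at h8
  have h11 : S.dg (σ ^ m) χ = 1 / 2 := by nlinarith [sq_nonneg (S.dg (σ ^ m) χ - 1 / 2)]
  have h12 := h3 χ hχ
  rw [if_pos rfl, ← S.cast_dg, ← S.cast_dg, h11] at h12
  refine ⟨by rw [ha]; congr 1; have := (h6 _ hψ₀).2; omega, Complex.ofReal_injective (by
    push_cast at h12 ⊢; linear_combination h12), h11, fun ψ hψ h13 h14 => ?_⟩
  have h15 : S.mm (σ ^ m) χ.1 ψ.1 = 0 := by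
    simpa using (Finset.sum_eq_zero_iff_of_nonneg fun _ _ => sq_nonneg _).1
      (le_antisymm (by rw [h11] at h9; linarith) h10) ψ
      (Finset.mem_erase.2 ⟨h14, Finset.mem_filter.2 ⟨mem_irrFinset.2 hψ, h13⟩⟩)
  exact ⟨by simpa [h15, h14.symm] using h3 ψ hψ, h15⟩

end StarSetup

open Classical in
/-- the distribution of the characters of a block with a semidihedral or quaternion defect group -/
structure TameQ (S : StarSetup 2 M B P e) (σ : P) (m : ℕ) [Fintype (Subgroup.zpowers σ)]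
    (Ye Yo R : Finset (IrrCharacter G)) : Prop where
  four : ((irrFinset B).filter fun χ => blockHeight 2 B χ.1 = 0).card = 4
  e_mem : ∀ χ ∈ Ye, χ ∈ B ∧ blockHeight 2 B χ.1 ≠ 0
  o_mem : ∀ χ ∈ Yo, χ ∈ B
  mem_r : ∀ χ, χ ∈ R ↔ χ ∈ B ∧ blockHeight 2 B χ.1 ≠ 0 ∧ χ ∉ Ye ∧ χ ∉ Yo
  disj : Disjoint Ye Yo
  r_zero : ∀ χ ∈ R, ∀ a ∈ tameX σ, S.dg a χ = 0
  card_o : Yo.card = if m = 2 then 0 else m / 2
  sum_o : ∀ χ ∈ Yo, blockHeight 2 B χ.1 ≠ 0 → 2 * m * ∑ a ∈ tameX σ, S.dg a χ = 4 * m - 8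
  o_or : (∀ χ ∈ Yo, blockHeight 2 B χ.1 ≠ 0) ∨ (m = 4 ∧ ∀ χ ∈ Yo, blockHeight 2 B χ.1 = 0)
  e_or : (2 * Ye.card + 2 = m ∧ ∀ χ ∈ Ye, 2 * m * ∑ a ∈ tameX σ, S.dg a χ = 4 * m - 8) ∨
    (m = 8 ∧ Ye.card = 1)
  par : ((σ ^ m : P) : G) ∈ Subgroup.center G → ∃ c₀ : ℂ, (c₀ = 1 ∨ c₀ = -1) ∧
    (∀ χ ∈ B, blockHeight 2 B χ.1 = 0 ∨ χ ∈ Ye → χ.1 (σ ^ m : P) / χ.1 1 = c₀) ∧
    ∀ χ ∈ Yo, χ.1 (σ ^ m : P) / χ.1 1 = -c₀

omit [Fintype G] in
theorem IsTame.div_eq_or [Finite G] (h : IsTame σ τ m k)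
    (hz : ((σ ^ m : P) : G) ∈ Subgroup.center G) (χ : IrrCharacter G) :
    χ.1 (σ ^ m : P) / χ.1 1 = 1 ∨ χ.1 (σ ^ m : P) / χ.1 1 = -1 := by
  have h1 := χ.div_pow_orderOf_of_mem_center hz
  rwa [Subgroup.orderOf_coe, h.orderOf_z, sq_eq_one_iff] at h1

theorem StarSetup.exists_tameQ (S : StarSetup 2 M B P e) (h : IsTame σ τ m k)
    [Fintype (Subgroup.zpowers σ)] : ∃ Ye Yo R, TameQ S σ m Ye Yo R := by
  classical
  obtain ⟨w, hw, hw4⟩ := h.exists_orderOf_four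
  have hw2 : w * w ≠ 1 := by rw [← sq, Ne, ← orderOf_dvd_iff_pow_eq_one, hw4]; decide
  obtain ⟨ρ, C, h1, h2⟩ := S.exists_tameCols h hw (by rintro rfl; simp at hw2)
    (L := fun a => a * a ≠ 1) (fun a ha => IsTame.mem_zpowers_of_dvd hw a.2
      (hw4 ▸ h.four_dvd_orderOf fun h1 => ha (Subtype.ext h1)))
    (fun h1 => h.σ_mul_σ_ne_one (congrArg Subtype.val h1)) fun x hx a b ha _ hb =>
      h.mem_of_commute hw hw2 (Subtype.ext (by
        have h1 := Subgroup.mem_centralizer_singleton_iff.1 hx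
        have h2 : (a : G) * w = w * a := congrArg Subtype.val (setLike_mul_comm ha hw)
        simp only [Subgroup.coe_mul, hb]
        calc x * a * x⁻¹ * w = x * a * (x⁻¹ * (w * x) * x⁻¹) := by group
          _ = x * (a * w) * x⁻¹ := by rw [← h1]; group
          _ = x * w * a * x⁻¹ := by rw [h2]; group
          _ = w * (x * a * x⁻¹) := by rw [h1]; group))
  obtain ⟨h4, Ye, a1, Yo, a2, a3, a4, a5, a6, a7, a8, a9, a10, a11⟩ := C.level_two h
  have h3 := fun χ => S.tame_sum_X h (fun _ => id) (h1 χ)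
  refine ⟨Ye, Yo, (irrFinset B).filter fun χ => blockHeight 2 B χ.1 ≠ 0 ∧ χ ∉ Ye ∧ χ ∉ Yo,
    by convert h4, fun χ hχ => ⟨mem_irrFinset.1 (a1 hχ), a3 χ hχ⟩,
    fun χ hχ => mem_irrFinset.1 (a2 hχ), by simp, a4, fun χ hχ a ha => ?_, a8,
    fun χ hχ h0 => (h3 χ).symm.trans (a9 χ hχ h0), a10,
    a11.imp_left fun h5 => ⟨h5.1, fun χ hχ => (h3 χ).symm.trans (h5.2 χ hχ)⟩, fun hz => ?_⟩
  · obtain ⟨b1, b2, b3, b4⟩ := Finset.mem_filter.1 hχ
    have h5 := h1 χ a (mem_tameX.1 ha)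
    rw [a5 χ b1 b2 b3 b4 a (mem_tameX.1 ha), norm_zero, zero_pow two_ne_zero, eq_comm,
      mul_eq_zero, Nat.cast_eq_zero] at h5
    exact h5.resolve_left Nat.card_pos.ne'
  · obtain ⟨c₀, hc₀, h5⟩ := h2 hz
    refine ⟨c₀, hc₀, fun χ hχ h6 => by_contra fun h7 => a6 χ (mem_irrFinset.2 hχ) h6 fun a => ?_,
      fun χ hχ => by_contra fun h7 => a7 χ hχ fun a => ?_⟩ <;> rw [h5] <;>
    rcases h.div_eq_or hz χ with h8 | h8 <;> rw [h8] at h7 ⊢ <;> rcases hc₀ with rfl | rfl <;>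
    first | ring1 | exact absurd (by norm_num) h7

namespace TameQ
variable {S : StarSetup 2 M B P e} [Fintype (Subgroup.zpowers σ)]
  {Ye Yo R : Finset (IrrCharacter G)} (T : TameQ S σ m Ye Yo R) (h : IsTame σ τ m k)
  (hq : (σ * τ) * (σ * τ) = σ ^ m)
include T

open Classical in
theorem filter_ne_zero : ((irrFinset B).filter fun χ => ¬ blockHeight 2 B χ.1 = 0) =
    Ye ∪ Yo.filter (fun χ => ¬ blockHeight 2 B χ.1 = 0) ∪ R := by
  ext χ
  have h1 := T.e_mem χ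
  have h2 := T.o_mem χ
  simp only [Finset.mem_filter, mem_irrFinset, Finset.mem_union, T.mem_r]
  tauto

open Classical in
theorem card_eq : Nat.card B =
    4 + Ye.card + (Yo.filter fun χ => ¬ blockHeight 2 B χ.1 = 0).card + R.card := by
  rw [← card_irrFinset, ← Finset.card_filter_add_card_filter_not
    (fun χ => blockHeight 2 B χ.1 = 0), T.four, T.filter_ne_zero, Finset.card_union_of_disjoint,
    Finset.card_union_of_disjoint (T.disj.mono_right (Finset.filter_subset _ _))]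
  · ring
  · refine Finset.disjoint_right.2 fun χ hχ h1 => ?_
    have := (T.mem_r χ).1 hχ
    simp only [Finset.mem_union, Finset.mem_filter] at h1
    tauto

include h hq

theorem rest {χ : IrrCharacter G} (hχ : χ ∈ R) : 2 ^ blockHeight 2 B χ.1 = m ∧ S.dg 1 χ = 1 / 2 ∧
    S.dg (σ ^ m) χ = 1 / 2 ∧ ∀ ψ ∈ B, blockHeight 2 B ψ.1 ≠ 0 → ψ ≠ χ →
      S.mm 1 χ.1 ψ.1 = 0 ∧ S.mm (σ ^ m) χ.1 ψ.1 = 0 :=
  S.tame_rest h hq T.four ((T.mem_r χ).1 hχ).1 ((T.mem_r χ).1 hχ).2.1 (T.r_zero χ hχ)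

theorem le_rank : R.card + (if m = 2 then 0 else 1) ≤ blockRank 2 B ∧
    R.card + (if m = 2 then 0 else 1) ≤ blockRank 2 (S.below (σ ^ m)) := by
  classical
  obtain ⟨Y, h1, h2, h3⟩ : ∃ Y ⊆ Ye, Y.card = (if m = 2 then 0 else 1) ∧ Y.card ≤ 1 := by
    split_ifs with hm
    · exact ⟨∅, by simp⟩
    · obtain ⟨y, hy⟩ := Finset.card_pos.1 (show 0 < Ye.card by
        have := h.eq_two_or; have := h.two_le; have := T.e_or.imp_left And.left; omega)
      exact ⟨{y}, by simpa⟩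
  have h4 : ∀ χ ∈ R ∪ Y, χ ∈ B ∧ blockHeight 2 B χ.1 ≠ 0 := fun χ hχ =>
    (Finset.mem_union.1 hχ).elim (fun h4 => ⟨((T.mem_r χ).1 h4).1, ((T.mem_r χ).1 h4).2.1⟩)
      fun h4 => T.e_mem χ (h1 h4)
  have h5 : ∀ χ ∈ R ∪ Y, ∀ ψ ∈ R ∪ Y, χ ≠ ψ →
      S.mm 1 χ.1 ψ.1 = 0 ∧ S.mm (σ ^ m) χ.1 ψ.1 = 0 := fun χ hχ ψ hψ hne => by
    rcases Finset.mem_union.1 hχ with h5 | h5
    · exact (T.rest h hq h5).2.2.2 ψ (h4 ψ hψ).1 (h4 ψ hψ).2 hne.symm
    · have h6 := (T.rest h hq ((Finset.mem_union.1 hψ).resolve_right fun h6 =>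
        hne (Finset.card_le_one.1 h3 _ h5 _ h6))).2.2.2 χ (h4 χ hχ).1 (h4 χ hχ).2 hne
      simp only [← S.conj_mm ψ.isClassFunction χ.isClassFunction, h6, map_zero, and_self]
  rw [← h2, ← Finset.card_union_of_disjoint (Finset.disjoint_left.2 fun χ hχ h6 =>
    ((T.mem_r χ).1 hχ).2.2.1 (h1 h6)), ← S.blockRank_below_one]
  exact ⟨S.card_le_blockRank_below _ _ (fun χ hχ => by
      rw [← S.cast_dg]; exact_mod_cast (S.dg_one_pos (h4 χ hχ).1).ne')
      fun χ hχ ψ hψ hne => (h5 χ hχ ψ hψ hne).1, S.card_le_blockRank_below _ _ (fun χ hχ => by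
      rw [← S.cast_dg]; exact_mod_cast (S.dg_z_pos h (h4 χ hχ).1).ne')
      fun χ hχ ψ hψ hne => (h5 χ hχ ψ hψ hne).2⟩

theorem o_ne : ∀ χ ∈ Yo, blockHeight 2 B χ.1 ≠ 0 := T.o_or.resolve_right fun h1 => by
  classical
  have h2 := T.card_eq
  rw [Finset.filter_eq_empty_iff.2 fun χ hχ => not_not.2 (h1.2 χ hχ), Finset.card_empty] at h2
  have h3 := T.le_rank h hq
  have h4 := S.tame_card h
  have h5 := T.e_or.imp_left And.left
  rw [if_neg (by omega)] at h3
  have := S.hB.card_le_eight_of_rank_one S.hM S.isDefectGroup (by omega) (by omega)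
  rw [h.card] at this
  omega

theorem card_eq' : Nat.card B = 4 + Ye.card + Yo.card + R.card := by
  classical
  rw [T.card_eq, Finset.filter_true_of_mem (T.o_ne h hq)]

theorem of_fake (hm : m = 8) (hY : Ye.card = 1) : blockRank 2 B = 1 ∧
    blockRank 2 (S.below (σ ^ m)) = 1 ∧ (tameReps e σ τ).card = 0 ∧ R.card = 0 := by
  have h2 := T.card_eq' h hq
  have h3 := T.le_rank h hq
  have h4 := S.tame_card h
  have h5 := T.card_o
  rw [if_neg (by omega)] at h3 h5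
  omega

theorem central (hz : ((σ ^ m : P) : G) ∈ Subgroup.center G) :
    blockRank 2 B + (tameReps e σ τ).card = 3 := by
  classical
  obtain ⟨c₀, hc₀, h1, h2⟩ := T.par hz
  have h3 : ∀ χ ψ : IrrCharacter G, S.mm (σ ^ m) χ.1 ψ.1 = χ.1 (σ ^ m : P) / χ.1 1 *
      conj (ψ.1 (σ ^ m : P) / ψ.1 1) * S.mm 1 χ.1 ψ.1 := fun χ ψ => by
    rw [← S.mm_mul_of_central hz ψ.isClassFunction χ.isClassFunction
      (χ.apply_mul_of_mem_center hz) (ψ.apply_mul_of_mem_center hz), mul_one]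
  have h4 : ∀ χ, S.dg (σ ^ m) χ = S.dg 1 χ := fun χ => Complex.ofReal_injective (by
    rw [S.cast_dg, S.cast_dg, h3]
    rcases h.div_eq_or hz χ with h4 | h4 <;> rw [h4] <;> simp)
  have h5 : blockRank 2 (S.below (σ ^ m)) = blockRank 2 B := by
    apply Nat.cast_injective (R := ℝ)
    simp only [← S.blockRank_below_one, ← S.sum_dg, h4]
  have h6 := T.card_eq' h hq
  have h7 := T.le_rank h hq
  have h8 := S.tame_card h
  have h9 := T.card_o
  rcases T.e_or with h10 | h10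
  · have h11 : ∑ ψ ∈ irrFinset B, ψ.1 (σ ^ m : P) / ψ.1 1 * S.dg 1 ψ = 0 := by
      have h11 : ∀ χ ∈ irrFinset B, ∑ ψ ∈ irrFinset B, ψ.1 (σ ^ m : P) / ψ.1 1 *
          (S.mm 1 ψ.1 χ.1 * S.mm 1 χ.1 ψ.1) = 0 := fun χ _ => by
        have h11 := S.sum_mm_mul_mm_of_not (φ := χ.1) χ.isClassFunction (v := σ ^ m) (w := 1)
          fun h11 => h.z_ne_one (Subtype.ext (isConj_one_left.1 h11.isConj))
        simp only [h3, mul_assoc, ← Finset.mul_sum] at h11
        rw [← (mul_eq_zero.1 h11).resolve_left (by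
          rcases h.div_eq_or hz χ with h4 | h4 <;> rw [h4] <;> simp)]
        refine Finset.sum_congr rfl fun ψ _ => ?_
        rcases h.div_eq_or hz ψ with h4 | h4 <;> rw [h4] <;> simp [mul_comm]
      rw [← Finset.sum_eq_zero h11, Finset.sum_comm]
      refine Finset.sum_congr rfl fun ψ _ => ?_
      rw [← Finset.mul_sum, S.sum_mm_mul_mm_self ψ.isClassFunction, S.cast_dg]
    have h12 : (blockRank 2 B : ℝ) ≤ ∑ ψ ∈ Yo ∪ R, 2 * S.dg 1 ψ := by
      have h12 : ∑ ψ ∈ irrFinset B, (1 - (c₀ * (ψ.1 (σ ^ m : P) / ψ.1 1)).re) * S.dg 1 ψ =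
          blockRank 2 B := by
        have := congrArg (fun x => (c₀ * x).re) h11
        simp only [Finset.mul_sum, Complex.re_sum, ← mul_assoc, Complex.re_mul_ofReal, mul_zero,
          Complex.zero_re] at this
        simp only [sub_mul, one_mul, Finset.sum_sub_distrib, S.sum_dg, S.blockRank_below_one, this,
          sub_zero]
      rw [← h12, ← Finset.sum_subset (s₁ := Yo ∪ R) (fun χ hχ => mem_irrFinset.2
        ((Finset.mem_union.1 hχ).elim (T.o_mem χ) fun h13 => ((T.mem_r χ).1 h13).1))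
        fun χ hχ h13 => by
          rw [Finset.mem_union, T.mem_r] at h13
          rw [h1 χ (mem_irrFinset.1 hχ) (by have := mem_irrFinset.1 hχ; tauto)]
          rcases hc₀ with rfl | rfl <;> simp]
      refine Finset.sum_le_sum fun χ _ => mul_le_mul_of_nonneg_right ?_ (S.dg_nonneg _ _)
      rcases h.div_eq_or hz χ with h4 | h4 <;> rcases hc₀ with rfl | rfl <;> rw [h4] <;> norm_num
    have h13 : (0 : ℝ) < m := by have := h.two_le; exact_mod_cast (by omega)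
    rw [Finset.sum_union (Finset.disjoint_right.2 fun χ hχ => ((T.mem_r χ).1 hχ).2.2.2),
      Finset.sum_congr rfl (g := fun _ => 2 / (m : ℝ)) fun χ hχ => by
        have h14 := S.tame_decomp_dg h (T.o_mem χ hχ)
        have h15 := T.sum_o χ hχ (T.o_ne h hq χ hχ)
        rw [h4, Finset.sum_eq_zero (s := tameReps e σ τ) fun t ht => S.dg_of_free h
          (StarSetup.free_of_mem_tameReps ht) T.four (T.o_mem χ hχ) (T.o_ne h hq χ hχ)] at h14
        field_simp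
        nlinarith, Finset.sum_congr rfl (s₁ := R) (g := fun _ => 1) fun χ hχ => by
        rw [(T.rest h hq hχ).2.1]; norm_num] at h12
    simp only [Finset.sum_const, nsmul_eq_mul, mul_one] at h12
    have h14 : blockRank 2 B ≤ (if m = 2 then 0 else 1) + R.card := by
      refine (Nat.cast_le (α := ℝ)).1 (h12.trans_eq ?_)
      rw [h9, Nat.cast_add]
      congr 1
      obtain ⟨n, rfl⟩ := h.two_dvd
      split_ifs
      · simp
      · rw [Nat.mul_div_cancel_left _ two_pos]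
        push_cast at h13 ⊢
        have : (n : ℝ) ≠ 0 := by intro h14; simp [h14] at h13
        field_simp
    have := h.two_dvd
    split_ifs at h7 h9 h14 <;> omega
  · exfalso
    obtain ⟨h11, -, -, h12⟩ := T.of_fake h hq h10.1 h10.2
    set N := Subgroup.zpowers ((σ ^ m : P) : G) with hN
    have : N.Normal := ⟨fun n hn g => by
      rwa [Subgroup.mem_center_iff.1 (Subgroup.zpowers_le.2 hz hn) g, mul_inv_cancel_right]⟩
    have hk : IsPGroup 2 (QuotientGroup.mk' N).ker := by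
      rw [QuotientGroup.ker_mk']; exact S.isPGroup.to_le (Subgroup.zpowers_le.2 (σ ^ m).2)
    have hreg : ∀ g : G, ¬ 2 ∣ orderOf g →
        g ∈ Subgroup.centralizer ((QuotientGroup.mk' N).ker : Set G) := fun g _ x hx => by
      rw [QuotientGroup.ker_mk'] at hx
      exact (Subgroup.mem_center_iff.1 (Subgroup.zpowers_le.2 hz hx) g).symm
    have h13 := (S.hB.preimage_comap_of_regular S.hM _ (QuotientGroup.mk'_surjective N) hk
      hreg).card_le_eight_of_rank_one S.hM ((S.hB.isDefectGroup_preimage_iff_of_regular S.hM _ _ hk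
        hreg _).2 ⟨P, S.isDefectGroup, rfl⟩)
        (((S.hB.isBlockUnion S.hM).blockRank_preimage_comap_of_isPGroup S.hM _ _ hk).trans h11) (by
        have h13 : ∀ Y : Finset (IrrCharacter G), Y.card ≤ 5 → (∀ χ ∈ B,
            χ.1 (σ ^ m : P) / χ.1 1 = 1 → χ ∈ Y) → Nat.card (IrrCharacter.comap _
              (QuotientGroup.mk'_surjective N) ⁻¹' B) ≤ 5 := fun Y hY h13 => by
          rw [← card_irrFinset]
          refine le_trans (Finset.card_le_card_of_injOn _ (fun χ hχ => h13 _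
            (Set.mem_preimage.1 (mem_irrFinset.1 hχ)) ?_) (IrrCharacter.comap_injective _ _).injOn) hY
          rw [IrrCharacter.comap_apply, IrrCharacter.comap_apply, map_one, QuotientGroup.mk'_apply,
            (QuotientGroup.eq_one_iff _).2 (Subgroup.mem_zpowers _), div_self χ.one_ne_zero]
        have h14 : ∀ χ ∈ B, (blockHeight 2 B χ.1 = 0 ∨ χ ∈ Ye) ∨ χ ∈ Yo := fun χ hχ => by
          have := T.mem_r χ
          simp only [Finset.card_eq_zero.1 h12, Finset.notMem_empty] at this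
          tauto
        rcases hc₀ with rfl | rfl
        · refine h13 ((irrFinset B).filter (fun χ => blockHeight 2 B χ.1 = 0) ∪ Ye)
            ((Finset.card_union_le _ _).trans (by rw [T.four, h10.2])) fun χ hχ h15 => ?_
          simpa [hχ] using (h14 χ hχ).resolve_right fun h16 => by
            rw [h2 χ h16] at h15; norm_num at h15
        · exact h13 Yo (by rw [h9, h10.1]; norm_num) fun χ hχ h15 =>
            (h14 χ hχ).resolve_left fun h16 => by rw [h1 χ hχ h16] at h15; norm_num at h15)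
    have h14 := (N.subgroupOf P).card_mul_index
    rw [card_subgroupOf_of_le (Subgroup.zpowers_le.2 (σ ^ m).2), Nat.card_zpowers,
      Subgroup.orderOf_coe, h.orderOf_z, h.card, ← Subgroup.relIndex, ← card_map_mk] at h14
    omega

end TameQ

namespace StarSetup
variable (S : StarSetup 2 M B P e) (h : IsTame σ τ m k) (hq : (σ * τ) * (σ * τ) = σ ^ m)
include S h hq

open Classical in
/-- the rank of the block below the central involution -/
theorem tame_rank_z : ∃ n : ℕ, blockRank 2 (S.below (σ ^ m)) + n = 3 ∧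
    (¬ TameFree e σ (σ * τ) → n ≤ 1) ∧ (τ * τ = 1 → 1 ≤ n) ∧
    (τ * τ = σ ^ m → n = (tameReps e σ τ).card) := by
  have hle := tame_le_centralizer_z h
  set K := Subgroup.centralizer {((σ ^ m : P) : G)} with hK
  have hb := S.isPBlock_below (σ ^ m)
  have hm := S.isMaxPair_below hle
  have := Fintype.ofFinite K
  let ι : P ≃* P.subgroupOf K := (Subgroup.subgroupOfEquivOfLe hle).symm
  have hι : ∀ v : P, (((ι v : P.subgroupOf K) : K) : G) = v := fun _ => rfl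
  have h' := h.congr ι
  have := Fintype.ofFinite (Subgroup.zpowers (ι σ))
  have S' := hm.starSetup_sub S.hM hb
  obtain ⟨Ye, Yo, R, T⟩ := S'.exists_tameQ h'
  have hz : (((ι σ) ^ m : P.subgroupOf K) : K) ∈ Subgroup.center K :=
    Subgroup.mem_center_iff.2 fun x => Subtype.ext (Subgroup.mem_centralizer_singleton_iff.1 x.2)
  have h1 := T.central h' (by simp only [← map_mul, hq, map_pow]) hz
  have h2 : ∀ {u : P}, u * u = σ ^ m → Subgroup.centralizer {(u : G)} ≤ K := fun hu x hx => by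
    rw [hK, ← hu, Subgroup.mem_centralizer_singleton_iff] at *
    exact (Commute.mul_right hx hx).eq
  have h3 : ∀ {u v : P}, u * u = σ ^ m → v * v = σ ^ m → (PairFuse 2 P e (u : G) v ↔
      PairFuse 2 (P.subgroupOf K) (gaTrunc (resK M) K e) (ι u : K) (ι v)) := fun hu hv =>
    ⟨fun h3 => S.pairFuse_sub hb hm (h2 hu) (h2 hv) h3 fun x hx => by
      have h4 := congrArg Subtype.val hv
      rw [hι, hι] at hx
      rw [Subgroup.coe_mul, hx, conj_mul, ← Subgroup.coe_mul, hu] at h4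
      exact Subgroup.mem_centralizer_singleton_iff.2 (mul_inv_eq_iff_eq_mul.1 h4),
    S.pairFuse_of_sub hb hm (h2 hu) (h2 hv)⟩
  have h4 : ∀ {u a : P}, u * u = σ ^ m → a ∈ Subgroup.zpowers σ → orderOf u = orderOf a →
      a * a = σ ^ m := fun {u a} hu ha ho => by
    refine ((h.mul_self_eq_one_iff (mul_mem ha ha)).1 ?_).resolve_left fun h4 => h.z_ne_one
      (hu ▸ (mul_self_eq_one_iff_of_orderOf_eq ho).2 h4)
    have : u ^ 4 = 1 := by rw [← h.z_mul_z, ← hu]; simp only [pow_succ, pow_zero, one_mul, mul_assoc]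
    rw [← orderOf_dvd_iff_pow_eq_one, ho, orderOf_dvd_iff_pow_eq_one] at this
    rw [← this]; simp only [pow_succ, pow_zero, one_mul, mul_assoc]
  have h5 : ∀ a : P, ι a ∈ Subgroup.zpowers (ι σ) ↔ a ∈ Subgroup.zpowers σ := fun a => by
    rw [← MonoidHom.coe_coe, ← MonoidHom.map_zpowers, Subgroup.mem_map_iff_mem ι.injective]
  have h6 : ∀ {u : P}, u * u = σ ^ m →
      (TameFree e σ u ↔ TameFree (gaTrunc (resK M) K e) (ι σ) (ι u)) := fun {u} hu => by
    refine ⟨fun h6 a ha h7 => ?_, fun h6 a ha h7 =>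
      h6 _ ((h5 a).2 ha) ((h3 hu (h4 hu ha h7.orderOf_eq)).1 h7)⟩
    obtain ⟨a, rfl⟩ := ι.surjective a
    exact h6 a ((h5 a).1 ha) ((h3 hu (h4 hu ((h5 a).1 ha)
      (by simpa only [MulEquiv.orderOf_eq] using h7.orderOf_eq))).2 h7)
  refine ⟨_, h1, fun h7 => ?_, fun h7 => ?_, fun h7 => ?_⟩
  · rw [card_tameReps h', ← map_mul, ← h6 hq, if_neg fun h8 : _ ∧ _ => h7 h8.1]
    split_ifs <;> omega
  · rw [card_tameReps h', if_pos (c := TameFree _ _ (ι τ)) fun a ha h8 => ?_]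
    · omega
    have h9 := (h'.mul_self_eq_one_iff ha).1 ((mul_self_eq_one_iff_of_orderOf_eq h8.orderOf_eq).1
      (by rw [← map_mul, h7, map_one]))
    obtain ⟨c, hc⟩ := isConj_iff.1 h8.isConj.symm
    rw [Subgroup.mem_center_iff.1 (show (a : K) ∈ Subgroup.center K by
      rcases h9 with rfl | rfl; exacts [one_mem _, hz]) c, mul_inv_cancel_right] at hc
    exact h'.notMem (Subtype.ext hc ▸ ha)
  · simp only [card_tameReps h', card_tameReps h, ← map_mul, h6 h7, h6 hq, h3 h7 hq]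
    rfl

open Classical in
theorem tame_quaternion_like : ∃ r : ℕ, Nat.card B + (if m = 2 then 1 else 0) = m + 3 + r ∧
    r + (if m = 2 then 0 else 1) ≤ blockRank 2 B ∧
    r + (if m = 2 then 0 else 1) ≤ blockRank 2 (S.below (σ ^ m)) ∧
    ((irrFinset B).filter fun χ => blockHeight 2 B χ.1 = 0).card = 4 ∧
    (∀ χ ∈ B, blockHeight 2 B χ.1 = 0 ∨ blockHeight 2 B χ.1 = 1 ∨ 2 ^ blockHeight 2 B χ.1 = m) ∧
    (m ≠ 2 → ((irrFinset B).filter fun χ => blockHeight 2 B χ.1 = 1).card + 1 = m) := by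
  have := Fintype.ofFinite (Subgroup.zpowers σ)
  obtain ⟨Ye, Yo, R, T⟩ := S.exists_tameQ h
  obtain ⟨h1, h2⟩ := T.e_or.resolve_right fun h1 => by
    obtain ⟨-, h2, h3, -⟩ := T.of_fake h hq h1.1 h1.2
    obtain ⟨n, h4, h5, -⟩ := S.tame_rank_z h hq
    rw [card_tameReps h] at h3
    have := h5 fun h6 => by
      split_ifs at h3 with h7 h8 h8 <;> try omega
      exact h8 ⟨h6, fun h9 => h7 (S.free_of_fuse h9.symm h6)⟩
    omega
  have h3 : ∀ χ ∈ Ye ∪ Yo, χ ∈ B ∧ blockHeight 2 B χ.1 = 1 := fun χ hχ => by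
    rcases Finset.mem_union.1 hχ with h3 | h3
    · exact ⟨(T.e_mem χ h3).1, S.height_eq_one h (T.e_mem χ h3).1 (T.e_mem χ h3).2 (h2 χ h3)⟩
    · exact ⟨T.o_mem χ h3, S.height_eq_one h (T.o_mem χ h3) (T.o_ne h hq χ h3)
        (T.sum_o χ h3 (T.o_ne h hq χ h3))⟩
  have h4 := T.card_eq' h hq
  have h5 := T.card_o
  have h6 := h.two_dvd
  refine ⟨R.card, by split_ifs at h5 ⊢ <;> omega, (T.le_rank h hq).1, (T.le_rank h hq).2, T.four,
    fun χ hχ => ?_, fun hm => ?_⟩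
  · by_cases h7 : χ ∈ Ye ∪ Yo
    · exact Or.inr (Or.inl (h3 χ h7).2)
    · rw [Finset.mem_union, not_or] at h7
      exact or_iff_not_imp_left.2 fun h8 =>
        Or.inr (T.rest h hq ((T.mem_r χ).2 ⟨hχ, h8, h7⟩)).1
  · rw [show ((irrFinset B).filter fun χ => blockHeight 2 B χ.1 = 1) = Ye ∪ Yo from ?_,
      Finset.card_union_of_disjoint T.disj]
    · rw [if_neg hm] at h5; omega
    ext χ
    rw [Finset.mem_filter, mem_irrFinset]
    refine ⟨fun h7 => by_contra fun h8 => ?_, h3 χ⟩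
    rw [Finset.mem_union, not_or] at h8
    have := (T.rest h hq ((T.mem_r χ).2 ⟨h7.1, by omega, h8⟩)).1
    rw [h7.2] at this
    omega

end StarSetup

end Cfsg
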