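import Cfsg.Agent.Blk.CycFourT
import Cfsg.Agent.Blk.FHom
import Cfsg.Agent.Blk.Tame4

/-! Fusion in defect groups with an abelian subgroup `C_{2m} × C_2` of index two. -/

set_option autoImplicit false

namespace Cfsg

open scoped ComplexConjugate MonoidAlgebra

universe u v w

section cj
variable {G : Type u} [Group G] {P : Subgroup G} {g : G} {a b a' b' : P}

/-- `b` is the conjugate of `a` by `g` -/
def Cj (g : G) (a b : P) : Prop := (b : G) = g * a * g⁻¹

theorem Cj.mul (h : Cj g a a') (h' : Cj g b b') : Cj g (a * b) (a' * b') := by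
  unfold Cj at *
  rw [Subgroup.coe_mul, h, h', conj_mul, Subgroup.coe_mul]

theorem Cj.inj (h : Cj g a b) (h' : Cj g a' b) : a = a' :=
  Subtype.ext (by simpa using Eq.trans (Eq.symm h) h')

theorem Cj.unique (h : Cj g a b) (h' : Cj g a b') : b = b' := Subtype.ext (Eq.trans h (Eq.symm h'))

theorem cj_one : Cj g (1 : P) 1 := by simp [Cj]

theorem Cj.symm (h : Cj g a b) : Cj g⁻¹ b a := by
  unfold Cj at *
  rw [h]; group

theorem Cj.mul_left (h : Cj g a b) (d : P) : Cj (d * g) a (d * b * d⁻¹) := by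
  unfold Cj at *
  push_cast
  rw [h]; group

theorem Cj.sq_iff (h : Cj g a b) : b * b = 1 ↔ a * a = 1 :=
  ⟨fun h1 => (h1 ▸ h.mul h).inj cj_one, fun h1 => (h1 ▸ h.mul h).unique cj_one⟩

theorem Cj.comm (h : Cj g a a') (h' : Cj g b b') (hc : a * b = b * a) : a' * b' = b' * a' :=
  (h.mul h').unique (hc ▸ h'.mul h)

theorem coe_mem_inf_centralizer : (a : G) ∈ P ⊓ Subgroup.centralizer {(b : G)} ↔ a * b = b * a := by
  rw [Subgroup.mem_inf, Subgroup.mem_centralizer_singleton_iff, and_iff_right a.2]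
  exact ⟨fun h => Subtype.ext h, congrArg Subtype.val⟩

theorem Cj.eq_of_odd {z : P} (hz : z * z = 1) (h : Cj g z z) (h' : Cj g a (z * a)) {n : ℕ}
    (hn : ¬ 2 ∣ n) (hc : g ^ n * a = a * g ^ n) : z = 1 := by
  have h1 : Cj g (z * a) a := by simpa [← mul_assoc, hz] using h.mul h'
  have h2 := mem_of_sq_mem_of_odd_pow_mem (C := Subgroup.centralizer {(a : G)})
    (Subgroup.mem_centralizer_singleton_iff.2 (by
      rw [sq, mul_assoc, ← mul_inv_eq_iff_eq_mul, mul_inv_rev, ← mul_assoc, mul_assoc g,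
        ← show _ = _ from h', ← show _ = _ from h1])) hn (Subgroup.mem_centralizer_singleton_iff.2 hc)
  refine mul_eq_right.1 (h'.unique (b' := a) ?_)
  rw [Cj, Subgroup.mem_centralizer_singleton_iff.1 h2, mul_inv_cancel_right]

end cj

variable {M : Ideal AlgInt} {G : Type u} [Group G] [Fintype G] {B : Set (IrrCharacter G)}
  {P : Subgroup G} {e : (resK M)[G]} {g : G}

namespace StarSetup
variable (S : StarSetup 2 M B P e)
include S

theorem exists_cj {Q : Subgroup G} (h : FHom 2 P e Q g) {a : P} (ha : (a : G) ∈ Q) :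
    ∃ b, Cj g a b ∧ PairFuse 2 P e (a : G) b := by
  have := S.hM.charP
  exact ⟨⟨_, h.conj_mem ha⟩, rfl, h.fuse S.isPair ha⟩

theorem fuse_of_cj {Q : Subgroup G} (h : FHom 2 P e Q g) {a b : P} (ha : (a : G) ∈ Q)
    (hb : Cj g a b) : PairFuse 2 P e (a : G) b := by
  obtain ⟨c, h1, h2⟩ := S.exists_cj h ha
  rwa [hb.unique h1]

theorem fuse_mul_self {a b : P} (h : PairFuse 2 P e (a : G) b) :
    PairFuse 2 P e ((a * a : P) : G) (b * b : P) := by
  obtain ⟨g, f, h1, h2, h3⟩ := h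
  exact S.fuse_of_cj ⟨f, h2, by rwa [conjSub_zpowers, ← h1]⟩
    (mul_mem (Subgroup.mem_zpowers _) (Subgroup.mem_zpowers _)) (Cj.mul h1 h1)

theorem exists_fHom_of_central {u z : P} (h : PairFuse 2 P e (u : G) z)
    (hz : z ∈ Subgroup.center P) :
    ∃ g, Cj g u z ∧ FHom 2 P e (P ⊓ Subgroup.centralizer {(u : G)}) g :=
  S.exists_fHom h fun w _ => by
    rw [inf_eq_left.2 (le_centralizer_of_mem_center hz)]
    exact Subgroup.card_le_of_le inf_le_left

theorem eq_of_fuse_of_four {z w a b : P} (hz : z * z = 1)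
    (hfix : ∀ g ∈ Subgroup.normalizer (P : Set G), Cj g z z) (ha : a ∈ Subgroup.center P)
    (hb : b ∈ Subgroup.center P) (ha' : a = 1 ∨ a = z ∨ a = w ∨ a = z * w)
    (hb' : b = 1 ∨ b = z ∨ b = w ∨ b = z * w) (h : PairFuse 2 P e (a : G) b) : a = b := by
  obtain ⟨g, hg, h1, -, n, hn, h2⟩ := S.exists_odd_of_central ha hb h
  have h3 := hfix g hg
  have h4 : b = z * a → a = b := fun h4 => by
    rw [h4, h3.eq_of_odd hz (h4 ▸ h1) hn (h2 a ha), one_mul]
  rcases ha' with rfl | rfl | ha'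
  · exact cj_one.unique h1
  · exact h3.unique h1
  rcases hb' with rfl | rfl | hb'
  · exact Cj.inj h1 cj_one
  · exact Cj.inj h1 h3
  rcases ha' with rfl | rfl <;> rcases hb' with rfl | rfl
  exacts [rfl, h4 rfl, h4 (by rw [← mul_assoc, hz, one_mul]), rfl]

theorem sum_fuseInd_mul_div [Fintype P] {η : P → ℂ} (hη : IsPairStable 2 P e η) (z : P) :
    ∑ v, fuseInd 2 P e z v * (η v / fuseCard 2 P e v) = η z := by
  classical
  have := S.hM.charP
  have h1 : (fuseCard 2 P e z : ℂ) = ∑ v, fuseInd 2 P e z v := by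
    simp [fuseInd, fuseCard, Nat.card_eq_fintype_card, Fintype.card_subtype]
  rw [← div_mul_cancel₀ (η z) (Nat.cast_ne_zero.2 (fuseCard_pos S.isPair z).ne'), mul_comm]
  nth_rw 1 [h1]
  rw [Finset.sum_mul]
  refine Finset.sum_congr rfl fun v _ => ?_
  unfold fuseInd
  split_ifs with h2
  · rw [hη _ _ h2, fuseCard_congr S.isPair h2]
  · simp

/-- a criterion for nilpotency -/
theorem blockRank_eq_one_of_index_two {A : Subgroup P} (hA : A.index ≤ 2)
    (hc : ∀ a ∈ A, ∀ b ∈ A, a * b = b * a)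
    (hst : ∀ a ∈ A, ∀ b : P, PairFuse 2 P e (a : G) b → b ∈ A) {z w : P} (hz : z * z = 1)
    (h4 : ∀ a ∈ A, a * a = 1 → a = 1 ∨ a = z ∨ a = w ∨ a = z * w)
    (hzw : ¬ PairFuse 2 P e (z : G) w) (hzw' : ¬ PairFuse 2 P e (z : G) (z * w : P)) :
    blockRank 2 B = 1 := by
  refine S.blockRank_eq_one_of_fHom fun Q g hg hn hr => ?_
  have hQ : Q ≤ P := hg.choose_spec.1.le
  have h1 : (A.map P.subtype).relIndex P = A.index := by
    rw [Subgroup.relIndex, Subgroup.subgroupOf, Subgroup.comap_map_eq_self_of_injective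
      P.subtype_injective]
  have h2 : ∀ a ∈ A, (a : G) ∈ Q → ∃ b ∈ A, (b : G) ∈ Q ∧ Cj g a b ∧ PairFuse 2 P e (a : G) b :=
    fun a ha h2 => by
      obtain ⟨b, h3, h5⟩ := S.exists_cj hg h2
      exact ⟨b, hst a ha b h5, h3 ▸ (Subgroup.mem_normalizer_iff.1 hn _).1 h2, h3, h5⟩
  have h3 : ∀ a ∈ A, (a : G) ∈ Q → a = z → Cj g a a := by
    rintro a ha h3 rfl
    obtain ⟨b, h5, -, h6, h7⟩ := h2 a ha h3
    rcases h4 b h5 (h6.sq_iff.2 hz) with rfl | rfl | rfl | rfl
    exacts [by rw [h6.inj cj_one]; exact cj_one, h6, absurd h7 hzw, absurd h7 hzw']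
  refine mem_centralizer_of_relIndex_le_two (R := A.map P.subtype ⊓ Q) (S.isPGroup.to_le hQ)
    inf_le_right (by
      rw [Subgroup.inf_relIndex_right]
      exact (Subgroup.relIndex_le_of_le_right hQ (h1 ▸ Subgroup.index_ne_zero_of_finite)).trans
        (h1 ▸ hA)) hn ?_ hr
  refine le_centralizer_of_comm_of_omega (A := Subgroup.zpowers g)
    (S.isPGroup.to_le (inf_le_right.trans hQ)) ⟨⟨?_⟩⟩ (Subgroup.zpowers_le.2
      (Subgroup.mem_normalizer_fintype ?_)) (by rwa [Nat.card_zpowers]) ?_ (Subgroup.mem_zpowers g)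
  · rintro ⟨_, ⟨a, ha, rfl⟩, -⟩ ⟨_, ⟨b, hb, rfl⟩, -⟩
    exact Subtype.ext (congrArg P.subtype (hc a ha b hb))
  · rintro _ ⟨⟨a, ha, rfl⟩, h5⟩
    obtain ⟨b, h6, h7, h8, -⟩ := h2 a ha h5
    exact (show (b : G) = _ from h8) ▸ ⟨⟨b, h6, rfl⟩, h7⟩
  · rintro _ ⟨⟨a, ha, rfl⟩, h5⟩ h6
    have h7 : a * a = 1 := Subtype.ext ((sq _).symm.trans h6)
    obtain ⟨b, h8, h9, h10, h11⟩ := h2 a ha h5
    have h12 : b = z * a → b = a := fun h12 => by
      have h13 : z = b * a⁻¹ := by rw [h12, mul_inv_cancel_right]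
      rw [h12, (h3 z (h13 ▸ mul_mem h8 (inv_mem ha)) (h13 ▸ mul_mem h9 (inv_mem h5)) rfl).eq_of_odd
        hz (h12 ▸ h10) hr (by simp), one_mul]
    have h13 : b = a := by
      rcases h4 a ha h7 with rfl | h13 | h13
      · exact h10.unique cj_one
      · exact h10.unique (h3 a ha h5 h13)
      rcases h4 b h8 (h10.sq_iff.2 h7) with rfl | rfl | h14
      · exact (h10.inj cj_one).symm
      · rcases h13 with rfl | rfl
        exacts [absurd h11.symm hzw, absurd h11.symm hzw']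
      rcases h13 with rfl | rfl <;> rcases h14 with rfl | rfl
      exacts [rfl, h12 rfl, h12 (by rw [← mul_assoc, hz, one_mul]), rfl]
    rw [centralizer_zpowers, Subgroup.mem_centralizer_singleton_iff]
    exact (mul_inv_eq_iff_eq_mul.1 (Eq.symm (h13 ▸ h10 : Cj g a a))).symm

theorem tame_rank_le {σ τ : P} {m : ℕ} {k : ℤ} (h : IsTame σ τ m k) :
    blockRank 2 B + (tameReps e σ τ).card ≤ 3 := by
  have key : σ * τ * (σ * τ) = σ ^ m → blockRank 2 B + (tameReps e σ τ).card ≤ 3 := fun hq => by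
    obtain ⟨r, h1, -, h3, -⟩ := S.tame_quaternion_like h hq
    have := S.tame_card h
    split_ifs at h1 h3 <;> omega
  rcases h.kind with ⟨rfl, h1⟩ | ⟨rfl, h1⟩ | ⟨rfl, -, h1⟩
  · exact (S.tame_dihedral h fun t ht => (h.mul_self_eq ht).trans h1).2.1.le
  · exact key ((h.mul_self_eq h.στ_notMem).trans h1)
  · exact key (by rw [h.στ_mul_self, h1, mul_one, ← zpow_one_add, add_sub_cancel, zpow_natCast])

theorem tame_rank_le_two {σ τ s : P} {m : ℕ} {k : ℤ} (h : IsTame σ τ m k)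
    (hs : ∀ a ∈ Subgroup.zpowers σ, ∀ g : G, ¬ Cj g s a) : blockRank 2 B ≤ 2 := by
  have h1 := S.tame_rank_le h
  have h2 : TameFree e σ s := fun a ha h2 => hs a ha _ h2.choose_spec.choose_spec.1
  rw [card_tameReps h] at h1
  rcases h.isConj_or (S.notMem_of_free h2) with h3 | h3 <;>
    have h4 := S.free_of_fuse (S.fuse_of_isConj h3).symm h2
  · rw [if_pos h4] at h1; omega
  · split_ifs at h1 with h5 h6 h6 <;> try omega
    exact absurd ⟨h4, fun h7 => h5 (S.free_of_fuse h7.symm h4)⟩ h6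

end StarSetup

end Cfsg
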