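import Cfsg.Agent.Blk.Tame1

/-! Groups with an abelian subgroup `C_{2m} × C_2` of index two. -/

set_option autoImplicit false

namespace Cfsg

universe u v w

/-- `ker α = ⟨x⟩ × ⟨y⟩` has index two, `y` and `x ^ m` are central involutions -/
structure CIB {T : Type u} [Group T] (x y t : T) (m : ℕ) (α β : T →* ℤˣ) : Prop where
  pow : ∃ a, m = 2 ^ (a + 1)
  ord : orderOf x = 2 * m
  y_sq : y * y = 1
  y_cen : y ∈ Subgroup.center T
  k_cen : x ^ m ∈ Subgroup.center T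
  y_not : y ∉ Subgroup.zpowers x
  mem : ∀ a, α a = 1 → ∃ j : ℤ, a = x ^ j ∨ a = x ^ j * y
  αx : α x = 1
  αy : α y = 1
  αt : α t = -1
  βx : β x = -1
  βy : β y = 1
  βt : β t = 1

variable {T : Type u} [Group T] {x y t v : T} {m : ℕ} {α β : T →* ℤˣ}

theorem intUnits_ne_one {u : ℤˣ} : u ≠ 1 ↔ u = -1 := by
  rcases Int.units_eq_one_or u with rfl | rfl <;> decide

theorem zpow_of_mul_self {a : T} (ha : a * a = 1) (j : ℤ) : a ^ (2 * j) = 1 := by
  rw [zpow_mul, zpow_two, ha, one_zpow]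

theorem mul_comm_of_mem_center {a : T} (ha : a ∈ Subgroup.center T) (b : T) : a * b = b * a :=
  (Subgroup.mem_center_iff.1 ha b).symm

namespace CIB
variable (h : CIB x y t m α β)
include h

theorem two_dvd : 2 ∣ m := h.pow.elim fun a ha => ⟨2 ^ a, by rw [ha, pow_succ']⟩

theorem two_le : 2 ≤ m := h.pow.elim fun a ha => ha ▸ Nat.le_self_pow a.succ_ne_zero 2

theorem eq_two_or : m = 2 ∨ 4 ∣ m := by
  obtain ⟨_ | a, rfl⟩ := h.pow
  exacts [Or.inl rfl, Or.inr ⟨2 ^ a, by ring⟩]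

theorem zpow_eq_one_iff {j : ℤ} : x ^ j = 1 ↔ 2 * (m : ℤ) ∣ j := by
  rw [← orderOf_dvd_iff_zpow_eq_one, h.ord]; push_cast; rfl

theorem y_ne_one : y ≠ 1 := fun h1 => h.y_not (h1 ▸ one_mem _)

theorem k_sq : x ^ m * x ^ m = 1 := by rw [← pow_add, ← two_mul, ← h.ord, pow_orderOf_eq_one]

theorem k_ne_one : x ^ m ≠ 1 := fun h1 => by
  have := Nat.le_of_dvd (by have := h.two_le; omega) (h.ord ▸ orderOf_dvd_of_pow_eq_one h1)
  have := h.two_le
  omega

theorem αk : α (x ^ m) = 1 := by rw [map_pow, h.αx, one_pow]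

theorem βk : β (x ^ m) = 1 := by
  obtain ⟨j, rfl⟩ := h.two_dvd
  rw [map_pow, h.βx, pow_mul, neg_one_sq, one_pow]

theorem comm {a b : T} (ha : α a = 1) (hb : α b = 1) : a * b = b * a := by
  have h1 : ∀ c, Commute y c := mul_comm_of_mem_center h.y_cen
  have h2 := Commute.zpow_zpow_self x
  obtain ⟨i, rfl | rfl⟩ := h.mem a ha <;> obtain ⟨j, rfl | rfl⟩ := h.mem b hb
  exacts [h2 i j, (h2 i j).mul_right (h1 _).symm, (h2 i j).mul_left (h1 _),
    ((h2 i j).mul_right (h1 _).symm).mul_left (h1 _)]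

theorem mul_y_sq (a : T) : a * y * (a * y) = a * a := by
  rw [mul_assoc a, ← mul_assoc y, mul_comm_of_mem_center h.y_cen a, mul_assoc a y, h.y_sq, mul_one]

theorem mem_even {a : T} (ha : α a = 1) (hb : β a = 1) :
    ∃ j : ℤ, a = x ^ (2 * j) ∨ a = x ^ (2 * j) * y := by
  obtain ⟨j, hj⟩ := h.mem a ha
  obtain ⟨i, rfl | rfl⟩ := Int.even_or_odd' j
  · exact ⟨i, hj⟩
  · rcases hj with rfl | rfl <;> simp [zpow_add, zpow_mul, h.βx, h.βy] at hb

theorem sq_even {a : T} (ha : α a = 1) (hb : β a = 1) : ∃ j : ℤ, a * a = x ^ (4 * j) := by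
  obtain ⟨j, rfl | rfl⟩ := h.mem_even ha hb <;> refine ⟨j, ?_⟩
  · group
  · rw [h.mul_y_sq]; group

theorem sq_odd {a : T} (ha : α a = 1) (hb : β a = -1) : ∃ j : ℤ, a * a = x ^ (4 * j + 2) := by
  have h1 : α (a * x⁻¹) = 1 := by simp [ha, h.αx]
  obtain ⟨j, hj⟩ := h.sq_even h1 (by simp [hb, h.βx])
  refine ⟨j, ?_⟩
  rw [zpow_add, ← hj, mul_assoc a, ← mul_assoc x⁻¹, h.comm (a := x⁻¹) (by simp [h.αx]) ha]
  group

theorem sq_mem {a : T} (ha : α a = 1) : a * a ∈ Subgroup.zpowers x := by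
  rcases Int.units_eq_one_or (β a) with hb | hb
  · obtain ⟨j, hj⟩ := h.sq_even ha hb
    exact ⟨_, hj.symm⟩
  · obtain ⟨j, hj⟩ := h.sq_odd ha hb
    exact ⟨_, hj.symm⟩

theorem sq_ne_y {a : T} (ha : α a = 1) : a * a ≠ y := fun h1 => h.y_not (h1 ▸ h.sq_mem ha)

theorem β_of_sq {a : T} (ha : α a = 1) (h2 : a * a = 1) : β a = 1 := by
  by_contra hb
  obtain ⟨j, hj⟩ := h.sq_odd ha (intUnits_ne_one.1 hb)
  obtain ⟨i, rfl⟩ := h.two_dvd
  obtain ⟨c, hc⟩ := h.zpow_eq_one_iff.1 (hj.symm.trans h2)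
  push_cast at hc
  have : 4 * j + 2 = 4 * (i * c) := by rw [hc]; ring
  omega

theorem β_of_pow_four (h4 : 4 ∣ m) {a : T} (ha : α a = 1) (h2 : a * a * (a * a) = 1) :
    β a = 1 := by
  by_contra hb
  obtain ⟨j, hj⟩ := h.sq_odd ha (intUnits_ne_one.1 hb)
  obtain ⟨i, rfl⟩ := h4
  rw [hj, ← zpow_add] at h2
  obtain ⟨c, hc⟩ := h.zpow_eq_one_iff.1 h2
  push_cast at hc
  have : 4 * j + 2 + (4 * j + 2) = 8 * (i * c) := by rw [hc]; ring
  omega

theorem eq_of_mem_zpowers {a : T} (ha : a ∈ Subgroup.zpowers x) (h2 : a * a = 1) :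
    a = 1 ∨ a = x ^ m := by
  obtain ⟨j, rfl⟩ := ha
  simp only [← zpow_add, ← two_mul] at h2
  obtain ⟨c, rfl⟩ := Int.dvd_of_mul_dvd_mul_left two_ne_zero (h.zpow_eq_one_iff.1 h2)
  simp only [zpow_mul, zpow_natCast]
  obtain ⟨i, rfl | rfl⟩ := Int.even_or_odd' c
  · exact Or.inl (zpow_of_mul_self h.k_sq i)
  · exact Or.inr (by rw [zpow_add, zpow_of_mul_self h.k_sq, one_mul, zpow_one])

theorem invol {a : T} (ha : α a = 1) (h2 : a * a = 1) :
    a = 1 ∨ a = x ^ m ∨ a = y ∨ a = x ^ m * y := by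
  obtain ⟨j, rfl | rfl⟩ := h.mem a ha
  · exact (h.eq_of_mem_zpowers ⟨j, rfl⟩ h2).imp_right Or.inl
  · rcases h.eq_of_mem_zpowers ⟨j, rfl⟩ ((h.mul_y_sq _).symm.trans h2) with h3 | h3 <;> simp [h3]

theorem cen_of_sq {a : T} (ha : α a = 1) (h2 : a * a = 1) : a ∈ Subgroup.center T := by
  rcases h.invol ha h2 with rfl | rfl | rfl | rfl
  exacts [one_mem _, h.k_cen, h.y_cen, mul_mem h.k_cen h.y_cen]

theorem swap : CIB x⁻¹ (x ^ m * y) (x * t) m α (α * β) where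
  pow := h.pow
  ord := by rw [orderOf_inv, h.ord]
  y_sq := by rw [h.mul_y_sq, h.k_sq]
  y_cen := mul_mem h.k_cen h.y_cen
  k_cen := by rw [inv_pow]; exact inv_mem h.k_cen
  y_not := fun h1 => h.y_not (by
    rw [Subgroup.zpowers_inv] at h1
    exact (mul_mem_cancel_left (pow_mem (Subgroup.mem_zpowers x) m)).1 h1)
  mem := fun a ha => by
    obtain ⟨j, rfl | rfl⟩ := h.mem a ha
    · exact ⟨-j, Or.inl (by group)⟩
    · exact ⟨m - j, Or.inr (by group)⟩
  αx := by simp [h.αx]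
  αy := by rw [map_mul, h.αk, h.αy, one_mul]
  αt := by simp [h.αx, h.αt]
  βx := by simp [h.αx, h.βx]
  βy := by rw [MonoidHom.mul_apply, map_mul, map_mul, h.αk, h.αy, h.βk, h.βy]; rfl
  βt := by simp [h.αx, h.βx, h.αt, h.βt]

theorem index_ker : α.ker.index = 2 := Subgroup.index_eq_two_iff.2 ⟨t, fun b => by
  rcases Int.units_eq_one_or (α b) with h1 | h1 <;> simp [MonoidHom.mem_ker, h1, h.αt]⟩

end CIB

/-- the case in which there is an involution `t` outside `ker α` -/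
structure CIA {T : Type u} [Group T] (x y t v : T) (m : ℕ) (α β : T →* ℤˣ) : Prop
    extends CIB x y t m α β where
  t_sq : t * t = 1
  rel : t * x * t⁻¹ = x⁻¹ * v
  v_eq : v = 1 ∨ v = y

theorem CIB.cia (h : CIB x y t m α β) (h1 : t * t = 1)
    (h2 : x * t * (x * t) = 1 ∨ x * t * (x * t) = y) : CIA x y t (x * t * (x * t)) m α β :=
  ⟨h, h1, by rw [inv_eq_of_mul_eq_one_right h1]; group, h2⟩

namespace CIA
variable (h : CIA x y t v m α β)
include h

theorem v_sq : v * v = 1 := by rcases h.v_eq with rfl | rfl; exacts [one_mul 1, h.y_sq]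

theorem v_cen : v ∈ Subgroup.center T := by
  rcases h.v_eq with rfl | rfl; exacts [one_mem _, h.y_cen]

theorem αv : α v = 1 := by rcases h.v_eq with rfl | rfl; exacts [map_one α, h.αy]

theorem βv : β v = 1 := by rcases h.v_eq with rfl | rfl; exacts [map_one β, h.βy]

theorem mul_t : CIA x y (t * y) v m α β where
  __ := h.toCIB
  αt := by simp [h.αt, h.αy]
  βt := by simp [h.βt, h.βy]
  t_sq := by rw [h.mul_y_sq, h.t_sq]
  rel := by rw [← h.rel, mul_assoc t y, mul_comm_of_mem_center h.y_cen]; group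
  v_eq := h.v_eq

theorem mul_y_pow : (x * y) ^ m = x ^ m := by
  obtain ⟨j, rfl⟩ := h.two_dvd
  rw [pow_mul, pow_mul, sq, sq, h.mul_y_sq]

theorem mul_x : CIA (x * y) y t v m α β where
  pow := h.pow
  ord := by
    have h1 : ∀ n, (x * y) ^ (2 * n) = x ^ (2 * n) := fun n => by
      rw [pow_mul, pow_mul, sq, sq, h.mul_y_sq]
    obtain ⟨a, rfl⟩ := h.pow
    rw [← pow_succ']
    refine orderOf_eq_prime_pow (by rw [h.mul_y_pow]; exact h.k_ne_one) ?_
    rw [pow_succ', h1, ← h.ord, pow_orderOf_eq_one]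
  y_sq := h.y_sq
  y_cen := h.y_cen
  k_cen := by rw [h.mul_y_pow]; exact h.k_cen
  y_not := by
    rintro ⟨j, hj⟩
    obtain ⟨i, rfl | rfl⟩ := Int.even_or_odd' j
    · exact h.y_not ⟨2 * i, by simpa only [zpow_mul, zpow_two, h.mul_y_sq] using hj⟩
    · simpa [zpow_add, zpow_mul, h.βx, h.βy] using congrArg β hj
  mem := fun a ha => by
    have h1 : ∀ j : ℤ, x ^ j = (x * y) ^ j ∨ x ^ j * y = (x * y) ^ j := fun j => by
      obtain ⟨i, rfl | rfl⟩ := Int.even_or_odd' j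
      · exact Or.inl (by simp only [zpow_mul, zpow_two, h.mul_y_sq])
      · exact Or.inr (by simp only [zpow_add, zpow_mul, zpow_two, h.mul_y_sq, zpow_one, mul_assoc])
    obtain ⟨j, rfl | rfl⟩ := h.mem a ha <;> refine ⟨j, ?_⟩ <;> rcases h1 j with h2 | h2 <;>
      simp [← h2, mul_assoc, h.y_sq]
  αx := by simp [h.αx, h.αy]
  αy := h.αy
  αt := h.αt
  βx := by simp [h.βx, h.βy]
  βy := h.βy
  βt := h.βt
  t_sq := h.t_sq
  rel := by
    rw [mul_inv_rev, inv_eq_of_mul_eq_one_right h.y_sq, mul_assoc y, ← h.rel,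
      mul_comm_of_mem_center h.y_cen, ← mul_assoc t, mul_assoc _ y, mul_comm_of_mem_center h.y_cen,
      ← mul_assoc]
  v_eq := h.v_eq

theorem conj_eq {s a : T} (hs : α s = -1) (ha : α a = 1) : s * a * s⁻¹ = t * a * t⁻¹ := by
  have := h.comm (a := s * t⁻¹) (b := t * a * t⁻¹) (by simp [hs, h.αt]) (by simp [ha, h.αt])
  calc s * a * s⁻¹ = s * t⁻¹ * (t * a * t⁻¹) * (s * t⁻¹)⁻¹ := by group
    _ = _ := by rw [this, mul_inv_cancel_right]

theorem conj_x {s : T} (hs : α s = -1) (j : ℤ) : s * x ^ j * s⁻¹ = (x ^ j)⁻¹ * v ^ j := by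
  rw [h.conj_eq hs (by simp [h.αx]), ← conj_zpow, h.rel,
    Commute.mul_zpow (mul_comm_of_mem_center h.v_cen _).symm, inv_zpow]

theorem conj_even {s a : T} (hs : α s = -1) (ha : α a = 1) (hb : β a = 1) :
    s * a * s⁻¹ = a⁻¹ := by
  have h1 := fun j => h.conj_x hs (2 * j)
  simp only [zpow_of_mul_self h.v_sq, mul_one] at h1
  obtain ⟨j, rfl | rfl⟩ := h.mem_even ha hb
  · exact h1 j
  · rw [mul_inv_rev, inv_eq_of_mul_eq_one_right h.y_sq, ← h1, mul_comm_of_mem_center h.y_cen,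
      ← mul_assoc s, mul_assoc _ y, mul_comm_of_mem_center h.y_cen, ← mul_assoc]

theorem conj_odd {s a : T} (hs : α s = -1) (ha : α a = 1) (hb : β a = -1) :
    s * a * s⁻¹ = a⁻¹ * v := by
  have h1 := h.conj_even (a := a * x⁻¹) hs (by simp [ha, h.αx]) (by simp [hb, h.βx])
  have h2 := h.conj_x hs 1
  simp only [zpow_one] at h2
  calc s * a * s⁻¹ = s * (a * x⁻¹) * s⁻¹ * (s * x * s⁻¹) := by group
    _ = x * (a⁻¹ * x⁻¹) * v := by rw [h1, h2]; group
    _ = _ := by rw [h.comm (a := a⁻¹) (by simp [ha]) (by simp [h.αx])]; group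

theorem sq_of_even {s : T} (hs : α s = -1) (hb : β s = 1) : s * s = 1 := by
  have h1 := h.conj_even (a := s * t⁻¹) h.αt (by simp [hs, h.αt]) (by simp [hb, h.βt])
  calc s * s = s * t⁻¹ * (t * (s * t⁻¹) * t⁻¹) * (t * t) := by group
    _ = 1 := by rw [h1, h.t_sq]; group

theorem sq_of_odd {s : T} (hs : α s = -1) (hb : β s = -1) : s * s = v := by
  have h1 := h.conj_odd (a := s * t⁻¹) h.αt (by simp [hs, h.αt]) (by simp [hb, h.βt])
  calc s * s = s * t⁻¹ * (t * (s * t⁻¹) * t⁻¹) * (t * t) := by group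
    _ = v := by rw [h1, h.t_sq]; group

theorem sq_of_ne {s : T} (hs : α s = -1) (h2 : s * s ≠ 1) : β s = -1 ∧ v = y ∧ s * s = y := by
  have h1 := intUnits_ne_one.1 fun h1 => h2 (h.sq_of_even hs h1)
  have h3 := h.sq_of_odd hs h1
  have h4 := h.v_eq.resolve_left fun h4 => h2 (h3.trans h4)
  exact ⟨h1, h4, h3.trans h4⟩

theorem sq_of_commute {s a : T} (hs : α s = -1) (ha : α a = 1) (hc : s * a = a * s) :
    a * a = 1 := by
  rcases Int.units_eq_one_or (β a) with hb | hb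
  · have h1 := h.conj_even hs ha hb
    rw [hc, mul_inv_cancel_right] at h1
    exact mul_eq_one_iff_eq_inv.2 h1
  · have h1 := h.conj_odd hs ha hb
    rw [hc, mul_inv_cancel_right, eq_inv_mul_iff_mul_eq] at h1
    exact h.v_eq.elim h1.trans fun h2 => absurd (h1.trans h2) (h.sq_ne_y ha)

theorem cen_of_commute {s a : T} (hs : α s = -1) (ha : α a = 1) (hc : s * a = a * s) :
    a ∈ Subgroup.center T := h.cen_of_sq ha (h.sq_of_commute hs ha hc)

theorem α_cen {a : T} (ha : a ∈ Subgroup.center T) : α a = 1 := by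
  by_contra h1
  simpa [h.βx] using h.β_of_sq h.αx (h.sq_of_commute (intUnits_ne_one.1 h1) h.αx
    (mul_comm_of_mem_center ha x))

theorem sq_cen {a : T} (ha : a ∈ Subgroup.center T) : a * a = 1 :=
  h.sq_of_commute h.αt (h.α_cen ha) (mul_comm_of_mem_center ha t).symm

theorem β_cen {a : T} (ha : a ∈ Subgroup.center T) : β a = 1 :=
  h.β_of_sq (h.α_cen ha) (h.sq_cen ha)

theorem centralizer_eq {a : T} (ha : α a = 1) (h2 : a * a ≠ 1) :
    Subgroup.centralizer {a} = α.ker := Subgroup.ext fun b => by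
  rw [Subgroup.mem_centralizer_singleton_iff]
  exact ⟨fun h1 => by_contra fun h3 => h2 (h.sq_of_commute (intUnits_ne_one.1 h3) ha h1),
    fun hb => h.comm hb ha⟩

theorem cen_or_of_commute {s a : T} (hs : α s = -1) (hc : s * a = a * s) :
    a ∈ Subgroup.center T ∨ ∃ z ∈ Subgroup.center T, a = s * z := by
  rcases Int.units_eq_one_or (α a) with ha | ha
  · exact Or.inl (h.cen_of_commute hs ha hc)
  · exact Or.inr ⟨s⁻¹ * a, h.cen_of_commute hs (by simp [hs, ha]) (by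
      rw [mul_assoc, ← hc]; group), by group⟩

theorem relIndex_center {s : T} (hs : α s = -1) :
    (Subgroup.center T).relIndex (Subgroup.centralizer {s}) = 2 :=
  Subgroup.relIndex_eq_two_iff.2 ⟨s⁻¹, inv_mem (self_mem_centralizer_eq rfl), fun b hb => by
    rcases h.cen_or_of_commute hs (Subgroup.mem_centralizer_singleton_iff.1 hb).symm with
      h1 | ⟨z, hz, rfl⟩
    · exact Or.inr ⟨h1, fun h2 => by simpa [hs, h.α_cen h1] using h.α_cen h2⟩
    · exact Or.inl ⟨by rwa [← mul_comm_of_mem_center hz, mul_inv_cancel_right],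
        fun h2 => by simpa [hs, h.α_cen hz] using h.α_cen h2⟩⟩

theorem card_centralizer {s : T} (hs : α s = -1) :
    Nat.card (Subgroup.centralizer {s}) = Nat.card (Subgroup.center T) * 2 := by
  rw [← h.relIndex_center hs, card_mul_relIndex (Subgroup.center_le_centralizer _)]

theorem zpow_eq (j : ℤ) : (x * x * v) ^ j = x ^ (2 * j) * v ^ j := by
  rw [Commute.mul_zpow (mul_comm_of_mem_center h.v_cen _).symm, zpow_mul, zpow_two]

theorem v_zpow (j : ℤ) : v ^ j = 1 ∨ v ^ j = y := by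
  obtain ⟨i, rfl | rfl⟩ := Int.even_or_odd' j
  · exact Or.inl (zpow_of_mul_self h.v_sq i)
  · rw [zpow_add, zpow_of_mul_self h.v_sq, one_mul, zpow_one]; exact h.v_eq

theorem α_K {k : T} (hk : k ∈ Subgroup.zpowers (x * x * v)) : α k = 1 := by
  obtain ⟨j, rfl⟩ := hk
  simp [h.αx, h.αv]

theorem β_K {k : T} (hk : k ∈ Subgroup.zpowers (x * x * v)) : β k = 1 := by
  obtain ⟨j, rfl⟩ := hk
  simp [h.βx, h.βv]

theorem mem_K_or {a : T} (ha : α a = 1) (hb : β a = 1) :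
    a ∈ Subgroup.zpowers (x * x * v) ∨ a * y ∈ Subgroup.zpowers (x * x * v) := by
  obtain ⟨j, rfl | rfl⟩ := h.mem_even ha hb <;> rcases h.v_zpow j with h1 | h1
  · exact Or.inl ⟨j, by simp only [h.zpow_eq, h1, mul_one]⟩
  · exact Or.inr ⟨j, by simp only [h.zpow_eq, h1]⟩
  · exact Or.inr ⟨j, by simp only [h.zpow_eq, h1, mul_one, mul_assoc _ y, h.y_sq]⟩
  · exact Or.inl ⟨j, by simp only [h.zpow_eq, h1]⟩

theorem y_notMem_K : y ∉ Subgroup.zpowers (x * x * v) := by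
  rintro ⟨j, hj⟩
  simp only [h.zpow_eq] at hj
  rcases h.v_zpow j with h1 | h1
  · exact h.y_not ⟨2 * j, by simpa only [h1, mul_one] using hj⟩
  · rw [h1, mul_eq_right, h.zpow_eq_one_iff] at hj
    obtain ⟨i, rfl⟩ := h.two_dvd
    obtain ⟨c, rfl⟩ := Int.dvd_of_mul_dvd_mul_left two_ne_zero hj
    push_cast at h1
    rw [mul_assoc, zpow_of_mul_self h.v_sq] at h1
    exact h.y_ne_one h1.symm

theorem conj_outer {s : T} (hs : α s = -1) (j : ℤ) :
    x ^ j * s * (x ^ j)⁻¹ = (x * x * v) ^ j * s := by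
  have h1 := h.conj_x hs (-j)
  rw [h.zpow_eq, two_mul, zpow_add, mul_assoc (x ^ j), mul_assoc (x ^ j), mul_assoc (x ^ j),
    ← zpow_neg, eq_mul_of_mul_inv_eq h1, zpow_neg, inv_inv, zpow_neg, ← inv_zpow,
    inv_eq_of_mul_eq_one_right h.v_sq]

theorem isConj_mul {s k : T} (hs : α s = -1) (hk : k ∈ Subgroup.zpowers (x * x * v)) :
    IsConj s (k * s) := by
  obtain ⟨j, rfl⟩ := hk
  exact isConj_iff.2 ⟨_, h.conj_outer hs j⟩

theorem comm_mem_of {a s : T} (ha : α a = 1) (hs : α s = -1) :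
    a * s * a⁻¹ * s⁻¹ ∈ Subgroup.zpowers (x * x * v) := by
  obtain ⟨j, rfl | rfl⟩ := h.mem a ha <;> refine ⟨j, ?_⟩
  · simp only [h.conj_outer hs, mul_inv_cancel_right]
  · rw [mul_assoc _ y, mul_comm_of_mem_center h.y_cen, mul_inv_rev, ← mul_assoc, ← mul_assoc,
      mul_inv_cancel_right, h.conj_outer hs, mul_inv_cancel_right]

theorem comm_mem (a b : T) : a * b * a⁻¹ * b⁻¹ ∈ Subgroup.zpowers (x * x * v) := by
  rcases Int.units_eq_one_or (α a) with ha | ha <;> rcases Int.units_eq_one_or (α b) with hb | hb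
  · rw [h.comm ha hb, mul_inv_cancel_right, mul_inv_cancel]; exact one_mem _
  · exact h.comm_mem_of ha hb
  · rw [← inv_mem_iff]; simpa [mul_assoc] using h.comm_mem_of hb ha
  · have h1 := h.comm_mem_of (a := a * b⁻¹) (by simp [ha, hb]) hb
    have h2 := h.conj_even hb (h.α_K h1) (h.β_K h1)
    have h3 := h.comm_mem_of (a := b⁻¹ * a) (by simp [ha, hb]) hb
    have h4 := h.conj_even hb (h.α_K h3) (h.β_K h3)
    rw [show a * b * a⁻¹ * b⁻¹ = b * (b⁻¹ * a * b * (b⁻¹ * a)⁻¹ * b⁻¹) * b⁻¹ by group, h4]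
    exact inv_mem h3

theorem orderOf_K : orderOf (x * x * v) = m := by
  obtain ⟨a, rfl⟩ := h.pow
  refine orderOf_eq_prime_pow (fun h1 => ?_) ?_
  · rw [← zpow_natCast, h.zpow_eq, mul_eq_one_iff_eq_inv, ← zpow_neg] at h1
    rcases h.v_zpow (-(2 ^ a : ℕ)) with h2 | h2 <;> rw [h2] at h1
    · exact h.k_ne_one (by rw [← h1, ← zpow_natCast]; congr 1; push_cast; ring)
    · exact h.y_not ⟨_, h1⟩
  · rw [← zpow_natCast, h.zpow_eq, h.zpow_eq_one_iff.2 dvd_rfl, one_mul]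
    push_cast
    rw [pow_succ', zpow_of_mul_self h.v_sq]

/-- the involution `q` of the derived subgroup -/
theorem exists_q : ∃ q : T, q * q = 1 ∧ q ≠ 1 ∧ (∃ c, q = c * t * c⁻¹ * t⁻¹) ∧
    (∀ k ∈ Subgroup.zpowers (x * x * v), k * k = 1 → k = 1 ∨ k = q) ∧
    (q = x ^ m ∧ (4 ∣ m ∨ v = 1) ∨ q = x ^ m * y ∧ m = 2 ∧ v = y) := by
  obtain ⟨i, hi⟩ := h.two_dvd
  have h0 := h.two_le
  have h1 : orderOf ((x * x * v) ^ i) = 2 := by
    rw [orderOf_pow_of_dvd (by omega) (by rw [h.orderOf_K, hi]; exact dvd_mul_left _ _),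
      h.orderOf_K, hi, Nat.mul_div_cancel _ (by omega)]
  have h2 : (x * x * v) ^ i = x ^ m * v ^ i := by
    rw [← zpow_natCast, h.zpow_eq, hi, zpow_natCast, ← zpow_natCast x]; push_cast; rfl
  refine ⟨(x * x * v) ^ i, by rw [← sq, ← h1, pow_orderOf_eq_one], fun h3 => by simp [h3] at h1,
    ⟨x ^ (i : ℤ), by rw [h.conj_outer h.αt, mul_inv_cancel_right, zpow_natCast]⟩, fun k hk h3 =>
      or_iff_not_imp_left.2 fun h4 => ?_, ?_⟩
  · have : Finite (Subgroup.zpowers (x * x * v)) := Nat.finite_of_card_ne_zero (by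
      rw [Nat.card_zpowers, h.orderOf_K]; omega)
    have h5 : ∀ a : Subgroup.zpowers (x * x * v), a ∈ Subgroup.zpowers
      (⟨_, Subgroup.mem_zpowers _⟩ : Subgroup.zpowers (x * x * v)) := fun ⟨_, j, rfl⟩ => ⟨j, rfl⟩
    exact congrArg Subtype.val (eq_of_mem_zpowers_of_orderOf_two (h5 ⟨k, hk⟩)
      (h5 ⟨_, pow_mem (Subgroup.mem_zpowers _) i⟩)
      (by rw [Subgroup.orderOf_mk]; exact orderOf_eq_prime ((sq k).trans h3) h4)
      (by rw [Subgroup.orderOf_mk]; exact h1))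
  · rw [h2]
    rcases h.v_eq with rfl | rfl
    · simp
    · rcases h.eq_two_or with h3 | ⟨j, h3⟩
      · obtain rfl : i = 1 := by omega
        simp [h3]
      · obtain rfl : i = 2 * j := by omega
        exact Or.inl ⟨by rw [pow_mul, sq, h.y_sq, one_pow, mul_one], Or.inl ⟨j, h3⟩⟩

theorem exists_hom [Finite T] : ∃ l : T →* ℂˣ, (∀ k ∈ Subgroup.zpowers (x * x * v), l k = 1) ∧
    l y = -1 ∧ l t = 1 ∧ (v = 1 → l x = 1) := by
  classical
  obtain ⟨n, h1, h2, h3, h4⟩ : ∃ n : T, α n = 1 ∧ x * x * v ∈ Subgroup.zpowers n ∧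
      y ∉ Subgroup.zpowers n ∧ (v = 1 → n = x) := by
    by_cases hv : v = 1
    · exact ⟨x, h.αx, ⟨2, by simp only [hv, zpow_two, mul_one]⟩, h.y_not, fun _ => rfl⟩
    · exact ⟨_, h.α_K (Subgroup.mem_zpowers _), Subgroup.mem_zpowers _, h.y_notMem_K,
        fun h1 => absurd h1 hv⟩
  have h5 : ∀ a b : T, a * b * a⁻¹ * b⁻¹ ∈ Subgroup.zpowers n := fun a b =>
    Subgroup.zpowers_le.2 h2 (h.comm_mem a b)
  have : (Subgroup.zpowers n).Normal := ⟨fun a ha g => by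
    simpa using mul_mem (h5 g a) ha⟩
  set N := Subgroup.zpowers n ⊔ Subgroup.zpowers t with hN
  have : N.Normal := ⟨fun a ha g => by
    simpa using mul_mem ((le_sup_left : _ ≤ N) (h5 g a)) ha⟩
  have h6 : IsMulCommutative (T ⧸ N) := ⟨⟨fun a b => by
    obtain ⟨a, rfl⟩ := QuotientGroup.mk_surjective a
    obtain ⟨b, rfl⟩ := QuotientGroup.mk_surjective b
    exact QuotientGroup.eq.2 ((le_sup_left : _ ≤ N) (by simpa [mul_assoc] using h5 b⁻¹ a⁻¹))⟩⟩
  have h7 : (y : T ⧸ N) ≠ 1 := fun h7 => by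
    obtain ⟨a, ha, _, ⟨j, rfl⟩, h8⟩ := (Subgroup.mem_sup_of_normal_left).1
      ((QuotientGroup.eq_one_iff y).1 h7)
    obtain ⟨i, rfl | rfl⟩ := Int.even_or_odd' j
    · simp only [zpow_of_mul_self h.t_sq, mul_one] at h8
      exact h3 (h8 ▸ ha)
    · obtain ⟨l, rfl⟩ := ha
      simpa [h1, zpow_add, zpow_of_mul_self h.t_sq, h.αt, h.αy] using congrArg α h8
  open scoped IsMulCommutative in
  obtain ⟨l, hl⟩ := CommGroup.exists_apply_ne_one_of_hasEnoughRootsOfUnity (T ⧸ N) ℂ h7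
  have h8 : ∀ a ∈ N, l.comp (QuotientGroup.mk' N) a = 1 := fun a ha => by
    rw [MonoidHom.comp_apply, QuotientGroup.mk'_apply, (QuotientGroup.eq_one_iff a).2 ha, map_one]
  refine ⟨l.comp (QuotientGroup.mk' N), fun k hk => h8 k ((le_sup_left : _ ≤ N)
    (Subgroup.zpowers_le.2 h2 hk)), ?_, h8 t ((le_sup_right : _ ≤ N) (Subgroup.mem_zpowers t)),
    fun hv => h8 x ((le_sup_left : _ ≤ N) (h4 hv ▸ Subgroup.mem_zpowers n))⟩
  refine Units.ext ((mul_self_eq_one_iff.1 ?_).resolve_left fun h9 => hl (Units.ext h9))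
  rw [← Units.val_mul, ← map_mul, h.y_sq, map_one, Units.val_one]

end CIA

end Cfsg
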