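import Cfsg.Agent.Blk.CycFourF
import Cfsg.Agent.Blk.Klein

/-! Defect groups with a cyclic subgroup of index two. -/

set_option autoImplicit false

namespace Cfsg

open scoped MonoidAlgebra

universe u v w

section grp
variable {D : Type u} [Group D]

theorem two_pow_dvd_or_of_sq {a : ℕ} {r : ℤ} (h : 2 * (2 : ℤ) ^ (a + 1) ∣ r * r - 1) :
    (2 : ℤ) ^ (a + 1) ∣ r - 1 ∨ (2 : ℤ) ^ (a + 1) ∣ r + 1 := by
  obtain ⟨s, rfl | rfl⟩ := Int.even_or_odd' r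
  · obtain ⟨c, hc⟩ := (dvd_mul_right _ _).trans h
    have : 2 * (2 * s * s - c) = 1 := by linear_combination hc
    omega
  have h1 : (2 : ℤ) ^ a ∣ s * (s + 1) := Int.dvd_of_mul_dvd_mul_left four_ne_zero (by
    convert h using 1 <;> ring)
  rw [pow_succ', add_sub_cancel_right, show 2 * s + 1 + 1 = 2 * (s + 1) by ring]
  rcases Int.even_or_odd s with h2 | h2
  · exact Or.inl (mul_dvd_mul_left 2
      ((Int.isCoprime_two_left.2 h2.add_one).pow_left.dvd_of_dvd_mul_right h1))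
  · exact Or.inr (mul_dvd_mul_left 2
      ((Int.isCoprime_two_left.2 h2).pow_left.dvd_of_dvd_mul_left h1))

theorem mem_zpowers_zpow_odd {x : D} {a : ℕ} (h : orderOf x = 2 ^ a) (j : ℤ) :
    x ∈ Subgroup.zpowers (x ^ (2 * j + 1)) := by
  rw [mem_zpowers_zpow_iff, h, ← Int.isCoprime_iff_gcd_eq_one]
  exact_mod_cast (Int.isCoprime_two_right.2 (odd_two_mul_add_one j)).pow_right

theorem eq_of_mem_zpowers_of_sq {x a : D} {m : ℕ} (h : orderOf x = 2 * m)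
    (ha : a ∈ Subgroup.zpowers x) (h2 : a * a = 1) : a = 1 ∨ a = x ^ m := by
  have h1 : x ^ m * x ^ m = 1 := by rw [← pow_add, ← two_mul, ← h, pow_orderOf_eq_one]
  obtain ⟨j, rfl⟩ := ha
  simp only [← zpow_add, ← two_mul, ← orderOf_dvd_iff_zpow_eq_one, h] at h2
  push_cast at h2
  obtain ⟨c, rfl⟩ := Int.dvd_of_mul_dvd_mul_left two_ne_zero h2
  simp only [zpow_mul, zpow_natCast]
  obtain ⟨i, rfl | rfl⟩ := Int.even_or_odd' c
  · exact Or.inl (zpow_of_mul_self h1 i)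
  · exact Or.inr (by rw [zpow_add, zpow_of_mul_self h1, one_mul, zpow_one])

theorem conj_cases_of_sq {σ τ : D} {a m : ℕ} (hm : m = 2 ^ (a + 1)) (h : orderOf σ = 2 * m)
    (h1 : τ * σ * τ⁻¹ ∈ Subgroup.zpowers σ) (h2 : τ * τ ∈ Subgroup.zpowers σ) :
    (τ * σ * τ⁻¹ = σ ∨ τ * σ * τ⁻¹ = σ ^ m * σ) ∨ τ * σ * τ⁻¹ = σ⁻¹ ∨ τ * σ * τ⁻¹ = σ ^ m * σ⁻¹ := by
  obtain ⟨r, hr⟩ := h1
  have h3 : σ ^ (r * r - 1) = 1 := by
    have h3 := setLike_mul_comm h2 (Subgroup.mem_zpowers σ)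
    simp only at hr
    rw [zpow_sub_one, zpow_mul, hr, conj_zpow, hr, mul_inv_eq_one]
    calc _ = τ * τ * σ * (τ * τ)⁻¹ := by group
      _ = σ := by rw [h3, mul_inv_cancel_right]
  have h4 : ∀ c : ℤ, σ ^ (m * c) = 1 ∨ σ ^ (m * c) = σ ^ m := fun c =>
    eq_of_mem_zpowers_of_sq h ⟨_, rfl⟩ (by
      rw [← zpow_add, ← orderOf_dvd_iff_zpow_eq_one, h]; exact ⟨c, by push_cast; ring⟩)
  rw [← orderOf_dvd_iff_zpow_eq_one, h, hm] at h3
  rw [← hr]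
  rcases two_pow_dvd_or_of_sq (by exact_mod_cast h3) with ⟨c, hc⟩ | ⟨c, hc⟩
  · obtain rfl : r = m * c + 1 := by rw [hm]; push_cast; linear_combination hc
    rcases h4 c with h5 | h5 <;> simp [zpow_add, h5]
  · obtain rfl : r = m * c - 1 := by rw [hm]; push_cast; linear_combination hc
    rcases h4 c with h5 | h5 <;> simp [zpow_sub, h5]

theorem exists_invol_of_modular {σ τ : D} {m : ℕ} (h : orderOf σ = 2 * m)
    (h1 : τ * σ * τ⁻¹ = σ ∨ τ * σ * τ⁻¹ = σ ^ m * σ ∧ 4 ∣ m) {i : ℤ} (h2 : τ * τ = σ ^ (2 * i)) :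
    ∃ l : ℤ, σ ^ l * τ * (σ ^ l * τ) = 1 := by
  have h3 : ∀ l : ℤ, σ ^ l * τ * (σ ^ l * τ) = σ ^ l * (τ * σ * τ⁻¹) ^ l * σ ^ (2 * i) :=
    fun l => by rw [conj_zpow, ← h2]; group
  have h4 : σ ^ (2 * m : ℤ) = 1 := by rw [← orderOf_dvd_iff_zpow_eq_one, h]; rfl
  rcases h1 with h1 | ⟨h1, c, rfl⟩ <;> simp only [h3, h1]
  · exact ⟨-i, by group⟩
  · obtain ⟨j, rfl | rfl⟩ := Int.even_or_odd' i
    · exact ⟨-(2 * j), by rw [← one_zpow (-j), ← h4]; push_cast; group⟩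
    · exact ⟨2 * c - (2 * j + 1), by rw [← one_zpow (c - j), ← h4]; push_cast; group⟩

theorem exists_signHom {a z : D} (hz : z ∈ Subgroup.center D) (h2 : z * z = 1) (h1 : z ≠ 1)
    (h : ∀ d, d * a * d⁻¹ = a ∨ d * a * d⁻¹ = z * a) :
    ∃ χ : D →* ℤˣ, ∀ d, χ d = 1 ↔ a * d = d * a := by
  classical
  have h3 : ∀ d, a * d = d * a ↔ d * a * d⁻¹ = a := fun d => by
    rw [mul_inv_eq_iff_eq_mul, eq_comm]
  have h4 : z * a ≠ a := by simpa using h1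
  refine ⟨MonoidHom.mk' (fun d => if d * a * d⁻¹ = a then 1 else -1) fun c d => ?_, fun d => by
    simp [h3]⟩
  have h5 : c * (z * a) * c⁻¹ = z * (c * a * c⁻¹) := by
    rw [← mul_assoc, ← mul_comm_of_mem_center hz]; group
  rw [show c * d * a * (c * d)⁻¹ = c * (d * a * d⁻¹) * c⁻¹ by group]
  rcases h d with h6 | h6 <;> rw [h6] <;> rcases h c with h7 | h7 <;>
    simp [h5, h7, h4, ← mul_assoc z, h2]

theorem two_mul_index_le_of_lt [Finite D] {H K : Subgroup D} (h : H < K) :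
    2 * K.index ≤ H.index := by
  rw [← Subgroup.relIndex_mul_index h.le]
  have h1 : H.relIndex K ≠ 0 := Subgroup.index_ne_zero_of_finite
  have h2 : H.relIndex K ≠ 1 := fun h2 => h.not_ge (Subgroup.relIndex_eq_one.1 h2)
  exact Nat.mul_le_mul_right _ (by omega)

theorem cyc_two_cases [Finite D] (hD : IsPGroup 2 D) (hc : ¬ IsCyclic D) {σ : D}
    (hσ : (Subgroup.zpowers σ).index ≤ 2) : IsKleinFour D ∨ (∃ τ m k, IsTame σ τ m k) ∨
      ∃ y m, orderOf σ = 2 * m ∧ 2 ∣ m ∧ (Subgroup.zpowers σ).index = 2 ∧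
        y ∉ Subgroup.zpowers σ ∧ y * y = 1 ∧
        (y * σ * y⁻¹ = σ ∨ y * σ * y⁻¹ = σ ^ m * σ ∧ 4 ∣ m) := by
  have h0 : ∀ a : D, Subgroup.zpowers a ≠ ⊤ := fun a ha =>
    hc (isCyclic_iff_exists_zpowers_eq_top.2 ⟨a, ha⟩)
  have h1 : (Subgroup.zpowers σ).index = 2 := by
    have := mt Subgroup.index_eq_one.1 (h0 σ)
    have : (Subgroup.zpowers σ).index ≠ 0 := Subgroup.index_ne_zero_of_finite
    omega
  obtain ⟨τ, hτ⟩ : ∃ τ, τ ∉ Subgroup.zpowers σ := by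
    by_contra! h2
    exact h0 σ ((Subgroup.eq_top_iff' _).2 h2)
  have h2 := (Subgroup.zpowers σ).card_mul_index
  obtain ⟨a, ha⟩ := IsPGroup.iff_orderOf.1 hD σ
  rw [Nat.card_zpowers, ha, h1] at h2
  obtain _ | _ | a := a
  · exact absurd (isCyclic_of_prime_card (p := 2) h2.symm) hc
  · have : Nontrivial D := Finite.one_lt_card_iff_nontrivial.1 (by omega)
    refine Or.inl ⟨h2.symm, (Monoid.exponent_eq_prime_iff Nat.prime_two).2 fun g hg => ?_⟩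
    have h3 : orderOf g ∣ 4 := (orderOf_dvd_natCard g).trans h2.symm.dvd
    have h4 := mt orderOf_eq_one_iff.1 hg
    have h5 := mt (isCyclic_of_orderOf_eq_card g) hc
    have := Nat.le_of_dvd four_pos h3
    interval_cases orderOf g <;> omega
  right
  set m := 2 ^ (a + 1) with hm
  have ho : orderOf σ = 2 * m := by rw [ha, pow_succ']
  have h3 : m = 2 ∨ 4 ∣ m := by
    obtain _ | a := a
    exacts [Or.inl rfl, Or.inr ⟨2 ^ a, by rw [hm]; ring⟩]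
  have h5 := Subgroup.mul_self_mem_of_index_two h1 τ
  have h6 : ∀ {b}, b ∈ Subgroup.zpowers σ → b * τ ∉ Subgroup.zpowers σ := fun hb h6 =>
    hτ ((mul_mem_cancel_left hb).1 h6)
  have hz : σ ^ m * σ ^ m = 1 := by rw [← pow_add, ← two_mul, ← ho, pow_orderOf_eq_one]
  obtain ⟨i, hi⟩ : ∃ i : ℤ, τ * τ = σ ^ (2 * i) := by
    obtain ⟨j, hj⟩ := h5
    obtain ⟨i, rfl | rfl⟩ := Int.even_or_odd' j
    · exact ⟨i, hj.symm⟩
    · have h7 : Subgroup.zpowers σ ≤ Subgroup.zpowers τ := Subgroup.zpowers_le.2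
        (Subgroup.zpowers_le.2 (by
          rw [show σ ^ (2 * i + 1) = _ from hj]
          exact mul_mem (Subgroup.mem_zpowers τ) (Subgroup.mem_zpowers τ)) (mem_zpowers_zpow_odd ha i))
      have := two_mul_index_le_of_lt (h7.lt_of_ne fun h8 => hτ (h8 ▸ Subgroup.mem_zpowers τ))
      have := mt Subgroup.index_eq_one.1 (h0 τ)
      have : (Subgroup.zpowers τ).index ≠ 0 := Subgroup.index_ne_zero_of_finite
      omega
  have key₁ : (τ * σ * τ⁻¹ = σ ∨ τ * σ * τ⁻¹ = σ ^ m * σ ∧ 4 ∣ m) → ∃ y m, orderOf σ = 2 * m ∧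
      2 ∣ m ∧ (Subgroup.zpowers σ).index = 2 ∧ y ∉ Subgroup.zpowers σ ∧ y * y = 1 ∧
        (y * σ * y⁻¹ = σ ∨ y * σ * y⁻¹ = σ ^ m * σ ∧ 4 ∣ m) := fun h7 => by
    obtain ⟨l, hl⟩ := exists_invol_of_modular ho h7 hi
    refine ⟨_, m, ho, dvd_pow_self 2 a.succ_ne_zero, h1, h6 ⟨l, rfl⟩, hl, ?_⟩
    rw [show σ ^ l * τ * σ * (σ ^ l * τ)⁻¹ = σ ^ l * (τ * σ * τ⁻¹) * (σ ^ l)⁻¹ by group]
    exact h7.imp (fun h7 => by rw [h7]; group) fun h7 => ⟨by rw [h7.1]; group, h7.2⟩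
  have key₂ : τ * σ ^ 2 * τ⁻¹ = (σ ^ 2)⁻¹ → τ * τ = 1 ∨ τ * τ = σ ^ m := fun h7 => by
    refine eq_of_mem_zpowers_of_sq ho h5 (mul_eq_one_iff_eq_inv.2 ?_)
    calc τ * τ = τ * (τ * τ) * τ⁻¹ := by group
      _ = (τ * σ ^ 2 * τ⁻¹) ^ i := by rw [hi, conj_zpow, zpow_mul, zpow_ofNat]
      _ = _ := by rw [h7, hi]; group
  have key₃ : τ * σ * τ⁻¹ = σ⁻¹ → ∃ τ m k, IsTame σ τ m k := fun h7 =>
    ⟨τ, m, -1, ⟨a, hm⟩, ho, h1, hτ, by rw [h7, zpow_neg_one], by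
      rcases key₂ (by rw [← conj_pow, h7, inv_pow]) with h8 | h8 <;> simp [h8]⟩
  have h7 : m = 2 → σ ^ m * σ = σ⁻¹ := fun h7 => by
    rw [eq_inv_iff_mul_eq_one, ← hz, h7, mul_assoc, sq]
  rcases conj_cases_of_sq hm ho ((Subgroup.normal_of_index_eq_two h1).conj_mem σ
    (Subgroup.mem_zpowers σ) τ) h5 with (h8 | h8) | h8 | h8
  · exact Or.inr (key₁ (Or.inl h8))
  · exact h3.elim (fun h9 => Or.inl (key₃ (h8.trans (h7 h9))))
      fun h9 => Or.inr (key₁ (Or.inr ⟨h8, h9⟩))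
  · exact Or.inl (key₃ h8)
  · rcases h3 with h9 | h9
    · exact Or.inr (key₁ (Or.inl (by rw [h8, h9, sq, mul_inv_cancel_right])))
    have h10 : σ ^ m * σ⁻¹ = σ ^ ((m : ℤ) - 1) := by group
    rcases key₂ (by rw [← conj_pow, h8, (Commute.pow_self σ m).inv_right.mul_pow, sq, hz]; simp)
      with h11 | h11
    · exact Or.inl ⟨τ, m, m - 1, ⟨a, hm⟩, ho, h1, hτ, h8.trans h10, by simp [h9, h11]⟩
    · refine Or.inl ⟨σ * τ, m, m - 1, ⟨a, hm⟩, ho, h1, h6 (Subgroup.mem_zpowers σ), ?_,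
        Or.inr (Or.inr ⟨rfl, h9, ?_⟩)⟩
      · rw [show σ * τ * σ * (σ * τ)⁻¹ = σ * (τ * σ * τ⁻¹) * σ⁻¹ by group, h8]; group
      · rw [show σ * τ * (σ * τ) = σ * (τ * σ * τ⁻¹) * (τ * τ) by group, h8, h11, ← hz]; group

end grp

variable {M : Ideal AlgInt} {G : Type u} [Group G] [Fintype G] {B : Set (IrrCharacter G)}
  {P : Subgroup G} {e : (resK M)[G]}

namespace StarSetup
variable (S : StarSetup 2 M B P e)
include S

theorem eq_of_fuse_of_sq {u z ρ : P} (hz : z ∈ Subgroup.center P) (h2 : z * z = 1)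
    (hρ : ρ * ρ = z) (hu : ρ * u = u * ρ)
    (hsq : ∀ a : P, a * a * (a * a) = 1 → a * a = 1 ∨ a * a = z)
    (h : PairFuse 2 P e (u : G) z) : u = z := by
  obtain ⟨g, h1, h3⟩ := S.exists_fHom_of_central h hz
  obtain ⟨a, h4, -⟩ := S.exists_cj h3 (coe_mem_inf_centralizer.2 hu)
  have h5 : Cj g z (a * a) := hρ ▸ h4.mul h4
  rcases hsq a (h5.sq_iff.2 h2) with h6 | h6 <;> rw [h6] at h5
  · obtain rfl := h5.inj cj_one
    exact h1.inj cj_one
  · exact h1.inj h5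

theorem blockRank_eq_one_of_isCyclic (h : IsCyclic P) : blockRank 2 B = 1 := by
  obtain ⟨σ, hσ⟩ := h.exists_generator
  refine S.blockRank_eq_one_of_fHom fun Q g hg hn hr => ?_
  have hQ : Q ≤ P := hg.choose_spec.1.le
  exact mem_centralizer_of_le_zpowers (S.isPGroup.to_le hQ) (σ := σ)
    (fun a ha => coe_mem_zpowers_coe.2 (hσ ⟨a, hQ ha⟩)) hn hr

theorem blockRank_eq_one_of_modular {σ y : P} {m : ℕ} (ho : orderOf σ = 2 * m) (hm : 2 ∣ m)
    (hi : (Subgroup.zpowers σ).index = 2) (hy : y ∉ Subgroup.zpowers σ) (hy2 : y * y = 1)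
    (hr : y * σ * y⁻¹ = σ ∨ y * σ * y⁻¹ = σ ^ m * σ ∧ 4 ∣ m) : blockRank 2 B = 1 := by
  have hz : σ ^ (2 * m : ℤ) = 1 := by rw [← orderOf_dvd_iff_zpow_eq_one, ho]; rfl
  have hz2 : σ ^ m * σ ^ m = 1 := by rw [← hz]; group
  have h0 : y⁻¹ = y := inv_eq_of_mul_eq_one_right hy2
  have h1 : ∀ b : P, ∃ j : ℤ, b = σ ^ j ∨ b = σ ^ j * y := fun b => by
    by_cases hb : b ∈ Subgroup.zpowers σ
    · exact hb.imp fun j hj => Or.inl hj.symm
    · obtain ⟨j, hj⟩ := (Subgroup.mul_mem_iff_of_index_two hi).2 (iff_of_false hb hy)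
      exact ⟨j, Or.inr (by rw [show σ ^ j = _ from hj, mul_assoc, hy2, mul_one])⟩
  have h2 : (∀ b, y * b * y⁻¹ = b) ∨ 4 ∣ m ∧ ∀ b, y * b * y⁻¹ = b ^ m * b := by
    refine hr.imp (fun h2 b => ?_) fun ⟨h2, c, hc⟩ => ⟨⟨c, hc⟩, fun b => ?_⟩
    · obtain ⟨j, rfl | rfl⟩ := h1 b
      · rw [← conj_zpow, h2]
      · rw [← mul_assoc, mul_inv_cancel_right, ← mul_inv_eq_iff_eq_mul, ← conj_zpow, h2]
    have h3 : ∀ j : ℤ, y * σ ^ j * y⁻¹ = (σ ^ j) ^ m * σ ^ j := fun j => by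
      rw [← conj_zpow, h2]; group
    obtain ⟨j, rfl | rfl⟩ := h1 b
    · exact h3 j
    have h4 : (σ ^ j * y) ^ 2 = σ ^ j * ((σ ^ j) ^ m * σ ^ j) := by rw [← h3, h0, sq]; group
    rw [← mul_assoc, mul_inv_cancel_right, ← mul_assoc, ← mul_inv_eq_iff_eq_mul, h3,
      show (σ ^ j * y) ^ m = ((σ ^ j * y) ^ 2) ^ (2 * c) by rw [hc]; group, h4, mul_left_inj,
      ← mul_inv_eq_one, ← one_zpow (-(j * c)), ← hz, hc]
    push_cast; group
  have h3 : ∀ j : ℤ, σ ^ (2 * j) ∈ Subgroup.centralizer {y} := fun j => by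
    rw [Subgroup.mem_centralizer_singleton_iff, eq_comm, ← mul_inv_eq_iff_eq_mul]
    rcases h2 with h2 | ⟨-, h2⟩ <;> rw [h2]
    rw [mul_eq_right, ← one_zpow j, ← hz]; group
  obtain ⟨n, rfl⟩ := hm
  have h4 : σ ^ n * y = y * σ ^ n := by
    rw [eq_comm, ← mul_inv_eq_iff_eq_mul]
    rcases h2 with h2 | ⟨⟨c, hc⟩, h2⟩ <;> rw [h2]
    obtain rfl : n = 2 * c := by omega
    rw [mul_eq_right, ← one_zpow c, ← hz]; push_cast; group
  have h5 : σ ^ (2 * n) ∈ Subgroup.center P := Subgroup.mem_center_iff.2 fun b => by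
    have h5 : Commute (σ ^ (2 * n)) y := by rw [mul_comm, pow_mul]; exact Commute.pow_left h4 2
    obtain ⟨j, rfl | rfl⟩ := h1 b
    exacts [by group, ((((Commute.refl σ).pow_left _).zpow_right _).mul_right h5).symm]
  have h6 : ∀ a : P, a * a * (a * a) = 1 → a * a = 1 ∨ a * a = σ ^ (2 * n) := fun a =>
    eq_of_mem_zpowers_of_sq ho (Subgroup.mul_self_mem_of_index_two hi a)
  have h7 : σ ^ n * σ ^ n = σ ^ (2 * n) := by group
  have h8 : ∀ j : ℤ, σ ^ j * y ∈ Subgroup.centralizer {y} → Commute (σ ^ j) y := fun j h => by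
    simpa [← mul_assoc, commute_iff_eq] using Subgroup.mem_centralizer_singleton_iff.1 h
  refine S.blockRank_eq_one_of_index_two (A := Subgroup.centralizer {y}) ?_ ?_ ?_ hz2 (w := y)
    ?_ (fun h => hy ?_) fun h => hy ?_
  · refine Nat.le_of_dvd two_pos (Subgroup.index_dvd_two_iff'.2 ⟨σ, fun b => ?_⟩)
    have h9 : y ∈ Subgroup.centralizer {y} := Subgroup.mem_centralizer_singleton_iff.2 rfl
    obtain ⟨j, hj⟩ := h1 b
    obtain ⟨i, rfl | rfl⟩ := Int.even_or_odd' j <;> rcases hj with rfl | rfl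
    exacts [Or.inr (h3 i), Or.inr (mul_mem (h3 i) h9), Or.inl (by convert h3 (i + 1) using 1; group),
      Or.inl (by convert mul_mem (h3 (i + 1)) h9 using 1; group)]
  · intro a ha b hb
    obtain ⟨i, rfl | rfl⟩ := h1 a <;> obtain ⟨j, rfl | rfl⟩ := h1 b
    · group
    · exact (Commute.zpow_zpow_self σ i j).mul_right (Subgroup.mem_centralizer_singleton_iff.1 ha)
    · exact (Commute.zpow_zpow_self σ i j).mul_left
        (Subgroup.mem_centralizer_singleton_iff.1 hb).symm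
    · exact ((Commute.zpow_zpow_self σ i j).mul_right (h8 i ha)).mul_left
        ((h8 j hb).symm.mul_right (Commute.refl y))
  · rintro a ha b ⟨g, -, h9, -⟩
    rw [Subgroup.mem_centralizer_singleton_iff, eq_comm, ← mul_inv_eq_iff_eq_mul] at ha ⊢
    rcases h2 with h2 | ⟨-, h2⟩ <;> rw [h2] at ha ⊢
    rw [mul_eq_right] at ha ⊢
    exact Subtype.ext (by rw [Subgroup.coe_pow, h9, conj_pow, ← Subgroup.coe_pow, ha]; simp)
  · intro a ha ha2
    obtain ⟨j, rfl | rfl⟩ := h1 a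
    · rcases eq_of_mem_zpowers_of_sq ho ⟨j, rfl⟩ ha2 with h | h <;> simp [h]
    · rw [(h8 j ha).symm.mul_mul_mul_comm, hy2, mul_one] at ha2
      rcases eq_of_mem_zpowers_of_sq ho ⟨j, rfl⟩ ha2 with h | h <;> simp [h]
  · exact S.eq_of_fuse_of_sq h5 hz2 h7 h4 h6 h.symm ▸ pow_mem (Subgroup.mem_zpowers σ) _
  · have := S.eq_of_fuse_of_sq h5 hz2 h7 (((Commute.refl σ).pow_pow _ _).mul_right h4) h6 h.symm
    exact mul_eq_left.1 this ▸ one_mem _

theorem blockRank_le_three_of_index_le_two {σ : P} (hσ : (Subgroup.zpowers σ).index ≤ 2) :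
    blockRank 2 B ≤ 3 := by
  by_cases hc : IsCyclic P
  · rw [S.blockRank_eq_one_of_isCyclic hc]; norm_num
  rcases cyc_two_cases S.isPGroup hc hσ with h | ⟨τ, m, k, h⟩ | ⟨y, m, h1, h2, h3, h4, h5, h6⟩
  · rw [S.klein_blockRank h]
    rcases S.klein_inertialIndex h with h1 | h1 <;> omega
  · exact le_trans (Nat.le_add_right _ _) (S.tame_rank_le h)
  · rw [S.blockRank_eq_one_of_modular h1 h2 h3 h4 h5 h6]; norm_num

end StarSetup

end Cfsg
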