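import Cfsg.Agent.Blk.Dihedral

/-! Brauer's group order formula method for groups with dihedral Sylow `2`-subgroups. -/

set_option autoImplicit false

namespace Cfsg

open scoped ComplexConjugate Pointwise

universe u v w

variable {G : Type u} [Group G]

theorem card_inf_centralizer_conj {H : Subgroup G} {c : G} (hc : c ∈ H) (a : G) :
    Nat.card (H ⊓ Subgroup.centralizer ({c * a * c⁻¹} : Set G) : Subgroup G) =
      Nat.card (H ⊓ Subgroup.centralizer ({a} : Set G) : Subgroup G) := by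
  rw [← card_conj_smul (H ⊓ Subgroup.centralizer ({a} : Set G)) c, Subgroup.smul_inf,
    ← centralizer_conj_singleton,
    conj_smul_eq_iff_mem_normalizer.2 (Subgroup.le_normalizer hc)]

theorem centralizer_pair (a b : G) : Subgroup.centralizer ({a, b} : Set G) =
    Subgroup.centralizer {a} ⊓ Subgroup.centralizer {b} := by
  ext x
  simp [Subgroup.mem_centralizer_iff]

open Classical in
theorem IrrCharacter.sum_sum_isConj [Fintype G] (χ : IrrCharacter G) (a : G) :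
    ∑ s : G with IsConj a s, ∑ t : G with IsConj a t, χ.1 (s * t) =
      ((Subgroup.centralizer ({a} : Set G)).index : ℂ) ^ 2 * (χ.1 a ^ 2 / charDegree χ.1) := by
  rw [← χ.one_eq_charDegree, ← mul_div_assoc, eq_div_iff χ.one_ne_zero, mul_comm,
    χ.one_mul_sum_sum_isConj]
  ring

namespace IsDih
variable {P : Subgroup G} {σ τ : G} {m : ℕ} (h : IsDih P σ τ m)
include h

theorem σ_conj {s : G} (hs : s ∈ Subgroup.zpowers σ) (k : ℤ) :
    σ ^ k * (s * τ) * (σ ^ k)⁻¹ = σ ^ (2 * k) * s * τ := by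
  have h1 := h.τ_conj (Subgroup.inv_mem _ (Subgroup.zpow_mem_zpowers σ k))
  rw [inv_inv, mul_inv_eq_iff_eq_mul] at h1
  rw [mul_assoc, mul_assoc, h1, ← mul_assoc s, setLike_mul_comm hs (Subgroup.zpow_mem_zpowers σ k),
    two_mul, zpow_add]
  simp only [mul_assoc]

theorem isConj_or {x : G} (hx : x ∈ P) (hx' : x ∉ Subgroup.zpowers σ) :
    IsConj τ x ∨ IsConj (σ * τ) x := by
  obtain ⟨_, ⟨k, rfl⟩, rfl⟩ := h.exists_eq_mul hx hx'
  obtain ⟨j, rfl | rfl⟩ := Int.even_or_odd' k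
  · exact Or.inl (isConj_iff.2 ⟨σ ^ j, by simpa using h.σ_conj (Subgroup.one_mem _) j⟩)
  · exact Or.inr (isConj_iff.2 ⟨σ ^ j, by
      rw [h.σ_conj (Subgroup.mem_zpowers σ) j, ← zpow_add_one]⟩)

variable [Finite G]

theorem card_inf_centralizer_of_notMem {x : G} (hx : x ∈ P) (hx' : x ∉ Subgroup.zpowers σ) :
    Nat.card (P ⊓ Subgroup.centralizer ({x} : Set G) : Subgroup G) = 4 := by
  have h1 : Subgroup.zpowers σ ⊓ (P ⊓ Subgroup.centralizer ({x} : Set G)) =
      Subgroup.zpowers (σ ^ m) := by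
    refine le_antisymm (fun s hs => ?_) (Subgroup.zpowers_le.2 ⟨J_mem, h.zpowers_le J_mem,
      Subgroup.mem_centralizer_singleton_iff.2
        (Subgroup.mem_centralizer_singleton_iff.1 (h.le_centralizer_J hx)).symm⟩)
    by_cases hs1 : s = 1
    · exact hs1 ▸ Subgroup.one_mem _
    have := h.conj_of_notMem hx hx' hs.1
    rw [← Subgroup.mem_centralizer_singleton_iff.1 hs.2.2, mul_inv_cancel_right,
      eq_inv_iff_mul_eq_one, ← _root_.sq] at this
    rw [h.eq_J hs.1 (orderOf_eq_prime this hs1)]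
    exact Subgroup.mem_zpowers _
  have h2 : (Subgroup.zpowers σ).relIndex (P ⊓ Subgroup.centralizer ({x} : Set G)) ≤ 2 :=
    h.relIndex ▸ Subgroup.relIndex_le_of_le_right inf_le_left (by rw [h.relIndex]; exact two_ne_zero)
  have h3 : (Subgroup.zpowers σ).relIndex (P ⊓ Subgroup.centralizer ({x} : Set G)) ≠ 0 :=
    Subgroup.index_ne_zero_of_finite
  have h4 : (Subgroup.zpowers σ).relIndex (P ⊓ Subgroup.centralizer ({x} : Set G)) ≠ 1 :=
    fun e => hx' (Subgroup.relIndex_eq_one.1 e ⟨hx, Subgroup.mem_centralizer_singleton_iff.2 rfl⟩)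
  rw [← card_inf_mul_relIndex (Subgroup.zpowers σ), h1, Nat.card_zpowers, h.orderOf_J]
  omega

theorem invW_eq (H : Subgroup G) {x : G} (hx : x ∈ P) (hx' : x ∉ Subgroup.zpowers σ) :
    invW H P x = Nat.card H /
      (m * Nat.card (H ⊓ Subgroup.centralizer ({x} : Set G) : Subgroup G)) := by
  have h1 : (m : ℂ) ≠ 0 := Nat.cast_ne_zero.2 h.pos.ne'
  have h2 : (Nat.card (H ⊓ Subgroup.centralizer ({x} : Set G) : Subgroup G) : ℂ) ≠ 0 :=
    Nat.cast_ne_zero.2 Nat.card_pos.ne'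
  rw [invW, h.card_inf_centralizer_of_notMem hx hx', h.card]
  push_cast
  field_simp

omit [Finite G] in
open Classical in
theorem sum_involutions [Fintype G] (f : G → ℂ) :
    ∑ a : G with a ∈ P ∧ orderOf a = 2, f a = f (σ ^ m) + ∑ s : Subgroup.zpowers σ, f (s * τ) := by
  rw [← Finset.add_sum_erase _ _ (Finset.mem_filter.2 ⟨Finset.mem_univ _, h.zpowers_le J_mem,
    h.orderOf_J⟩)]
  congr 1
  refine (Finset.sum_bij (fun (s : Subgroup.zpowers σ) _ => (s : G) * τ) (fun s _ => ?_)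
    (fun s _ t _ e => Subtype.ext (mul_right_cancel e)) (fun a ha => ?_) fun _ _ => rfl).symm
  · have h1 := h.mul_τ_notMem s.2
    have h2 := P.mul_mem (h.zpowers_le s.2) h.mem_τ
    exact Finset.mem_erase.2 ⟨fun e => h1 (e ▸ J_mem),
      Finset.mem_filter.2 ⟨Finset.mem_univ _, h2, h.orderOf_of_notMem h2 h1⟩⟩
  · obtain ⟨h1, h2⟩ := Finset.mem_erase.1 ha
    obtain ⟨h3, h4⟩ := (Finset.mem_filter.1 h2).2
    obtain ⟨s, hs, rfl⟩ := h.exists_eq_mul h3 fun e => h1 (h.eq_J e h4)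
    exact ⟨⟨s, hs⟩, Finset.mem_univ _, rfl⟩

end IsDih

namespace IsDih
variable {P : Sylow 2 G} {σ τ : G} {m : ℕ} (h : IsDih (P : Subgroup G) σ τ m)
include h

theorem isConj_J [Finite G] (h1 : IsConj (σ ^ m) τ) (h2 : IsConj (σ ^ m) (σ * τ)) (s : G)
    (hs : orderOf s = 2) : IsConj (σ ^ m) s := by
  obtain ⟨g, hg⟩ := exists_conj_mem_sylow P (g := s) ⟨1, hs⟩
  have h3 : IsConj s (g * s * g⁻¹) := isConj_iff.2 ⟨g, rfl⟩
  refine IsConj.trans ?_ h3.symm
  by_cases h4 : g * s * g⁻¹ ∈ Subgroup.zpowers σ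
  · rw [h.eq_J h4 ((orderOf_eq_of_isConj h3).trans hs)]
  · exact (h.isConj_or hg h4).elim h1.trans h2.trans

open Classical in
theorem sum_sum_isConj [Fintype G] (hinv : ∀ s, orderOf s = 2 → IsConj (σ ^ m) s) {C : Subgroup G}
    (hC : C = Subgroup.centralizer {σ ^ m}) {Θ : G → ℂ} (hΘ : IsClassFunction G Θ)
    (h2 : ∀ g, 2 ∣ orderOf g → Θ g = Θ (pPart 2 g)) (h0 : ∀ g, ¬ 2 ∣ orderOf g → Θ g = 0) :
    ∑ s : G with IsConj (σ ^ m) s, ∑ t : G with IsConj (σ ^ m) t, Θ (s * t) = (C.index : ℂ) *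
      ∑ s : Subgroup.zpowers σ, ∑ t : Subgroup.zpowers σ,
        invW C P (s * τ) * invW C P (t * τ) * Θ (s * (t : G)⁻¹) := by
  have hPC : (P : Subgroup G) ≤ C := hC ▸ h.le_centralizer_J
  have h3 : ∀ x ∈ (P : Subgroup G), x ∉ Subgroup.zpowers σ → σ ^ m ∉ Subgroup.zpowers x :=
    fun x hx hx' e => hx' (eq_of_mem_zpowers_of_orderOf_two e (Subgroup.mem_zpowers x) h.orderOf_J
      (h.orderOf_of_notMem hx hx') ▸ J_mem)
  rw [sum_sum_isConj_eq_local h.orderOf_J hC (hC ▸ h.hasNormalPComplement_centralizer_J) hPC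
    P.isPGroup' (not_dvd_relIndex P hPC) hinv hΘ h2 h0, h.sum_involutions, h.sum_involutions,
    mul_self_eq_one_of_orderOf_two h.orderOf_J, h0 1 (by simp), ite_self, mul_zero, zero_add,
    Finset.sum_eq_zero fun s _ => ?_, zero_add]
  · congr 1
    refine Finset.sum_congr rfl fun s _ => ?_
    rw [h.sum_involutions, if_neg (h3 _ (Subgroup.mul_mem _ (Subgroup.mul_mem _ (h.zpowers_le s.2)
      h.mem_τ) (h.zpowers_le J_mem)) fun e => h.mul_τ_notMem s.2
        ((Subgroup.mul_mem_cancel_right _ J_mem).1 e)), mul_zero, zero_add]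
    refine Finset.sum_congr rfl fun t _ => ?_
    have e : (s : G) * τ * (t * τ) = s * (t : G)⁻¹ := by
      rw [← h.τ_conj t.2, h.inv_τ]; simp only [mul_assoc]
    rw [e]
    by_cases hst : (s : G) * (t : G)⁻¹ = 1
    · rw [hst, h0 1 (by simp), ite_self]
    · rw [if_pos (h.J_mem_zpowers P.isPGroup' (Subgroup.mul_mem _ s.2 (Subgroup.inv_mem _ t.2)) hst)]
  · rw [if_neg (h3 _ (Subgroup.mul_mem _ (h.zpowers_le J_mem) (Subgroup.mul_mem _
      (h.zpowers_le s.2) h.mem_τ)) fun e => h.mul_τ_notMem s.2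
        ((Subgroup.mul_mem_cancel_left _ J_mem).1 e)), mul_zero]

end IsDih

end Cfsg
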