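import Cfsg.Agent.Blk.OneCls
import Cfsg.Agent.S4570

/-! `2`-blocks with abelian defect group containing an inertially fixed cyclic subgroup of
index eight. -/

set_option autoImplicit false

namespace Cfsg

open scoped MonoidAlgebra ComplexConjugate

universe u v

section grp
variable {A : Type u} [CommGroup A] [Finite A] {E : Subgroup (MulAut A)}

theorem card_stab_mul_seven (hA : IsPGroup 2 A) (hE : Nat.card E ∣ 21) (h7 : 7 ∣ Nat.card E)
    {F : Subgroup A} (hF : F.index = 8) (hfix : ∀ σ ∈ E, ∀ a ∈ F, σ a = a) {v : A} (hv : v ∉ F) :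
    Nat.card (E ⊓ MulAction.stabilizer (MulAut A) v : Subgroup (MulAut A)) * 7 = Nat.card E := by
  classical
  have : Fact (Nat.Prime 7) := ⟨by norm_num⟩
  have hodd : ¬ 2 ∣ Nat.card E := fun h => absurd (h.trans hE) (by norm_num)
  have h1 : ¬ 7 ∣ Nat.card (E ⊓ MulAction.stabilizer (MulAut A) v : Subgroup (MulAut A)) := by
    intro h
    obtain ⟨g, hg⟩ := exists_prime_orderOf_dvd_card' 7 h
    have hg7 : (g : MulAut A) ^ 7 ^ 1 = 1 := by
      rw [pow_one, ← hg]; exact congrArg Subtype.val (pow_orderOf_eq_one g)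
    have h2 := card_modEq_card_fixed hg7
    set K := g.1.toMonoidHom.eqLocus (MonoidHom.id A)
    have h3 : F ≤ K := fun a ha => hfix g g.2.1 a ha
    have h4 := Subgroup.relIndex_mul_index h3
    have h5 : F.relIndex K ≠ 1 := fun h => hv (Subgroup.relIndex_eq_one.1 h g.2.2)
    have h6 : K.index ≠ 1 := fun h => by
      have : g = 1 := Subtype.ext (MulEquiv.ext fun y =>
        (Subgroup.index_eq_one.1 h ▸ Subgroup.mem_top y : y ∈ K))
      rw [this, orderOf_one] at hg
      omega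
    rw [← K.card_mul_index, ← mul_one (Nat.card K), mul_assoc, one_mul] at h2
    obtain ⟨i, hi⟩ := (hA.to_subgroup K).exists_card_eq
    have h8 := Nat.ModEq.cancel_left_of_coprime (by
      rw [hi]; exact Nat.Coprime.pow_right _ (by norm_num)) h2
    have h9 : K.index ≤ 8 := Nat.le_of_dvd (by norm_num) ⟨_, by rw [mul_comm, h4, hF]⟩
    rw [hF] at h4
    unfold Nat.ModEq at h8
    generalize K.index = x at *
    interval_cases x <;> omega
  have h2 : Nat.card (MulAction.orbit E v) ≤ 7 := by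
    have h3 := Nat.card_le_card_of_injective (β := {q : A ⧸ F // q ≠ 1})
      (fun w : MulAction.orbit E v => ⟨(w.1 : A ⧸ F), fun h => hv (by
        obtain ⟨_, σ, rfl⟩ := w
        have h4 := (QuotientGroup.eq_one_iff _).1 h
        have h5 := hfix σ⁻¹ σ⁻¹.2 _ h4
        change (σ⁻¹ • σ • v) = _ at h5
        rw [inv_smul_smul] at h5
        exact h5 ▸ h4)⟩) (by
      rintro ⟨_, σ, rfl⟩ ⟨_, τ, rfl⟩ h
      have h4 : (τ • v)⁻¹ * σ • v ∈ F := QuotientGroup.eq.1 (congrArg Subtype.val h).symm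
      have h5 := MulAut.apply_eq_of_stab hA hodd (pow_card_eq_one_of_mem (σ * τ⁻¹).2)
        (a := τ • v) (by
          have h6 : (σ * τ⁻¹ : E).1 (τ • v) = σ • v := by
            change (σ * τ⁻¹) • τ • v = _
            rw [mul_smul, inv_smul_smul]
          rw [h6]; exact hfix _ (σ * τ⁻¹).2 _ h4)
      change (σ * τ⁻¹) • τ • v = _ at h5
      rw [mul_smul, inv_smul_smul] at h5
      exact Subtype.ext h5)
    have h4 := Nat.card_congr (Equiv.optionSubtypeNe (1 : A ⧸ F))
    rw [Finite.card_option, ← Subgroup.index, hF] at h4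
    omega
  have h3 := Nat.card_congr (MulAction.orbitProdStabilizerEquivGroup E v)
  have h4 : Nat.card (MulAction.stabilizer E v) =
      Nat.card (E ⊓ MulAction.stabilizer (MulAut A) v : Subgroup (MulAut A)) := by
    rw [inf_comm, ← card_subgroupOf]; rfl
  rw [Nat.card_prod, h4] at h3
  have h5 := Nat.le_of_dvd (by norm_num) hE
  have h6 : Nat.card (E ⊓ MulAction.stabilizer (MulAut A) v : Subgroup (MulAut A)) ≤ 21 :=
    (Subgroup.card_le_of_le inf_le_left).trans h5
  generalize Nat.card (E ⊓ MulAction.stabilizer (MulAut A) v : Subgroup (MulAut A)) = x at *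
  generalize Nat.card (MulAction.orbit E v) = y at *
  have h8 : Nat.card E = 7 ∨ Nat.card E = 21 := by
    generalize Nat.card E = z at *
    interval_cases z <;> omega
  interval_cases y <;> omega

end grp

variable {M : Ideal AlgInt} {G : Type u} [Group G] [Fintype G] {B : Set (IrrCharacter G)}
  {P : Subgroup G} {e : (resK M)[G]}

theorem IsPBlock.even_of_proj_three (hM : IsPModular 2 M) (hB : IsPBlock M B)
    (hd : blockDefect 2 B = 3) {t : Finset (IrrCharacter G)} (ht : t ⊆ irrFinset B)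
    {x : IrrCharacter G → ℤ} (h2 : ∀ χ ∈ t, 2 ∣ x χ * redDeg 2 B χ.1) (hx : ∑ χ ∈ t, ∑ ψ ∈ t,
      x χ * contrib 2 B χ ψ * x ψ = 8 * ∑ χ ∈ t, x χ ^ 2) : 2 ∣ ∑ χ ∈ t, x χ ^ 2 := by
  obtain ⟨-, h3, h4⟩ := hM.proj_congr_sub ht (by rw [hd]; exact hx)
  have h5 : (16 : ℤ) ∣ ∑ χ ∈ t, (x χ * redDeg 2 B χ.1 * (1 + invOm χ ^ 2) -
      2 * (x χ * redDeg 2 B χ.1)) := Finset.dvd_sum fun χ hχ => by
    obtain ⟨y, hy⟩ := h2 χ hχ
    obtain ⟨r, hr⟩ := hB.odd_invOm hM (by omega) (mem_irrFinset.1 (ht hχ))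
    obtain ⟨c, hc⟩ := Int.even_mul_succ_self r
    exact ⟨y * c, by rw [hy, hr]; linear_combination 8 * y * hc⟩
  rw [Finset.sum_sub_distrib, ← Finset.mul_sum] at h5
  rw [hd] at h3 h4
  omega

namespace StarSetup
variable (S : StarSetup 2 M B P e) (hab : P ≤ Subgroup.centralizer (P : Set G))
include S hab

theorem rank_five (hP : Nat.card P = 8) (hel : ∀ x : P, x ^ 2 = 1) {u : P} (hu : u ≠ 1)
    (h : ∀ v : P, v ≠ 1 → PairFuse 2 P e (u : G) v) (hl : blockRank 2 (S.below u) = 3) :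
    blockRank 2 B = 5 := by
  classical
  have := Fact.mk Nat.prime_two
  have hM := S.hM
  have hd : blockDefect 2 B = 3 := Nat.pow_right_injective le_rfl (S.card_eq.symm.trans hP)
  have h1 : ∀ χ ∈ B, contrib 2 B χ χ = if blockHeight 2 B χ.1 = 0 then 5 else 4 := by
    intro χ hχ
    obtain ⟨n, h1, h2⟩ := S.exists_mm_of_eight hab hP hel hu hl χ
    have h3 := S.contrib_of_fuse hu h hχ χ
    rw [if_pos rfl, hP, mul_sub, Nat.cast_ofNat, h1] at h3
    have h4 : contrib 2 B χ χ = 8 - n := by exact_mod_cast h3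
    have h5 := contrib_self_pos (p := 2) hχ
    have h6 := S.re_mm_self_pos_of_central hχ (hab u.2)
    have h7 := congrArg Complex.re h1
    simp only [Complex.mul_re, Complex.re_ofNat, Complex.im_ofNat, zero_mul, sub_zero,
      Complex.intCast_re] at h7
    have h8 : 0 < n := by exact_mod_cast (by linarith : (0 : ℝ) < n)
    have h9 := S.hB.odd_contrib_iff hM hχ
    rw [Int.odd_iff] at h9
    split_ifs with h0
    · have := h9.2 h0; omega
    · have := mt h9.1 h0; omega
  set O := (irrFinset B).filter fun χ => blockHeight 2 B χ.1 = 0 with hO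
  set T := (irrFinset B).filter fun χ => ¬ blockHeight 2 B χ.1 = 0 with hT
  have hO' : ∀ χ ∈ O, χ ∈ B ∧ blockHeight 2 B χ.1 = 0 := fun χ hχ => by simpa [hO] using hχ
  have hT' : ∀ χ ∈ T, χ ∈ B ∧ blockHeight 2 B χ.1 ≠ 0 := fun χ hχ => by simpa [hT] using hχ
  have h2 := S.hB.sum_contrib_self hM
  rw [Finset.sum_congr rfl fun χ hχ => h1 χ (mem_irrFinset.1 hχ), Finset.sum_ite, ← hO, ← hT,
    Finset.sum_const, Finset.sum_const, hd, nsmul_eq_mul, nsmul_eq_mul] at h2
  have h3 := S.card_of_fuse hu h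
  rw [← card_irrFinset, ← Finset.card_filter_add_card_filter_not
    (fun χ : IrrCharacter G => blockHeight 2 B χ.1 = 0), ← hO, ← hT, hl] at h3
  by_contra h4
  obtain ⟨χ, hχ, h0⟩ := exists_blockHeight_eq_zero (S.hB.nonempty hM) 2
  have hχO : χ ∈ O := Finset.mem_filter.2 ⟨mem_irrFinset.2 hχ, h0⟩
  have h5 := Finset.card_pos.2 ⟨χ, hχO⟩
  have h6 : ∀ ψ ∈ T, ∑ ξ ∈ O, contrib 2 B ψ ξ ^ 2 + ∑ ξ ∈ T.erase ψ, contrib 2 B ψ ξ ^ 2 = 16 ∧
      ∀ ξ ∈ O, 4 ≤ contrib 2 B ψ ξ ^ 2 := fun ψ hψ => by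
    obtain ⟨h6, h7⟩ := hT' ψ hψ
    refine ⟨?_, fun ξ hξ => pow_le_sq_of_pow_dvd (q := 2) (h := 1) ?_ ?_⟩
    · have h8 := S.hB.sum_erase_contrib_sq hM h6
      rw [h1 ψ h6, if_neg h7, hd, ← Finset.sum_filter_add_sum_filter_not _
        (fun χ : IrrCharacter G => blockHeight 2 B χ.1 = 0), Finset.filter_erase,
        Finset.filter_erase, ← hO, ← hT,
        @Finset.erase_eq_of_notMem _ (_) _ O fun h => h7 (hO' ψ h).2] at h8
      convert h8
      norm_num
    · rw [contrib_comm]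
      exact S.hB.contrib_ne_zero_of_height_zero hM (hO' ξ hξ).1 h6 (hO' ξ hξ).2
    · exact (pow_dvd_pow _ (Nat.one_le_iff_ne_zero.2 h7)).trans (pow_blockHeight_dvd_contrib h6 ξ)
  have h7 : ∀ ψ ∈ T, (O.card : ℤ) * 4 ≤ ∑ ξ ∈ O, contrib 2 B ψ ξ ^ 2 ∧
      0 ≤ ∑ ξ ∈ T.erase ψ, contrib 2 B ψ ξ ^ 2 := fun ψ hψ =>
    ⟨by simpa using Finset.card_nsmul_le_sum O _ _ (h6 ψ hψ).2,
      Finset.sum_nonneg fun _ _ => sq_nonneg _⟩
  obtain ⟨ψ₀, hψ₀⟩ := Finset.card_pos.1 (by omega : 0 < T.card)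
  have h8 : O.card = 4 ∧ T.card = 3 := by
    have := (h6 ψ₀ hψ₀).1
    have := h7 ψ₀ hψ₀
    omega
  have h9 : ∀ ψ ∈ T, ∀ ξ ∈ T, contrib 2 B ψ ξ = if ψ = ξ then 4 else 0 := fun ψ hψ ξ hξ => by
    split_ifs with h
    · rw [← h, h1 ψ (hT' ψ hψ).1, if_neg (hT' ψ hψ).2]
    have h9 := (h6 ψ hψ).1
    have h10 := h7 ψ hψ
    exact pow_eq_zero_iff two_ne_zero |>.1 ((Finset.sum_eq_zero_iff_of_nonneg fun _ _ =>
      sq_nonneg _).1 (by omega) ξ (Finset.mem_erase.2 ⟨Ne.symm h, hξ⟩))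
  have h10 : ∀ ψ ∈ T, ∃ c : ℤ, contrib 2 B χ ψ = 2 * c ∧ c ^ 2 = 1 := fun ψ hψ => by
    have h9 := (h6 ψ hψ).1
    have h10 := h7 ψ hψ
    have h11 := (Finset.sum_eq_sum_iff_of_le (h6 ψ hψ).2).1 (by
      rw [Finset.sum_const, nsmul_eq_mul]; omega) χ hχO
    obtain ⟨c, hc⟩ := (dvd_pow_self 2 (hT' ψ hψ).2).trans
      (pow_blockHeight_dvd_contrib (p := 2) (hT' ψ hψ).1 χ)
    rw [contrib_comm, hc]
    exact ⟨c, rfl, by rw [hc] at h11; linarith⟩
  choose! c hc hc' using h10
  have hχT : χ ∉ T := fun h => (hT' χ h).2 h0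
  have h11 : ∀ f : IrrCharacter G → ℤ → ℤ,
      ∑ ψ ∈ insert χ T, f ψ (if ψ = χ then 2 else c ψ) = f χ 2 + ∑ ψ ∈ T, f ψ (c ψ) := fun f => by
    rw [Finset.sum_insert hχT, if_pos rfl]
    exact congrArg _ (Finset.sum_congr rfl fun ψ hψ => by rw [if_neg fun h : ψ = χ => hχT (h ▸ hψ)])
  have h12 : ∑ ψ ∈ T, c ψ ^ 2 = 3 := by rw [Finset.sum_congr rfl hc']; simp [h8.2]
  have h13 := S.hB.even_of_proj_three hM hd (t := insert χ T)
    (Finset.insert_subset (mem_irrFinset.2 hχ) (Finset.filter_subset _ _))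
    (x := fun ψ => if ψ = χ then 2 else c ψ) (fun ψ hψ => by
      split_ifs with h
      · exact dvd_mul_right _ _
      · have h13 := hT' ψ ((Finset.mem_insert.1 hψ).resolve_left h)
        exact Dvd.dvd.mul_left (by exact_mod_cast (dvd_redDeg_iff h13.1).2 h13.2) _) (by
      rw [h11 fun ψ a => ∑ ξ ∈ insert χ T, a * contrib 2 B ψ ξ * if ξ = χ then 2 else c ξ,
        h11 fun _ a => a ^ 2]
      simp only [fun a ψ => h11 fun ξ b => a * contrib 2 B ψ ξ * b]
      have e1 : ∑ ψ ∈ T, 2 * contrib 2 B χ ψ * c ψ = 4 * ∑ ψ ∈ T, c ψ ^ 2 := by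
        rw [Finset.mul_sum]
        exact Finset.sum_congr rfl fun ψ hψ => by rw [hc ψ hψ]; ring
      have e2 : ∑ ψ ∈ T, (c ψ * contrib 2 B ψ χ * 2 + ∑ ξ ∈ T, c ψ * contrib 2 B ψ ξ * c ξ) =
          8 * ∑ ψ ∈ T, c ψ ^ 2 := by
        rw [Finset.mul_sum]
        refine Finset.sum_congr rfl fun ψ hψ => ?_
        rw [contrib_comm, hc ψ hψ, Finset.sum_congr rfl fun ξ hξ => by rw [h9 ψ hψ ξ hξ]]
        simp only [mul_ite, ite_mul, mul_zero, zero_mul, Finset.sum_ite_eq, if_pos hψ]; ring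
      rw [h1 χ hχ, if_pos h0, e1, e2, h12]
      norm_num)
  rw [h11 fun _ a => a ^ 2, h12] at h13
  omega

theorem fuse_of_fuseCard (h : ∀ v : P, v ≠ 1 → fuseCard 2 P e v + 1 = Nat.card P) {u v : P}
    (hu : u ≠ 1) (hv : v ≠ 1) : PairFuse 2 P e (u : G) v := by
  classical
  have h1 : Function.Injective fun w : {w : P // PairFuse 2 P e (u : G) w} =>
      (⟨w.1, fun h => by
        obtain ⟨σ, -, h2⟩ := (S.pairFuse_iff_aut hab).1 w.2
        exact hu ((map_eq_one_iff _ σ.injective).1 (h2.trans h))⟩ : {w : P // w ≠ 1}) :=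
    fun a b h => Subtype.ext (by simpa using h)
  obtain ⟨w, hw⟩ := (h1.bijective_of_nat_card_le (by
    have h2 := Nat.card_congr (Equiv.optionSubtypeNe (1 : P))
    have h3 := h u hu
    rw [Finite.card_option] at h2
    rw [fuseCard] at h3
    omega)).2 ⟨v, hv⟩
  obtain rfl : w.1 = v := congrArg Subtype.val hw
  exact w.2

omit hab in
theorem sq_eq_one_of_fuse {u : P} (h : ∀ v : P, v ≠ 1 → PairFuse 2 P e (u : G) v)
    (x : P) : x ^ 2 = 1 := by
  by_contra hx
  have h1 : x ≠ 1 := fun h => hx (by rw [h, one_pow])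
  have h2 := orderOf_eq_of_isConj ((h x h1).symm.isConj.trans (h _ hx).isConj)
  obtain ⟨k, hk⟩ := S.orderOf_eq x
  have h3 : k ≠ 0 := fun h => h1 (Subtype.ext (by rwa [h, pow_zero, orderOf_eq_one_iff] at hk))
  rw [Subgroup.coe_pow, orderOf_pow_of_dvd two_ne_zero (hk ▸ dvd_pow_self 2 h3)] at h2
  have := orderOf_pos (x : G)
  omega

/-- the case of a defect group of order eight -/
theorem rank_of_eight (hP : Nat.card P = 8) (h7 : 7 ∣ Nat.card (inAut P e)) :
    Nat.card (inAut P e) = 7 ∧ blockRank 2 B = 7 ∨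
      Nat.card (inAut P e) = 21 ∧ blockRank 2 B = 5 := by
  have := isMulCommutative_of_le_centralizer hab
  letI : CommGroup P := { (inferInstance : Group P) with mul_comm := fun a b => mul_comm' a b }
  have h1 := (card_aut_two S.isPGroup (S.not_dvd_card_inAut hab)).2.1
    ((Subgroup.card_le_card_group _).trans hP.le)
  have h2 := fun v (hv : v ≠ 1) => card_stab_mul_seven S.isPGroup h1 h7 (F := ⊥)
    (by rw [Subgroup.index_bot, hP]) (fun σ _ a ha => by rw [Subgroup.mem_bot.1 ha, map_one]) hv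
  have : Nontrivial P := Finite.one_lt_card_iff_nontrivial.1 (by omega)
  obtain ⟨u, hu⟩ := exists_ne (1 : P)
  have h3 := fun v (hv : v ≠ 1) => S.fuse_of_fuseCard hab (fun v hv => by
    have h3 := S.fuseCard_mul_card hab v
    rw [← h2 v hv, mul_comm _ 7] at h3
    rw [Nat.eq_of_mul_eq_mul_right Nat.card_pos h3, hP]) hu hv
  have h4 := S.sq_eq_one_of_fuse h3
  have h5 := h2 u hu
  have h6 := Nat.le_of_dvd (by norm_num) h1
  have h8 := S.blockRank_below_eq_card hab u (by omega)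
  have h9 : Nat.card (inAut P e) = 7 ∨ Nat.card (inAut P e) = 21 := by
    generalize Nat.card (inAut P e) = z at *
    interval_cases z <;> omega
  refine h9.imp (fun h => ⟨h, ?_⟩) fun h => ⟨h, S.rank_five hab hP h4 hu h3 (by omega)⟩
  obtain ⟨d, h10, h11, -⟩ := S.exists_column_of_fuse hab hu (congrArg Subtype.val (h4 u)) h3
    ((S.isNilpotentBlock_below_iff_aut hab u).2 fun σ hσ h' => (Subgroup.eq_bot_iff_forall
      (inAut P e ⊓ MulAction.stabilizer (MulAut P) u)).1 (Subgroup.card_eq_one.1 (by omega)) σ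
      ⟨hσ, h'⟩)
  have h12 : ∀ χ ∈ irrFinset B, d χ ^ 2 = 1 := fun χ hχ => by
    have h12 := Finset.single_le_sum (f := fun χ => d χ ^ 2) (fun _ _ => sq_nonneg _) hχ
    obtain ⟨a, ha⟩ := (h10 χ (mem_irrFinset.1 hχ)).1
    obtain ⟨c, hc⟩ := Int.even_mul_succ_self a
    have h13 : d χ ^ 2 = 8 * c + 1 := by rw [ha]; linear_combination 4 * hc
    have := sq_nonneg (d χ)
    omega
  rw [Finset.sum_congr rfl h12, Finset.sum_const, card_irrFinset, S.card_of_fuse hu h3] at h11
  simp only [nsmul_eq_mul, mul_one] at h11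
  omega

/-- an inertially fixed cyclic subgroup of index eight -/
theorem of_index_eight {z : P} (hz : ∀ σ ∈ inAut P e, σ z = z)
    (hi : (Subgroup.zpowers z).index = 8) :
    Nat.card B = Nat.card P ∧ (∀ χ ∈ B, blockHeight 2 B χ.1 = 0) ∧
      (blockRank 2 B = 1 ∨ blockRank 2 B = 3 ∨ blockRank 2 B = 5 ∨ blockRank 2 B = 7) := by
  classical
  have := Fintype.ofFinite P
  have := isMulCommutative_of_le_centralizer hab
  letI : CommGroup P := { (inferInstance : Group P) with mul_comm := fun a b => mul_comm' a b }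
  obtain ⟨H, _, _, B', P', e', S', ρ, Q⟩ := S.exists_subQuot_central (le_centralizer_of_comm hab z)
  have h1 := (Subgroup.zpowers z).index_mul_card
  have h2 : Nat.card P' = 8 := by
    have h2 := Q.card_mul
    rw [← h1, hi, Nat.card_zpowers, Subgroup.orderOf_coe] at h2
    exact Nat.eq_of_mul_eq_mul_right (orderOf_pos z) h2
  have hab' := Q.comm hab
  have h3 := Q.card_inAut hab
  rw [inf_eq_left.2 fun σ hσ => hz σ hσ] at h3
  have h4 : Nat.card (inAut P e) ∣ 21 := by
    have := isMulCommutative_of_le_centralizer hab'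
    letI : CommGroup P' := { (inferInstance : Group P') with mul_comm := fun a b => mul_comm' a b }
    exact h3 ▸ (card_aut_two S'.isPGroup (S'.not_dvd_card_inAut hab')).2.1
      ((Subgroup.card_le_card_group _).trans h2.le)
  have hF : ∀ σ ∈ inAut P e, ∀ a ∈ Subgroup.zpowers z, σ a = a := fun σ hσ a ha =>
    (Subgroup.zpowers_le.2 (hz σ hσ) : _ ≤ σ.toMonoidHom.eqLocus (MonoidHom.id P)) ha
  have h5 := Nat.le_of_dvd (by norm_num) h4
  by_cases h7 : 7 ∣ Nat.card (inAut P e)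
  swap
  · have h6 : Nat.card (inAut P e) = 1 ∨ Nat.card (inAut P e) = 3 := by
      generalize Nat.card (inAut P e) = z at *
      interval_cases z <;> omega
    have h8 := S.blockRank_eq_card_inAut hab (by omega)
    refine ⟨?_, fun χ hχ => S.height_zero_of_le_three hab (by omega) hχ, by omega⟩
    rcases h6 with h6 | h6
    · have h9 := S.card_mul_of_semifree_aut hab Set.univ (fun v _ σ hσ => by
        rw [(Subgroup.eq_bot_iff_forall _).1 (Subgroup.card_eq_one.1 h6) σ hσ, MulAut.one_apply])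
        fun v hv => absurd trivial hv
      rw [h8, h6, Nat.card_univ] at h9
      omega
    set F := Agent.S4569.fixS (inAut P e : Set (MulAut P))
    have h9 := S.card_mul_of_semifree_aut hab F (fun v hv σ hσ => hv σ hσ)
      fun v hv => Agent.S4570.free_of_prime (h6 ▸ Nat.prime_three) hv
    have h10 := Agent.S4570.card_modEq (E := inAut P e) (h6 ▸ Nat.prime_three) ⊤ fun _ _ _ _ => trivial
    have h11 : Subgroup.zpowers z ≤ F := fun a ha σ hσ => hF σ hσ a ha
    have h12 := Subgroup.relIndex_mul_index h11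
    have h13 : F.index ≠ 1 := fun h => by
      have : inAut P e = ⊥ := (Subgroup.eq_bot_iff_forall _).2 fun σ hσ => MulEquiv.ext fun y =>
        (Subgroup.index_eq_one.1 h ▸ Subgroup.mem_top y : y ∈ F) σ hσ
      rw [this, Subgroup.card_bot] at h6
      omega
    have h14 := F.card_mul_index
    rw [top_inf_eq, Subgroup.card_top, h6, ← h14, ← mul_one (Nat.card F), mul_assoc,
      one_mul] at h10
    obtain ⟨i, hi'⟩ := (S.isPGroup.to_subgroup F).exists_card_eq
    have h15 := Nat.ModEq.cancel_left_of_coprime (by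
      rw [hi']; exact Nat.Coprime.pow_right _ (by norm_num)) h10
    have h16 : F.index ≤ 8 := Nat.le_of_dvd (by norm_num) ⟨_, by rw [mul_comm, h12, hi]⟩
    rw [hi] at h12
    rw [h8, h6, SetLike.coe_sort_coe] at h9
    unfold Nat.ModEq at h15
    generalize F.index = x at *
    interval_cases x <;> omega
  have h6 := S'.rank_of_eight hab' h2 (h3 ▸ h7)
  rw [h3, Q.rank, S.blockRank_below_of_fixed_aut hab hz] at h6
  have h8 : ∀ v ∉ Subgroup.zpowers z, fuseCard 2 P e v = 7 ∧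
      blockRank 2 (S.below v) * 7 = Nat.card (inAut P e) := fun v hv => by
    have h8 := card_stab_mul_seven S.isPGroup h4 h7 hi hF hv
    have h9 := S.fuseCard_mul_card hab v
    rw [S.blockRank_below_eq_card hab v (by omega)]
    rw [← h8, mul_comm _ 7] at h9
    exact ⟨Nat.eq_of_mul_eq_mul_right Nat.card_pos h9, h8⟩
  have h9 : Nat.card B = Nat.card P := by
    have h9 := S.card_eq_sum_below
    have h10 : (Finset.univ.filter (· ∈ Subgroup.zpowers z)).card =
        Nat.card (Subgroup.zpowers z) := by rw [Nat.card_eq_fintype_card, Fintype.card_subtype]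
    have h11 := Finset.card_filter_add_card_filter_not (s := Finset.univ) (· ∈ Subgroup.zpowers z)
    rw [h10, Finset.card_univ, ← Nat.card_eq_fintype_card, ← h1, hi] at h11
    have e1 : ∀ v ∈ Finset.univ.filter (· ∈ Subgroup.zpowers z),
        (blockRank 2 (S.below v) : ℂ) / fuseCard 2 P e v = blockRank 2 B := fun v hv => by
      have h12 := fun σ hσ => hF σ hσ v (Finset.mem_filter.1 hv).2
      have h13 := S.fuseCard_mul_card hab v
      rw [inf_eq_left.2 fun σ hσ => h12 σ hσ, mul_eq_right₀ Nat.card_pos.ne'] at h13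
      rw [h13, S.blockRank_below_of_fixed_aut hab h12]; simp
    have e2 : ∀ v ∈ Finset.univ.filter (· ∉ Subgroup.zpowers z), (blockRank 2 (S.below v) : ℂ) /
        fuseCard 2 P e v = (Nat.card (inAut P e) : ℂ) / 49 := fun v hv => by
      obtain ⟨h12, h13⟩ := h8 v (Finset.mem_filter.1 hv).2
      rw [h12, ← h13]; push_cast; ring
    rw [← Finset.sum_filter_add_sum_filter_not _ (· ∈ Subgroup.zpowers z),
      Finset.sum_congr rfl e1, Finset.sum_congr rfl e2, Finset.sum_const, Finset.sum_const,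
      h10, show (Finset.univ.filter (· ∉ Subgroup.zpowers z)).card =
        7 * Nat.card (Subgroup.zpowers z) by omega] at h9
    apply Nat.cast_injective (R := ℂ)
    rw [h9, ← h1, hi]
    rcases h6 with ⟨h, h'⟩ | ⟨h, h'⟩ <;> rw [h, h'] <;> simp <;> ring
  obtain ⟨v, hv⟩ : ∃ v, v ∉ Subgroup.zpowers z := by
    by_contra! h
    rw [(Subgroup.eq_top_iff' _).2 h, Subgroup.index_top] at hi
    omega
  have h10 := (h8 v hv).2
  exact ⟨h9, fun χ hχ => S.height_zero_of_card h9 (le_centralizer_of_comm hab v) (by omega) hχ,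
    by omega⟩

end StarSetup

end Cfsg
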