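import Mathlib

/-! Combinatorics for the principal `3`-block with extraspecial defect group of order `27`. -/

set_option autoImplicit false

namespace Cfsg

open Finset

/-- the norm of `a + b ω` -/
def eisN (a b : ℤ) : ℤ := a ^ 2 - a * b + b ^ 2

theorem eisN_nonneg (a b : ℤ) : 0 ≤ eisN a b := by unfold eisN; nlinarith [sq_nonneg (a - b)]

theorem eisN_eq_zero {a b : ℤ} (h : eisN a b ≤ 0) : a = 0 ∧ b = 0 := by
  unfold eisN at h
  constructor <;> nlinarith [sq_nonneg (a - b), sq_nonneg (2 * a - b), sq_nonneg (2 * b - a)]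

theorem sq_le_four_mul_eisN (a b : ℤ) : (2 * a - b) ^ 2 ≤ 4 * eisN a b := by
  unfold eisN; nlinarith [sq_nonneg b]

theorem abs_le_two_mul_eisN (a b : ℤ) : |2 * a - b| ≤ 2 * eisN a b := by
  have h1 := sq_le_four_mul_eisN a b
  by_cases h : eisN a b ≤ 0
  · obtain ⟨rfl, rfl⟩ := eisN_eq_zero h
    simp [eisN]
  · refine abs_le_of_sq_le_sq' ?_ (by omega) |> abs_le.2
    nlinarith

theorem eisN_add_le (a b c d : ℤ) {s t : ℤ} (hs : 0 ≤ s) (ht : 0 ≤ t) (h1 : eisN a b ≤ s ^ 2)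
    (h2 : eisN c d ≤ t ^ 2) : eisN (a + c) (b + d) ≤ (s + t) ^ 2 := by
  have h3 : (2 * a * c - a * d - b * c + 2 * b * d) ^ 2 ≤ (2 * s * t) ^ 2 := by
    have h4 : (2 * a * c - a * d - b * c + 2 * b * d) ^ 2 + 3 * (a * d - b * c) ^ 2 =
        4 * (eisN a b * eisN c d) := by unfold eisN; ring
    have h5 := mul_le_mul h1 h2 (eisN_nonneg c d) (sq_nonneg s)
    nlinarith [sq_nonneg (a * d - b * c)]
  have h6 := (abs_le_of_sq_le_sq' h3 (by positivity)).2
  unfold eisN at *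
  nlinarith

theorem eisN_sum_le {κ : Type*} (Y : Finset κ) (a b : κ → ℤ) :
    eisN (∑ i ∈ Y, a i) (∑ i ∈ Y, b i) ≤ (∑ i ∈ Y, eisN (a i) (b i)) ^ 2 := by
  classical
  induction Y using Finset.induction_on with
  | empty => simp [eisN]
  | insert x s hx ih =>
    rw [sum_insert hx, sum_insert hx, sum_insert hx]
    refine eisN_add_le _ _ _ _ (eisN_nonneg _ _) (sum_nonneg fun _ _ => eisN_nonneg _ _) ?_ ih
    nlinarith [eisN_nonneg (a x) (b x), sq_nonneg (eisN (a x) (b x) - 1),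
      Int.le_self_sq (eisN (a x) (b x))]

theorem eisN_sum_eq_one {κ : Type*} (Y : Finset κ) (a b : κ → ℤ)
    (h : ∑ i ∈ Y, eisN (a i) (b i) = 1) : eisN (∑ i ∈ Y, a i) (∑ i ∈ Y, b i) = 1 := by
  classical
  obtain ⟨i, hi, h1⟩ : ∃ i ∈ Y, eisN (a i) (b i) ≠ 0 := by
    by_contra h1
    push Not at h1
    rw [sum_eq_zero h1] at h
    omega
  rw [← add_sum_erase _ _ hi] at h
  have h2 : 0 ≤ ∑ j ∈ Y.erase i, eisN (a j) (b j) := sum_nonneg fun _ _ => eisN_nonneg _ _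
  have h3 := eisN_nonneg (a i) (b i)
  have h4 := (sum_eq_zero_iff_of_nonneg fun j _ => eisN_nonneg (a j) (b j)).1
    (show ∑ j ∈ Y.erase i, eisN (a j) (b j) = 0 by omega)
  rw [← add_sum_erase _ _ hi, ← add_sum_erase _ _ hi,
    sum_eq_zero fun j hj => (eisN_eq_zero (h4 j hj).le).1,
    sum_eq_zero fun j hj => (eisN_eq_zero (h4 j hj).le).2, add_zero, add_zero]
  omega

theorem sum_two_mul_sub_le {κ : Type*} (Y : Finset κ) (a b : κ → ℤ) :
    |2 * ∑ i ∈ Y, a i - ∑ i ∈ Y, b i| ≤ 2 * ∑ i ∈ Y, eisN (a i) (b i) := by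
  rw [mul_sum, mul_sum, ← sum_sub_distrib]
  exact (abs_sum_le_sum_abs _ _).trans (sum_le_sum fun i _ => abs_le_two_mul_eisN _ _)

/-- the numerical core: `S χ = ∑ N(ζ)`, `r χ = 2 Re ∑ ζ`, `T χ = N(∑ ζ)` -/
theorem extraThree_core {ι μ : Type*} [Nonempty ι] (H : Finset ι) (J : Finset μ) (l : ℤ) (k₁ : ℕ)
    (e : μ → ι → ℤ) (S r T : ι → ℤ) (hJ : J.Nonempty) (hl : l + J.card = 6) (hl0 : 0 < l)
    (hH : H.card = 6 ∨ H.card = 9)
    (he : ∀ u ∈ J, ∀ χ ∈ H, e u χ = 1 ∨ e u χ = -2)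
    (h1 : ∀ u ∈ J, ∑ χ ∈ H, e u χ ^ 2 = 9)
    (h2 : ∀ u ∈ J, ∀ v ∈ J, u ≠ v → ∑ χ ∈ H, e u χ * e v χ = 0)
    (hS : ∀ χ ∈ H, 0 ≤ S χ) (hr : ∀ χ ∈ H, |r χ| ≤ 2 * S χ) (hT : ∀ χ ∈ H, T χ ≤ S χ ^ 2)
    (hrT : ∀ χ ∈ H, r χ ^ 2 ≤ 4 * T χ)
    (h3 : ∀ χ ∈ H, 2 * (l - 3 * r χ + 9 * S χ) + 3 * ∑ u ∈ J, e u χ ^ 2 ≤ 27)
    (h4 : ∑ χ ∈ H, (l - 3 * r χ + 9 * S χ) + 9 * k₁ = 27 * l)
    (h5 : ∑ χ ∈ H, (l ^ 2 - 3 * l * r χ + 9 * T χ) + 9 * k₁ = 27 * l)
    (h6 : ∀ u ∈ J, ∑ χ ∈ H, e u χ * (2 * l - 3 * r χ) = 0) :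
    H.card = 6 ∧ (k₁ : ℤ) = 2 * l := by
  classical
  have hm : 0 < J.card := card_pos.2 hJ
  have hs : ∀ χ ∈ H, (J.card : ℤ) ≤ ∑ u ∈ J, e u χ ^ 2 := fun χ hχ => by
    rw [card_eq_sum_ones, Nat.cast_sum]
    exact sum_le_sum fun u hu => by rcases he u hu χ hχ with h | h <;> rw [h] <;> norm_num
  have row : ∀ χ ∈ H, S χ = 0 ∧ r χ = 0 ∧ T χ = 0 ∨ S χ = 1 ∧ 1 ≤ r χ ∧ r χ ≤ 2 ∧ T χ = 1 ∨
      S χ = 2 ∧ r χ = 4 ∧ T χ = 4 := fun χ hχ => by
    have a1 := hS χ hχ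
    have a2 := abs_le.1 (hr χ hχ)
    have a3 := hT χ hχ
    have a4 := hrT χ hχ
    have a5 := h3 χ hχ
    have a6 := hs χ hχ
    have a7 : S χ ≤ 2 := by omega
    generalize S χ = s at *
    generalize r χ = x at *
    generalize T χ = t at *
    interval_cases s
    · obtain rfl : x = 0 := by omega
      exact Or.inl ⟨rfl, rfl, by omega⟩
    · have : 1 ≤ x := by omega
      refine Or.inr (Or.inl ⟨rfl, this, by omega, ?_⟩)
      have : 1 ≤ x ^ 2 := by nlinarith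
      omega
    · obtain rfl : x = 4 := by omega
      exact Or.inr (Or.inr ⟨rfl, rfl, by omega⟩)
  have cnt : ∀ u ∈ J, (H.card : ℤ) + 3 * (H.filter fun χ => e u χ = -2).card = 9 := by
    intro u hu
    rw [← h1 u hu, card_eq_sum_ones, card_filter, Nat.cast_sum, Nat.cast_sum, mul_sum,
      ← sum_add_distrib]
    exact sum_congr rfl fun χ hχ => by rcases he u hu χ hχ with h | h <;> simp [h]
  rcases hH with hH | hH
  · refine ⟨hH, ?_⟩
    have hx : ∀ u ∈ J, ∃ x, H.filter (fun χ => e u χ = -2) = {x} := fun u hu =>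
      card_eq_one.1 (by have := cnt u hu; omega)
    choose! x hx using hx
    have hx1 : ∀ u ∈ J, ∀ χ ∈ H, e u χ = 1 - 3 * if χ = x u then 1 else 0 := by
      intro u hu χ hχ
      have := (hx u hu).ge
      split_ifs with h
      · simpa using (mem_filter.1 (this (mem_singleton.2 h))).2
      · rcases he u hu χ hχ with h' | h'
        · simpa using h'
        · exact absurd (mem_singleton.1 ((hx u hu).le (mem_filter.2 ⟨hχ, h'⟩))) h
    have hx2 : ∀ u ∈ J, x u ∈ H := fun u hu =>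
      (mem_filter.1 ((hx u hu).ge (mem_singleton_self _))).1
    have hx3 : ∀ u ∈ J, S (x u) = 0 := fun u hu => by
      have a1 := h3 _ (hx2 u hu)
      have a2 : (J.card : ℤ) + 3 ≤ ∑ v ∈ J, e v (x u) ^ 2 := by
        rw [← add_sum_erase _ _ hu, hx1 u hu _ (hx2 u hu), if_pos rfl, ← card_erase_add_one hu,
          card_eq_sum_ones]
        push_cast
        have : ∑ v ∈ J.erase u, (1 : ℤ) ≤ ∑ v ∈ J.erase u, e v (x u) ^ 2 :=
          sum_le_sum fun v hv => by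
            rcases he v (mem_of_mem_erase hv) _ (hx2 u hu) with h | h <;> rw [h] <;> norm_num
        omega
      have := row _ (hx2 u hu)
      omega
    have hinj : Set.InjOn x J := fun u hu v hv huv => by
      by_contra hne
      have a1 := h2 u hu v hv hne
      rw [sum_congr rfl fun χ hχ => by rw [hx1 v hv χ hχ, ← huv, ← hx1 u hu χ hχ, ← sq],
        h1 u hu] at a1
      omega
    obtain ⟨u, hu⟩ := hJ
    have b1 : ∑ χ ∈ H, r χ = 2 * l := by
      have a1 := h6 u hu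
      rw [sum_congr rfl fun χ hχ => by rw [hx1 u hu χ hχ]] at a1
      simp only [sub_mul, mul_ite, ite_mul, sum_sub_distrib, sum_ite_eq', if_pos (hx2 u hu),
        one_mul, sum_const, hH, ← mul_sum, mul_zero, zero_mul] at a1
      have := row _ (hx2 u hu)
      have := hx3 u hu
      simp at a1
      omega
    have b2 : ∑ χ ∈ H, (T χ - S χ) = 0 := by
      simp only [sum_add_distrib, sum_sub_distrib, sum_const, hH, ← mul_sum, b1] at h4 h5 ⊢
      simp at h4 h5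
      nlinarith
    have b3 := (sum_eq_zero_iff_of_nonneg fun χ hχ => by have := row χ hχ; omega).1 b2
    have b4 : ∑ χ ∈ H, S χ ≤ l := by
      have c1 : ∑ χ ∈ H, S χ ≤ ∑ χ ∈ H \ J.image x, 1 := by
        rw [← sum_sdiff (show J.image x ⊆ H from image_subset_iff.2 hx2),
          sum_eq_zero (s := J.image x) (by simpa using hx3), add_zero]
        exact sum_le_sum fun χ hχ => by
          have := row χ (mem_sdiff.1 hχ).1
          have := b3 χ (mem_sdiff.1 hχ).1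
          omega
      rw [sum_const, card_sdiff_of_subset (image_subset_iff.2 hx2), card_image_of_injOn hinj,
        hH] at c1
      simp at c1
      omega
    have b5 : ∑ χ ∈ H, r χ ≤ 2 * ∑ χ ∈ H, S χ := by
      rw [mul_sum]
      exact sum_le_sum fun χ hχ => (abs_le.1 (hr χ hχ)).2
    simp only [sum_add_distrib, sum_sub_distrib, sum_const, hH, ← mul_sum, b1] at h4
    simp at h4
    omega
  · exfalso
    have hx : ∀ u ∈ J, ∀ χ ∈ H, e u χ = 1 := fun u hu χ hχ =>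
      (he u hu χ hχ).resolve_right fun h => by
        have := cnt u hu
        have : 0 < (H.filter fun χ => e u χ = -2).card := card_pos.2 ⟨χ, mem_filter.2 ⟨hχ, h⟩⟩
        omega
    have hm1 : J.card = 1 := by
      by_contra h
      obtain ⟨u, hu, v, hv, huv⟩ := one_lt_card.1 (show 1 < J.card by omega)
      have a1 := h2 u hu v hv huv
      rw [sum_congr rfl fun χ hχ => by rw [hx u hu χ hχ, hx v hv χ hχ], sum_const, hH] at a1
      simp at a1
    obtain rfl : l = 5 := by omega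
    obtain ⟨u, hu⟩ := hJ
    have a1 := h6 u hu
    rw [sum_congr rfl fun χ hχ => by rw [hx u hu χ hχ, one_mul]] at a1
    have a2 : ∑ χ ∈ H, (2 * ((5 ^ 2 - 3 * 5 * r χ + 9 * T χ) - (5 - 3 * r χ + 9 * S χ)) -
        5 * (2 * 5 - 3 * r χ)) = 0 := by
      rw [sum_sub_distrib, ← mul_sum, ← mul_sum, sum_sub_distrib, a1]
      omega
    refine absurd a2 (sum_neg (fun χ hχ => ?_) (card_pos.1 (by omega))).ne
    have := row χ hχ
    omega

end Cfsg
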