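import Cfsg.Agent.Grp.ExtraThree
import Cfsg.Agent.Blk.ExtraComb
import Cfsg.Agent.Blk.Principal
import Cfsg.Agent.Blk.SecContrib
import Cfsg.Agent.Blk.PrinOne
import Cfsg.Agent.CT.GaloisField

/-! The principal `3`-block with extraspecial defect group of order `27`: values on the non-central
`3`-elements. -/

set_option autoImplicit false

namespace Cfsg

open scoped ComplexConjugate
open Finset

universe u

variable {G : Type u} [Group G]

theorem IsPModular.redDeg_principalBlock [Finite G] {p : ℕ} {M : Ideal AlgInt}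
    (hM : IsPModular p M) (χ : G → ℂ) : redDeg p (principalBlock M G) χ = charDegree χ := by
  rw [redDeg, hM.blockDefect_principalBlock, Nat.sub_self, pow_zero, Nat.div_one]

theorem IsPModular.blockHeight_principalBlock_eq_zero_iff [Finite G] {p : ℕ} {M : Ideal AlgInt}
    (hM : IsPModular p M) {χ : IrrCharacter G} (hχ : χ ∈ principalBlock M G) :
    blockHeight p (principalBlock M G) χ.1 = 0 ↔ ¬ p ∣ charDegree χ.1 := by
  have := hM.fact_prime
  rw [← hM.redDeg_principalBlock, dvd_redDeg_iff hχ, not_not]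

theorem mem_zpowers_of_orderOf_three [Finite G] {x y : G} (hx : orderOf x = 3)
    (hy : y ∈ Subgroup.zpowers x) : y = 1 ∨ y = x ∨ y = x⁻¹ := by
  obtain ⟨k, rfl⟩ := (mem_powers_iff_mem_zpowers.2 hy)
  change x ^ k = 1 ∨ x ^ k = x ∨ x ^ k = x⁻¹
  rw [← pow_mod_orderOf, hx]
  have h3 : k % 3 < 3 := Nat.mod_lt _ (by norm_num)
  generalize k % 3 = r at *
  interval_cases r
  · simp
  · simp
  · refine Or.inr (Or.inr (eq_inv_of_mul_eq_one_left ?_))
    rw [← pow_succ]
    have := pow_orderOf_eq_one x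
    rwa [hx] at this

/-- the (integral) value of a character -/
noncomputable def intVal (u : G) (χ : IrrCharacter G) : ℤ := ⌊(χ.1 u).re⌋

theorem cast_intVal [Finite G] {u : G} (hu : orderOf u = 3) (hr : IsConj u u⁻¹)
    (χ : IrrCharacter G) : (intVal u χ : ℂ) = χ.1 u := by
  have := Fintype.ofFinite (Subgroup.zpowers u)
  have h1 := χ.isCharacter.card_mul_fixDim (Subgroup.zpowers u)
  rw [sum_subgroup_of_const (c := χ.1 u) (fun v hv hv1 => by
    rcases mem_zpowers_of_orderOf_three hu hv with rfl | rfl | rfl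
    · exact absurd rfl hv1
    · rfl
    · exact (χ.isClassFunction.eq_of_isConj hr).symm), Nat.card_zpowers, hu,
    χ.one_eq_charDegree] at h1
  obtain ⟨m, hm⟩ := exists_int_of_isIntegral_of_rat (χ.isCharacter.isIntegral u)
    ⟨(3 * fixDim (Subgroup.zpowers u) χ.1 - charDegree χ.1) / 2, by
      push_cast at h1 ⊢
      linear_combination -h1 / 2⟩
  simp [intVal, hm]

theorem intVal_modEq [Finite G] {u : G} (hu : orderOf u = 3) (hr : IsConj u u⁻¹)
    (χ : IrrCharacter G) : intVal u χ ≡ charDegree χ.1 [ZMOD 3] :=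
  χ.isCharacter.modEq_charDegree_of_pElement Nat.prime_three (k := 1)
    (by rw [pow_one, ← hu, pow_orderOf_eq_one]) (cast_intVal hu hr χ).symm

theorem intVal_triv (u : G) : intVal u (IrrCharacter.triv G) = 1 := by simp [intVal]

/-- the sign congruent to the degree modulo `3` -/
def sgn3 (n : ℤ) : ℤ := if n % 3 = 2 then -1 else 1

theorem sgn3_sq (n : ℤ) : sgn3 n * sgn3 n = 1 := by unfold sgn3; split_ifs <;> norm_num

theorem sgn3_mul_emod {n : ℤ} (h : ¬ 3 ∣ n) : sgn3 n * n % 3 = 1 := by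
  unfold sgn3; split_ifs <;> omega

namespace XFus

variable {z : G} {J : Finset G} (F : XFus z J)
include F

theorem z_ne : z ≠ 1 := fun e => by have := F.ord_z; rw [e, orderOf_one] at this; omega

theorem ne_one {u : G} (hu : u ∈ J) : u ≠ 1 := fun e => by
  have := F.ord u hu; rw [e, orderOf_one] at this; omega

theorem pow_z : ∃ k : ℕ, orderOf z = 3 ^ k := ⟨1, F.ord_z⟩

theorem pow_z' : ∃ k : ℕ, orderOf z⁻¹ = 3 ^ k := ⟨1, by rw [orderOf_inv, F.ord_z, pow_one]⟩

theorem pow_u {u : G} (hu : u ∈ J) : ∃ k : ℕ, orderOf u = 3 ^ k := ⟨1, F.ord u hu⟩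

theorem sum_reps [DecidableEq G] {A : Type*} [AddCommMonoid A] (f : G → A) :
    ∑ x ∈ insert 1 (insert z (insert z⁻¹ J)), f x = f 1 + f z + f z⁻¹ + ∑ u ∈ J, f u := by
  rw [sum_insert, sum_insert, sum_insert, add_assoc, add_assoc]
  · exact fun h => F.nuz' _ h (IsConj.refl _)
  · simp only [mem_insert, not_or]
    exact ⟨fun e => F.nzz (e ▸ IsConj.refl _), fun h => F.nuz _ h (IsConj.refl _)⟩
  · simp only [mem_insert, not_or]
    exact ⟨F.z_ne.symm, fun e => F.z_ne (inv_eq_one.1 e.symm), fun h => F.ne_one h rfl⟩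

theorem pow_reps [DecidableEq G] :
    ∀ x ∈ insert 1 (insert z (insert z⁻¹ J)), ∃ k : ℕ, orderOf x = 3 ^ k := by
  simp only [mem_insert]
  rintro x (rfl | rfl | rfl | h)
  exacts [⟨0, by simp⟩, F.pow_z, F.pow_z', F.pow_u h]

theorem unique_reps [DecidableEq G] (g : G) (hg : ∃ k : ℕ, orderOf g = 3 ^ k) :
    ∃! x, x ∈ insert 1 (insert z (insert z⁻¹ J)) ∧ IsConj g x := by
  refine existsUnique_of_exists_of_unique ?_ fun x y hx hy => ?_
  · rcases F.rep g hg with rfl | h | h | ⟨u, hu, h⟩
    · exact ⟨1, by simp, IsConj.refl _⟩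
    · exact ⟨z, by simp, h⟩
    · exact ⟨z⁻¹, by simp, h⟩
    · exact ⟨u, by simp [hu], h⟩
  · have hc := hx.2.symm.trans hy.2
    have h1 := hx.1
    have h2 := hy.1
    simp only [mem_insert] at h1 h2
    rcases h1 with rfl | rfl | rfl | h1
    · exact (isConj_one_right.1 hc).symm
    all_goals rcases h2 with rfl | h2 | h2 | h2
    any_goals exact isConj_one_left.1 hc
    · exact h2.symm
    · exact absurd (h2 ▸ hc) F.nzz
    · exact absurd hc.symm (F.nuz _ h2)
    · exact absurd (h2 ▸ hc).symm F.nzz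
    · exact h2.symm
    · exact absurd hc.symm (F.nuz' _ h2)
    · exact absurd (h2 ▸ hc) (F.nuz _ h1)
    · exact absurd (h2 ▸ hc) (F.nuz' _ h1)
    · exact F.nuu _ h1 _ h2 hc

theorem classInner_eq [Fintype G] (θ φ : G → ℂ) :
    classInner θ φ = classInner (pRegularPart 3 θ) φ + classInner (sectionPart 3 z θ) φ +
      classInner (sectionPart 3 z⁻¹ θ) φ + ∑ u ∈ J, classInner (sectionPart 3 u θ) φ := by
  classical
  have := Fact.mk Nat.prime_three
  conv_lhs => rw [← sum_sectionPart _ F.unique_reps θ, classInner_sum_left]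
  rw [F.sum_reps, sectionPart_one Nat.prime_three]

theorem card_principalBlock [Finite G] {M : Ideal AlgInt} (hM : IsPModular 3 M) :
    Nat.card (principalBlock M G) = blockRank 3 (principalBlock M G) +
      2 * blockRank 3 (principalBlock M (Subgroup.centralizer ({z} : Set G))) + J.card := by
  classical
  have h1 : ∀ K L : Subgroup G, K = L →
      blockRank 3 (principalBlock M K) = blockRank 3 (principalBlock M L) := by
    rintro _ _ rfl; rfl
  rw [hM.card_principalBlock_eq_sum _ F.pow_reps F.unique_reps, F.sum_reps,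
    sum_congr rfl fun u hu => hM.blockRank_principalBlock_eq_one_iff'.2 (F.nilp u hu),
    h1 (Subgroup.centralizer {z⁻¹}) (Subgroup.centralizer {z}) (by
      ext x; simp only [Subgroup.mem_centralizer_singleton_iff]; exact Commute.inv_right_iff),
    h1 (Subgroup.centralizer {1}) ⊤ (by ext x; simp [Subgroup.mem_centralizer_singleton_iff]),
    blockRank_eq_of_mulEquiv Nat.prime_three Subgroup.topEquiv.symm
      (V := principalBlock M G) fun χ ψ h => ?_]
  · simp; ring
  · have : ψ = χ.comap (Subgroup.topEquiv (G := G)).symm.toMonoidHom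
        (Subgroup.topEquiv (G := G)).symm.surjective := Subtype.ext (funext h)
    rw [this]
    refine (hM.comap_mem_principalBlock_iff_of_not_dvd _ _ ?_ χ).symm
    rw [(MonoidHom.ker_eq_bot_iff _).2 (Subgroup.topEquiv (G := G)).symm.injective]
    simp

variable [Finite G] {M : Ideal AlgInt} (hM : IsPModular 3 M) (hr : ∀ u ∈ J, IsConj u u⁻¹)
include hM hr

theorem sum_intVal_mul {u v : G} (hu : u ∈ J) (hv : v ∈ J) [Decidable (u = v)] :
    ∑ χ ∈ irrFinset (principalBlock M G), intVal u χ * intVal v χ = if u = v then 9 else 0 := by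
  have := Fact.mk Nat.prime_three
  have h1 : ((∑ χ ∈ irrFinset (principalBlock M G), intVal u χ * intVal v χ : ℤ) : ℂ) =
      ∑ χ ∈ irrFinset (principalBlock M G), χ.1 u * conj (χ.1 v) := by
    push_cast
    exact sum_congr rfl fun χ _ => by
      rw [← cast_intVal (F.ord u hu) (hr u hu), ← cast_intVal (F.ord v hv) (hr v hv), map_intCast]
  split_ifs with h
  · subst h
    rw [hM.sum_principalBlock_mul_conj_of_hasNormalPComplement (F.pow_u hu) rfl (F.nilp u hu),
      F.fac u hu] at h1
    exact_mod_cast h1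
  · rw [isPBlock_principalBlock.sum_mul_conj_eq_zero hM (by
      rw [pPart_eq_self_iff.2 (F.pow_u hu), pPart_eq_self_iff.2 (F.pow_u hv)]
      exact fun e => h (F.nuu u hu v hv e))] at h1
    exact_mod_cast h1

theorem sum_intVal_sq {u : G} (hu : u ∈ J) :
    ∑ χ ∈ irrFinset (principalBlock M G), intVal u χ ^ 2 = 9 := by
  classical
  simpa [sq] using F.sum_intVal_mul hM hr hu hu

theorem sum_deg_mul_intVal {u : G} (hu : u ∈ J) :
    ∑ χ ∈ irrFinset (principalBlock M G), charDegree χ.1 * intVal u χ = 0 := by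
  have h1 := (isPBlock_principalBlock.isBlockUnion hM).sum_one_mul_eq_zero hM
    (g := u) (F.ord u hu).symm.dvd
  simp only [← cast_intVal (F.ord u hu) (hr u hu), IrrCharacter.one_eq_charDegree] at h1
  exact_mod_cast h1

theorem intVal_sq_le {u : G} (hu : u ∈ J) {χ : IrrCharacter G} (hχ : χ ∈ principalBlock M G) :
    intVal u χ ^ 2 ≤ 8 := by
  classical
  by_cases h : χ = IrrCharacter.triv G
  · rw [h, intVal_triv]; norm_num
  have h1 := F.sum_intVal_sq hM hr hu
  have h2 := sum_le_sum_of_subset_of_nonneg (f := fun χ => intVal u χ ^ 2)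
    (show {χ, IrrCharacter.triv G} ⊆ irrFinset (principalBlock M G) by
      simp [insert_subset_iff, hχ, hM.triv_mem_principalBlock]) fun _ _ _ => sq_nonneg _
  rw [sum_pair h, intVal_triv] at h2
  omega

theorem intVal_eq_zero {u : G} (hu : u ∈ J) {χ : IrrCharacter G} (hχ : χ ∈ principalBlock M G)
    (h : 3 ∣ charDegree χ.1) : intVal u χ = 0 := by
  have h1 := F.intVal_sq_le hM hr hu hχ
  have h2 := intVal_modEq (F.ord u hu) (hr u hu) χ
  unfold Int.ModEq at h2
  have h3 : |intVal u χ| < 3 := abs_lt_of_sq_lt_sq (by omega) (by norm_num)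
  have := abs_lt.1 h3
  omega

theorem sgn_mul_intVal {u : G} (hu : u ∈ J) {χ : IrrCharacter G} (hχ : χ ∈ principalBlock M G)
    (h : ¬ 3 ∣ charDegree χ.1) : sgn3 (charDegree χ.1) * intVal u χ = 1 ∨
      sgn3 (charDegree χ.1) * intVal u χ = -2 := by
  have h1 := F.intVal_sq_le hM hr hu hχ
  have h2 := intVal_modEq (F.ord u hu) (hr u hu) χ
  unfold Int.ModEq at h2
  have h3 : |intVal u χ| < 3 := abs_lt_of_sq_lt_sq (by omega) (by norm_num)
  have := abs_lt.1 h3
  unfold sgn3
  split_ifs <;> omega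

theorem sum_filter_eq {u : G} (hu : u ∈ J) {A : Type*} [AddCommMonoid A]
    (f : IrrCharacter G → A) (hf : ∀ χ, intVal u χ = 0 → f χ = 0) :
    ∑ χ ∈ irrFinset (principalBlock M G) with ¬ 3 ∣ charDegree χ.1, f χ =
      ∑ χ ∈ irrFinset (principalBlock M G), f χ :=
  sum_filter_of_ne fun χ hχ h e => h (hf χ (F.intVal_eq_zero hM hr hu (mem_irrFinset.1 hχ) e))

theorem card_height_zero (hJ : J.Nonempty) :
    #{χ ∈ irrFinset (principalBlock M G) | ¬ 3 ∣ charDegree χ.1} = 6 ∨
      #{χ ∈ irrFinset (principalBlock M G) | ¬ 3 ∣ charDegree χ.1} = 9 := by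
  classical
  obtain ⟨u, hu⟩ := hJ
  have h1 := F.sum_intVal_sq hM hr hu
  have h2 := F.sum_deg_mul_intVal hM hr hu
  rw [← F.sum_filter_eq hM hr hu _ fun χ h => by simp [h]] at h1 h2
  set H := {χ ∈ irrFinset (principalBlock M G) | ¬ 3 ∣ charDegree χ.1}
  have hv : ∀ χ ∈ H, intVal u χ ^ 2 = 1 ∨ intVal u χ ^ 2 = 4 ∧ 2 ∣ intVal u χ := fun χ hχ => by
    obtain ⟨h3, h4⟩ := mem_filter.1 hχ
    have h5 := F.sgn_mul_intVal hM hr hu (mem_irrFinset.1 h3) h4
    unfold sgn3 at h5
    split_ifs at h5 <;> rcases h5 with h | h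
    all_goals first
      | exact Or.inl (by rw [show intVal u χ = 1 by omega]; norm_num)
      | exact Or.inl (by rw [show intVal u χ = -1 by omega]; norm_num)
      | exact Or.inr (by rw [show intVal u χ = 2 by omega]; norm_num)
      | exact Or.inr (by rw [show intVal u χ = -2 by omega]; norm_num)
  have ht : IrrCharacter.triv G ∈ H := by simp [H, hM.triv_mem_principalBlock]
  rw [← add_sum_erase _ _ ht, intVal_triv] at h1 h2
  rw [← card_erase_add_one ht]
  have h3 : ((H.erase (IrrCharacter.triv G)).card : ℤ) +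
      3 * #{χ ∈ H.erase (IrrCharacter.triv G) | 2 ∣ intVal u χ} = 8 := by
    rw [show (8 : ℤ) = ∑ χ ∈ H.erase (IrrCharacter.triv G), intVal u χ ^ 2 by omega,
      card_eq_sum_ones, card_filter, Nat.cast_sum, Nat.cast_sum, mul_sum, ← sum_add_distrib]
    refine sum_congr rfl fun χ hχ => ?_
    rcases hv χ (mem_of_mem_erase hχ) with h | h
    · rw [if_neg, h]
      · simp
      · rintro ⟨k, hk⟩
        rw [hk, mul_pow] at h
        omega
    · simp [h.1, h.2]
  have h4 := card_filter_le (H.erase (IrrCharacter.triv G)) fun χ => 2 ∣ intVal u χ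
  by_contra h5
  have h6 := (card_filter_eq_iff (p := fun χ => 2 ∣ intVal u χ)
    (s := H.erase (IrrCharacter.triv G))).1 (by omega)
  have h7 : (2 : ℤ) ∣ ∑ χ ∈ H.erase (IrrCharacter.triv G), charDegree χ.1 * intVal u χ :=
    dvd_sum fun χ hχ => (h6 χ hχ).mul_left _
  simp at h2
  omega

omit [Finite G] in
theorem classInner_section [Fintype G] {u : G} (hu : u ∈ J) {χ ψ : IrrCharacter G}
    (hχ : χ ∈ principalBlock M G) (hψ : ψ ∈ principalBlock M G) :
    classInner (sectionPart 3 u χ.1) ψ.1 = intVal u χ * intVal u ψ / 9 := by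
  have := Fact.mk Nat.prime_three
  have hU := (isPBlock_principalBlock (M := M) (G := G)).isBlockUnion hM
  have h1 : ∀ ξ ∈ principalBlock M G, sectionPart 3 u ξ.1 =
      (intVal u ξ : ℂ) • sectionPart 3 u (IrrCharacter.triv G).1 := fun ξ hξ => by
    funext g
    by_cases hg : IsConj u (pPart 3 g)
    · simp [sectionPart_of_isConj hg, cast_intVal (F.ord u hu) (hr u hu),
        hM.apply_eq_of_hasNormalPComplement rfl (F.nilp u hu) hξ hg]
    · simp [sectionPart_of_not_isConj hg]
  set c := classInner (sectionPart 3 u (IrrCharacter.triv G).1) (IrrCharacter.triv G).1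
  have h2 : ∀ ξ ∈ principalBlock M G,
      classInner (sectionPart 3 u (IrrCharacter.triv G).1) ξ.1 = intVal u ξ * c := fun ξ hξ => by
    rw [classInner_sectionPart_left, h1 ξ hξ, classInner_smul_right, map_intCast,
      ← classInner_sectionPart_left]
  have h3 := congrFun (hU.blockPart_sectionPart' hM (IrrCharacter.triv G).1 u) u
  rw [blockPart_irr_of_mem hM.triv_mem_principalBlock, blockPart_eq_sum_smul, Finset.sum_apply,
    sectionPart_of_isConj (by rw [pPart_eq_self_iff.2 (F.pow_u hu)]),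
    sum_congr rfl fun ξ hξ => show _ = c * (intVal u ξ ^ 2 : ℤ) by
      rw [Pi.smul_apply, h2 ξ (mem_irrFinset.1 hξ), ← cast_intVal (F.ord u hu) (hr u hu)]
      push_cast
      rw [smul_eq_mul]
      ring, ← mul_sum, ← Int.cast_sum, F.sum_intVal_sq hM hr hu] at h3
  rw [h1 χ hχ, classInner_smul_left, h2 ψ hψ]
  simp only [IrrCharacter.triv_apply] at h3
  push_cast at h3
  linear_combination (intVal u χ * intVal u ψ / 9 : ℂ) * h3

end XFus

end Cfsg
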