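import Mathlib

/-! Integer combinatorics for `2`-blocks of defect four with inertial index five. -/

set_option autoImplicit false

namespace Cfsg

theorem five_arith {U σ w₀ w₁ w₂ w₃ γ₁ γ₂ γ₃ : ℤ} (hw : Odd w₀) (c₁ : Odd γ₁) (c₂ : Odd γ₂)
    (c₃ : Odd γ₃) (h₀ : U * w₀ = γ₁ + γ₂ + γ₃) (h₁ : σ * w₁ = 2 * (-γ₁ + γ₂ + γ₃))
    (h₂ : σ * w₂ = 2 * (γ₁ - γ₂ + γ₃)) (h₃ : σ * w₃ = 2 * (γ₁ + γ₂ - γ₃))
    (h₄ : 16 ∣ 2 * U - 3 * σ)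
    (h₅ : 32 ∣ 2 * U * (1 + w₀ ^ 2) - σ * (3 + w₁ ^ 2 + w₂ ^ 2 + w₃ ^ 2) - 16 * 7) : False := by
  obtain ⟨τ, rfl⟩ : 2 ∣ σ := by omega
  obtain ⟨m, rfl⟩ : ∃ m, U = 3 * τ + 8 * m := ⟨(U - 3 * τ) / 8, by omega⟩
  have h6 : Odd τ := by
    refine Int.not_even_iff_odd.1 fun ⟨t, ht⟩ => ?_
    obtain ⟨a, rfl⟩ := c₁; obtain ⟨b, rfl⟩ := c₂; obtain ⟨c, rfl⟩ := c₃
    have : 4 * (t * w₁) = 2 * (-(2 * a + 1) + (2 * b + 1) + (2 * c + 1)) := by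
      rw [← h₁, ht]; ring
    omega
  have h7 : ∀ (w : ℤ) {γ : ℤ}, Odd γ → 2 * τ * w = 2 * ((3 * τ + 8 * m) * w₀ - 2 * γ) →
      ∃ z, w = w₀ + 4 * z := fun w γ hγ h => by
    obtain ⟨k, hk⟩ := (h6.mul hw).sub_odd hγ
    obtain ⟨z, hz⟩ := ((Int.isCoprime_two_left.2 h6).pow_left (m := 2)).dvd_of_dvd_mul_left
      (z := w - w₀) ⟨k + 2 * m * w₀, mul_left_cancel₀ two_ne_zero (by linear_combination h + 4 * hk)⟩
    exact ⟨z, by linear_combination hz⟩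
  obtain ⟨z₁, rfl⟩ := h7 w₁ c₁ (by linear_combination h₁ - 2 * h₀)
  obtain ⟨z₂, rfl⟩ := h7 w₂ c₂ (by linear_combination h₂ - 2 * h₀)
  obtain ⟨z₃, rfl⟩ := h7 w₃ c₃ (by linear_combination h₃ - 2 * h₀)
  obtain ⟨y, hy⟩ := (Int.isCoprime_two_left.2 h6).dvd_of_dvd_mul_left (z := z₁ + z₂ + z₃)
    ⟨m * w₀, mul_left_cancel₀ (show (8 : ℤ) ≠ 0 by norm_num)
      (by linear_combination h₁ + h₂ + h₃ - 2 * h₀)⟩
  obtain ⟨r, rfl⟩ := hw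
  rw [show 2 * (3 * τ + 8 * m) * (1 + (2 * r + 1) ^ 2) - 2 * τ * (3 + (2 * r + 1 + 4 * z₁) ^ 2 +
    (2 * r + 1 + 4 * z₂) ^ 2 + (2 * r + 1 + 4 * z₃) ^ 2) = 32 * (m * (2 * r ^ 2 + 2 * r + 1) -
    τ * (2 * r + 1) * y - τ * (z₁ ^ 2 + z₂ ^ 2 + z₃ ^ 2)) by
      linear_combination (-16 * τ * (2 * r + 1)) * hy] at h₅
  omega

theorem five_row {a f g : ℤ} (h0 : a ≠ 0) (h : a ^ 2 + (a - 4 * f) ^ 2 + (a - 4 * g) ^ 2 < 16) :
    f = 0 ∧ g = 0 ∧ (a ^ 2 = 1 ∨ a ^ 2 = 4) ∨ g = f ∧ f ^ 2 = 1 ∧ (a = 3 * f ∨ a = 2 * f) ∨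
      g = 0 ∧ f ^ 2 = 1 ∧ (a = f ∨ a = 2 * f) ∨ f = 0 ∧ g ^ 2 = 1 ∧ (a = g ∨ a = 2 * g) := by
  have h1 : ∀ x : ℤ, x ^ 2 < 16 → -3 ≤ x ∧ x ≤ 3 := fun x hx => by constructor <;> nlinarith
  have := sq_nonneg a
  have := sq_nonneg (a - 4 * f)
  have := sq_nonneg (a - 4 * g)
  obtain ⟨a1, a2⟩ := h1 a (by omega)
  have := h1 (a - 4 * f) (by omega)
  have := h1 (a - 4 * g) (by omega)
  obtain ⟨f1, f2⟩ : -1 ≤ f ∧ f ≤ 1 := by omega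
  obtain ⟨g1, g2⟩ : -1 ≤ g ∧ g ≤ 1 := by omega
  interval_cases a <;> interval_cases f <;> interval_cases g <;> simp_all

theorem exists_single_of_sum_eq_one {ι : Type*} {s : Finset ι} {f : ι → ℤ}
    (h0 : ∀ i ∈ s, 0 ≤ f i) (h : ∑ i ∈ s, f i = 1) :
    ∃ a ∈ s, f a = 1 ∧ ∀ i ∈ s, i ≠ a → f i = 0 := by
  classical
  obtain ⟨a, ha, h1⟩ := Finset.exists_ne_zero_of_sum_ne_zero (h ▸ one_ne_zero)
  rw [← Finset.add_sum_erase _ _ ha] at h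
  have h2 := Finset.sum_nonneg fun i (hi : i ∈ s.erase a) => h0 i (Finset.mem_of_mem_erase hi)
  have h3 := h0 a ha
  exact ⟨a, ha, by omega, fun i hi hia => (Finset.sum_eq_zero_iff_of_nonneg fun i hi =>
    h0 i (Finset.mem_of_mem_erase hi)).1 (by omega) i (Finset.mem_erase.2 ⟨hia, hi⟩)⟩

theorem five_struct {ι : Type*} [DecidableEq ι] {s : Finset ι} {a f g : ι → ℤ}
    (h0 : ∀ i ∈ s, a i ≠ 0)
    (hlt : ∀ i ∈ s, a i ^ 2 + (a i - 4 * f i) ^ 2 + (a i - 4 * g i) ^ 2 < 16)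
    (hff : ∑ i ∈ s, f i * (f i - g i) = 1) (hgg : ∑ i ∈ s, g i * (g i - f i) = 1)
    (hfg : ∑ i ∈ s, f i * g i = 1) : ∃ α ∈ s, ∃ β ∈ s, ∃ δ ∈ s, α ≠ β ∧ α ≠ δ ∧ β ≠ δ ∧
      (g α = f α ∧ f α ^ 2 = 1 ∧ (a α = 3 * f α ∨ a α = 2 * f α)) ∧
      (g β = 0 ∧ f β ^ 2 = 1 ∧ (a β = f β ∨ a β = 2 * f β)) ∧
      (f δ = 0 ∧ g δ ^ 2 = 1 ∧ (a δ = g δ ∨ a δ = 2 * g δ)) ∧
      ∀ i ∈ s \ {α, β, δ}, f i = 0 ∧ g i = 0 ∧ (a i ^ 2 = 1 ∨ a i ^ 2 = 4) := by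
  have hr := fun i hi => five_row (h0 i hi) (hlt i hi)
  clear h0 hlt
  obtain ⟨α, hα, a1, a2⟩ := exists_single_of_sum_eq_one (fun i hi => by
    rcases hr i hi with h | h | h | h <;> simp [h.1, h.2.1, ← sq]) hfg
  obtain ⟨β, hβ, b1, b2⟩ := exists_single_of_sum_eq_one (fun i hi => by
    rcases hr i hi with h | h | h | h <;> simp [h.1, h.2.1, ← sq]) hff
  obtain ⟨δ, hδ, d1, d2⟩ := exists_single_of_sum_eq_one (fun i hi => by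
    rcases hr i hi with h | h | h | h <;> simp [h.1, h.2.1, ← sq]) hgg
  have a3 : g α = f α ∧ f α ^ 2 = 1 ∧ (a α = 3 * f α ∨ a α = 2 * f α) := by
    rcases hr α hα with h | h | h | h
    exacts [by simp [h.1] at a1, h, by simp [h.1] at a1, by simp [h.1] at a1]
  have b3 : g β = 0 ∧ f β ^ 2 = 1 ∧ (a β = f β ∨ a β = 2 * f β) := by
    rcases hr β hβ with h | h | h | h
    exacts [by simp [h.1] at b1, by simp [h.1] at b1, h, by simp [h.1] at b1]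
  have d3 : f δ = 0 ∧ g δ ^ 2 = 1 ∧ (a δ = g δ ∨ a δ = 2 * g δ) := by
    rcases hr δ hδ with h | h | h | h
    exacts [by simp [h.2.1] at d1, by simp [h.1] at d1, by simp [h.1] at d1, h]
  refine ⟨α, hα, β, hβ, δ, hδ, fun h => by simp [h, b3.1] at a1, fun h => by simp [h, d3.1] at a1,
    fun h => by simp [h, d3.1] at b1, a3, b3, d3, fun i hi => ?_⟩
  simp only [Finset.mem_sdiff, Finset.mem_insert, Finset.mem_singleton, not_or] at hi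
  have e1 := a2 i hi.1 hi.2.1
  have e2 := b2 i hi.1 hi.2.2.1
  have e3 := d2 i hi.1 hi.2.2.2
  rcases hr i hi.1 with h | h | h | h
  exacts [h, by simp [h.1, ← sq, h.2.1] at e1, by simp [h.1, ← sq, h.2.1] at e2,
    by simp [h.1, ← sq, h.2.1] at e3]

theorem five_comb {ι : Type*} {s : Finset ι} {a f g u w : ι → ℤ} {γ₁ γ₂ γ₃ : ℤ}
    (h0 : ∀ i ∈ s, a i ≠ 0)
    (hlt : ∀ i ∈ s, a i ^ 2 + (a i - 4 * f i) ^ 2 + (a i - 4 * g i) ^ 2 < 16)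
    (haa : ∑ i ∈ s, a i ^ 2 = 16) (haf : ∑ i ∈ s, a i * f i = 4) (hag : ∑ i ∈ s, a i * g i = 4)
    (hff : ∑ i ∈ s, f i * (f i - g i) = 1) (hgg : ∑ i ∈ s, g i * (g i - f i) = 1)
    (hfg : ∑ i ∈ s, f i * g i = 1) (hfu : ∑ i ∈ s, f i * u i = 0) (hgu : ∑ i ∈ s, g i * u i = 0)
    (hw : ∀ i ∈ s, Odd (w i)) (c₁ : Odd γ₁) (c₂ : Odd γ₂) (c₃ : Odd γ₃)
    (hp : ∀ i ∈ s, u i * w i = a i * γ₁ + (a i - 4 * f i) * γ₂ + (a i - 4 * g i) * γ₃)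
    (hT : ∀ t ⊆ s, ∀ x : ι → ℤ, ∑ i ∈ t, x i * a i = 0 → ∑ i ∈ t, x i * f i = 0 →
      ∑ i ∈ t, x i * g i = 0 → 16 ∣ ∑ i ∈ t, x i * u i ∧
        32 ∣ ∑ i ∈ t, x i * u i * (1 + w i ^ 2) - 16 * ∑ i ∈ t, x i ^ 2)
    (hpair : ∀ i ∈ s, ∀ j ∈ s, i ≠ j → f i = 0 → g i = 0 → f j = 0 → g j = 0 →
      2 ∣ a j ^ 2 + a i ^ 2) {i₀ : ι} (hi₀ : i₀ ∈ s) (ho : Odd (a i₀)) {j : ι} (hj : j ∈ s) :
    Odd (a j) := by
  classical
  obtain ⟨α, hα, β, hβ, δ, hδ, hαβ, hαδ, hβδ, ⟨a3, a4, a5⟩, ⟨b3, b4, b5⟩, ⟨d3, d4, d5⟩, hR'⟩ :=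
    five_struct h0 hlt hff hgg hfg
  clear h0 hlt hff hgg hfg
  set R := s \ {α, β, δ} with hR
  have hs : ∀ F : ι → ℤ, ∑ i ∈ s, F i = ∑ i ∈ R, F i + (F α + (F β + F δ)) := fun F => by
    rw [← Finset.sum_sdiff (s₁ := {α, β, δ}) (by simp [Finset.insert_subset_iff, hα, hβ, hδ]),
      Finset.sum_insert (by simp [hαβ, hαδ]), Finset.sum_pair hβδ]
  have hf : ∀ F : ι → ℤ, ∑ i ∈ s, f i * F i = f α * F α + f β * F β := fun F => by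
    rw [hs, Finset.sum_eq_zero fun i hi => by rw [(hR' i hi).1, zero_mul], d3]; ring
  have hg : ∀ F : ι → ℤ, ∑ i ∈ s, g i * F i = f α * F α + g δ * F δ := fun F => by
    rw [hs, Finset.sum_eq_zero fun i hi => by rw [(hR' i hi).2.1, zero_mul], b3, a3]; ring
  simp only [mul_comm (a _)] at haf hag
  rw [hf] at haf hfu
  rw [hg] at hag hgu
  rw [hs] at haa
  have hm : ∀ i ∈ s, i ∈ R ∨ i = α ∨ i = β ∨ i = δ := fun i hi => by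
    simp only [hR, Finset.mem_sdiff, Finset.mem_insert, Finset.mem_singleton]; tauto
  have ho' : ∀ {x : ℤ}, x ^ 2 = 1 → Odd x := fun h => by
    rcases sq_eq_one_iff.1 h with h | h <;> rw [h] <;> decide
  have hsq : ∀ {x : ℤ}, x ^ 2 = 1 ∨ x ^ 2 = 4 → (Odd x ↔ x ^ 2 = 1) := fun {x} h => by
    rw [← Int.odd_pow' (n := 2) two_ne_zero]
    rcases h with h | h <;> rw [h] <;> decide
  rcases a5 with a5 | a5
  · have b6 : a β = f β := b5.resolve_right fun h => by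
      rw [a5, h] at haf; linarith [sq (f α), sq (f β)]
    have d6 : a δ = g δ := d5.resolve_right fun h => by
      rw [a5, h] at hag; linarith [sq (f α), sq (g δ)]
    by_contra hj'
    have hjR : j ∈ R := by
      refine (hm j hj).resolve_right fun h => hj' ?_
      rcases h with rfl | rfl | rfl
      exacts [a5 ▸ (by decide : Odd (3 : ℤ)).mul (ho' a4), b6 ▸ ho' b4, d6 ▸ ho' d4]
    obtain ⟨j1, j2, j3⟩ := hR' j hjR
    have j4 := j3.resolve_left (mt (hsq j3).2 hj')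
    rw [← Finset.add_sum_erase _ _ hjR, a5, b6, d6, mul_pow, a4, b4, d4, j4] at haa
    obtain ⟨i, hi, i1, -⟩ := exists_single_of_sum_eq_one (s := R.erase j) (f := fun i => a i ^ 2)
      (fun i _ => sq_nonneg _) (by omega)
    obtain ⟨i2, i3⟩ := Finset.mem_erase.1 hi
    obtain ⟨i5, i6, -⟩ := hR' i i3
    have := hpair i (Finset.mem_sdiff.1 i3).1 j hj i2 i5 i6 j1 j2
    omega
  have b6 : a β = 2 * f β := b5.resolve_left fun h => by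
      rw [a5, h] at haf; linarith [sq (f α), sq (f β)]
  have d6 : a δ = 2 * g δ := d5.resolve_left fun h => by
      rw [a5, h] at hag; linarith [sq (f α), sq (g δ)]
  have hi : i₀ ∈ R := by
    refine (hm i₀ hi₀).resolve_right fun h => Int.not_even_iff_odd.2 ho ?_
    rcases h with rfl | rfl | rfl
    exacts [a5 ▸ even_two_mul _, b6 ▸ even_two_mul _, d6 ▸ even_two_mul _]
  obtain ⟨i1, i2, i3⟩ := hR' i₀ hi
  have i4 := (hsq i3).1 ho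
  have i5 : i₀ ∉ ({α, β, δ} : Finset ι) := (Finset.mem_sdiff.1 hi).2
  have i6 : i₀ ≠ α ∧ i₀ ≠ β ∧ i₀ ≠ δ := by simpa [not_or] using i5
  have ht : ∀ F : ι → ℤ → ℤ, ∑ i ∈ {i₀, α, β, δ}, F i (if i = i₀ then 2 * a i else
      if i = α then f i else -(f i + g i)) =
      F i₀ (2 * a i₀) + (F α (f α) + (F β (-f β) + F δ (-g δ))) := fun F => by
    rw [Finset.sum_insert i5, Finset.sum_insert (by simp [hαβ, hαδ]), Finset.sum_pair hβδ]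
    simp [i6.1.symm, i6.2.1.symm, i6.2.2.symm, hαβ.symm, hαδ.symm, b3, d3]
  obtain ⟨h1, h2⟩ := hT {i₀, α, β, δ} (by simp [Finset.insert_subset_iff, hα, hβ, hδ, hi₀])
    (fun i => if i = i₀ then 2 * a i else if i = α then f i else -(f i + g i))
    (by rw [ht fun i x => x * a i, a5, b6, d6]; linear_combination 2 * (i4 + a4 - b4 - d4))
    (by rw [ht fun i x => x * f i, i1, d3]; linear_combination a4 - b4)
    (by rw [ht fun i x => x * g i, i2, b3, a3]; linear_combination a4 - d4)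
  rw [ht fun i x => x * u i] at h1
  rw [ht fun i x => x * u i * (1 + w i ^ 2), ht fun i x => x ^ 2] at h2
  have p0 := hp i₀ hi₀
  have p1 := hp α hα
  have p2 := hp β hβ
  have p3 := hp δ hδ
  rw [i1, i2] at p0
  rw [a3, a5] at p1
  rw [b3, b6] at p2
  rw [d3, d6] at p3
  exfalso
  refine five_arith (U := a i₀ * u i₀) (σ := -(f α * u α)) (w₁ := w α) (w₂ := w β) (w₃ := w δ)
    (hw i₀ hi₀) c₁ c₂ c₃ (by linear_combination a i₀ * p0 + (γ₁ + γ₂ + γ₃) * i4)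
    (by linear_combination -f α * p1 + 2 * (-γ₁ + γ₂ + γ₃) * a4)
    (by linear_combination f β * p2 + 2 * (γ₁ - γ₂ + γ₃) * b4 - w β * hfu)
    (by linear_combination g δ * p3 + 2 * (γ₁ + γ₂ - γ₃) * d4 - w δ * hgu) ?_ ?_
  · convert h1 using 1
    linear_combination hfu + hgu
  · convert h2 using 1
    linear_combination (1 + w β ^ 2) * hfu + (1 + w δ ^ 2) * hgu + 16 * (4 * i4 + a4 + b4 + d4)

end Cfsg
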