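import Cfsg.Agent.Blk.SubQuot
import Cfsg.Agent.Blk.GlueGram
import Cfsg.Agent.Lin.GramDet

/-! The minimum of the inverse Cartan form for a free inertial action. -/

set_option autoImplicit false

namespace Cfsg

open scoped ComplexConjugate MonoidAlgebra

universe u v

theorem eq_of_gram_proj {ι κ : Type*} [Fintype κ] [DecidableEq κ] [DecidableEq ι] {B : Finset ι}
    {c : κ → ι → ℤ} {e : ℕ} (hcc : ∀ i j, ∑ x ∈ B, c i x * c j x = e + if i = j then 1 else 0)
    {A : ι → ι → ℤ} {N : ℤ} (hN : N = 1 + e * Fintype.card κ)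
    (hA : ∀ x ∈ B, ∑ z ∈ B, A x z * A x z = N * A x x)
    (hc : ∀ i, ∀ x ∈ B, ∑ z ∈ B, A x z * c i z = 0)
    (htr : ∑ x ∈ B, A x x = N * (B.card - Fintype.card κ)) (η : ι → ℤ) :
    ∑ x ∈ B, ∑ y ∈ B, η x * A x y * η y =
      N * (∑ x ∈ B, η x * η x - ∑ i, (∑ x ∈ B, η x * c i x) ^ 2) +
        e * (∑ i, ∑ x ∈ B, η x * c i x) ^ 2 := by
  set K : ι → ι → ℤ := fun x y => N * ((if x = y then 1 else 0) - ∑ i, c i x * c i y) +
    e * ((∑ i, c i x) * ∑ i, c i y) with hK
  have h1 : ∀ r : ι → ℤ, ∀ x ∈ B, ∑ y ∈ B, K x y * r y = N * (r x - ∑ i, c i x *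
      ∑ y ∈ B, r y * c i y) + e * ((∑ i, c i x) * ∑ i, ∑ y ∈ B, r y * c i y) := fun r x hx => by
    simp only [hK, add_mul, Finset.sum_add_distrib, mul_assoc, ← Finset.mul_sum, sub_mul,
      Finset.sum_sub_distrib, ite_mul, one_mul, zero_mul, Finset.sum_ite_eq, if_pos hx]
    simp only [Finset.sum_mul, Finset.mul_sum]
    rw [Finset.sum_comm (s := B), Finset.sum_comm (s := B)]
    simp only [mul_assoc, mul_comm (r _)]
  have h2 : ∀ i, ∀ x ∈ B, ∑ y ∈ B, K x y * c i y = 0 := fun i x hx => by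
    rw [h1 _ x hx]
    simp only [hcc, mul_add, Finset.sum_add_distrib, mul_ite, mul_one, mul_zero, Finset.sum_ite_eq,
      Finset.mem_univ, if_true, ← Finset.sum_mul, Finset.sum_const, Finset.card_univ, nsmul_eq_mul,
      hN]
    ring
  have h3 : ∑ x ∈ B, K x x = N * (B.card - Fintype.card κ) := by
    have h4 : ∑ x ∈ B, (∑ i, c i x) * ∑ i, c i x = ∑ i, ∑ j, ∑ x ∈ B, c i x * c j x := by
      simp only [Finset.sum_mul_sum]
      rw [Finset.sum_comm]
      exact Finset.sum_congr rfl fun i _ => Finset.sum_comm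
    simp only [hK, Finset.sum_add_distrib, ← Finset.mul_sum, Finset.sum_sub_distrib, if_true]
    rw [Finset.sum_comm, h4]
    simp only [hcc, Finset.sum_add_distrib, Finset.sum_ite_eq, Finset.mem_univ, if_true,
      Finset.sum_const, Finset.card_univ, nsmul_eq_mul, hN]
    ring
  have h4 : ∑ x ∈ B, ∑ y ∈ B, (K x y - A x y) ^ 2 = 0 := by
    rw [Finset.sum_congr rfl (g := fun x => N * (K x x - A x x)) fun x hx => ?_, ← Finset.mul_sum,
      Finset.sum_sub_distrib, h3, htr, sub_self, mul_zero]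
    have h5 := h1 (K x) x hx
    have h6 := h1 (A x) x hx
    simp only [h2 _ x hx, hc _ x hx, mul_zero, Finset.sum_const_zero, sub_zero, add_zero] at h5 h6
    simp only [sub_sq, Finset.sum_add_distrib, Finset.sum_sub_distrib, mul_assoc, ← Finset.mul_sum]
    simp only [sq]
    rw [h5, h6, hA x hx]
    ring
  have h5 : ∀ x ∈ B, ∀ y ∈ B, A x y = K x y := fun x hx y hy => by
    have h5 := (Finset.sum_eq_zero_iff_of_nonneg fun _ _ => Finset.sum_nonneg
      fun _ _ => sq_nonneg _).1 h4 x hx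
    have h6 := (Finset.sum_eq_zero_iff_of_nonneg fun _ _ => sq_nonneg _).1 h5 y hy
    exact (sub_eq_zero.1 (pow_eq_zero_iff two_ne_zero |>.1 h6)).symm
  rw [Finset.sum_congr rfl fun x hx => by
    rw [Finset.sum_congr rfl fun y hy => by rw [h5 x hx y hy, mul_assoc], ← Finset.mul_sum,
      h1 η x hx]]
  generalize ha : (fun i => ∑ y ∈ B, η y * c i y) = a
  simp only [show ∀ i, ∑ y ∈ B, η y * c i y = a i from congrFun ha]
  have h6 : ∑ x ∈ B, η x * ∑ i, c i x * a i = ∑ i, a i ^ 2 := by
    simp only [Finset.mul_sum, ← mul_assoc]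
    rw [Finset.sum_comm]
    simp only [← Finset.sum_mul, sq, ← ha]
  have h7 : ∑ x ∈ B, η x * ∑ i, c i x = ∑ i, a i := by
    simp only [Finset.mul_sum]
    rw [Finset.sum_comm, ← ha]
  rw [← h6, sq, ← Finset.sum_sub_distrib, Finset.mul_sum]
  nth_rewrite 2 [← h7]
  rw [Finset.sum_mul, Finset.mul_sum, ← Finset.sum_add_distrib]
  exact Finset.sum_congr rfl fun x _ => by ring

variable {p : ℕ} {M : Ideal AlgInt} {G : Type u} [Group G] [Fintype G]
  {B : Set (IrrCharacter G)} {P : Subgroup G} {e : (resK M)[G]}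

theorem minOK_of_contrib [hp : Fact p.Prime] (h : ∀ n : IrrCharacter G → ℤ,
    ∑ x ∈ irrFinset B, ∑ y ∈ irrFinset B, n x * contrib p B x y * n y ≠ 0 →
      (blockRank p B : ℤ) ≤ ∑ x ∈ irrFinset B, ∑ y ∈ irrFinset B, n x * contrib p B x y * n y) :
    MinOK p B := by
  intro η hη hB h0
  choose n hn using fun χ : IrrCharacter G =>
    hη.exists_classInner_eq_int χ.isCharacter.isGeneralizedCharacter
  have h1 : (p : ℂ) ^ blockDefect p B * classInner (pRegularPart p η) (pRegularPart p η) =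
      (∑ x ∈ irrFinset B, ∑ y ∈ irrFinset B, n x * contrib p B x y * n y : ℤ) := by
    rw [← classInner_pRegularPart_left]
    nth_rewrite 2 [← hB]
    rw [← hB, pRegularPart_blockPart_eq_sum, hB, blockPart_eq_sum_smul, classInner_sum_left,
      Finset.mul_sum]
    push_cast
    refine Finset.sum_congr rfl fun x hx => ?_
    rw [classInner_smul_left, classInner_sum_right, Finset.mul_sum, Finset.mul_sum]
    refine Finset.sum_congr rfl fun y _ => ?_
    rw [classInner_smul_right, cast_contrib (mem_irrFinset.1 hx), hn, hn, map_intCast]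
    ring
  have h2 := congrArg Complex.re h1
  rw [← Complex.ofReal_natCast, ← Complex.ofReal_pow, Complex.re_ofReal_mul, Complex.intCast_re] at h2
  rw [h2]
  refine mod_cast h n fun h3 => ?_
  rw [h3, Int.cast_zero, mul_eq_zero, classInner_self_eq_zero] at h1
  exact h1.elim (pow_ne_zero _ (Nat.cast_ne_zero.2 hp.out.ne_zero)) h0

theorem StarSetup.minOK_of_free (S : StarSetup p M B P e)
    (hab : P ≤ Subgroup.centralizer (P : Set G))
    (hfree : ∀ t ∈ pairStab ⊤ P e, ∀ x ∈ P, x ≠ 1 → t * x * t⁻¹ = x →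
      t ∈ Subgroup.centralizer (P : Set G)) (hP1 : P ≠ ⊥) : MinOK p B := by
  classical
  have := S.hM.fact_prime
  have := Fintype.ofFinite (P →* ℂˣ)
  have := isMulCommutative_of_le_centralizer hab
  have hE := pairStab_le_normalizer ⊤ P e
  obtain ⟨c, h1, h2, h3, h4⟩ := S.exists_gram_of_free hab hfree
  let K := (Finset.univ.erase (1 : P →* ℂˣ)).image (linOrb (pairStab ⊤ P e))
  choose r hr hr' using fun k : K => Finset.mem_image.1 k.2
  have hK : (Subgroup.centralizer (P : Set G)).relIndex (pairStab ⊤ P e) * K.card + 1 =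
      Nat.card P := by
    rw [← card_unitsHom_of_comm (A := P), Nat.card_eq_fintype_card, ← Finset.card_univ,
      ← Finset.card_erase_add_one (Finset.mem_univ 1),
      Finset.card_eq_sum_card_image (linOrb (pairStab ⊤ P e)), Finset.sum_congr rfl
        (g := fun _ => (Subgroup.centralizer (P : Set G)).relIndex (pairStab ⊤ P e)) fun k hk => ?_,
      Finset.sum_const, smul_eq_mul, mul_comm]
    obtain ⟨l, hl, rfl⟩ := Finset.mem_image.1 hk
    have hl := Finset.ne_of_mem_erase hl
    rw [← card_linOrb hE hab hfree hl]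
    congr 1
    ext m
    simp only [Finset.mem_filter, Finset.mem_erase, Finset.mem_univ, and_true, mem_linOrb]
    refine ⟨fun h => ?_, fun h => ⟨h.ne_one hE hl, (linOrb_congr hE h).symm⟩⟩
    rw [← mem_linOrb, ← h.2, mem_linOrb]
    exact (linConj_equivalence hE).refl m
  have h6 := S.card_mul_of_free hab hfree
  have h8 : 0 < (Subgroup.centralizer (P : Set G)).relIndex (pairStab ⊤ P e) :=
    Nat.pos_of_ne_zero Subgroup.index_ne_zero_of_finite
  have hcc : ∀ i j : K, ∑ x ∈ irrFinset B, c (r i) x * c (r j) x =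
      (Subgroup.centralizer (P : Set G)).relIndex (pairStab ⊤ P e) + if i = j then 1 else 0 := by
    intro i j
    rw [h1 _ _ (Finset.ne_of_mem_erase (hr i)) (Finset.ne_of_mem_erase (hr j))]
    congr 1
    refine if_congr ⟨fun h => Subtype.ext ?_, fun h => h ▸ (linConj_equivalence hE).refl _⟩ rfl rfl
    rw [← hr' i, ← hr' j, linOrb_congr hE h]
  have hne : ∀ x ∈ irrFinset B, ∃ i : K, c (r i) x ≠ 0 := fun x hx => by
    obtain ⟨l, hl, h⟩ := h4 hP1 x (mem_irrFinset.1 hx)
    let k : K := ⟨_, Finset.mem_image_of_mem _ (Finset.mem_erase.2 ⟨hl, Finset.mem_univ _⟩)⟩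
    refine ⟨k, ?_⟩
    rwa [h3 (r k) l (by rw [← mem_linOrb, hr' k, mem_linOrb]; exact (linConj_equivalence hE).refl l)]
  generalize (Subgroup.centralizer (P : Set G)).relIndex (pairStab ⊤ P e) = n at *
  have h11 : Nat.card B = blockRank p B + K.card :=
    Nat.eq_of_mul_eq_mul_right h8 (by rw [← hK] at h6; linarith)
  have hN : (p : ℤ) ^ blockDefect p B = 1 + n * Fintype.card K := by
    rw [← Nat.cast_pow, ← S.card_eq, ← hK, Fintype.card_coe]; push_cast; ring
  have hA := eq_of_gram_proj hcc (A := contrib p B) hN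
    (fun x hx => S.hB.sum_contrib_mul S.hM (mem_irrFinset.1 hx) (mem_irrFinset.1 hx))
    (fun i x hx => ?_) (by
      rw [S.hB.sum_contrib_self S.hM, card_irrFinset, h11, Fintype.card_coe]; push_cast; ring)
  · refine minOK_of_contrib fun η h0 => ?_
    have h9 := card_le_form_of_gram hcc hne η (hN ▸ hA η) h0
    rw [card_irrFinset, h11, Fintype.card_coe] at h9
    push_cast at h9
    omega
  · have h9 : classInner (pRegularPart p x.1) (∑ z ∈ irrFinset B, (c (r i) z : ℂ) • z.1) = 0 :=
      classInner_eq_zero_of_reg_sing (p := p) (fun g hg => pRegularPart_of_dvd hg)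
        fun g hg => by simpa using h2 (r i) g hg
    rw [classInner_sum_right] at h9
    refine Int.cast_injective (α := ℂ) ?_
    push_cast
    rw [← mul_zero ((p : ℂ) ^ blockDefect p B), ← h9, Finset.mul_sum]
    refine Finset.sum_congr rfl fun z _ => ?_
    rw [classInner_smul_right, cast_contrib (mem_irrFinset.1 hx), map_intCast]
    ring

end Cfsg
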