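import Cfsg.Agent.Blk.Gen64Grp
import Cfsg.Agent.Blk.Radical

/-! Brauer's bound for two-generator defect groups of order at most `64`. -/

set_option autoImplicit false

namespace Cfsg

open scoped MonoidAlgebra commutatorElement

universe u

variable {G : Type u} [Group G] {P : Subgroup G}

theorem Cj.commutator {g : G} {a b a' b' : P} (h : Cj g a a') (h' : Cj g b b') :
    Cj g ⁅a, b⁆ ⁅a', b'⁆ := by
  unfold Cj at *
  simp only [commutatorElement_def, Subgroup.coe_mul, Subgroup.coe_inv, h, h']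
  group

variable {M : Ideal AlgInt} [Fintype G] {B : Set (IrrCharacter G)} {e : (resK M)[G]}
  (S : StarSetup 2 M B P e)
include S

namespace NAb
variable {z c v : P} {F K : Subgroup P} (h : NAb z c F K)
include h

theorem eq_of_fuse_of_mem (hv : v ∈ F) (h1 : PairFuse 2 P e (v : G) z) : v = z := by
  obtain ⟨g, h2, hg⟩ := S.exists_fHom_of_central h1 h.z_cen
  by_cases h3 : v ∈ Subgroup.center P
  · exact ((h.cen v).1 h3).resolve_left fun h4 => h.ne ((h4 ▸ h2).unique cj_one)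
  obtain ⟨a, ha, b, hb, h4⟩ := h.exists_comm (h.index_eq hv h3)
  obtain ⟨a', h5, -⟩ := S.exists_cj hg (coe_mem_inf_centralizer.2 (ha v rfl).symm)
  obtain ⟨b', h6, -⟩ := S.exists_cj hg (coe_mem_inf_centralizer.2 (hb v rfl).symm)
  have h7 := h4 ▸ h5.commutator h6
  have h8 : ⁅a', b'⁆ ∈ Subgroup.center P := by_contra fun h8 => h8 (h.comm_cen
    (h.index_eq (h.le (h.comm a' b')) h8) (Subgroup.mem_centralizer_singleton_iff.2
      (h5.comm h7 (Subgroup.mem_center_iff.1 h.z_cen a))) (Subgroup.mem_centralizer_singleton_iff.2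
        (h6.comm h7 (Subgroup.mem_center_iff.1 h.z_cen b))))
  rcases (h.cen _).1 h8 with h9 | h9 <;> rw [h9] at h7
  exacts [absurd (h7.inj cj_one) h.ne, h2.inj h7]

theorem eq_of_fuse (h1 : PairFuse 2 P e (v : G) z) : v = z := by
  by_cases hv : v ∈ F
  · exact h.eq_of_fuse_of_mem S hv h1
  obtain ⟨g, h2, hg⟩ := S.exists_fHom_of_central h1 h.z_cen
  obtain ⟨t, ht⟩ := not_forall.1 (mt (h.memF v).2 hv)
  have h0 := coe_mem_inf_centralizer.2
    (h.comm_K (h.comm_c (h2.sq_iff.1 h.z_sq ▸ one_mem K)) (h.comm t v)).symm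
  obtain ⟨d, h3, h4⟩ := S.exists_cj hg h0
  have h5 : PairFuse 2 P e ((d * z : P) : G) z := S.fuse_trans (S.fuse_of_cj hg
    (mul_mem h0 (coe_mem_inf_centralizer.2 rfl)) (h3.mul h2)).symm (S.fuse_trans
      (S.fuse_of_isConj (isConj_iff.2 ⟨t, by simp [commutatorElement_def]⟩)).symm h1)
  refine absurd ?_ ht
  by_cases h6 : d * z ∈ F
  · rw [mul_eq_right.1 (h.eq_of_fuse_of_mem S h6 h5)] at h3
    exact h3.inj cj_one ▸ one_mem _
  obtain ⟨f, h7⟩ := h.exists_conj h6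
  rw [Subgroup.mem_center_iff.1 h.z_cen d, ← mul_assoc z, h.z_sq, one_mul] at h7
  rw [Subgroup.mem_center_iff.1 h.z_cen d] at h5
  exact h.eq_of_fuse_of_mem S (h.le (h.comm t v)) (S.fuse_trans h4 (S.fuse_trans
    (S.fuse_of_isConj (isConj_iff.2 ⟨f, h7⟩)).symm h5)) ▸ h.z_cen

theorem blockRank_eq_one : blockRank 2 B = 1 := by
  refine S.blockRank_eq_one_of_chainRad fun Q hQ hr x hx hxn hxr => ?_
  set Z := (Subgroup.center P).map P.subtype
  have hZ : ∀ a ∈ Z, ∀ d ∈ P, a * d = d * a := by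
    rintro _ ⟨a, ha, rfl⟩ d hd
    exact congrArg Subtype.val (mul_comm_of_mem_center ha ⟨d, hd⟩)
  have h1 : Z ≤ Q := fun a ha => hr Q Q le_rfl le_rfl (fun _ _ h => ⟨h, h⟩)
    ⟨Subgroup.map_subtype_le _ ha, centralizer_le_chainStab _ le_rfl fun q hq => (hZ a ha q (hQ hq)).symm⟩
  have h2 : ∀ y, FHom 2 P e Q y → ∀ a ∈ Subgroup.center P, Cj y a a := fun y hy a ha => by
    rcases (h.cen a).1 ha with rfl | rfl
    · exact cj_one
    · obtain ⟨b, h2, h3⟩ := S.exists_cj hy (h1 ⟨a, ha, rfl⟩)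
      rwa [h.eq_of_fuse S h3.symm] at h2
  have h3 : ∀ y, FHom 2 P e Q y → y ∈ Subgroup.normalizer (Z : Set G) := fun y hy =>
    Subgroup.mem_normalizer_fintype (by
      rintro _ ⟨a, ha, rfl⟩
      exact ⟨a, ha, h2 y hy a ha⟩)
  have h4 : ∀ f ∈ F, (f : G) ∈ Q := fun f hf => hr Z Z le_rfl h1
    (fun y hy _ => ⟨h3 y hy, h3 y hy⟩) ⟨f.2, mem_chainStab _ h1 (Or.inl
      ⟨fun a ha => hZ a ha f f.2, fun a ha => ⟨_, (h.memF f).1 hf ⟨a, hQ ha⟩, rfl⟩⟩)⟩
  have h5 : ∀ N (h5 : Z ≤ N), N ≤ Q → (∀ a : P, (a : G) ∈ N → a ∈ F) →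
      (∀ a ∈ K, (a : G) ∈ N) → (∀ y, FHom 2 P e Q y → y ∈ Subgroup.normalizer (Q : Set G) →
        y ∈ Subgroup.normalizer (N : Set G)) → P ≤ Q := fun N h5 h6 h7 h8 h9 d hd =>
    hr Z N h5 h6 (fun y hy hn => ⟨h3 y hy, h9 y hy hn⟩) ⟨hd, fun a ha => hZ a ha d hd,
      fun a ha => ⟨⁅(⟨a, hQ (h6 ha)⟩ : P), (⟨d, hd⟩ : P)⁆, inv_mem_iff.1 (by
        simpa using (h.memF _).1 (h7 ⟨a, hQ (h6 ha)⟩ ha) ⟨d, hd⟩), rfl⟩,
      fun a ha => h8 _ (h.comm ⟨a, hQ ha⟩ ⟨d, hd⟩)⟩
  obtain rfl : P = Q := le_antisymm (by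
    by_cases h6 : ∀ a : P, (a : G) ∈ Q → a * c = c * a
    · refine h5 (Q ⊓ Subgroup.centralizer (Q : Set G))
        (le_inf h1 fun a ha q hq => (hZ a ha q (hQ hq)).symm) inf_le_left
        (fun a ha => h.mem_of_comm fun f hf => Subtype.ext (ha.2 f (h4 f hf)))
        (fun a ha => ⟨h4 a (h.le ha), fun q hq =>
          congrArg Subtype.val (h.comm_K (h6 ⟨q, hQ hq⟩ hq) ha)⟩) fun y _ hn => ?_
      exact Subgroup.inf_normalizer_le_normalizer_inf
        ⟨hn, normalizer_le_normalizer_centralizer Q hn⟩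
    by_contra h7
    refine h7 (h5 (F.map P.subtype) (Subgroup.map_mono (h.cen_le.trans h.le))
      (by rintro _ ⟨f, hf, rfl⟩; exact h4 f hf) (fun a ⟨f, hf, h8⟩ => Subtype.ext h8 ▸ hf)
      (fun a ha => ⟨a, h.le ha, rfl⟩) fun y hy hn => Subgroup.mem_normalizer_fintype ?_)
    rintro _ ⟨f, hf, rfl⟩
    obtain ⟨b, h8, -⟩ := S.exists_cj hy (h4 f hf)
    refine ⟨b, by_contra fun h9 => h7 fun d hd => ?_, h8⟩
    obtain ⟨u, h10⟩ := not_forall.1 h6
    obtain ⟨h10, h11⟩ := Classical.not_imp.1 h10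
    have h12 := h.index_eq (h.le h.c_mem) h.notMem
    have h13 : ∀ a ∈ Subgroup.centralizer {c}, (a : G) ∈ Q := fun a ha => by
      have h13 : (b : G) ∈ Q := h8 ▸ (Subgroup.mem_normalizer_iff.1 hn _).1 (h4 f hf)
      rcases mem_or_inv_mul_mem (h.le_of_index h12.le) (h.card_of_index h12)
        (Subgroup.mem_centralizer_singleton_iff.2 (h.comm_c ((h8.mul h8).unique
          (h2 y hy _ (h.sq_cen hf)) ▸ h.cen_le (h.sq_cen hf)))) h9 ha with h14 | h14
      exacts [h4 a h14, (mul_mem_cancel_left (inv_mem h13)).1 (h4 _ h14)]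
    by_cases h14 : (⟨d, hd⟩ : P) ∈ Subgroup.centralizer {c}
    · exact h13 _ h14
    · exact (mul_mem_cancel_right h10).1 (h13 _ ((Subgroup.mul_mem_iff_of_index_two h12).2
        (iff_of_false h14 (mt Subgroup.mem_centralizer_singleton_iff.1 h11))))) hQ
  have h6 : ∀ a, ∃ b, Cj x a b := fun a => (S.exists_cj hx a.2).imp fun _ h => h.1
  have h7 : ∀ b, ∃ a, Cj x a b := fun b =>
    ⟨⟨_, (Subgroup.mem_normalizer_iff''.1 hxn _).1 b.2⟩, by simp [Cj, mul_assoc]⟩
  have h8 : Cj x c c := by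
    obtain ⟨a, b, h8⟩ := h.eq
    obtain ⟨a', h9⟩ := h6 a
    obtain ⟨b', h10⟩ := h6 b
    have h11 := h8 ▸ h9.commutator h10
    rcases (h.memK _).1 (h.comm a' b') with h12 | h12
    · exact absurd (h11.inj (h2 x hx _ h12) ▸ h12) h.notMem
    rcases (h.cen _).1 h12 with h13 | h13
    · rwa [← inv_mul_eq_one.1 h13] at h11
    · rw [inv_mul_eq_iff_eq_mul.1 h13, Subgroup.mem_center_iff.1 h.z_cen] at h11
      exact absurd ((h2 x hx z h.z_cen).eq_of_odd h.z_sq h11 hxr (by simp)) h.ne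
  have h9 := mem_centralizer_of_relIndex_le_two (R := K.map P.subtype) (Q := F.map P.subtype)
      (S.isPGroup.to_le (Subgroup.map_subtype_le _)) (Subgroup.map_mono h.le) (by
        have := card_mul_relIndex h.le
        rw [Subgroup.relIndex_map_map_of_injective _ _ P.subtype_injective]
        rw [h.cardK, h.cardF] at this
        omega) (Subgroup.mem_normalizer_fintype (by
        rintro _ ⟨f, hf, rfl⟩
        obtain ⟨b, h9⟩ := h6 f
        refine ⟨b, (h.memF b).2 fun t => ?_, h9⟩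
        obtain ⟨s, h10⟩ := h7 t
        exact (h10.commutator h9).unique (h2 x hx _ ((h.memF f).1 hf s)) ▸ (h.memF f).1 hf s))
      (by
        rintro _ ⟨a, ha, rfl⟩
        refine eq_mul_inv_iff_mul_eq.1 (show Cj x a a from ?_)
        rcases (h.memK a).1 ha with h9 | h9
        · exact h2 x hx a h9
        · simpa using h8.mul (h2 x hx _ h9)) hxr
  refine le_centralizer_of_commutator_le_of_coprime (K := F.map P.subtype)
    (A := Subgroup.zpowers x) (coprime_card_of_isPGroup (S.isPGroup.to_le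
      (Subgroup.map_subtype_le _)) (by rwa [Nat.card_zpowers]))
    (Subgroup.commutator_le.2 fun a ha y hy => ?_) (Subgroup.zpowers_le.2 h9) (Subgroup.mem_zpowers x)
  refine ⟨⟨⁅a, y⁆, by simpa [commutatorElement_def, mul_assoc] using mul_mem ha ((
    Subgroup.mem_normalizer_iff.1 (Subgroup.zpowers_le.2 hxn hy) _).1 (inv_mem ha))⟩, h.mem_of_comm fun f hf => Subtype.ext ?_, rfl⟩
  have h10 := Subgroup.zpowers_le.2 h9 hy f ⟨f, hf, rfl⟩
  have h11 := Subgroup.zpowers_le.2 h9 hy _ ⟨_, (Subgroup.mem_normalizer_iff''.1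
    (mem_normalizer_of_sq h.sq ⟨a, ha⟩) f).1 hf, rfl⟩
  change a⁻¹ * f * a * y = y * (a⁻¹ * f * a) at h11
  change f * (a * y * a⁻¹ * y⁻¹) = a * y * a⁻¹ * y⁻¹ * f
  calc f * (a * y * a⁻¹ * y⁻¹) = a * (a⁻¹ * f * a * y) * a⁻¹ * y⁻¹ := by group
    _ = a * y * a⁻¹ * y⁻¹ * (y * f) * y⁻¹ := by rw [h11]; group
    _ = _ := by rw [← h10]; group

end NAb

theorem StarSetup.blockRank_eq_one_of_inv (hc : Nat.card P = 32) {a t : P}
    (hg : Subgroup.closure {a, t} = ⊤) (h : a * (t * a * t⁻¹) = 1) (ha : a ^ 8 = 1)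
    (ht : t ^ 4 = 1) : blockRank 2 B = 1 := by
  obtain ⟨w, hw⟩ : ∃ w, w = t * t := ⟨_, rfl⟩
  replace h := eq_inv_of_mul_eq_one_right h
  have h1 : w ∈ Subgroup.center P := mem_center_of_gen hg (by
    rw [eq_comm, ← mul_inv_eq_iff_eq_mul, hw, show t * t * a * (t * t)⁻¹ =
      t * (t * a * t⁻¹) * t⁻¹ by group, h, ← conj_inv, h, inv_inv])
    (by rw [hw, mul_assoc])
  have h2 : w * w = 1 := by simpa [hw, pow_succ, mul_assoc] using ht
  have h1' := mul_comm_of_mem_center h1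
  set A := Subgroup.zpowers a ⊔ Subgroup.zpowers w
  have hwA : w ∈ A := Subgroup.mem_sup_right (Subgroup.mem_zpowers w)
  have h3 : ∀ b ∈ A, ∃ i : ℤ, b = a ^ i ∨ b = a ^ i * w := fun b hb => by
    rcases mem_or_mul_mem_of_mem_sup (Subgroup.center_le_normalizer _ h1) (h2 ▸ one_mem _) hb with
      ⟨i, hi⟩ | ⟨i, hi⟩
    exacts [⟨i, Or.inr (by rw [show a ^ i = _ from hi, mul_assoc, h2, mul_one])⟩, ⟨i, Or.inl hi.symm⟩]
  have h4 : ∀ b ∈ A, t * b * t⁻¹ = b⁻¹ := fun b hb => by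
    obtain ⟨i, rfl | rfl⟩ := h3 b hb
    · rw [← conj_zpow, h, inv_zpow]
    · rw [← conj_mul, ← conj_zpow, h, inv_zpow, ← h1', mul_inv_cancel_right, mul_inv_rev,
        inv_eq_of_mul_eq_one_right h2, h1']
  have h5 : Nat.card A ≤ _ := card_sup_zpowers_le (N := Subgroup.zpowers a)
    (Subgroup.center_le_normalizer _ h1) (h2 ▸ one_mem _)
  have h6 := card_sup_zpowers_le (N := A) (g := t)
    (Subgroup.mem_normalizer_fintype fun b hb => h4 b hb ▸ inv_mem hb) (hw ▸ hwA)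
  rw [eq_top_of_gen hg (Subgroup.mem_sup_left (Subgroup.mem_sup_left (Subgroup.mem_zpowers a)))
    (Subgroup.mem_sup_right (Subgroup.mem_zpowers t)), Subgroup.card_top] at h6
  have h7 := orderOf_le_of_pow_eq_one (by norm_num) ha
  rw [Nat.card_zpowers] at h5
  have h8 : orderOf a = 2 * 4 := by omega
  have h9 : w ∉ Subgroup.zpowers a := fun h9 => by
    rw [show A = _ from sup_eq_left.2 (Subgroup.zpowers_le.2 h9), Nat.card_zpowers] at h6; omega
  have h10 : A.index = 2 := by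
    have := A.card_mul_index
    rw [show Nat.card A = 16 by omega] at this
    omega
  have h11 : ∀ b ∈ A, ∃ i : ℤ, b * b = a ^ i * a ^ i := fun b hb => by
    obtain ⟨i, rfl | rfl⟩ := h3 b hb
    exacts [⟨i, rfl⟩, ⟨i, by rw [mul_assoc, ← mul_assoc w, h1', mul_assoc, h2, mul_one]⟩]
  have h12 : ∀ u ∉ A, u * u = w := fun u hu => by
    have h12 : t ∉ A := fun h12 => by
      simp [eq_top_of_gen (N := A) hg (Subgroup.mem_sup_left (Subgroup.mem_zpowers a)) h12] at h10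
    have := h4 _ ((Subgroup.mul_mem_iff_of_index_two h10).2 (iff_of_false hu (mt inv_mem_iff.1 h12)))
    rw [show u * u = u * t⁻¹ * (t * (u * t⁻¹) * t⁻¹) * (t * t) by group, this, hw]
    group
  have h13 : a ^ 4 * a ^ 4 = 1 := by rw [← pow_add, ha]
  have h14 : a ^ 4 ∈ Subgroup.center P := mem_center_of_gen hg (by group) (by
    rw [← mul_inv_eq_iff_eq_mul, ← conj_pow, h, inv_pow, inv_eq_of_mul_eq_one_right h13])
  have h15 : ∀ b ∈ A, b * b = 1 → b = 1 ∨ b = a ^ 4 ∨ b = w ∨ b = a ^ 4 * w := fun b hb h15 => by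
    obtain ⟨i, rfl | rfl⟩ := h3 b hb
    · have := eq_of_mem_zpowers_of_sq h8 (Subgroup.zpow_mem_zpowers a i) h15; tauto
    · rcases eq_of_mem_zpowers_of_sq h8 (Subgroup.zpow_mem_zpowers a i) (by
        rwa [mul_assoc, ← mul_assoc w, h1', mul_assoc, h2, mul_one] at h15) with h16 | h16 <;>
      simp [h16]
  have h16 : a ^ 4 ≠ 1 := pow_ne_one_of_lt_orderOf (by norm_num) (by omega)
  have h17 : ∀ b c : P, b ∈ A → c ∈ A → b * b = 1 → c * c = 1 → PairFuse 2 P e (b : G) c → b = c :=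
    fun b c hb hc' h17 h18 => by
      have h19 : ∀ b ∈ A, b * b = 1 → b ∈ Subgroup.center P := fun b hb h19 => by
        rcases h15 b hb h19 with rfl | rfl | rfl | rfl
        exacts [one_mem _, h14, h1, mul_mem h14 h1]
      refine S.eq_of_fuse_of_four h13 (fun g hg => ?_) (h19 b hb h17) (h19 c hc' h18) (h15 b hb h17)
        (h15 c hc' h18)
      obtain ⟨d, h20⟩ : ∃ d, Cj g a d := ⟨⟨_, (Subgroup.mem_normalizer_iff.1 hg _).1 a.2⟩, rfl⟩
      have h21 := (h20.mul h20).mul (h20.mul h20)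
      rw [show a * a * (a * a) = a ^ 4 by simp [pow_succ, mul_assoc]] at h21
      by_cases hd : d ∈ A
      · obtain ⟨i, hi⟩ := h11 d hd
        rcases eq_of_mem_zpowers_of_sq h8 (a := d * d * (d * d)) (by
          rw [hi, ← zpow_add, ← zpow_add]; exact Subgroup.zpow_mem_zpowers ..)
          (h21.sq_iff.2 h13) with h22 | h22 <;> rw [h22] at h21
        exacts [absurd (h21.inj cj_one) h16, h21]
      · rw [h12 d hd, h2] at h21
        exact absurd (h21.inj cj_one) h16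
  have h18 : a ^ 4 ∈ A := Subgroup.mem_sup_left (Subgroup.npow_mem_zpowers a 4)
  refine S.blockRank_eq_one_of_index_two h10.le (fun b hb c hc => ?_)
    (fun b hb c hbc => by_contra fun hc => ?_) h13 h15
    (fun h19 => h9 (h17 _ _ h18 hwA h13 h2 h19 ▸ Subgroup.npow_mem_zpowers a 4))
    fun h19 => h9 (by simp [mul_eq_left.1 (h17 _ _ h18 (mul_mem h18 hwA) h13 (by
      rw [mul_assoc, ← mul_assoc w, h1', mul_assoc, h2, mul_one, h13]) h19).symm])
  · rw [← inv_inj, ← h4 _ (mul_mem hb hc), ← conj_mul, h4 b hb, h4 c hc, mul_inv_rev]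
  · have h19 := S.fuse_mul_self hbc
    rw [h12 c hc] at h19
    obtain ⟨i, hi⟩ := h11 b hb
    refine h9 (h17 _ _ (mul_mem hb hb) hwA ((Cj.sq_iff h19.choose_spec.choose_spec.1).1 h2) h2 h19 ▸ ?_)
    rw [hi, ← zpow_add]
    exact Subgroup.zpow_mem_zpowers ..

theorem StarSetup.card_le_of_gen {x y : P} (hc : Nat.card P ≤ 64)
    (hg : Subgroup.closure {x, y} = ⊤) : Nat.card B ≤ Nat.card P := by
  by_contra h0
  have h1 : ∀ z ∈ Subgroup.center P, orderOf z * 16 < Nat.card P := fun z hz => by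
    have := (Subgroup.zpowers z).card_mul_index
    rw [Nat.card_zpowers] at this
    nlinarith [not_le.1 (mt (S.card_le_of_index_le_sixteen hz) h0), orderOf_pos z]
  have h2 : ∀ z ∈ Subgroup.center P, z * z = 1 := fun z hz => by_contra fun h2 => by
    have := four_le_orderOf S.isPGroup h2
    have := h1 z hz
    omega
  have h3 : Nat.card P = 64 := by
    have h3 := h1 1 (one_mem _)
    have : Nontrivial P := Finite.one_lt_card_iff_nontrivial.1 (by rw [orderOf_one] at h3; omega)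
    have := S.isPGroup.center_nontrivial
    obtain ⟨⟨z, hz⟩, h4⟩ := exists_ne (1 : Subgroup.center P)
    have h5 := h1 z hz
    rw [orderOf_eq_prime ((pow_two z).trans (h2 z hz)) fun h => h4 (Subtype.ext h)] at h5
    obtain ⟨n, hn⟩ := IsPGroup.iff_card.1 S.isPGroup
    rw [hn] at hc h5 ⊢
    have := (Nat.pow_le_pow_iff_right one_lt_two (m := 6)).1 hc
    have := (Nat.pow_lt_pow_iff_right one_lt_two (n := 5)).1 h5
    rw [show n = 6 by omega]
    rfl
  have key : ∀ z ∈ Subgroup.center P, ¬ blockRank 2 (S.below z) ≤ 3 := fun z hz h4 => by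
    obtain ⟨H, _, _, B', P', e', S', ρ, Q⟩ :=
      S.exists_subQuot_central (StarSetup.le_centralizer_of_mem_center hz)
    exact h0 (Q.card_le (Or.inr (Or.inl ⟨rfl, Q.rank ▸ h4⟩)))
  have h4 : ∀ a : P, a ^ 8 = 1 := fun a => by_contra fun h4 => by
    obtain ⟨k, hk⟩ := IsPGroup.iff_orderOf.1 S.isPGroup a
    rw [← orderOf_dvd_iff_pow_eq_one, hk, show 8 = 2 ^ 3 from rfl,
      Nat.pow_dvd_pow_iff_le_right one_lt_two] at h4
    have h5 := Nat.pow_le_pow_right two_pos (not_le.1 h4)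
    have h6 := (Subgroup.zpowers a).card_mul_index
    rw [Nat.card_zpowers] at h6
    obtain ⟨z, hz, h7⟩ := S.exists_rank_below_le_three (x := a) (by nlinarith)
    exact key z hz h7
  obtain ⟨z, hz, h5, h6⟩ := exists_central_of_card h3 hg h2 h4
  obtain ⟨H, _, _, B', P', e', S', ρ, Q⟩ :=
    S.exists_subQuot_central (StarSetup.le_centralizer_of_mem_center hz)
  have h7 : Nat.card P' = 32 := by
    have := Q.card_mul
    rw [Subgroup.orderOf_coe, orderOf_eq_prime ((pow_two z).trans (h2 z hz)) h5] at this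
    omega
  have h8 : ∀ a t : P, Subgroup.closure {a, t} = ⊤ → Subgroup.closure {ρ a, ρ t} = ⊤ :=
    fun a t h8 => by
      rw [← Set.image_pair, ← MonoidHom.map_closure, h8, Subgroup.map_top_of_surjective _ Q.surj]
  refine key z hz (Q.rank ▸ (Eq.le ?_).trans (by norm_num : 1 ≤ 3))
  rcases h6 with h6 | ⟨a, t, h6, h9, h10⟩
  · obtain ⟨z', c, F, K, h9⟩ := exists_nAb h7 (h8 x y hg) fun A hA => by
      obtain ⟨a, ha, b, hb, h9⟩ := h6 (A.comap ρ) (by rwa [A.index_comap_of_surjective Q.surj])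
      exact ⟨_, ha, _, hb, fun h10 => h9 (Q.ker'.1 (by rwa [map_commutatorElement]))⟩
    exact h9.blockRank_eq_one S'
  · refine S'.blockRank_eq_one_of_inv h7 (h8 a t h6) ?_ (by rw [← map_pow, h4, map_one])
      (by rw [← map_pow, h10, map_one])
    simpa using Q.ker'.2 (h9 ▸ Subgroup.mem_zpowers z : a * (t * a * t⁻¹) ∈ _)

end Cfsg
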