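import Cfsg.Agent.Blk.OlssonGrp

/-! Groups of order `32` and `64` generated by two elements. -/

set_option autoImplicit false

namespace Cfsg

open scoped commutatorElement

universe u

variable {T : Type u} [Group T] {x y a t z c g : T} {N A : Subgroup T}

theorem mem_or_mul_mem_of_mem_sup (hg : g ∈ Subgroup.normalizer (N : Set T)) (h2 : g * g ∈ N)
    {b : T} (hb : b ∈ N ⊔ Subgroup.zpowers g) : b * g ∈ N ∨ b ∈ N := by
  obtain ⟨n, hn, _, ⟨j, rfl⟩, rfl⟩ := (mem_sup_of_le_normalizer (Subgroup.zpowers_le.2 hg)).1 hb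
  have h3 : ∀ i : ℤ, g ^ (2 * i) ∈ N := fun i => by
    rw [zpow_mul, zpow_two]; exact zpow_mem h2 i
  obtain ⟨i, rfl | rfl⟩ := Int.even_or_odd' j
  · exact Or.inr (mul_mem hn (h3 i))
  · refine Or.inl ?_
    rw [mul_assoc, ← zpow_add_one, add_assoc, one_add_one_eq_two, ← mul_add_one]
    exact mul_mem hn (h3 _)

theorem closure_pair_eq_top (hg : Subgroup.closure {x, y} = ⊤)
    (hx : x ∈ Subgroup.closure {a, t}) (hy : y ∈ Subgroup.closure {a, t}) :
    Subgroup.closure {a, t} = ⊤ :=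
  top_le_iff.1 (hg ▸ (Subgroup.closure_le _).2 (Set.pair_subset hx hy))

theorem eq_top_of_gen (hg : Subgroup.closure {x, y} = ⊤) (hx : x ∈ N) (hy : y ∈ N) : N = ⊤ :=
  top_le_iff.1 (hg ▸ (Subgroup.closure_le _).2 (Set.pair_subset hx hy))

theorem mem_center_of_gen (hg : Subgroup.closure {x, y} = ⊤) (hx : x * g = g * x)
    (hy : y * g = g * y) : g ∈ Subgroup.center T := Subgroup.mem_center_iff.2 fun b =>
  Subgroup.mem_centralizer_singleton_iff.1 ((eq_top_of_gen hg
    (Subgroup.mem_centralizer_singleton_iff.2 hx)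
      (Subgroup.mem_centralizer_singleton_iff.2 hy)).ge trivial)

theorem exists_gen_of_index_two (hg : Subgroup.closure {x, y} = ⊤) (h : A.index = 2) :
    ∃ a ∈ A, ∃ t ∉ A, Subgroup.closure {a, t} = ⊤ := by
  have h1 : ∀ a t : T, a ∈ Subgroup.closure {a, t} := fun a t => Subgroup.subset_closure (by simp)
  have h2 : ∀ a t : T, t ∈ Subgroup.closure {a, t} := fun a t => Subgroup.subset_closure (by simp)
  by_cases hx : x ∈ A <;> by_cases hy : y ∈ A
  · simp [eq_top_of_gen hg hx hy] at h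
  · exact ⟨x, hx, y, hy, hg⟩
  · exact ⟨y, hy, x, hx, closure_pair_eq_top hg (h2 _ _) (h1 _ _)⟩
  · exact ⟨x * y, (Subgroup.mul_mem_iff_of_index_two h).2 (iff_of_false hx hy), y, hy,
      closure_pair_eq_top hg (by simpa using mul_mem (h1 (x * y) y) (inv_mem (h2 _ y))) (h2 _ _)⟩

theorem mul_sq_comm {b : T} (hz : z ∈ Subgroup.center T) (h2 : z * z = 1)
    (h : ⁅b, a⁆ = 1 ∨ ⁅b, a⁆ = z) : b * (a * a) = a * a * b := by
  rw [← commutatorElement_eq_one_iff_mul_comm,
    show ⁅b, a * a⁆ = ⁅b, a⁆ * (a * ⁅b, a⁆ * a⁻¹) by simp only [commutatorElement_def]; group]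
  rcases h with h | h <;> rw [h]
  · simp
  · rw [Subgroup.mem_center_iff.1 hz a, mul_inv_cancel_right, h2]

variable [Finite T]

theorem card_sup_zpowers_le (hg : g ∈ Subgroup.normalizer (N : Set T)) (h2 : g * g ∈ N) :
    Nat.card (N ⊔ Subgroup.zpowers g : Subgroup T) ≤ Nat.card N * 2 := by
  rw [← card_mul_relIndex (le_sup_left : N ≤ _)]
  exact Nat.mul_le_mul_left _ (Nat.le_of_dvd two_pos (Subgroup.relIndex_dvd_two_iff.2
    ⟨g, Subgroup.mem_sup_right (Subgroup.mem_zpowers g), fun b => mem_or_mul_mem_of_mem_sup hg h2⟩))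

theorem le_of_gen (hg : Subgroup.closure {a, t} = ⊤) (h : A.index = 2) (ha : a ∈ A) (ht : t ∉ A)
    (h1 : a ∈ N) (h2 : t * a * t⁻¹ ∈ N) (h3 : t * t ∈ N) : A ≤ N := by
  set K := Subgroup.closure {a, t * a * t⁻¹, t * t}
  have h4 : ∀ N : Subgroup T, a ∈ N → t * a * t⁻¹ ∈ N → t * t ∈ N → K ≤ N := fun N h1 h2 h3 =>
    (Subgroup.closure_le _).2 (Set.insert_subset h1 (Set.pair_subset h2 h3))
  have h5 : a ∈ K := Subgroup.subset_closure (by simp)
  have h6 : t * a * t⁻¹ ∈ K := Subgroup.subset_closure (by simp)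
  have h7 : t * t ∈ K := Subgroup.subset_closure (by simp)
  have h8 : t ∈ Subgroup.normalizer (K : Set T) := Subgroup.mem_normalizer_fintype fun b hb =>
    h4 (K.comap (MulAut.conj t).toMonoidHom) h6
      (by simpa [mul_assoc] using mul_mem (mul_mem h7 h5) (inv_mem h7))
      (by simpa [mul_assoc] using h7) hb
  have h9 := h4 A ha ((Subgroup.normal_of_index_eq_two h).conj_mem a ha t)
    (Subgroup.mul_self_mem_of_index_two h t)
  refine fun b hb => h4 N h1 h2 h3 ((mem_or_mul_mem_of_mem_sup h8 h7 ((eq_top_of_gen hg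
    (Subgroup.mem_sup_left h5) (Subgroup.mem_sup_right (Subgroup.mem_zpowers t))).ge
      trivial)).resolve_left fun h10 => ht ((mul_mem_cancel_left hb).1 (h9 h10)))

theorem mem_normalizer_of_sq (h : ∀ a, a * a ∈ N) (g : T) : g ∈ Subgroup.normalizer (N : Set T) :=
  Subgroup.mem_normalizer_fintype fun b hb => by
    simpa [mul_assoc] using mul_mem (mul_mem (h (g * b)) (inv_mem hb)) (h g⁻¹)

theorem index_le_four_of_gen (hg : Subgroup.closure {x, y} = ⊤) (h : ∀ a, a * a ∈ N) :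
    N.index ≤ 4 := by
  have h1 := card_sup_zpowers_le (mem_normalizer_of_sq h x) (h x)
  have h2 := card_sup_zpowers_le (mem_normalizer_of_sq (N := N ⊔ Subgroup.zpowers x)
    (fun a => Subgroup.mem_sup_left (h a)) y) (Subgroup.mem_sup_left (h y))
  rw [eq_top_of_gen hg (Subgroup.mem_sup_left (Subgroup.mem_sup_right (Subgroup.mem_zpowers x)))
    (Subgroup.mem_sup_right (Subgroup.mem_zpowers y)), Subgroup.card_top, ← N.card_mul_index] at h2
  exact Nat.le_of_mul_le_mul_left (by omega) (Nat.card_pos (α := N))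

/-- no subgroup of index at most two is abelian -/
def NoAb (T : Type u) [Group T] : Prop :=
  ∀ H : Subgroup T, H.index ≤ 2 → ∃ a ∈ H, ∃ b ∈ H, ⁅a, b⁆ ≠ 1

theorem NoAb.two_lt (h : NoAb T) (g : T) :
    2 < (Subgroup.zpowers (g : T ⧸ Subgroup.center T)).index := lt_of_not_ge fun h1 => by
  obtain ⟨a, ⟨i, ha⟩, b, ⟨j, hb⟩, h2⟩ := h ((Subgroup.zpowers (g : T ⧸ Subgroup.center T)).comap
    (QuotientGroup.mk' _)) ((Subgroup.index_comap_of_surjective _
      (QuotientGroup.mk'_surjective _)).trans_le h1)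
  have h3 : ∀ (i : ℤ) (a : T), (g : T ⧸ Subgroup.center T) ^ i = a →
      ∃ z ∈ Subgroup.center T, a = g ^ i * z := fun i a h3 =>
    ⟨_, QuotientGroup.eq.1 h3, by simp⟩
  obtain ⟨v, hv, rfl⟩ := h3 i a ha
  obtain ⟨w, hw, rfl⟩ := h3 j b hb
  exact h2 (Commute.commutator_eq (((Commute.zpow_zpow_self g i j).mul_right
    (Subgroup.mem_center_iff.1 hw _)).mul_left (mul_comm_of_mem_center hv _)))

theorem NoAb.not_sq_cen (h : NoAb T) (hg : Subgroup.closure {x, y} = ⊤) :
    ¬ ∀ a : T, a * a ∈ Subgroup.center T := fun h1 => by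
  have h2 := index_le_four_of_gen hg h1
  have h3 := h.two_lt x
  have h4 := (Subgroup.zpowers (x : T ⧸ Subgroup.center T)).card_mul_index
  rw [← Subgroup.index_eq_card] at h4
  have h5 : Subgroup.zpowers (x : T ⧸ Subgroup.center T) = ⊥ := (Subgroup.card_le_one_iff_eq_bot _).1
    (by nlinarith)
  have h6 := h.two_lt y
  rw [eq_top_of_gen (N := Subgroup.zpowers (y : T ⧸ Subgroup.center T))
    (x := (x : T ⧸ Subgroup.center T)) (y := y) ?_
    (by simp [Subgroup.zpowers_eq_bot.1 h5]) (Subgroup.mem_zpowers _)] at h6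
  · simp at h6
  · have := congrArg (Subgroup.map (QuotientGroup.mk' (Subgroup.center T))) hg
    rwa [MonoidHom.map_closure, Set.image_pair, Subgroup.map_top_of_surjective _
      (QuotientGroup.mk'_surjective _)] at this

/-- the structure of the groups of order `32` without abelian maximal subgroups -/
structure NAb {T : Type u} [Group T] (z c : T) (F K : Subgroup T) : Prop where
  card : Nat.card T = 32
  na : NoAb T
  cen : ∀ a, a ∈ Subgroup.center T ↔ a = 1 ∨ a = z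
  ne : z ≠ 1
  memF : ∀ a, a ∈ F ↔ ∀ t : T, ⁅t, a⁆ ∈ Subgroup.center T
  cardF : Nat.card F = 8
  memK : ∀ a, a ∈ K ↔ a ∈ Subgroup.center T ∨ c⁻¹ * a ∈ Subgroup.center T
  cardK : Nat.card K = 4
  le : K ≤ F
  notMem : c ∉ Subgroup.center T
  comm : ∀ a b : T, ⁅a, b⁆ ∈ K
  eq : ∃ a b : T, c = ⁅a, b⁆
  sq : ∀ a, a * a ∈ F
  idx : ∀ N : Subgroup T, (∀ a, a * a ∈ N) → N.index ≤ 4

theorem exists_nAb (hc : Nat.card T = 32) (hg : Subgroup.closure {x, y} = ⊤) (h : NoAb T) :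
    ∃ (z c : T) (F K : Subgroup T), NAb z c F K := by
  set Z := Subgroup.center T
  have hT : IsPGroup 2 T := IsPGroup.of_card (n := 5) hc
  have : Nontrivial T := Finite.one_lt_card_iff_nontrivial.1 (by omega)
  have h1 : 1 < Nat.card Z := Finite.one_lt_card_iff_nontrivial.2 hT.center_nontrivial
  have h2 := Z.card_mul_index.trans hc
  have h3 : ∀ g : T, orderOf (g : T ⧸ Z) * 2 < Z.index := fun g => by
    have := (Subgroup.zpowers (g : T ⧸ Z)).card_mul_index
    rw [← Subgroup.index_eq_card, Nat.card_zpowers] at this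
    nlinarith [h.two_lt g, orderOf_pos (g : T ⧸ Z)]
  obtain ⟨u, hu⟩ := not_forall.1 (h.not_sq_cen hg)
  have h4 := four_le_orderOf (hT.to_quotient Z) (a := u) (mt (QuotientGroup.eq_one_iff _).1 hu)
  have h5 : Nat.card Z = 2 := by
    have h5 := h3 u
    have : Nat.card Z ≤ 3 := by nlinarith
    interval_cases Nat.card Z <;> omega
  have h6 : Z.index = 16 := by rw [h5] at h2; omega
  obtain ⟨c', w, h7, -⟩ := exists_cls2F_of_sixteen (T := T ⧸ Z) h6 (fun h7 => h.not_sq_cen hg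
    fun a => Subgroup.mem_center_iff.2 fun b => by
      have h8 : ⁅b, a⁆ ∈ Z := Subgroup.Normal.quotient_commutative_iff_commutator_le.1 h7
        (Subgroup.commutator_mem_commutator trivial trivial)
      exact mul_sq_comm h8 (mul_self_of_card_le_two h5.le h8) (Or.inr rfl)) fun a => by
      obtain ⟨a, rfl⟩ := QuotientGroup.mk_surjective a
      obtain ⟨k, hk⟩ := IsPGroup.iff_orderOf.1 (hT.to_quotient Z) a
      have := h3 a
      rw [← orderOf_dvd_iff_pow_eq_one, hk]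
      exact pow_dvd_pow 2 (show k ≤ 2 from by_contra fun h8 => by
        have := Nat.pow_le_pow_right two_pos (not_le.1 h8); omega)
  obtain ⟨a, b, h8⟩ := h7.exists_not_comm
  obtain ⟨a, rfl⟩ := QuotientGroup.mk_surjective a
  obtain ⟨b, rfl⟩ := QuotientGroup.mk_surjective b
  obtain rfl : ((⁅a, b⁆ : T) : T ⧸ Z) = c' :=
    (h7.commutator a b).resolve_left (mt commutatorElement_eq_one_iff_mul_comm.1 h8)
  obtain ⟨z, h9, h10⟩ := (Nat.card_eq_two_iff' (1 : Z)).1 h5
  have h11 : ∀ N : Subgroup (T ⧸ Z), Nat.card (N.comap (QuotientGroup.mk' Z)) = Nat.card N * 2 :=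
    fun N => by
      have h11 := (N.comap (QuotientGroup.mk' Z)).card_mul_index
      have h12 := N.card_mul_index
      rw [Subgroup.index_comap_of_surjective _ (QuotientGroup.mk'_surjective _)] at h11
      rw [← Subgroup.index_eq_card] at h12
      exact Nat.eq_of_mul_eq_mul_right (Nat.pos_of_ne_zero N.index_ne_zero_of_finite) (by nlinarith)
  refine ⟨z, ⁅a, b⁆, (Subgroup.center (T ⧸ Z)).comap (QuotientGroup.mk' Z),
    (Subgroup.zpowers ((⁅a, b⁆ : T) : T ⧸ Z)).comap (QuotientGroup.mk' Z), hc, h, fun g =>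
      ⟨fun hg => or_iff_not_imp_left.2 fun h12 => congrArg Subtype.val
        (h10 ⟨g, hg⟩ (mt (congrArg Subtype.val) h12)), by rintro (rfl | rfl); exacts [one_mem _, z.2]⟩,
    fun h12 => h9 (Subtype.ext h12), fun g => ?_, ?_, fun g => ⟨fun hg => ?_, ?_⟩, ?_,
    Subgroup.comap_mono (Subgroup.zpowers_le.2 h7.cen), mt (QuotientGroup.eq_one_iff _).2 h7.ne,
    fun u v => ?_, ⟨a, b, rfl⟩, fun u => h7.sq_cen u, fun N => index_le_four_of_gen hg⟩
  · rw [Subgroup.mem_comap, Subgroup.mem_center_iff, QuotientGroup.forall_mk]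
    exact forall_congr' fun t =>
      commutatorElement_eq_one_iff_mul_comm.symm.trans (QuotientGroup.eq_one_iff ⁅t, g⁆)
  · have := (Subgroup.center (T ⧸ Z)).card_mul_index
    rw [h7.idx, ← Subgroup.index_eq_card] at this
    rw [h11]; omega
  · exact (eq_or_of_mem_zpowers_invol h7.sq hg).imp (QuotientGroup.eq_one_iff _).1
      fun h12 => QuotientGroup.eq.1 h12.symm
  · rintro (hg | hg)
    exacts [⟨0, (zpow_zero _).trans ((QuotientGroup.eq_one_iff _).2 hg).symm⟩,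
      ⟨1, (zpow_one _).trans (QuotientGroup.eq.2 hg)⟩]
  · rw [h11, Nat.card_zpowers, h7.orderOf_eq]
  · rcases h7.commutator u v with h12 | h12
    exacts [⟨0, (zpow_zero _).trans h12.symm⟩, ⟨1, (zpow_one _).trans h12.symm⟩]

namespace NAb
variable {F K H : Subgroup T} {u b : T} (h : NAb z c F K)
include h

theorem z_cen : z ∈ Subgroup.center T := (h.cen z).2 (Or.inr rfl)

theorem z_sq : z * z = 1 :=
  ((h.cen _).1 (mul_mem h.z_cen h.z_cen)).resolve_right (by simpa using h.ne)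

theorem cen_le : Subgroup.center T ≤ K := fun a ha => (h.memK a).2 (Or.inl ha)

theorem c_mem : c ∈ K := (h.memK c).2 (Or.inr (by simp))

theorem sq_cen (ha : a ∈ F) : a * a ∈ Subgroup.center T := Subgroup.mem_center_iff.2 fun b =>
  mul_sq_comm h.z_cen h.z_sq ((h.cen _).1 ((h.memF a).1 ha b))

theorem index_F : F.index = 4 := by
  have := F.card_mul_index
  rw [h.card, h.cardF] at this
  omega

theorem index_le (ha : a ∈ F) : (Subgroup.centralizer {a}).index ≤ 2 :=
  (index_centralizer_le_card ((h.memF a).1 ha)).trans (by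
    have := Subgroup.card_le_of_le (show Subgroup.center T ≤ Subgroup.zpowers z from fun b hb => by
      rcases (h.cen b).1 hb with rfl | rfl
      exacts [one_mem _, Subgroup.mem_zpowers _])
    rwa [Nat.card_zpowers, orderOf_eq_prime ((pow_two z).trans h.z_sq) h.ne] at this)

theorem index_eq (ha : a ∈ F) (h1 : a ∉ Subgroup.center T) :
    (Subgroup.centralizer {a}).index = 2 := by
  have h2 := h.index_le ha
  have h3 : (Subgroup.centralizer {a}).index ≠ 1 := fun h3 => h1 (Subgroup.mem_center_iff.2 fun g =>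
    Subgroup.mem_centralizer_singleton_iff.1 ((Subgroup.index_eq_one.1 h3).ge trivial))
  have := (Subgroup.centralizer {a}).index_ne_zero_of_finite
  omega

theorem le_of_index (hH : H.index ≤ 2) : F ≤ H := by
  have h1 : ∀ a, a * a ∈ H := fun a => by_contra fun h1 => h1 (mul_mem_of_relIndex_le_two
    (Q := ⊤) (by rwa [Subgroup.relIndex_top_right]) trivial trivial (mt (fun h => mul_mem h h) h1)
      (mt (fun h => mul_mem h h) h1))
  by_contra h2
  have h3 := two_mul_index_le_of_lt (inf_lt_left.2 h2)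
  have h4 := h.idx (F ⊓ H) fun a => ⟨h.sq a, h1 a⟩
  have := h.index_F
  omega

theorem comm_F (ha : a ∈ F) (hb : b ∈ F) : a * b = b * a :=
  Subgroup.mem_centralizer_singleton_iff.1 (h.le_of_index (h.index_le hb) ha)

theorem card_of_index (hH : H.index = 2) : Nat.card H = Nat.card F * 2 := by
  have := H.card_mul_index
  rw [h.card, hH] at this
  rw [h.cardF]
  omega

theorem comm_cen (hH : H.index = 2) (ha : a ∈ H) (hb : b ∈ H) : ⁅a, b⁆ ∈ Subgroup.center T := by
  by_cases h1 : a ∈ F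
  · exact inv_mem_iff.1 (commutatorElement_inv a b ▸ (h.memF a).1 h1 b)
  rcases mem_or_inv_mul_mem (h.le_of_index hH.le) (h.card_of_index hH) ha h1 hb with h2 | h2
  · exact (h.memF b).1 h2 a
  · simpa [commutatorElement_def, mul_assoc] using
      Subgroup.Normal.conj_mem inferInstance _ ((h.memF _).1 h2 a) a

theorem exists_comm (hH : H.index = 2) : ∃ a ∈ H, ∃ b ∈ H, ⁅a, b⁆ = z := by
  obtain ⟨a, ha, b, hb, h1⟩ := h.na H hH.le
  exact ⟨a, ha, b, hb, ((h.cen _).1 (h.comm_cen hH ha hb)).resolve_left h1⟩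

theorem mem_of_comm (hu : ∀ f ∈ F, f * u = u * f) : u ∈ F := by
  by_contra h1
  have h2 := two_mul_index_le_of_lt (lt_of_le_not_ge (le_sup_left (b := Subgroup.zpowers u))
    fun h2 => h1 (h2 (Subgroup.mem_sup_right (Subgroup.mem_zpowers u))))
  obtain ⟨a, ha, b, hb, h3⟩ := h.na (F ⊔ Subgroup.zpowers u) (by have := h.index_F; omega)
  refine h3 (commutatorElement_eq_one_iff_mul_comm.2 (comm_of_relIndex_le_two (Z := F)
    (Nat.le_of_dvd two_pos (Subgroup.relIndex_dvd_two_iff.2 ⟨u, Subgroup.mem_sup_right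
      (Subgroup.mem_zpowers u), fun b => mem_or_mul_mem_of_mem_sup
        (mem_normalizer_of_sq h.sq u) (h.sq u)⟩)) (fun f hf g hg => ?_) ha hb))
  exact (sup_le (fun g hg f hf => h.comm_F hf hg) (Subgroup.zpowers_le.2 hu) :
    _ ≤ Subgroup.centralizer (F : Set T)) hg f hf

theorem exists_conj (hu : u ∉ F) : ∃ f, f * u * f⁻¹ = z * u := by
  obtain ⟨f, hf⟩ := not_forall.1 (mt h.mem_of_comm hu)
  obtain ⟨h1, h2⟩ := Classical.not_imp.1 hf
  have h3 := ((h.cen _).1 (inv_mem_iff.1 (commutatorElement_inv f u ▸ (h.memF f).1 h1 u))).resolve_left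
    (mt commutatorElement_eq_one_iff_mul_comm.1 h2)
  exact ⟨f, by rw [← h3, commutatorElement_def, inv_mul_cancel_right]⟩

theorem comm_K (hu : u * c = c * u) (ha : a ∈ K) : u * a = a * u := by
  rcases (h.memK a).1 ha with h1 | h1
  · exact Subgroup.mem_center_iff.1 h1 u
  · simpa [commute_iff_eq] using Commute.mul_right hu (Subgroup.mem_center_iff.1 h1 u)

theorem card_F : Nat.card F = Nat.card K * 2 := by rw [h.cardF, h.cardK]

theorem sq_mem (hu : u * c = c * u) : u * u ∈ K := by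
  by_contra h1
  refine h1 (h.cen_le (h.sq_cen (h.mem_of_comm fun f hf => ?_)))
  rcases mem_or_inv_mul_mem h.le h.card_F (h.sq u) h1 hf with h2 | h2
  · exact (h.comm_K hu h2).symm
  · simpa [commute_iff_eq, mul_assoc] using
      ((Commute.refl u).mul_right (Commute.refl u)).mul_right (h.comm_K hu h2) |>.symm

theorem comm_c (hu : u * u ∈ K) : u * c = c * u := by
  by_contra h1
  have h2 := h.idx K fun g => by
    by_cases h2 : g * c = c * g
    · exact h.sq_mem h2
    · have h3 := (Subgroup.mul_mem_iff_of_index_two (h.index_eq (h.le h.c_mem) h.notMem)).2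
        (iff_of_false (mt Subgroup.mem_centralizer_singleton_iff.1 h2)
          (mt (Subgroup.mem_centralizer_singleton_iff.1 ∘ inv_mem_iff.1) h1))
      simpa [commutatorElement_def, mul_assoc] using mul_mem (mul_mem
        (h.sq_mem (Subgroup.mem_centralizer_singleton_iff.1 h3)) (h.comm (g * u⁻¹)⁻¹ u)) hu
  have := K.card_mul_index
  rw [h.card, h.cardK] at this
  omega

end NAb

theorem false_of_center_two (hc : Nat.card T = 64) (hg : Subgroup.closure {x, y} = ⊤)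
    (h8 : ∀ a : T, a ^ 8 = 1) (hz : z ∈ Subgroup.center T) (hz2 : z * z = 1)
    (hZ : Subgroup.center T ≤ Subgroup.zpowers z) (hA : A.index = 2) (hzA : z ∈ A)
    (h : ∀ a ∈ A, ∀ b ∈ A, ⁅a, b⁆ = 1 ∨ ⁅a, b⁆ = z) : False := by
  obtain ⟨a, ha, t, ht, hg⟩ := exists_gen_of_index_two hg hA
  have h1 := fun g h1 h2 => hZ (mem_center_of_gen (g := g) hg h1 h2)
  have h2 : ∀ N : Subgroup T, z ∈ N → N ≤ A → ∀ g ∈ A, g * g ∈ N →
      Nat.card (N ⊔ Subgroup.zpowers g : Subgroup T) ≤ Nat.card N * 2 := fun N h2 h3 g hg =>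
    card_sup_zpowers_le (Subgroup.mem_normalizer_fintype fun u hu => by
      rw [show g * u * g⁻¹ = ⁅g, u⁆ * u by simp [commutatorElement_def]]
      rcases h g hg u (h3 hu) with h4 | h4 <;> rw [h4]
      exacts [mul_mem (one_mem _) hu, mul_mem h2 hu])
  obtain ⟨b, hb⟩ : ∃ b, b = t * a * t⁻¹ := ⟨_, rfl⟩
  obtain ⟨s, hs⟩ : ∃ s, s = t * t := ⟨_, rfl⟩
  have hbA : b ∈ A := hb ▸ (Subgroup.normal_of_index_eq_two hA).conj_mem a ha t
  have hsA : s ∈ A := hs ▸ Subgroup.mul_self_mem_of_index_two hA t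
  have hz' : ∀ g w, g * (z * w) = z * (g * w) := fun g w => by
    rw [← mul_assoc, Subgroup.mem_center_iff.1 hz g, mul_assoc]
  have hzz : ∀ w, z * (z * w) = w := fun w => by rw [← mul_assoc, hz2, one_mul]
  have h3 : ∀ u ∈ A, ∀ v ∈ A, ∃ k, (k = 1 ∨ k = z) ∧ ∀ w, u * (v * w) = k * (v * (u * w)) :=
    fun u hu v hv => ⟨⁅u, v⁆, h u hu v hv, by simp [commutatorElement_def, mul_assoc]⟩
  have hsq := fun u hu v hv => mul_sq_comm hz hz2 (h u hu v hv)
  obtain ⟨α, α1, α2⟩ := h3 b hbA a ha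
  obtain ⟨β, β1, β2⟩ := h3 s hsA a ha
  have h4 : ∀ w, t * (a * w) = b * (t * w) := by simp [hb, mul_assoc]
  have h5 : ∀ w, t * (b * w) = β * (a * (t * w)) := fun w => by
    simpa [hb, hs, mul_assoc] using β2 (t⁻¹ * w)
  have e0 := Subgroup.mem_center_iff.1 hz
  have e1 : b * a = α * (a * b) := by simpa using α2 1
  have e2 : s * a = β * (a * s) := by simpa using β2 1
  have e4 : t * a = b * t := by simpa using h4 1
  have e5 : t * b = β * (a * t) := by simpa using h5 1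
  have h6 : a * b * (a * b) ∈ Subgroup.zpowers z := h1 _ (hsq a ha _ (mul_mem ha hbA)) (by
    rcases α1 with rfl | rfl <;> rcases β1 with rfl | rfl <;>
      simp only [mul_assoc, h4, h5, α2, one_mul, hz', hzz, e1, e5])
  have h7 : a * a * (b * b) ∈ Subgroup.zpowers z := by
    rcases α1 with rfl | rfl
    · simpa only [mul_assoc, α2, one_mul] using h6
    · simpa only [mul_assoc, α2, hz', hzz] using mul_mem (Subgroup.mem_zpowers _) h6
  have h9 : ∀ w, a⁻¹ * (a⁻¹ * (a⁻¹ * (a⁻¹ * w))) = a * (a * (a * (a * w))) := fun w => by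
    rw [← one_mul (a⁻¹ * _), ← h8 a]; simp [pow_succ, mul_assoc]
  obtain ⟨ζ, ζ1, ζ2⟩ : ∃ ζ, (ζ = 1 ∨ ζ = z) ∧ ∀ w, b * (b * w) = ζ * (a⁻¹ * (a⁻¹ * w)) := by
    refine ⟨_, eq_or_of_mem_zpowers_invol hz2 h7, fun w => ?_⟩
    rw [← mul_assoc a⁻¹, ← mul_assoc, ← mul_assoc, ← mul_inv_rev,
      ← Subgroup.mem_center_iff.1 (Subgroup.zpowers_le.2 hz h7), inv_mul_cancel_left]
  have h10 : a * a * (a * a) ∈ Subgroup.zpowers z := h1 _ (by group) (by
    rcases ζ1 with rfl | rfl <;> simp only [mul_assoc, h4, e4, ζ2, one_mul, hz', hzz, h9])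
  have h11 : s * s ∈ Subgroup.zpowers z := h1 _ (hsq a ha s hsA) (by rw [hs]; group)
  have hn := mul_mem ha hbA
  set N₀ := Subgroup.zpowers z
  set N₁ := N₀ ⊔ Subgroup.zpowers (a * a) with hN₁
  set N₂ := N₁ ⊔ Subgroup.zpowers a
  set N₃ := N₂ ⊔ Subgroup.zpowers (a * b) with hN₃
  set N₄ := N₃ ⊔ Subgroup.zpowers s with hN₄
  have l0 : N₀ ≤ A := Subgroup.zpowers_le.2 hzA
  have l1 : N₁ ≤ A := sup_le l0 (Subgroup.zpowers_le.2 (mul_mem ha ha))
  have l2 : N₂ ≤ A := sup_le l1 (Subgroup.zpowers_le.2 ha)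
  have l3 : N₃ ≤ A := sup_le l2 (Subgroup.zpowers_le.2 hn)
  have m0 : z ∈ N₀ := Subgroup.mem_zpowers z
  have m1 : N₀ ≤ N₁ := le_sup_left
  have m2 : N₁ ≤ N₂ := le_sup_left
  have m3 : N₂ ≤ N₃ := le_sup_left
  have m4 : N₃ ≤ N₄ := le_sup_left
  have a1 : a * a ∈ N₁ := Subgroup.mem_sup_right (Subgroup.mem_zpowers _)
  have a2 : a ∈ N₂ := Subgroup.mem_sup_right (Subgroup.mem_zpowers _)
  have a3 : a * b ∈ N₃ := Subgroup.mem_sup_right (Subgroup.mem_zpowers _)
  have c0 : Nat.card N₀ ≤ 2 := by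
    rw [Nat.card_zpowers]; exact orderOf_le_of_pow_eq_one two_pos ((pow_two z).trans hz2)
  have c1 : Nat.card N₁ ≤ _ := h2 N₀ m0 l0 _ (mul_mem ha ha) h10
  have c2 : Nat.card N₂ ≤ _ := h2 N₁ (m1 m0) l1 _ ha a1
  have c3 : Nat.card N₃ ≤ _ := h2 N₂ (m2 (m1 m0)) l2 _ hn (m2 (m1 h6))
  have c4 : Nat.card N₄ ≤ _ := h2 N₃ (m3 (m2 (m1 m0))) l3 _ hsA (m3 (m2 (m1 h11)))
  have c5 := Subgroup.card_le_of_le (le_of_gen (N := N₄) hg hA ha ht (m4 (m3 a2))
    (hb ▸ m4 ((mul_mem_cancel_left (m3 a2)).1 a3))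
    (hs ▸ Subgroup.mem_sup_right (Subgroup.mem_zpowers _)))
  have c6 := A.card_mul_index
  rw [hA, hc] at c6
  have d1 : a * a ∉ N₀ := fun h => by
    rw [hN₁, sup_eq_left.2 (Subgroup.zpowers_le.2 h)] at c2; omega
  have d2 : a * b ∉ N₂ := fun h => by
    rw [hN₃, sup_eq_left.2 (Subgroup.zpowers_le.2 h)] at c4; omega
  have d3 : s ∉ N₃ := fun h => by
    rw [hN₄, sup_eq_left.2 (Subgroup.zpowers_le.2 h)] at c5; omega
  have e6 : t * s = s * t := by rw [hs, mul_assoc]
  rcases β1 with rfl | rfl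
  · exact d3 (m3 (m2 (m1 (h1 s (by rw [e2, one_mul]) e6))))
  rcases α1 with rfl | rfl
  swap
  · refine d3 ((mul_mem_cancel_left a3).1 (m3 (m2 (m1 (h1 _ ?_ ?_))))) <;>
      simp only [mul_assoc, h4, h5, α2, e2, hz', hzz, e6]
  have h12 : ∀ w, b * (b * w) = (a * a * (a * a))⁻¹ * ζ * (a * (a * w)) := fun w => by
    rcases ζ1 with rfl | rfl <;> simp only [ζ2, mul_assoc, hz', mul_inv_rev, one_mul] <;> group
  rcases eq_or_of_mem_zpowers_invol hz2 (mul_mem (inv_mem h10) (show ζ ∈ N₀ by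
    rcases ζ1 with rfl | rfl; exacts [one_mem _, m0])) with h13 | h13 <;> rw [h13] at h12
  · exact d1 (h1 _ (mul_assoc ..).symm (by simp only [mul_assoc, h4, e4, h12, one_mul]))
  · refine d2 ((mul_mem_cancel_left (m2 a1)).1 (m2 (m1 (h1 _ ?_ ?_))))
    · simp only [mul_assoc, α2, e1, one_mul]
    · simp only [mul_assoc, h4, e5, h12, hz', hzz]
      simp only [α2, one_mul]

/-- `A` has index two and its derived subgroup lies in `{1, z}` -/
def DerIn (A : Subgroup T) (z : T) : Prop :=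
  A.index = 2 ∧ ∀ a ∈ A, ∀ b ∈ A, ⁅a, b⁆ = 1 ∨ ⁅a, b⁆ = z

theorem NoAb.false_of_three (h : NoAb T) (hg : Subgroup.closure {x, y} = ⊤) {z₁ z₂ z₃ : T}
    {A₁ A₂ A₃ : Subgroup T} (h1 : DerIn A₁ z₁) (h2 : DerIn A₂ z₂) (h3 : DerIn A₃ z₃)
    (hz : z₁ ∈ Subgroup.center T) (hz2 : z₁ * z₁ = 1) (n12 : z₁ ≠ z₂) (n13 : z₁ ≠ z₃)
    (n23 : z₂ ≠ z₃) : False := by
  have hne : ∀ {A A' : Subgroup T} {z z' : T}, DerIn A z → DerIn A' z' → z ≠ z' → ¬ A ≤ A' :=
    fun hA hA' hn hl => by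
      obtain ⟨a, ha, b, hb, h4⟩ := h _ hA.1.le
      exact hn (((hA.2 a ha b hb).resolve_left h4).symm.trans
        ((hA'.2 a (hl ha) b (hl hb)).resolve_left h4))
  have hsq : ∀ a, a * a ∈ A₁ ⊓ A₂ ⊓ A₃ := fun a => ⟨⟨Subgroup.mul_self_mem_of_index_two h1.1 a,
    Subgroup.mul_self_mem_of_index_two h2.1 a⟩, Subgroup.mul_self_mem_of_index_two h3.1 a⟩
  have aux : ∀ f ∈ A₁ ⊓ A₂ ⊓ A₃, ∀ u ∉ A₁ ⊓ A₂ ⊓ A₃, u * f = f * u → f ∈ Subgroup.center T := by
    intro f hf u hu h4
    set H := Subgroup.centralizer {f}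
    have h5 := two_mul_index_le_of_lt (lt_of_le_not_ge (show A₁ ⊓ A₂ ⊓ A₃ ≤ H from fun g hg =>
      Subgroup.mem_centralizer_singleton_iff.2 (commutatorElement_eq_one_iff_mul_comm.1
        (by_contra fun h5 => n12 (((h1.2 g hg.1.1 f hf.1.1).resolve_left h5).symm.trans
          ((h2.2 g hg.1.2 f hf.1.2).resolve_left h5)))))
      fun h5 => hu (h5 (Subgroup.mem_centralizer_singleton_iff.2 h4)))
    have h6 := index_le_four_of_gen hg hsq
    by_contra h7
    have h8 : H.index ≠ 1 := fun h8 => h7 (Subgroup.mem_center_iff.2 fun g =>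
      Subgroup.mem_centralizer_singleton_iff.1 ((Subgroup.index_eq_one.1 h8).ge trivial))
    have h9 := H.index_ne_zero_of_finite
    have h10 : ∀ {A : Subgroup T} {z : T}, DerIn A z → f ∈ A → A = H ∨ ∃ v ∉ H, ⁅v, f⁆ = z :=
      fun hA hf => (em (_ ≤ H)).imp (fun h10 => h10.eq_of_not_lt fun h11 => by
        have := two_mul_index_le_of_lt h11; have := hA.1; omega) fun h10 => by
          obtain ⟨v, hv, h11⟩ := SetLike.not_le_iff_exists.1 h10
          exact ⟨v, h11, (hA.2 v hv f hf).resolve_left fun h12 => h11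
            (Subgroup.mem_centralizer_singleton_iff.2 (commutatorElement_eq_one_iff_mul_comm.1 h12))⟩
    have h11 : ∀ {z z' : T}, (∃ v ∉ H, ⁅v, f⁆ = z) → (∃ v ∉ H, ⁅v, f⁆ = z') → z = z' := by
      rintro _ _ ⟨v, hv, rfl⟩ ⟨w, hw, rfl⟩
      have h12 := Subgroup.mem_centralizer_singleton_iff.1 ((Subgroup.mul_mem_iff_of_index_two
        (show H.index = 2 by omega)).2 (iff_of_false (mt inv_mem_iff.1 hv) hw))
      rw [commutatorElement_def, commutatorElement_def, ← mul_inv_cancel_left v w, mul_assoc v _ f,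
        h12]
      group
    rcases h10 h1 hf.1.1 with h12 | h12 <;> rcases h10 h2 hf.1.2 with h13 | h13 <;>
      rcases h10 h3 hf.2 with h14 | h14
    exacts [hne h1 h2 n12 (h12.trans h13.symm).le, hne h1 h2 n12 (h12.trans h13.symm).le,
      hne h1 h3 n13 (h12.trans h14.symm).le, n23 (h11 h13 h14),
      hne h2 h3 n23 (h13.trans h14.symm).le, n13 (h11 h12 h14), n12 (h11 h12 h13),
      n12 (h11 h12 h13)]
  refine h.not_sq_cen hg fun g => ?_
  by_cases h4 : g ∈ A₁ ⊓ A₂ ⊓ A₃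
  · obtain ⟨u, h5, h6⟩ := SetLike.not_le_iff_exists.1 (hne h1 h2 n12)
    exact aux _ (hsq g) u (fun h7 => h6 h7.1.2) (mul_sq_comm hz hz2 (h1.2 u h5 g h4.1.1))
  · exact aux _ (hsq g) g h4 (mul_assoc ..).symm

theorem exists_central_of_card (hc : Nat.card T = 64) (hg : Subgroup.closure {x, y} = ⊤)
    (hZ : ∀ z ∈ Subgroup.center T, z * z = 1) (h8 : ∀ a : T, a ^ 8 = 1) :
    ∃ z ∈ Subgroup.center T, z ≠ 1 ∧
      ((∀ H : Subgroup T, H.index ≤ 2 → ∃ a ∈ H, ∃ b ∈ H, ⁅a, b⁆ ∉ Subgroup.zpowers z) ∨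
        ∃ a t : T, Subgroup.closure {a, t} = ⊤ ∧ a * (t * a * t⁻¹) = z ∧ t ^ 4 = 1) := by
  by_cases h : NoAb T
  · by_contra! h1
    have h2 : ∀ z ∈ Subgroup.center T, z ≠ 1 → ∃ A, DerIn A z := fun z hz h2 => by
      obtain ⟨H, h3, h4⟩ := (h1 z hz h2).1
      have h5 := fun a ha b hb => eq_or_of_mem_zpowers_invol (hZ z hz) (h4 a ha b hb)
      have h6 : H.index ≠ 1 := fun h6 => h.not_sq_cen hg fun a => Subgroup.mem_center_iff.2 fun b =>
        mul_sq_comm hz (hZ z hz) (h5 b ((Subgroup.index_eq_one.1 h6).ge trivial) a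
          ((Subgroup.index_eq_one.1 h6).ge trivial))
      have := H.index_ne_zero_of_finite
      exact ⟨H, by omega, h5⟩
    have : Nontrivial T := Finite.one_lt_card_iff_nontrivial.1 (by omega)
    have := (IsPGroup.of_card (p := 2) (n := 6) hc).center_nontrivial
    obtain ⟨⟨z, hz⟩, h3⟩ := exists_ne (1 : Subgroup.center T)
    replace h3 : z ≠ 1 := fun h => h3 (Subtype.ext h)
    obtain ⟨A, hA⟩ := h2 z hz h3
    by_cases h4 : Subgroup.center T ≤ Subgroup.zpowers z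
    · obtain ⟨a, ha, b, hb, h5⟩ := h A hA.1.le
      exact false_of_center_two hc hg h8 hz (hZ z hz) h4 hA.1 ((hA.2 a ha b hb).resolve_left h5 ▸
        mul_mem (mul_mem (mul_mem ha hb) (inv_mem ha)) (inv_mem hb)) hA.2
    obtain ⟨w, hw, h5⟩ := SetLike.not_le_iff_exists.1 h4
    have h6 : w ≠ 1 := fun h => h5 (h ▸ one_mem _)
    have h7 : z ≠ w := fun h => h5 (h ▸ Subgroup.mem_zpowers _)
    obtain ⟨A₂, hA₂⟩ := h2 w hw h6
    obtain ⟨A₃, hA₃⟩ := h2 _ (mul_mem hz hw) fun h => h7 (mul_right_cancel (h.trans (hZ w hw).symm))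
    exact h.false_of_three hg hA hA₂ hA₃ hz (hZ z hz) h7 (by simpa using h6) (by simpa using h3)
  simp only [NoAb, not_forall, not_exists, not_and, not_not] at h
  obtain ⟨A, h1, h2⟩ := h
  have h3 : IsMulCommutative A :=
    ⟨⟨fun a b => Subtype.ext (commutatorElement_eq_one_iff_mul_comm.1 (h2 a a.2 b b.2))⟩⟩
  have h4 : A.index ≠ 1 := fun h4 => by
    obtain rfl := Subgroup.index_eq_one.1 h4
    have := index_le_four_of_gen (N := ⊥) hg fun a => hZ a (Subgroup.mem_center_iff.2 fun b =>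
      setLike_mul_comm (S := Subgroup T) (s := ⊤) trivial trivial)
    rw [Subgroup.index_bot] at this
    omega
  have h5 := A.index_ne_zero_of_finite
  have hA : A.index = 2 := by omega
  obtain ⟨a, ha, t, ht, hg⟩ := exists_gen_of_index_two hg hA
  have h6 := (Subgroup.normal_of_index_eq_two hA).conj_mem a ha t
  have h7 := Subgroup.mul_self_mem_of_index_two hA t
  have h9 := mem_center_of_index_two hA h3 ht h7 (mul_assoc ..).symm
  refine ⟨_, mem_center_of_index_two hA h3 ht (mul_mem ha h6) ?_, fun h10 => ?_,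
    Or.inr ⟨a, t, hg, rfl, by simpa [pow_succ, mul_assoc] using hZ _ h9⟩⟩
  · rw [setLike_mul_comm ha h6, ← mul_assoc, ← mul_assoc, ← mul_assoc, mul_assoc (t * t),
      ← Subgroup.mem_center_iff.1 h9, ← setLike_mul_comm ha h6]
    group
  · have h11 := card_sup_zpowers_le (N := Subgroup.zpowers a) (Subgroup.center_le_normalizer _ h9)
      (hZ _ h9 ▸ one_mem _)
    have h12 := Subgroup.card_le_of_le (le_of_gen (N := Subgroup.zpowers a ⊔ Subgroup.zpowers (t * t))
      hg hA ha ht (Subgroup.mem_sup_left (Subgroup.mem_zpowers a)) (Subgroup.mem_sup_left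
        (eq_inv_of_mul_eq_one_right h10 ▸ inv_mem (Subgroup.mem_zpowers a)))
      (Subgroup.mem_sup_right (Subgroup.mem_zpowers _)))
    have h13 := A.card_mul_index
    have := orderOf_le_of_pow_eq_one (by norm_num) (h8 a)
    rw [Nat.card_zpowers] at h11
    rw [hA] at h13
    omega

end Cfsg
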