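import Cfsg.Agent.Blk.Idx16
import Cfsg.Agent.Blk.SecCentral

/-! Bounds for heights in `2`-blocks coming from the major subsections. -/

set_option autoImplicit false

namespace Cfsg

open scoped MonoidAlgebra ComplexConjugate

universe u

variable {M : Ideal AlgInt} {G : Type u} [Group G] [Fintype G] {B : Set (IrrCharacter G)}
  {P : Subgroup G} {e : (resK M)[G]}

namespace StarSetup
variable (S : StarSetup 2 M B P e)
include S

theorem card_center_mul_le_two {χ : IrrCharacter G} (hχ : χ ∈ B) (h0 : blockHeight 2 B χ.1 ≠ 0)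
    {n : ℕ} (hn : ∀ v : P,
      Nat.card {z : P // z ∈ Subgroup.center P ∧ PairFuse 2 P e (z : G) v} ≤ n) :
    Nat.card (Subgroup.center P) * 2 ^ (blockHeight 2 B χ.1 + 1) ≤ n * Nat.card P := by
  classical
  have := Fintype.ofFinite P
  have hM := S.hM
  have := hM.fact_prime
  have := hM.charP
  set Z := Finset.univ.filter (fun z : P => z ∈ Subgroup.center P) with hZ
  set m : P → ℝ := fun v => (S.mm v χ.1 χ.1).re with hm
  have hm0 : ∀ v, 0 ≤ m v := fun v => S.re_mm_self_nonneg χ.isClassFunction v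
  have h1 : ∑ v : P, m v / fuseCard 2 P e v = 1 := by
    have h2 := congrArg (fun θ => (classInner θ χ.1).re)
      (S.blockPart_eq_sum_secProj χ.isClassFunction)
    simp only [blockPart_irr_of_mem hχ, χ.classInner_self, Complex.one_re, classInner_sum_left,
      classInner_smul_left, Complex.re_sum] at h2
    rw [h2]
    refine Finset.sum_congr rfl fun v _ => ?_
    change _ = (_ * S.mm v χ.1 χ.1).re
    rw [← S.ofReal_re_mm_self χ.isClassFunction, ← Complex.ofReal_natCast,
      ← Complex.ofReal_one, ← Complex.ofReal_div, ← Complex.ofReal_mul, Complex.ofReal_re]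
    ring
  have h2 : ∀ z : P, m z = ∑ v : P, if PairFuse 2 P e (z : G) v then m v / fuseCard 2 P e v
      else 0 := fun z => by
    rw [← Finset.sum_filter, Finset.sum_congr rfl (g := fun _ => m z / fuseCard 2 P e z)
      fun v hv => ?_, Finset.sum_const, nsmul_eq_mul, ← Nat.card_eq_finsetCard]
    · have : Nat.card (Finset.univ.filter fun v : P => PairFuse 2 P e (z : G) v) =
          fuseCard 2 P e z := Nat.card_congr (Equiv.subtypeEquivRight fun v => by simp)
      rw [this, mul_div_cancel₀]
      exact Nat.cast_ne_zero.2 (fuseCard_pos S.isPair z).ne'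
    · have h := (Finset.mem_filter.1 hv).2
      simp only [hm]
      rw [fuseCard_congr S.isPair h, S.mm_congr χ.isClassFunction h]
  have h3 : ∑ z ∈ Z, m z ≤ n := by
    rw [Finset.sum_congr rfl fun z _ => h2 z, Finset.sum_comm, ← mul_one (Nat.cast _), ← h1,
      Finset.mul_sum]
    refine Finset.sum_le_sum fun v _ => ?_
    rw [← Finset.sum_filter, Finset.sum_const, nsmul_eq_mul, Finset.filter_filter]
    refine mul_le_mul_of_nonneg_right ?_ (div_nonneg (hm0 v) (Nat.cast_nonneg _))
    have := hn v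
    rw [Nat.card_eq_fintype_card, Fintype.card_subtype] at this
    exact_mod_cast this
  have hd : ∀ z ∈ Subgroup.center P, blockDefect 2 (S.below z) = blockDefect 2 B := fun z hz =>
    Nat.pow_right_injective le_rfl
      ((S.card_eq_pow_below (le_centralizer_of_mem_center hz)).symm.trans S.card_eq)
  obtain ⟨a, ha⟩ : ∃ a, blockDefect 2 B = a + 1 :=
    ⟨blockDefect 2 B - 1, by have := S.hB.blockHeight_add_two_le hM hχ h0; omega⟩
  have hP : Nat.card P = 2 ^ (a + 1) := ha ▸ S.card_eq
  have hord : ∀ z : P, orderOf (z : G) ∣ 2 ^ (a + 1) := fun z => by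
    rw [Subgroup.orderOf_coe, ← hP]; exact orderOf_dvd_natCard z
  have h4 : ∀ k ∈ coprExp (2 ^ (a + 1)), ∑ z ∈ Z, m (z ^ k) = ∑ z ∈ Z, m z := fun k hk => by
    have hk' := hP ▸ (mem_coprExp.1 hk).2
    refine Finset.sum_bij' (fun z _ => powCoprime hk' z) (fun z _ => (powCoprime hk').symm z)
      (fun z hz => ?_) (fun z hz => ?_)
      (fun z _ => Equiv.symm_apply_apply _ _) (fun z _ => Equiv.apply_symm_apply _ _) fun z _ => rfl
    · exact Finset.mem_filter.2 ⟨Finset.mem_univ _, pow_mem (Finset.mem_filter.1 hz).2 k⟩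
    · exact Finset.mem_filter.2 ⟨Finset.mem_univ _, zpow_mem (Finset.mem_filter.1 hz).2 _⟩
  have h5 : ∀ z ∈ Z, (2 : ℝ) ^ a * 2 ^ (blockHeight 2 B χ.1 + 1) ≤
      2 ^ (a + 1) * ∑ k ∈ coprExp (2 ^ (a + 1)), m (z ^ k) := fun z hz => by
    have hz' := (Finset.mem_filter.1 hz).2
    have hb := S.isInducedBlock_below z
    have h6 := hb.valM_secCon_of_height_pos hM (S.orderOf_eq z) rfl (hd z hz') hχ hχ h0
    obtain ⟨c, h7, h8, h9⟩ := hM.exists_sum_coprExp_two ((S.isBlockUnion_below z).secCon_mem_cycFam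
      hM rfl χ.isCharacter.isGeneralizedCharacter χ.isCharacter.isGeneralizedCharacter (hord z))
      (fun k _ => (S.isBlockUnion_below z).conj_secCon hM χ.isClassFunction χ.isClassFunction)
      (h := blockHeight 2 B χ.1) (by simpa using h6.le)
    have h10 : (c : resK M) = 0 := by
      rw [← h9, red_eq_zero_iff h8, pow_one, map_div₀, map_pow,
        div_lt_one₀ (pow_pos (by simpa using hM.valM_p_pos) _)]
      simpa using h6
    rw [← red_intCast, red_eq_zero_iff (intCast_mem_valO _), hM.valM_intCast_lt_one_iff] at h10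
    have h11 : (2 : ℝ) ^ (a + 1) * ∑ k ∈ coprExp (2 ^ (a + 1)), m (z ^ k) =
        2 ^ a * 2 ^ blockHeight 2 B χ.1 * c := by
      apply Complex.ofReal_injective
      push_cast
      rw [← h7, Finset.mul_sum]
      refine Finset.sum_congr rfl fun k hk => ?_
      rw [hm, S.ofReal_re_mm_self χ.isClassFunction, secCon_eq, mm, S.secProj_below_pow
        χ.isClassFunction z ((mem_coprExp.1 hk).2.coprime_dvd_left (hord z)), hd z hz', ha]
      simp
    have h12 : 0 < ∑ k ∈ coprExp (2 ^ (a + 1)), m (z ^ k) :=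
      Finset.sum_pos' (fun _ _ => hm0 _) ⟨1, mem_coprExp.2 ⟨Nat.one_lt_two_pow (by omega),
        Nat.coprime_one_right _⟩, S.re_mm_self_pos_of_central hχ (fun x hx => by
          simpa using congrArg Subtype.val (Subgroup.mem_center_iff.1 hz' ⟨x, hx⟩))⟩
    have h13 : (0 : ℝ) < c := by
      have h13 := mul_pos (pow_pos two_pos (a + 1)) h12
      rw [h11] at h13
      exact (mul_pos_iff_of_pos_left (by positivity)).1 h13
    have h14 : (2 : ℝ) ≤ c := by exact_mod_cast Int.le_of_dvd (by exact_mod_cast h13) h10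
    rw [h11, pow_succ, ← mul_assoc]
    exact mul_le_mul_of_nonneg_left h14 (by positivity)
  have h6 := Finset.sum_le_sum h5
  rw [Finset.sum_const, ← Finset.mul_sum, Finset.sum_comm, Finset.sum_congr rfl h4,
    Finset.sum_const, card_coprExp, totient_two_pow_succ, nsmul_eq_mul, nsmul_eq_mul] at h6
  have h7 : Nat.card (Subgroup.center P) = Z.card := by
    rw [← Nat.card_eq_finsetCard]
    exact Nat.card_congr (Equiv.subtypeEquivRight fun z => by simp [hZ])
  have h8 : (2 : ℝ) ^ a * (Z.card * 2 ^ (blockHeight 2 B χ.1 + 1)) ≤ 2 ^ a * (n * 2 ^ (a + 1)) := by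
    push_cast at h6
    have := mul_le_mul_of_nonneg_left h3 (by positivity : (0 : ℝ) ≤ 2 ^ a * 2 ^ (a + 1))
    nlinarith
  rw [h7, hP]
  exact_mod_cast le_of_mul_le_mul_left h8 (by positivity)

/-- abelian defect group and inertial index at most three -/
theorem height_zero_of_le_three (hab : P ≤ Subgroup.centralizer (P : Set G))
    (hE : Nat.card (inAut P e) ≤ 3) {χ : IrrCharacter G} (hχ : χ ∈ B) :
    blockHeight 2 B χ.1 = 0 := by
  by_contra h0
  have := S.hM.fact_prime
  have := S.hM.charP
  have h1 := S.card_center_mul_le_two hχ h0 (n := 3) fun v => by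
    have h1 := S.fuseCard_mul_card hab v
    have h2 : fuseCard 2 P e v ≤ 3 := (Nat.le_of_dvd Nat.card_pos ⟨_, h1.symm⟩).trans hE
    exact le_trans (Nat.card_le_card_of_injective
      (β := {w : P // PairFuse 2 P e (v : G) w}) (fun z => ⟨z.1, z.2.2.symm⟩)
      fun a b h => Subtype.ext (by simpa using h)) h2
  have h2 : Subgroup.center P = ⊤ := (Subgroup.eq_top_iff' _).2 fun a =>
    Subgroup.mem_center_iff.2 fun b => Subtype.ext (hab a.2 b b.2)
  rw [h2, Subgroup.card_top, mul_comm] at h1
  have h3 := Nat.le_of_mul_le_mul_right h1 Nat.card_pos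
  have h4 : 2 ^ 2 ≤ 2 ^ (blockHeight 2 B χ.1 + 1) := Nat.pow_le_pow_right two_pos (by omega)
  omega

/-- nonabelian defect groups of order sixteen -/
theorem height_lt_of_sixteen (hP : Nat.card P = 16) (hT : ¬ IsMulCommutative P)
    {χ : IrrCharacter G} (hχ : χ ∈ B) :
    blockHeight 2 B χ.1 < (Subgroup.center P).index.factorization 2 := by
  have := S.hM.fact_prime
  have := S.hM.charP
  have h1 := card_commutator_mul_card_center_of_card_eq_pow_four (p := 2) hP hT
  have h2 : Nat.card (commutator P) ≠ 1 := fun h2 => hT ⟨⟨fun a b => by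
    rw [Subgroup.card_eq_one, commutator, Subgroup.commutator_eq_bot_iff_le_centralizer] at h2
    exact h2 (Subgroup.mem_top b) a trivial⟩⟩
  have : Nontrivial P := Finite.one_lt_card_iff_nontrivial.1 (by omega)
  have h3 := Finite.one_lt_card_iff_nontrivial.2 S.isPGroup.center_nontrivial
  have h4 := (Subgroup.center P).card_mul_index
  rw [hP] at h4
  have h5 : blockDefect 2 B = 4 := Nat.pow_right_injective le_rfl (S.card_eq.symm.trans hP)
  have h6 : blockHeight 2 B χ.1 ≤ 2 := by
    by_cases h0 : blockHeight 2 B χ.1 = 0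
    · omega
    · have := S.hB.blockHeight_add_two_le S.hM hχ h0; omega
  have h7 : Nat.card (Subgroup.center P) ≤ 8 := Nat.le_of_dvd (by norm_num) ⟨_, by
    rw [mul_comm]; exact h1.symm⟩
  have h8 : Nat.card (Subgroup.center P) = 2 ∨ Nat.card (Subgroup.center P) = 4 := by
    generalize Nat.card (Subgroup.center P) = x at *
    interval_cases x <;> omega
  rcases h8 with h8 | h8 <;> rw [h8] at h1 h4
  · rw [show (Subgroup.center P).index = 2 ^ 3 by omega, Nat.prime_two.factorization_pow]
    simp only [Finsupp.single_eq_same]; omega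
  have h9 : (Subgroup.center P).index = 4 := by omega
  obtain ⟨c, hc⟩ := exists_cls2_of_card (T := P) (by omega) h9
  obtain ⟨w, hw⟩ := hc.exists_four h8
  rw [h9, show 4 = 2 ^ 2 by rfl, Nat.prime_two.factorization_pow]
  simp only [Finsupp.single_eq_same]
  by_contra h10
  have h11 := S.card_center_mul_le_two hχ (by omega) (n := 1) fun v =>
    Finite.card_le_one_iff_subsingleton.2 ⟨fun a b => Subtype.ext
      (hw.nf S _ a.2.1 _ b.2.1 (a.2.2.trans S.isPair b.2.2.symm))⟩
  rw [h8, hP, show blockHeight 2 B χ.1 = 2 by omega] at h11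
  omega

/-- `k(B) = |P|` and a major subsection with `l ≤ 3` force height zero -/
theorem height_zero_of_card (hk : Nat.card B = Nat.card P) {v : P}
    (hv : P ≤ Subgroup.centralizer {(v : G)}) (hl : blockRank 2 (S.below v) ≤ 3)
    {χ : IrrCharacter G} (hχ : χ ∈ B) : blockHeight 2 B χ.1 = 0 := by
  classical
  have h1 := (Agent.S4540.result M S.hM B S.hB P S.isDefectGroup v v.2
    (fun d hd => Subgroup.mem_centralizer_singleton_iff.1 (hv hd)) _ (S.isInducedBlock_below v)
    (S.isDefectGroup_below hv) hl).2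
  rw [natCard_subtype_mem_and, finsum_mem_and, ← S.card_eq, ← hk, ← card_irrFinset,
    ← Finset.card_filter_add_card_filter_not (s := irrFinset B) fun χ => blockHeight 2 B χ.1 = 0,
    Finset.filter_congr (p := fun χ : IrrCharacter G => 1 ≤ blockHeight 2 B χ.1)
      (q := fun χ => ¬ blockHeight 2 B χ.1 = 0) fun _ _ => by omega] at h1
  have h2 := Finset.card_nsmul_le_sum ((irrFinset B).filter fun χ => ¬ blockHeight 2 B χ.1 = 0)
    (fun χ => 2 ^ blockHeight 2 B χ.1) 2 fun χ hχ =>
      le_self_pow₀ one_le_two (Finset.mem_filter.1 hχ).2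
  by_contra h0
  have h3 : 0 < ((irrFinset B).filter fun χ => ¬ blockHeight 2 B χ.1 = 0).card :=
    Finset.card_pos.2 ⟨χ, Finset.mem_filter.2 ⟨mem_irrFinset.2 hχ, h0⟩⟩
  rw [smul_eq_mul] at h2
  omega

end StarSetup

end Cfsg
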