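import Cfsg.Agent.Blk.SecTwo

/-! Brauer's bound on the orthogonal complement of a vector of norm one; major subsections of
rank at most two. -/

set_option autoImplicit false

namespace Cfsg

open scoped ComplexConjugate Matrix

universe u v

section alg
variable {ι : Type v} [Fintype ι] [DecidableEq ι]

theorem orthProj_transpose_mul_mul (A Cm : Matrix ι ι ℤ) (hC : Cmᵀ = Cm) {N : ℤ}
    (h : Cm * A = N • (1 : Matrix ι ι ℤ)) {x : ι → ℤ} (hx : x ⬝ᵥ (A *ᵥ x) = 1) :
    (1 - Matrix.vecMulVec (A *ᵥ x) x)ᵀ * Cm * (1 - Matrix.vecMulVec (A *ᵥ x) x) =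
      Cm - N • Matrix.vecMulVec x x := by
  have h1 : Cm *ᵥ (A *ᵥ x) = N • x := by
    rw [Matrix.mulVec_mulVec, h, Matrix.smul_mulVec, Matrix.one_mulVec]
  have h2 : (A *ᵥ x) ᵥ* Cm = N • x := by
    rw [← hC, Matrix.vecMul_transpose, h1]
  rw [Matrix.transpose_sub, Matrix.transpose_one, Matrix.transpose_vecMulVec, Matrix.sub_mul,
    Matrix.one_mul, Matrix.vecMulVec_mul, h2, Matrix.mul_sub, Matrix.mul_one, Matrix.sub_mul,
    Matrix.mul_vecMulVec, h1, Matrix.vecMulVec_mul_vecMulVec, smul_dotProduct, hx]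
  ext i j
  simp only [Matrix.sub_apply, Matrix.vecMulVec_apply, Matrix.smul_apply, Pi.smul_apply,
    smul_eq_mul]
  ring

theorem sum_mul_orthProj (A Cm : Matrix ι ι ℤ) (hA : Aᵀ = A) (hC : Cmᵀ = Cm) {N : ℤ}
    (h : Cm * A = N • (1 : Matrix ι ι ℤ)) {x : ι → ℤ} (hx : x ⬝ᵥ (A *ᵥ x) = 1) :
    ∑ j, ∑ l, A j l * ∑ i, ∑ i', (1 - Matrix.vecMulVec (A *ᵥ x) x) i j * Cm i i' *
      (1 - Matrix.vecMulVec (A *ᵥ x) x) i' l = N * (Fintype.card ι - 1) := by
  have h1 := orthProj_transpose_mul_mul A Cm hC h hx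
  have h2 : ∀ j l, ∑ i, ∑ i', (1 - Matrix.vecMulVec (A *ᵥ x) x) i j * Cm i i' *
      (1 - Matrix.vecMulVec (A *ᵥ x) x) i' l = Cm j l - N * (x j * x l) := fun j l => by
    have := congrFun (congrFun h1 j) l
    simp only [Matrix.mul_apply, Matrix.transpose_apply, Finset.sum_mul] at this
    rw [Finset.sum_comm, this]
    simp only [Matrix.sub_apply, Matrix.vecMulVec_apply, Matrix.smul_apply, smul_eq_mul]
  simp only [h2, mul_sub, Finset.sum_sub_distrib]
  congr 1
  · have : ∀ j, ∑ l, A j l * Cm j l = N := fun j => by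
      have := congrFun (congrFun h j) j
      simp only [Matrix.mul_apply, Matrix.smul_apply, Matrix.one_apply_eq, smul_eq_mul,
        mul_one] at this
      rw [← this]
      refine Finset.sum_congr rfl fun l _ => ?_
      rw [mul_comm, ← Matrix.transpose_apply A j l, hA]
    simp [this, mul_comm]
  · rw [← hx]
    simp only [dotProduct, Matrix.mulVec, Finset.mul_sum]
    exact Finset.sum_congr rfl fun j _ => Finset.sum_congr rfl fun l _ => by ring

end alg

variable {G : Type u} [Group G] {p : ℕ} {M : Ideal AlgInt}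

section form
variable [Fintype G] {B : Set (IrrCharacter G)}

/-- the form `p ^ d [η°, η'°]` has rank one modulo `M` -/
theorem IsPBlock.exists_gamma_form (hM : IsPModular p M) (hB : IsPBlock M B) :
    ∃ (γ : resK M) (g : (G → ℂ) → resK M), γ ≠ 0 ∧ ∀ η η' : G → ℂ, IsGeneralizedCharacter G η →
      blockPart B η = η → IsGeneralizedCharacter G η' →
      red M ((p : ℂ) ^ blockDefect p B * classInner (pRegularPart p η) (pRegularPart p η')) =
        γ * g η * g η' := by
  obtain ⟨γ, hγ, h⟩ := hB.exists_gamma_genChar hM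
  obtain ⟨ψ₀, h₀⟩ := hB.nonempty hM
  refine ⟨γ, fun η => ∑ ξ ∈ irrFinset B, redDeg p B ξ.1 * red M (classInner η ξ.1), hγ,
    fun η η' hη hBη hη' => ?_⟩
  have h1 : ∀ ψ : IrrCharacter G, conj (classInner η' ψ.1) = classInner η' ψ.1 := fun ψ => by
    obtain ⟨m, hm⟩ := hη'.exists_classInner_eq_int ψ.isCharacter.isGeneralizedCharacter
    rw [hm, map_intCast]
  have := (hB.red_pow_defect_mul_classInner hM (hη.isClassFunction.pRegularPart' p)
    (pRegularPart_mem_valO fun g _ => hη.mem_valO g) (η := η')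
    (fun ψ _ => by rw [h1]; exact (hη'.inIrrSpan (valO M)).classInner_irr_mem ψ) h₀).2
  rw [(hB.isBlockUnion hM).blockPart_pRegularPart' hM, hBη, h η hη ψ₀ h₀] at this
  rw [← classInner_pRegularPart_left, this]
  simp only [h1]

/-- vectors orthogonal to a vector of unit norm have norm divisible by `p` -/
theorem IsPBlock.le_pow_defect_mul_of_orth (hM : IsPModular p M) (hB : IsPBlock M B)
    {η₀ η : G → ℂ} (h₀ : IsGeneralizedCharacter G η₀) (hB₀ : blockPart B η₀ = η₀)
    (h1 : red M ((p : ℂ) ^ blockDefect p B *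
      classInner (pRegularPart p η₀) (pRegularPart p η₀)) ≠ 0)
    (hη : IsGeneralizedCharacter G η) (hBη : blockPart B η = η)
    (horth : classInner (pRegularPart p η) (pRegularPart p η₀) = 0) (hne : pRegularPart p η ≠ 0) :
    (p : ℝ) ≤ (p : ℝ) ^ blockDefect p B * (classInner (pRegularPart p η) (pRegularPart p η)).re := by
  obtain ⟨γ, g, hγ, h⟩ := hB.exists_gamma_form hM
  rw [h η₀ η₀ h₀ hB₀ h₀] at h1
  have h2 := h η η₀ hη hBη h₀
  rw [horth, mul_zero, red_zero] at h2
  have h3 : g η = 0 := by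
    by_contra hc
    exact mul_ne_zero (mul_ne_zero hγ hc) (right_ne_zero_of_mul h1) h2.symm
  have h4 := h η η hη hBη hη
  rw [h3, mul_zero] at h4
  obtain ⟨m, hm0, hm⟩ := one_le_pow_defect_mul_re_classInner hM.prime hη hBη hne
  have h5 : (p : ℂ) ^ blockDefect p B * classInner (pRegularPart p η) (pRegularPart p η) = m := by
    rw [← ofReal_re_classInner_self]
    exact_mod_cast hm
  have := hM.charP
  rw [h5, red_intCast, CharP.intCast_eq_zero_iff (resK M) p] at h4
  rw [hm]
  exact_mod_cast Int.le_of_dvd hm0 h4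

end form

variable [Finite G] {u : G} {C : Subgroup G} {V b : Set (IrrCharacter C)}
  {B : Set (IrrCharacter G)}

/-- Brauer's bound on the orthogonal complement of a vector `η₀` with `p ^ d [η₀°, η₀°] = 1` -/
theorem IsPBlock.card_mul_le_of_orth [Fintype C] (hM : IsPModular p M)
    (hu : ∃ k : ℕ, orderOf u = p ^ k) (hC : C = Subgroup.centralizer {u}) (hB : IsPBlock M B)
    (hV : IsBlockUnion M V) (hVB : V ⊆ inducingChars M C B) {η₀ : C → ℂ}
    (h₀ : IsGeneralizedCharacter C η₀) (hV₀ : blockPart V η₀ = η₀)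
    (h1 : (p : ℂ) ^ blockDefect p V * classInner (pRegularPart p η₀) (pRegularPart p η₀) = 1)
    {μ : ℝ} (hμ : 0 ≤ μ)
    (hmin : ∀ η : C → ℂ, IsGeneralizedCharacter C η → blockPart V η = η →
      classInner (pRegularPart p η) (pRegularPart p η₀) = 0 → pRegularPart p η ≠ 0 →
      μ ≤ (p : ℝ) ^ blockDefect p V * (classInner (pRegularPart p η) (pRegularPart p η)).re)
    (S : Finset (IrrCharacter G)) (hS : S ⊆ irrFinset B)
    (hrow : ∀ χ ∈ S, ∀ a : ℂ,
      pRegularPart p (blockPart V fun c : C => χ.1 (u * c)) ≠ a • pRegularPart p η₀) :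
    S.card * μ ≤ (p : ℝ) ^ blockDefect p V * (blockRank p V - 1) := by
  classical
  obtain ⟨φ, d, h⟩ := exists_isBasicSet hM.prime V
  choose A hA using fun i j => h.exists_defect_mul_classInner hM.prime i j
  simp only [Nat.cast_pow] at hA
  obtain ⟨x, hx⟩ := h.exists_int_coords h₀
  rw [hV₀] at hx
  have hform : ∀ y z : Fin (blockRank p V) → ℤ, (p : ℂ) ^ blockDefect p V *
      classInner (∑ i, (y i : ℂ) • φ i) (∑ i, (z i : ℂ) • φ i) =
      (y ⬝ᵥ (Matrix.of A *ᵥ z) : ℤ) := fun y z => by
    rw [classInner_sum_left]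
    simp only [classInner_sum_right, classInner_smul_left,
      classInner_smul_right, map_intCast, dotProduct, Matrix.mulVec, Matrix.of_apply,
      Finset.mul_sum]
    push_cast
    refine Finset.sum_congr rfl fun i _ => Finset.sum_congr rfl fun j _ => ?_
    rw [← hA]; ring
  have hAs : (Matrix.of A)ᵀ = Matrix.of A := by
    ext i j
    have h2 := congrArg conj (hA i j)
    rw [map_intCast, map_mul, map_pow, map_natCast, conj_classInner, hA] at h2
    simpa using h2
  have hCs : (cartanMat V d)ᵀ = cartanMat V d := by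
    ext i j; exact cartanMat_comm j i
  have hCA : cartanMat V d * Matrix.of A = ((p : ℤ) ^ blockDefect p V) • 1 := by
    ext i j
    have h2 := h.sum_cartanMat_mul_classInner hM hV i j
    have h3 : (((cartanMat V d * Matrix.of A) i j : ℤ) : ℂ) =
        (p : ℂ) ^ blockDefect p V * if i = j then 1 else 0 := by
      rw [← h2, Matrix.mul_apply, Finset.mul_sum]
      push_cast
      exact Finset.sum_congr rfl fun k _ => by rw [Matrix.of_apply, ← hA]; ring
    rw [Matrix.smul_apply, Matrix.one_apply, smul_eq_mul]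
    exact_mod_cast h3
  have hx1 : x ⬝ᵥ (Matrix.of A *ᵥ x) = 1 := by
    rw [hx, hform] at h1
    exact_mod_cast h1
  set P : Matrix (Fin (blockRank p V)) (Fin (blockRank p V)) ℤ :=
    1 - Matrix.vecMulVec (Matrix.of A *ᵥ x) x with hP
  have key := h.card_mul_le_trace hM hu hC hB hV hVB (fun j l => (A j l : ℝ)) P hμ
    (fun y hy => ?_) S hS (fun χ hχ => ?_)
  · refine key.trans (le_of_eq ?_)
    have := sum_mul_orthProj (Matrix.of A) (cartanMat V d) hAs hCs hCA hx1
    rw [Fintype.card_fin] at this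
    exact_mod_cast this
  · obtain ⟨η, h2, h3, h4⟩ := h.exists_genChar_sum (y ᵥ* P)
    have h5 : (y ᵥ* P) ⬝ᵥ (Matrix.of A *ᵥ x) = 0 := by
      rw [hP, Matrix.vecMul_sub, Matrix.vecMul_one, Matrix.vecMul_vecMulVec, sub_dotProduct,
        smul_dotProduct, hx1]
      simp
    refine (hmin η h2 h3 ?_ ?_).trans (le_of_eq ?_)
    · have := hform (y ᵥ* P) x
      rw [h5, ← h4, ← hx, Int.cast_zero] at this
      exact (mul_eq_zero.1 this).resolve_left (pow_ne_zero _ (Nat.cast_ne_zero.2 hM.prime.ne_zero))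
    · rw [h4]
      intro e
      obtain ⟨j, hj⟩ := hy
      have := congrFun (h.eq_of_sum_eq (a := fun i => ((y ᵥ* P) i : ℂ)) (b := 0)
        (by simpa using e)) j
      exact hj (Int.cast_eq_zero.1 this)
    · have := congrArg Complex.re (hform (y ᵥ* P) (y ᵥ* P))
      rw [Complex.intCast_re, show ((p : ℂ) ^ blockDefect p V) =
        (((p : ℝ) ^ blockDefect p V : ℝ) : ℂ) by push_cast; rfl, Complex.re_ofReal_mul] at this
      rw [h4, this]
      change _ = ∑ j, ∑ l, (A j l : ℝ) * (((y ᵥ* P) j : ℝ) * ((y ᵥ* P) l : ℝ))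
      simp only [dotProduct, Matrix.mulVec, Matrix.of_apply, Finset.mul_sum]
      push_cast
      exact Finset.sum_congr rfl fun j _ => Finset.sum_congr rfl fun l _ => by ring
  · by_contra hcon
    push Not at hcon
    refine hrow χ hχ (∑ i, gdn u V d χ.1 i * ((Matrix.of A *ᵥ x) i : ℂ)) ?_
    rw [h.pRegularPart_blockPart_secRes, hx, Finset.smul_sum]
    refine Finset.sum_congr rfl fun j _ => ?_
    rw [smul_smul]
    congr 1
    have := hcon j
    simp only [hP, Matrix.sub_apply, Matrix.one_apply, Matrix.vecMulVec_apply, Int.cast_sub,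
      mul_sub, Finset.sum_sub_distrib, Int.cast_ite, Int.cast_one, Int.cast_zero, mul_ite, mul_one,
      mul_zero, Finset.sum_ite_eq', Finset.mem_univ, if_true, Int.cast_mul] at this
    rw [sub_eq_zero.1 this, Finset.sum_mul]
    exact Finset.sum_congr rfl fun i _ => by ring

/-- major subsections: `∑ p ^ (2 h(χ)) ≤ p ^ (2 d) [η°, η°]`, the sum over the `χ` not orthogonal
to `η` -/
theorem IsInducedBlock.sum_pow_height_le [Fintype C] (hM : IsPModular p M)
    (hu : ∃ k : ℕ, orderOf u = p ^ k) (hC : C = Subgroup.centralizer {u})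
    (h : IsInducedBlock M C b B) (hd : blockDefect p b = blockDefect p B) {η : C → ℂ}
    (hη : IsGeneralizedCharacter C η) (hbη : blockPart b η = η)
    (S : Finset (IrrCharacter G)) (hS : S ⊆ irrFinset B)
    (h0 : ∀ χ ∈ S, classInner (pRegularPart p η) (fun c : C => χ.1 (u * c)) ≠ 0) :
    ∑ χ ∈ S, (p : ℝ) ^ (2 * blockHeight p B χ.1) ≤ (p : ℝ) ^ (2 * blockDefect p B) *
      (classInner (pRegularPart p η) (pRegularPart p η)).re := by
  have := Fintype.ofFinite G
  have := Fact.mk hM.prime
  have hn0 := (orderOf_pos u).ne'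
  have hp : (p : ℂ) ^ blockDefect p B ≠ 0 := pow_ne_zero _ (Nat.cast_ne_zero.2 hM.prime.ne_zero)
  set β : IrrCharacter G → ℕ → ℂ := fun χ k => (p : ℂ) ^ blockDefect p B *
    classInner (pRegularPart p η) (fun c : C => χ.1 (u ^ k * c)) with hβ
  have hfam : ∀ χ, β χ ∈ cycFam (orderOf u) := fun χ => by
    have h1 := hη.defect_mul_pRegularPart_blockPart hM.prime b
    rw [hbη, hd] at h1
    have := conj_mem_cycFam (classInner_secRes_mem_cycFam hC
      χ.isCharacter.isGeneralizedCharacter h1 dvd_rfl)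
    simpa only [conj_classInner, classInner_smul_left, Nat.cast_pow] using this
  have hβ' : ∀ (χ : IrrCharacter G) k, β χ k = (p : ℂ) ^ blockDefect p B *
      classInner (secInd p (u ^ k) C η) χ.1 := fun χ k => by
    rw [classInner_secInd_left χ.isClassFunction]
  have h1 : ∀ k ∈ coprExp (orderOf u), ∑ χ ∈ irrFinset B, ‖β χ k‖ ^ 2 =
      (p : ℝ) ^ (2 * blockDefect p B) *
      (classInner (pRegularPart p η) (pRegularPart p η)).re := fun k hk => by
    have hu' := orderOf_pow_pElement hM.prime hu k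
    have hC' := centralizer_pow_of_mem_coprExp dvd_rfl hC hk
    have h2 := classInner_secInd_secInd hu' hC' η hη.isClassFunction
    have h3 := h.blockPart_secInd hM hu' hC' η
    rw [hbη] at h3
    rw [← classInner_pRegularPart_left, ← h2]
    conv_rhs => rw [← h3, classInner_blockPart_eq_sum, h3]
    rw [Complex.re_sum, Finset.mul_sum]
    refine Finset.sum_congr rfl fun χ _ => ?_
    rw [hβ', Complex.mul_conj, Complex.ofReal_re, Complex.normSq_eq_norm_sq, norm_mul, norm_pow,
      Complex.norm_natCast]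
    ring
  have ht : (0 : ℝ) < ((orderOf u).totient : ℝ) :=
    Nat.cast_pos.2 (Nat.totient_pos.2 (orderOf_pos u))
  refine le_of_mul_le_mul_left ?_ ht
  rw [← card_coprExp, ← nsmul_eq_mul (coprExp _).card ((p : ℝ) ^ _ * _), ← Finset.sum_const,
    ← Finset.sum_congr rfl h1, Finset.sum_comm, card_coprExp, Finset.mul_sum]
  refine le_trans (Finset.sum_le_sum fun χ hχ => ?_)
    (Finset.sum_le_sum_of_subset_of_nonneg hS fun _ _ _ => by positivity)
  refine hM.totient_mul_le_sum_norm_sq hn0 (hfam χ) ?_ fun k hk => ?_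
  · simpa [hβ, hM.prime.ne_zero] using h0 χ hχ
  · have hχB := mem_irrFinset.1 (hS hχ)
    rw [hβ', pow_blockDefect_mul_classInner _ hχB, map_mul, hM.valM_redDeg hχB]
    refine mul_le_of_le_one_left' (mem_valO_iff.1 (hM.kappa_mem (isClassFunction_secInd _ _ _ _)
      (secInd_mem_valO (orderOf_pow_pElement hM.prime hu k)
        (centralizer_pow_of_mem_coprExp dvd_rfl hC hk) hη.isClassFunction
        fun c _ => hη.mem_valO c) χ))

/-- a major subsection with a vector of norm one -/
theorem IsInducedBlock.card_le_of_norm_one [Fintype C] (hM : IsPModular p M)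
    (hu : ∃ k : ℕ, orderOf u = p ^ k) (hC : C = Subgroup.centralizer {u})
    (h : IsInducedBlock M C b B) (hd : blockDefect p b = blockDefect p B) {η : C → ℂ}
    (hη : IsGeneralizedCharacter C η) (hbη : blockPart b η = η)
    (h1 : (p : ℂ) ^ blockDefect p b * classInner (pRegularPart p η) (pRegularPart p η) = 1) :
    Nat.card B ≤ p ^ blockDefect p B ∨ (p : ℝ) ^ 2 * Nat.card B ≤
      (p : ℝ) ^ blockDefect p B * (p * (blockRank p b - 1) + 1) := by
  classical
  have hV := h.1.isBlockUnion hM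
  have hp : (0 : ℝ) < p := by exact_mod_cast hM.prime.pos
  have hp1 : (1 : ℝ) ≤ p := by exact_mod_cast hM.prime.one_le
  have hre : (p : ℝ) ^ (2 * blockDefect p B) *
      (classInner (pRegularPart p η) (pRegularPart p η)).re = (p : ℝ) ^ blockDefect p B := by
    have := congrArg Complex.re h1
    rw [show ((p : ℂ) ^ blockDefect p b) =
        (((p : ℝ) ^ blockDefect p b : ℝ) : ℂ) by push_cast; rfl, Complex.re_ofReal_mul, hd,
        Complex.one_re] at this
    rw [two_mul, pow_add, mul_assoc, this, mul_one]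
  by_cases hall : ∀ χ ∈ B, classInner (pRegularPart p η) (fun c : C => χ.1 (u * c)) ≠ 0
  · left
    have := h.sum_pow_height_le hM hu hC hd hη hbη (irrFinset B) subset_rfl
      fun χ hχ => hall χ (mem_irrFinset.1 hχ)
    rw [hre] at this
    have h2 : ((irrFinset B).card : ℝ) ≤ ∑ χ ∈ irrFinset B, (p : ℝ) ^ (2 * blockHeight p B χ.1) := by
      rw [Finset.card_eq_sum_ones]
      push_cast
      exact Finset.sum_le_sum fun χ _ => one_le_pow₀ hp1
    rw [← card_irrFinset]
    exact_mod_cast h2.trans this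
  right
  push Not at hall
  obtain ⟨χ₀, hχ₀, hz⟩ := hall
  set T := (irrFinset B).filter fun χ => ∃ a : ℂ,
    pRegularPart p (blockPart b fun c : C => χ.1 (u * c)) = a • pRegularPart p η with hT
  set S := (irrFinset B).filter fun χ => ¬ ∃ a : ℂ,
    pRegularPart p (blockPart b fun c : C => χ.1 (u * c)) = a • pRegularPart p η with hS
  have hcard : Nat.card B = T.card + S.card := by
    rw [← card_irrFinset, hT, hS, Finset.card_filter_add_card_filter_not]
  have hS1 := h.2.1.card_mul_le_of_orth hM hu hC hV h.subset_inducingChars hη hbη h1 hp.le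
    (fun η' h2 h3 h4 h5 => h.1.le_pow_defect_mul_of_orth hM hη hbη
      (by rw [h1, red_one]; exact one_ne_zero) h2 h3 h4 h5) S (Finset.filter_subset _ _)
    fun χ hχ a e => (Finset.mem_filter.1 hχ).2 ⟨a, e⟩
  have hT1 := h.sum_pow_height_le hM hu hC hd hη hbη T (Finset.filter_subset _ _) fun χ hχ e => by
    obtain ⟨hχB, a, ha⟩ := Finset.mem_filter.1 hχ
    obtain ⟨ξ, hξ, hξ0⟩ := exists_blockHeight_eq_zero (p := p) (h.2.1.nonempty hM)
    apply (hV.re_secCon_self_pos hM hu hC χ.isClassFunction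
      (h.secProj_ne_zero_of_major hM hu hC hd (mem_irrFinset.1 hχB))).ne'
    rw [hV.secCon_eq_res hM _ χ.isClassFunction, hV.blockPart_pRegularPart' hM, ha,
      classInner_smul_left, e]
    simp
  rw [hre] at hT1
  have hT2 : (p : ℝ) ^ 2 * T.card ≤ ∑ χ ∈ T, (p : ℝ) ^ (2 * blockHeight p B χ.1) := by
    rw [mul_comm, ← nsmul_eq_mul, ← Finset.sum_const]
    refine Finset.sum_le_sum fun χ hχ => pow_le_pow_right₀ hp1 ?_
    obtain ⟨hχB, a, ha⟩ := Finset.mem_filter.1 hχ
    have : blockHeight p B χ.1 ≠ 0 := fun h0 => by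
      apply h.secCon_ne_zero_of_major hM hu hC hd (mem_irrFinset.1 hχB) hχ₀ h0
      rw [hV.secCon_eq_res hM _ χ₀.isClassFunction, hV.blockPart_pRegularPart' hM, ha,
        classInner_smul_left, hz]
      simp
    omega
  rw [hcard, hd] at *
  push_cast
  nlinarith

/-- a major subsection `(u, b)` with `l(b) ≤ 2` gives `k(B) ≤ p ^ d` -/
theorem IsInducedBlock.card_le_of_blockRank_le_two (hM : IsPModular p M)
    (hu : ∃ k : ℕ, orderOf u = p ^ k) (hC : C = Subgroup.centralizer {u})
    (h : IsInducedBlock M C b B) (hd : blockDefect p b = blockDefect p B)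
    (hl : blockRank p b ≤ 2) : Nat.card B ≤ p ^ blockDefect p B := by
  have := Fintype.ofFinite C
  have hV := h.1.isBlockUnion hM
  have hp : (0 : ℝ) < (p : ℝ) ^ blockDefect p B := pow_pos (by exact_mod_cast hM.prime.pos) _
  have hl' : (blockRank p b : ℝ) ≤ 2 := by exact_mod_cast hl
  by_cases hmin : ∀ η : C → ℂ, IsGeneralizedCharacter C η → blockPart b η = η →
      pRegularPart p η ≠ 0 → 2 / (p : ℝ) ^ blockDefect p B ≤
        (classInner (pRegularPart p η) (pRegularPart p η)).re
  · have := h.2.1.card_mul_le_blockRank hM hu hC hV h.subset_inducingChars (by positivity) hmin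
      (irrFinset B) subset_rfl fun χ hχ =>
        h.secProj_ne_zero_of_major hM hu hC hd (mem_irrFinset.1 hχ)
    rw [card_irrFinset, ← mul_div_assoc, div_le_iff₀ hp] at this
    have : (Nat.card B : ℝ) ≤ (p : ℝ) ^ blockDefect p B := by nlinarith
    exact_mod_cast this
  · push Not at hmin
    obtain ⟨η, hη, hbη, h0, hlt⟩ := hmin
    obtain ⟨m, hm0, hm⟩ := one_le_pow_defect_mul_re_classInner hM.prime hη hbη h0
    rw [lt_div_iff₀ hp, mul_comm, ← hd, hm] at hlt
    have hm1 : m = 1 := by
      have : m < 2 := by exact_mod_cast hlt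
      omega
    refine (h.card_le_of_norm_one hM hu hC hd hη hbη ?_).elim id fun h2 => ?_
    · rw [← ofReal_re_classInner_self]
      rw [hm1] at hm
      exact_mod_cast hm
    · have hp2 : (2 : ℝ) ≤ p := by exact_mod_cast hM.prime.two_le
      have : (p : ℝ) ^ 2 * Nat.card B ≤ (p : ℝ) ^ 2 * (p : ℝ) ^ blockDefect p B := by
        refine h2.trans ?_
        rw [mul_comm]
        refine mul_le_mul_of_nonneg_right ?_ hp.le
        nlinarith
      exact_mod_cast le_of_mul_le_mul_left this (by positivity)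

end Cfsg
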