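import Cfsg.Agent.Blk.AbSmall
import Cfsg.Agent.S4569

/-! Blocks with elementary abelian defect group of order `16` and inertial index `9`. -/

set_option autoImplicit false

namespace Cfsg

open scoped MonoidAlgebra

universe u v w

theorem nine_le_grid (X : Fin 4 → Fin 4 → ℤ) {q : ℤ}
    (hq : q = 16 * ∑ i, ∑ j, X i j ^ 2 - 4 * ∑ i, (∑ j, X i j) ^ 2 - 4 * ∑ j, (∑ i, X i j) ^ 2 +
      (∑ i, ∑ j, X i j) ^ 2) (h0 : q ≠ 0) : 9 ≤ q := by
  let f : (Fin 4 → ℤ) → ℤ := fun y => 4 * ∑ j, y j ^ 2 - (∑ j, y j) ^ 2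
  have h1 : ∀ y, 0 ≤ f y := fun y => by
    simp only [f, Fin.sum_univ_four]
    nlinarith [sq_nonneg (y 0 - y 1), sq_nonneg (y 0 - y 2), sq_nonneg (y 0 - y 3),
      sq_nonneg (y 1 - y 2), sq_nonneg (y 1 - y 3), sq_nonneg (y 2 - y 3)]
  have h2 : ∀ y, f y = 0 ∨ 3 ≤ f y := fun y => by
    have h3 := h1 y
    simp only [f] at h3 ⊢
    obtain ⟨m, hm | hm⟩ := Int.even_or_odd' (∑ j, y j) <;> rw [hm] at h3 ⊢ <;>
      ring_nf at h3 ⊢ <;> omega
  have h3 : ∀ i j k, f (X i - X k) ≤ 2 * f (X i - X j) + 2 * f (X j - X k) ∧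
      f (X j - X k) ≤ 2 * f (X i - X j) + 2 * f (X i - X k) ∧
      f (X i - X j) ≤ 2 * f (X j - X k) + 2 * f (X i - X k) := fun i j k => by
    have a1 := h1 (X i - X j - X j + X k)
    have a2 := h1 (X i + X i - X j - X k)
    have a3 := h1 (X i + X j - X k - X k)
    simp only [f, Fin.sum_univ_four, Pi.sub_apply, Pi.add_apply] at a1 a2 a3 ⊢
    refine ⟨?_, ?_, ?_⟩ <;> linarith
  have h4 : q = f (X 0 - X 1) + f (X 0 - X 2) + f (X 0 - X 3) + f (X 1 - X 2) + f (X 1 - X 3) +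
      f (X 2 - X 3) := by
    simp only [hq, f, Fin.sum_univ_four, Pi.sub_apply]
    ring
  have := h2 (X 0 - X 1); have := h2 (X 0 - X 2); have := h2 (X 0 - X 3)
  have := h2 (X 1 - X 2); have := h2 (X 1 - X 3); have := h2 (X 2 - X 3)
  have := h3 0 1 2; have := h3 0 1 3; have := h3 0 2 3; have := h3 1 2 3
  omega

theorem exists_class_of_sq {ι : Type*} [DecidableEq ι] {s : Finset ι} {a b : ι → ι → ℤ}
    (h01 : ∀ i ∈ s, ∀ j ∈ s, a i j = 0 ∨ a i j = 1) (hb : ∀ i ∈ s, ∀ j ∈ s, b i j = 0 ∨ b i j = 1)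
    (hsq : ∀ i ∈ s, ∀ j ∈ s, ∑ k ∈ s, a i k * a j k = 4 * a i j)
    (hsum : ∀ i ∈ s, ∑ k ∈ s, a i k = 4) (hsum' : ∀ i ∈ s, ∑ k ∈ s, b i k = 4)
    (hab : ∀ i ∈ s, ∀ j ∈ s, ∑ k ∈ s, a i k * b j k = 1) (hne : s.Nonempty) :
    ∃ r : s → Fin 4, ∀ i j : s, a i j = if r i = r j then 1 else 0 := by
  obtain ⟨x, hx⟩ := hne
  set I := s.filter fun k => b x k = 1 with hI
  have h1 : ∀ f : ι → ℤ, ∑ k ∈ s, f k * b x k = ∑ k ∈ I, f k := fun f => by
    rw [Finset.sum_filter]
    exact Finset.sum_congr rfl fun k hk => by rcases hb x hx k hk with h | h <;> simp [h]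
  have h2 : I.card = 4 := by
    have := h1 fun _ => 1
    simp only [one_mul, hsum' x hx, Finset.sum_const, nsmul_eq_mul, mul_one] at this
    omega
  have h3 : ∀ i : s, ∃ k : I, a i k = 1 ∧ ∀ k' : I, a i k' = 1 → k' = k := fun i => by
    have h4 := hab i i.2 x hx
    rw [h1] at h4
    obtain ⟨k, hk, h5⟩ := Finset.exists_ne_zero_of_sum_ne_zero (h4 ▸ one_ne_zero)
    have h6 := (h01 i i.2 k (Finset.mem_filter.1 hk).1).resolve_left h5
    refine ⟨⟨k, hk⟩, h6, fun k' h7 => Subtype.ext ?_⟩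
    by_contra h8
    have := Finset.sum_le_sum_of_subset_of_nonneg (s := {k'.1, k}) (t := I) (f := a i)
      (Finset.insert_subset k'.2 (Finset.singleton_subset_iff.2 hk)) fun j hj _ => by
        rcases h01 i i.2 j (Finset.mem_filter.1 hj).1 with h | h <;> omega
    rw [Finset.sum_pair h8, h6, h7] at this
    omega
  choose r hr hr' using h3
  refine ⟨fun i => I.equivFinOfCardEq h2 (r i), fun i j => ?_⟩
  simp only [EmbeddingLike.apply_eq_iff_eq]
  have h4 := hsq i i.2 j j.2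
  split_ifs with h
  · refine (h01 i i.2 j j.2).resolve_left fun h5 => ?_
    rw [h5, mul_zero] at h4
    have := (Finset.sum_eq_zero_iff_of_nonneg fun k hk => by
      rcases h01 i i.2 k hk with h | h <;> rcases h01 j j.2 k hk with h' | h' <;> simp [h, h']).1 h4
      _ (Finset.mem_filter.1 (r i).2).1
    rw [hr, h, hr] at this
    omega
  · refine (h01 i i.2 j j.2).resolve_right fun h5 => h (hr' j _ ?_)
    have h6 : ∑ k ∈ s, a i k * (1 - a j k) = 0 := by
      simp only [mul_sub, mul_one, Finset.sum_sub_distrib, hsum i i.2, h4, h5]; rfl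
    have := (Finset.sum_eq_zero_iff_of_nonneg fun k hk => by
      rcases h01 i i.2 k hk with h | h <;> rcases h01 j j.2 k hk with h' | h' <;> simp [h, h']).1 h6
      _ (Finset.mem_filter.1 (r i).2).1
    rw [hr] at this
    omega

theorem zero_or_one_of_sum_sq {ι : Type*} {s : Finset ι} {f : ι → ℤ}
    (h : ∑ k ∈ s, f k * f k = ∑ k ∈ s, f k) : ∀ k ∈ s, f k = 0 ∨ f k = 1 := fun k hk => by
  have h1 : ∑ k ∈ s, f k * (f k - 1) = 0 := by
    simp only [mul_sub, mul_one, Finset.sum_sub_distrib, h, sub_self]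
  have := (Finset.sum_eq_zero_iff_of_nonneg fun k _ => by
    rcases le_or_gt (f k) 0 with h | h <;> nlinarith).1 h1 k hk
  rcases mul_eq_zero.1 this with h | h <;> omega

theorem nine_le_of_two_classes {ι : Type*} [DecidableEq ι] {s : Finset ι} {a b : ι → ι → ℤ}
    (hs : s.card = 16) (ha1 : ∀ i ∈ s, a i i = 1) (hb1 : ∀ i ∈ s, b i i = 1)
    (hsq : ∀ i ∈ s, ∀ j ∈ s, ∑ k ∈ s, a i k * a j k = 4 * a i j)
    (hsq' : ∀ i ∈ s, ∀ j ∈ s, ∑ k ∈ s, b i k * b j k = 4 * b i j)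
    (hsum : ∀ i ∈ s, ∑ k ∈ s, a i k = 4) (hsum' : ∀ i ∈ s, ∑ k ∈ s, b i k = 4)
    (hab : ∀ i ∈ s, ∀ j ∈ s, ∑ k ∈ s, a i k * b j k = 1) (n : ι → ℤ) {q : ℤ}
    (hq : q = ∑ x ∈ s, ∑ y ∈ s,
      n x * ((if x = y then 16 else 0) - 4 * a x y - 4 * b x y + 1) * n y) (h0 : q ≠ 0) :
    9 ≤ q := by
  have ha : ∀ i ∈ s, ∀ j ∈ s, a i j = 0 ∨ a i j = 1 := fun i hi =>
    zero_or_one_of_sum_sq (by rw [hsq i hi i hi, hsum i hi, ha1 i hi]; rfl)
  have hb : ∀ i ∈ s, ∀ j ∈ s, b i j = 0 ∨ b i j = 1 := fun i hi =>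
    zero_or_one_of_sum_sq (by rw [hsq' i hi i hi, hsum' i hi, hb1 i hi]; rfl)
  have hne : s.Nonempty := Finset.card_pos.1 (by omega)
  obtain ⟨r, hr⟩ := exists_class_of_sq ha hb hsq hsum hsum' hab hne
  obtain ⟨c, hc⟩ := exists_class_of_sq hb ha hsq' hsum' hsum (fun i hi j hj => by
    rw [← hab j hj i hi]; exact Finset.sum_congr rfl fun _ _ => mul_comm _ _) hne
  have h1 : Function.Bijective fun i : s => (r i, c i) := by
    refine (Fintype.bijective_iff_injective_and_card _).2 ⟨fun i j h => Subtype.ext ?_, by simp [hs]⟩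
    by_contra h2
    have := Finset.sum_le_sum_of_subset_of_nonneg (s := {i.1, j.1}) (t := s)
      (f := fun k => a i k * b i k)
      (Finset.insert_subset i.2 (Finset.singleton_subset_iff.2 j.2)) fun k hk _ => by
        rcases ha i i.2 k hk with h | h <;> rcases hb i i.2 k hk with h' | h' <;> simp [h, h']
    rw [Finset.sum_pair h2, hab i i.2 i i.2, hr, hr, hc, hc] at this
    simp only [Prod.mk.injEq] at h
    simp [h.1, h.2] at this
  set Φ := (Equiv.ofBijective _ h1).symm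
  have h2 : ∀ x, r (Φ x) = x.1 := fun x => congrArg Prod.fst ((Equiv.ofBijective _ h1).right_inv x)
  have h3 : ∀ x, c (Φ x) = x.2 := fun x => congrArg Prod.snd ((Equiv.ofBijective _ h1).right_inv x)
  refine nine_le_grid (fun i j => n (Φ (i, j))) ?_ h0
  rw [hq, ← Finset.sum_coe_sort s, ← Φ.sum_comp]
  simp only [← Finset.sum_coe_sort s, ← Φ.sum_comp, hr, hc, h2, h3, Subtype.coe_inj,
    EmbeddingLike.apply_eq_iff_eq, Fintype.sum_prod_type, Prod.mk.injEq, Fin.sum_univ_four]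
  simp
  ring

open Cfsg.Agent.S4569 in
theorem StarSetup.minOK_of_nine {M : Ideal AlgInt} {G : Type u} [Group G] [Fintype G]
    {B : Set (IrrCharacter G)} {P : Subgroup G} {e : (resK M)[G]} (S : StarSetup 2 M B P e)
    (hab : P ≤ Subgroup.centralizer (P : Set G)) (hP : Nat.card P = 16)
    (hel : ∀ x : P, x ^ 2 = 1) (hE : Nat.card (inAut P e) = 9) :
    blockRank 2 B ≤ 1 ∨ MinOK 2 B := by
  classical
  have := Fintype.ofFinite P
  have := S.hM.fact_prime
  have := S.hM.charP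
  obtain ⟨V, W, hV, hW, hVW, hfree⟩ := exists_good hP hE
  have hrk : ∀ {U : Subgroup P}, Good (inAut P e) U → ∀ v ∈ U, v ≠ 1 →
      blockRank 2 (S.below v) = 3 ∧ fuseCard 2 P e v = 3 := fun hU v hv hv1 => by
    have h1 := S.blockRank_below_eq_card hab v (hU.stab v hv hv1).le
    have h2 := S.fuseCard_mul_card hab v
    rw [hU.stab v hv hv1] at h1 h2
    exact ⟨h1, by rw [hE] at h2; omega⟩
  have hcnt := sum_four hP hV.card hW.card hVW (g := fun v => if v ∉ V ∧ v ∉ W then 1 else 0)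
    (a := 0) (b := 0) (c := 0) (d := 1) (by simp) (fun v hv _ => by simp [hv])
    (fun v hv _ => by simp [hv]) (fun v hv hv' => by simp [hv, hv'])
  rw [Finset.sum_boole] at hcnt
  have hcnt' : (Finset.univ.filter fun v => v ∉ V ∧ v ∉ W).card = 9 := by
    have : ((Finset.univ.filter fun v => v ∉ V ∧ v ∉ W).card : ℂ) = (9 : ℕ) := by
      rw [hcnt]; norm_num
    exact_mod_cast this
  obtain ⟨z, hz⟩ := Finset.card_pos.1 (by omega : 0 < (Finset.univ.filter fun v =>
    v ∉ V ∧ v ∉ W).card)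
  obtain ⟨hzV, hzW⟩ := (Finset.mem_filter.1 hz).2
  have hz2 : (z : G) ^ 2 = 1 := congrArg Subtype.val (hel z)
  have hout : ∀ v, v ∉ V → v ∉ W → blockRank 2 (S.below v) = 1 ∧ fuseCard 2 P e v = 9 := by
    intro v hv hv'
    have h1 := S.fuseCard_mul_card hab v
    rw [(Subgroup.eq_bot_iff_forall (_ ⊓ MulAction.stabilizer (MulAut P) v)).2
      fun σ hσ => hfree v hv hv' σ hσ.1 hσ.2, hE] at h1
    exact ⟨((S.isNilpotentBlock_below_iff_aut hab v).2 (hfree v hv hv')).blockRank_eq_one S.hM,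
      by simpa using h1⟩
  have hsV := hV.stable S hab
  have hsW := hW.stable S hab
  have hfuse : cpl V * cpl W = (16 : ℂ) • fuseInd 2 P e z := by
    have h1 : Finset.univ.filter (fun v : P => PairFuse 2 P e (z : G) v) =
        Finset.univ.filter fun v => v ∉ V ∧ v ∉ W := by
      refine Finset.eq_of_subset_of_card_le (fun v hv => Finset.mem_filter.2
        ⟨Finset.mem_univ _, ?_⟩) ?_
      · obtain ⟨σ, hσ, rfl⟩ := (S.pairFuse_iff_aut hab).1 (Finset.mem_filter.1 hv).2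
        exact ⟨fun h => hzV (by simpa using hV.inv σ⁻¹ (inv_mem hσ) _ h),
          fun h => hzW (by simpa using hW.inv σ⁻¹ (inv_mem hσ) _ h)⟩
      · rw [hcnt', ← (hout z hzV hzW).2, fuseCard, Nat.card_eq_fintype_card, Fintype.card_subtype]
    ext v
    have h2 : PairFuse 2 P e (z : G) v ↔ v ∉ V ∧ v ∉ W := by
      simpa using Finset.ext_iff.1 h1 v
    simp only [cpl, fuseInd, Pi.mul_apply, Pi.smul_apply, h2]
    by_cases h : v ∈ V <;> by_cases h' : v ∈ W <;> simp [h, h']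
    norm_num
  obtain ⟨d, hd0, hsum, hd⟩ := S.exists_int_column hab hz2
    ((S.isNilpotentBlock_below_iff_aut hab z).2 (hfree z hzV hzW))
  rw [hP] at hsum hd
  have hm : ∀ χ ψ, mat M P e (cpl V * cpl W) χ ψ = (d χ * d ψ : ℤ) := fun χ ψ => by
    rw [hfuse, mat_smul, mat, S.bstar_fuseInd_eq χ.isClassFunction]
    exact_mod_cast hd χ ψ
  have hint : ∀ U : Subgroup P, Good (inAut P e) U → ∀ χ ψ, ∃ n : ℤ,
      mat M P e (cpl U) χ ψ = n := fun U hU χ ψ =>
    (S.isGeneralizedCharacter_bstar (hU.stable S hab) (isGeneralizedCharacter_cpl hab hP hU.card)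
      χ.isCharacter.isGeneralizedCharacter).exists_classInner_eq_int
      ψ.isCharacter.isGeneralizedCharacter
  have key : ∀ U U' : Subgroup P, Good (inAut P e) U → Good (inAut P e) U' → U ⊓ U' = ⊥ →
      (∀ v, v ∉ U → v ∉ U' → blockRank 2 (S.below v) = 1 ∧ fuseCard 2 P e v = 9) →
      (∀ χ ψ, mat M P e (cpl U * cpl U') χ ψ = (d χ * d ψ : ℤ)) →
      ∀ A : IrrCharacter G → IrrCharacter G → ℤ, (∀ χ ψ, mat M P e (cpl U) χ ψ = A χ ψ) →
      (∀ χ ψ, A χ ψ = A ψ χ) ∧ (∀ χ ψ, ∑ ξ ∈ irrFinset B, A χ ξ * A ψ ξ = 4 * A χ ψ) ∧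
      (∀ χ ∈ irrFinset B, ∑ ξ ∈ irrFinset B, A χ ξ * d ξ = 4 * d χ) ∧
      (∀ χ ∈ irrFinset B, d χ ^ 2 < 4 * A χ χ) ∧ ∑ χ ∈ irrFinset B, A χ χ = 16 := by
    intro U U' hU hU' hUU hout hm A hA
    have hs := hU.stable S hab
    have hs' := hU'.stable S hab
    have hsq : cpl U * cpl U = (4 : ℂ) • cpl U := by
      ext v; simp only [cpl, Pi.mul_apply, Pi.smul_apply]; split_ifs <;> simp
    refine ⟨fun χ ψ => ?_, fun χ ψ => ?_, fun χ hχ => ?_, fun χ hχ => ?_, ?_⟩
    · have := conj_mat S hs (star_cpl U) χ ψ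
      rw [hA, hA, map_intCast] at this
      exact_mod_cast this
    · have := sum_mat S hs hs (star_cpl U) χ ψ
      simp only [hA, map_intCast, hsq, mat_smul] at this
      exact_mod_cast this
    · have := sum_mat S hs (hs.mul hs') (by rw [star_mul', star_cpl, star_cpl]) χ χ
      rw [← mul_assoc, hsq, smul_mul_assoc, mat_smul] at this
      simp only [hA, hm, map_intCast] at this
      have h1 : ∑ ξ ∈ irrFinset B, A χ ξ * (d χ * d ξ) = 4 * (d χ * d χ) := by
        exact_mod_cast this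
      refine mul_left_cancel₀ (hd0 χ (mem_irrFinset.1 hχ)) ?_
      rw [Finset.mul_sum, show d χ * (4 * d χ) = 4 * (d χ * d χ) by ring, ← h1]
      exact Finset.sum_congr rfl fun ξ _ => by ring
    · have : Nontrivial U' := Finite.one_lt_card_iff_nontrivial.1 (by rw [hU'.card]; norm_num)
      obtain ⟨w, hw⟩ := exists_ne (1 : U')
      have hwU : (w : P) ∉ U := fun h => hw (Subtype.ext (Subgroup.mem_bot.1
        (hUU ▸ Subgroup.mem_inf.2 ⟨h, w.2⟩)))
      have := mat_pos S hab ((hs.smul 4).sub (hs.mul hs')) (fun v => by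
        simp only [cpl, Pi.sub_apply, Pi.smul_apply, Pi.mul_apply]
        split_ifs <;> norm_num) (v₀ := w) (by
        simp only [cpl, Pi.sub_apply, Pi.smul_apply, Pi.mul_apply, if_neg hwU, if_pos w.2]
        norm_num) (mem_irrFinset.1 hχ) (n := 4 * A χ χ - d χ * d χ) (by
        rw [mat_sub, mat_smul, hA, hm]; push_cast; ring)
      rw [sq]; omega
    · have h1 := S.sum_classInner_bstar hs
      rw [sum_four hP hU.card hU'.card hUU (a := 0) (b := 0) (c := 4) (d := 4 / 9)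
        (by simp [cpl]) (fun v hv _ => by simp [cpl, hv]) (fun v hv hv1 => by
          have hvU : v ∉ U := fun h => hv1 (Subgroup.mem_bot.1 (hUU ▸ Subgroup.mem_inf.2 ⟨h, hv⟩))
          obtain ⟨h2, h3⟩ := hrk hU' v hv hv1
          simp [cpl, hvU, h2, h3]) (fun v hv hv' => by
          obtain ⟨h2, h3⟩ := hout v hv hv'
          simp [cpl, hv, h2, h3])] at h1
      have h2 : ∑ χ ∈ irrFinset B, (A χ χ : ℂ) = (16 : ℤ) := by
        rw [← Finset.sum_congr rfl fun χ _ => hA χ χ]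
        exact h1.trans (by norm_num)
      exact_mod_cast h2
  choose A hA using hint V hV
  choose A' hA' using hint W hW
  obtain ⟨a1, a2, a3, a4, a5⟩ := key V W hV hW hVW hout hm A hA
  obtain ⟨b1, b2, b3, b4, b5⟩ := key W V hW hV (inf_comm V W ▸ hVW)
    (fun v h h' => hout v h' h) (mul_comm (cpl V) (cpl W) ▸ hm) A' hA'
  have hk : Nat.card B = blockRank 2 B + 7 := by
    have h1 := S.card_eq_sum_below
    rw [sum_four hP hV.card hW.card hVW (a := blockRank 2 B) (b := 1) (c := 1)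
      (d := 1 / 9) (by simp [S.fuseCard_one, S.blockRank_below_one]) (fun v hv hv1 => by
        obtain ⟨h2, h3⟩ := hrk hV v hv hv1
        simp [h2, h3]) (fun v hv hv1 => by
        obtain ⟨h2, h3⟩ := hrk hW v hv hv1
        simp [h2, h3]) (fun v hv hv' => by
        obtain ⟨h2, h3⟩ := hout v hv hv'
        simp [h2, h3])] at h1
    have : (Nat.card B : ℂ) = (blockRank 2 B + 7 : ℕ) := by
      rw [h1]; push_cast; ring
    exact_mod_cast this
  refine (le_or_gt _ _).imp_right fun hl => ?_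
  have hAB : ∀ χ ψ, ∑ ξ ∈ irrFinset B, A χ ξ * A' ψ ξ = d χ * d ψ := fun χ ψ => by
    have := sum_mat S hsV hsW (star_cpl W) χ ψ
    simp only [hA, hA', hm, map_intCast] at this
    exact_mod_cast this
  have hcon : ∀ χ ∈ irrFinset B, ∀ ψ, contrib 2 B χ ψ =
      (if χ = ψ then 16 else 0) - 4 * A χ ψ - 4 * A' χ ψ + d χ * d ψ := fun χ hχ ψ => by
    have h1 : (fun v => if v = 1 then (Nat.card P : ℂ) else 0) =
        (16 : ℂ) • 1 - (4 : ℂ) • cpl V - (4 : ℂ) • cpl W - (-1 : ℂ) • (cpl V * cpl W) := by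
      ext v
      have : v = 1 ↔ v ∈ V ∧ v ∈ W := by rw [← Subgroup.mem_inf, hVW, Subgroup.mem_bot]
      simp only [cpl, Pi.sub_apply, Pi.smul_apply, Pi.mul_apply, Pi.one_apply, this, hP]
      by_cases h : v ∈ V <;> by_cases h' : v ∈ W <;> simp [h, h'] <;> norm_num
    have h2 := congrArg (fun η => mat M P e η χ ψ) h1
    simp only [mat_sub, mat_smul, hA, hA', hm] at h2
    rw [mat, mat, S.bstar_regular (blockPart_irr_of_mem (mem_irrFinset.1 hχ)),
      S.bstar_one_irr (mem_irrFinset.1 hχ), classInner_smul_left, S.card_eq, Nat.cast_pow,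
      ← cast_contrib (mem_irrFinset.1 hχ), χ.classInner_eq] at h2
    refine Int.cast_injective (α := ℂ) ?_
    rw [h2]; split_ifs <;> push_cast <;> ring
  have h16 := card_eq_sixteen (s := irrFinset B) (A := A) (B := A')
    (fun χ hχ => hd0 χ (mem_irrFinset.1 hχ)) hsum (by rw [card_irrFinset]; omega)
    (fun χ _ ψ _ => a1 χ ψ) (fun χ _ ψ _ => b1 χ ψ) (fun χ _ ψ _ => a2 χ ψ)
    (fun χ _ ψ _ => b2 χ ψ) (fun χ _ => by rw [hAB, sq]) a3 b3 a4 b4 (fun χ hχ => by
      have := contrib_self_pos (p := 2) (mem_irrFinset.1 hχ)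
      rw [hcon χ hχ, if_pos rfl] at this
      rw [sq]; omega) a5 b5
  have hone : ∀ f : IrrCharacter G → ℤ, (∀ χ ∈ irrFinset B, 1 ≤ f χ) →
      ∑ χ ∈ irrFinset B, f χ = 16 → ∀ χ ∈ irrFinset B, f χ = 1 := fun f h1 h2 χ hχ =>
    ((Finset.sum_eq_sum_iff_of_le h1).1 (by rw [h2]; simp [h16]) χ hχ).symm
  have hd1 : ∀ χ ∈ irrFinset B, d χ * d χ = 1 := by
    simp only [← sq]
    exact hone _ (fun χ hχ => (one_le_sq_iff_one_le_abs _).2
      (Int.one_le_abs (hd0 χ (mem_irrFinset.1 hχ)))) hsum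
  have hnorm : ∀ A : IrrCharacter G → IrrCharacter G → ℤ,
      (∀ χ ψ, ∑ ξ ∈ irrFinset B, A χ ξ * A ψ ξ = 4 * A χ ψ) →
      (∀ χ ∈ irrFinset B, ∑ ξ ∈ irrFinset B, A χ ξ * d ξ = 4 * d χ) →
      (∀ χ ∈ irrFinset B, d χ ^ 2 < 4 * A χ χ) → ∑ χ ∈ irrFinset B, A χ χ = 16 →
      (∀ i ∈ irrFinset B, d i * A i i * d i = 1) ∧
      (∀ i ∈ irrFinset B, ∀ j ∈ irrFinset B, ∑ k ∈ irrFinset B,
        d i * A i k * d k * (d j * A j k * d k) = 4 * (d i * A i j * d j)) ∧
      ∀ i ∈ irrFinset B, ∑ k ∈ irrFinset B, d i * A i k * d k = 4 := fun A h2 h3 h4 h5 => by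
    refine ⟨fun i hi => ?_, fun i hi j hj => ?_, fun i hi => ?_⟩
    · rw [hone (fun χ => A χ χ) (fun χ hχ => by
        have := h4 χ hχ; have := sq_nonneg (d χ); omega) h5 i hi, mul_one, hd1 i hi]
    · rw [Finset.sum_congr rfl (g := fun k => d i * d j * (A i k * A j k)) fun k hk => by
        linear_combination (d i * d j * A i k * A j k) * hd1 k hk, ← Finset.mul_sum, h2]
      ring
    · simp only [mul_assoc, ← Finset.mul_sum]
      rw [h3 i hi]; linear_combination 4 * hd1 i hi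
  obtain ⟨c1, c2, c3⟩ := hnorm A a2 a3 a4 a5
  obtain ⟨d1, d2, d3⟩ := hnorm A' b2 b3 b4 b5
  refine minOK_of_contrib fun n h0 => ?_
  have h9 := nine_le_of_two_classes (a := fun i j => d i * A i j * d j)
    (b := fun i j => d i * A' i j * d j) h16 c1 d1 c2 d2 c3 d3 (fun i hi j hj => by
      rw [Finset.sum_congr rfl (g := fun k => d i * d j * (A i k * A' j k)) fun k hk => by
        linear_combination (d i * d j * A i k * A' j k) * hd1 k hk, ← Finset.mul_sum, hAB]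
      linear_combination (d j * d j) * hd1 i hi + hd1 j hj) (fun x => n x * d x)
    (Finset.sum_congr rfl fun x hx => Finset.sum_congr rfl fun y hy => ?_) h0
  · rw [card_irrFinset] at h16
    omega
  · rw [hcon x hx]
    have h1 := hd1 x hx
    have h2 := hd1 y hy
    split_ifs with h
    · subst h
      linear_combination (n x * n x * (-16 + 4 * (A x x + A' x x) * (1 + d x * d x))) * h1
    · linear_combination (4 * n x * n y * (A x y + A' x y)) * (d y * d y * h1 + h2)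

end Cfsg
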