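import Cfsg.Agent.Blk.ClsTwoB
import Cfsg.Agent.Blk.SixteenNine
import Cfsg.Agent.Grp.PFour
import Cfsg.Agent.Blk.SecOrth
import Cfsg.Agent.S4540

/-! Brauer's `k(B)` bound for defect groups with a central cyclic subgroup of index `≤ 16`. -/

set_option autoImplicit false

namespace Cfsg

open scoped MonoidAlgebra commutatorElement

universe u v w

theorem exists_cls2_of_card {T : Type u} [Group T] [Finite T] (h1 : Nat.card (commutator T) = 2)
    (h2 : (Subgroup.center T).index = 4) : ∃ c : T, Cls2 c := by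
  obtain ⟨c, h3, h4⟩ := (Nat.card_eq_two_iff' (1 : commutator T)).1 h1
  have h5 : ∀ a ∈ commutator T, a = 1 ∨ a = c := fun a ha => or_iff_not_imp_left.2 fun h5 =>
    congrArg Subtype.val (h4 ⟨a, ha⟩ (mt (congrArg Subtype.val) h5))
  have h6 : (c : T) ≠ 1 := fun h => h3 (Subtype.ext h)
  refine ⟨c, Subgroup.mem_center_iff.2 fun g => mul_inv_eq_iff_eq_mul.1 ((h5 _
    (Subgroup.Normal.conj_mem inferInstance _ c.2 g)).resolve_left (by simpa using h6)),
    (h5 _ (mul_mem c.2 c.2)).resolve_right (by simpa using h6), h6, fun a b => ?_, h2⟩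
  refine (h5 ⁅b⁻¹, a⁻¹⁆⁻¹ (inv_mem (Subgroup.commutator_mem_commutator trivial trivial))).imp
    (fun h7 => ?_) fun h7 => ?_ <;> rw [← mul_one (b * a), ← h7] <;>
    simp [commutatorElement_def, mul_assoc]

theorem Cls2.exists_four {T : Type u} [Group T] [Finite T] {c : T} (h : Cls2 c)
    (h1 : Nat.card (Subgroup.center T) = 4) : ∃ w, Cls2F c w := by
  have h2 := Subgroup.zpowers_le.2 h.cen
  have h3 : (Subgroup.zpowers c).relIndex (Subgroup.center T) = 2 := by
    have := card_mul_relIndex h2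
    rw [Nat.card_zpowers, h.orderOf_eq] at this
    omega
  obtain ⟨w, h4, h5⟩ := SetLike.not_le_iff_exists.1 (mt Subgroup.relIndex_eq_one.2 (by omega :
    ¬ (Subgroup.zpowers c).relIndex (Subgroup.center T) = 1))
  refine ⟨w, h, h4, fun h6 => h5 (h6 ▸ one_mem _), fun h6 => h5 (h6 ▸ Subgroup.mem_zpowers _),
    fun z hz => ?_⟩
  by_cases h6 : z ∈ Subgroup.zpowers c
  · exact (eq_or_of_mem_zpowers_invol h.sq h6).imp_right Or.inl
  · simpa only [mul_inv_eq_iff_eq_mul, one_mul] using Or.inr (Or.inr (eq_or_of_mem_zpowers_invol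
      h.sq (mul_mem_of_relIndex_le_two h3.le hz (inv_mem h4) h6 (by simpa using h5))))

theorem exists_cls2F_of_sixteen {T : Type u} [Group T] [Finite T] (hc : Nat.card T = 16)
    (hT : ¬ IsMulCommutative T) (h4 : ∀ a : T, a ^ 4 = 1) : ∃ c w : T, Cls2F c w := by
  have h1 := card_commutator_mul_card_center_of_card_eq_pow_four (p := 2) hc hT
  have h2 : Nat.card (commutator T) ≠ 1 := fun h2 => hT ⟨⟨fun a b => by
    rw [Subgroup.card_eq_one, commutator, Subgroup.commutator_eq_bot_iff_le_centralizer] at h2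
    exact h2 (Subgroup.mem_top b) a trivial⟩⟩
  have hT2 : IsPGroup 2 T := IsPGroup.of_card (n := 4) hc
  have : Nontrivial T := Finite.one_lt_card_iff_nontrivial.1 (by omega)
  have h3 := Finite.one_lt_card_iff_nontrivial.2 hT2.center_nontrivial
  have h5 : Nat.card (Subgroup.center T) ≠ 2 := fun h5 => by
    obtain ⟨A, _, h6, h7⟩ := exists_comm_index_eq_of_card_eq_pow_four (p := 2) hc hT
    obtain ⟨x, hx⟩ : ∃ x, x ∉ A := by
      by_contra! h8
      simp [(Subgroup.eq_top_iff' A).2 h8] at h7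
    have h8 := fun a (ha : a ∈ A) b (hb : b ∈ A) => setLike_mul_comm ha hb
    have h9 : ∀ a ∈ A, x * a = a * x → a ∈ Subgroup.center T := fun a ha h9 =>
      Subgroup.mem_center_iff.2 fun b => by
        by_cases hb : b ∈ A
        · exact h8 b hb a ha
        · simpa [commute_iff_eq] using Commute.mul_left (h8 _ ((Subgroup.mul_mem_iff_of_index_two
            h7).2 (iff_of_false hb (mt inv_mem_iff.1 hx))) a ha) h9
    have h10 : ∀ a ∈ A, ⁅a, x⁆ ∈ Subgroup.center T := fun a ha => by
      have h10 := Subgroup.Normal.conj_mem inferInstance a ha x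
      have h11 : x * (x * a * x⁻¹) * x⁻¹ = a := by
        rw [← mul_assoc, ← mul_assoc, h8 _ (Subgroup.mul_self_mem_of_index_two h7 x) a ha]; group
      rw [show ⁅a, x⁆ = a * (x * a * x⁻¹)⁻¹ by simp [commutatorElement_def, mul_assoc]]
      obtain ⟨b, hb⟩ : ∃ b, b = x * a * x⁻¹ := ⟨_, rfl⟩
      rw [← hb] at h10 h11 ⊢
      have h12 : Commute a b := h8 a ha b h10
      have h13 : (a * b) ^ 2 = 1 := h5 ▸ pow_card_eq_one_of_mem (h9 _ (mul_mem ha h10)
        (mul_inv_eq_iff_eq_mul.1 (by rw [← conj_mul, h11, ← hb, h12])))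
      have h14 : a * b⁻¹ = (a * b⁻¹)⁻¹ := by
        rw [eq_inv_iff_mul_eq_one, ← pow_two, h12.inv_right.mul_pow, inv_pow,
          inv_eq_of_mul_eq_one_left (h12.mul_pow 2 ▸ h13), ← pow_add, h4]
      refine h9 _ (mul_mem ha (inv_mem h10)) (mul_inv_eq_iff_eq_mul.1 ?_)
      rw [← conj_mul, ← conj_inv, h11, ← hb, h14, mul_inv_rev, inv_inv]
    have h11 := index_centralizer_le_card (K := Subgroup.center T) (x := x) fun g => by
      by_cases hg : g ∈ A
      · exact h10 g hg
      · simpa [commutatorElement_def] using h10 _ ((Subgroup.mul_mem_iff_of_index_two h7).2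
          (iff_of_false hg hx))
    have h12 := Nat.le_of_dvd (Nat.pos_of_ne_zero Subgroup.index_ne_zero_of_finite)
      (Subgroup.index_dvd_of_le (show A ⊓ Subgroup.centralizer {x} ≤ _ from fun a ha =>
        h9 a ha.1 (Subgroup.mem_centralizer_singleton_iff.1 ha.2).symm))
    have h13 := (Subgroup.center T).card_mul_index
    have := Subgroup.index_inf_le (H := A) (K := Subgroup.centralizer {x})
    rw [h7] at this
    rw [h5] at h11 h13
    omega
  obtain ⟨i, hi, h6⟩ := (Nat.dvd_prime_pow Nat.prime_two).1 (Dvd.intro_left _ h1)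
  have h7 : Nat.card (Subgroup.center T) = 4 := by
    rw [h6] at h1 h3 h5 ⊢
    interval_cases i <;> omega
  have h8 := (Subgroup.center T).card_mul_index
  rw [h7] at h1 h8
  obtain ⟨c, h9⟩ := exists_cls2_of_card (T := T) (by omega) (by omega)
  exact ⟨c, h9.exists_four h7⟩

variable {p : ℕ} {M : Ideal AlgInt} {G : Type u} [Group G] [Fintype G]
  {B : Set (IrrCharacter G)} {P : Subgroup G} {e : (resK M)[G]}

/-- nonabelian defect groups of order at most sixteen -/
theorem StarSetup.rank_le_three_of_card_le_sixteen (S : StarSetup 2 M B P e) (hc : Nat.card P ≤ 16)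
    {a b : P} (hab : a * b ≠ b * a) : blockRank 2 B ≤ 3 := by
  by_cases h1 : Nat.card P ≤ 8
  · exact (exists_mul_self_ne_one hab).elim fun _ => S.rank_le_three_of_card_le_eight h1
  obtain ⟨n, hn⟩ := IsPGroup.iff_card.1 S.isPGroup
  have h2 : Nat.card P = 16 := by
    have : n < 5 := (Nat.pow_lt_pow_iff_right one_lt_two).1 (by omega)
    interval_cases n <;> omega
  by_cases h3 : ∀ a : P, a ^ 4 = 1
  · obtain ⟨c, w, h⟩ := exists_cls2F_of_sixteen h2 (fun h => hab (h.is_comm.comm a b)) h3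
    exact h.rank_le_three S h2
  · obtain ⟨σ, h3⟩ := not_forall.1 h3
    obtain ⟨k, hk⟩ := IsPGroup.iff_orderOf.1 S.isPGroup σ
    refine S.rank_le_three_of_orderOf σ ?_
    rw [← orderOf_dvd_iff_pow_eq_one, hk, show 4 = 2 ^ 2 from rfl,
      Nat.pow_dvd_pow_iff_le_right one_lt_two] at h3
    have := Nat.pow_le_pow_right two_pos (show 3 ≤ k by omega)
    omega

/-- conditions under which a dominated block gives Brauer's bound -/
def KGood (p : ℕ) {G : Type u} [Group G] [Fintype G] (B : Set (IrrCharacter G)) : Prop :=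
  blockRank p B ≤ 2 ∨ (p = 2 ∧ blockRank p B ≤ 3) ∨ MinOK p B

theorem SubQuot.card_le {S : StarSetup p M B P e} {v : P} {H : Type u} [Group H] [Fintype H]
    {B' : Set (IrrCharacter H)} {P' : Subgroup H} {e' : (resK M)[H]} {S' : StarSetup p M B' P' e'}
    {ρ : P →* P'} (Q : SubQuot S v P S' ρ) (h : KGood p B') : Nat.card B ≤ Nat.card P := by
  have hv : P ≤ Subgroup.centralizer {(v : G)} := Q.eq.le.trans inf_le_right
  have hd : blockDefect p (S.below v) = blockDefect p B :=
    Nat.pow_right_injective S.hM.prime.two_le (Q.card.trans S.card_eq)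
  rcases h with h | ⟨rfl, h⟩ | h
  · exact S.card_eq ▸ (S.isInducedBlock_below v).card_le_of_blockRank_le_two S.hM (S.orderOf_eq v)
      rfl hd (Q.rank ▸ h)
  · have := Cfsg.Agent.S4540.result M S.hM B S.hB P S.isDefectGroup v v.2
      (fun d hd => Subgroup.mem_centralizer_singleton_iff.1 (hv hd)) _
      (S.isInducedBlock_below v) (S.isDefectGroup_below hv) (Q.rank ▸ h)
    rw [S.card_eq]
    omega
  · exact card_irrFinset B ▸ Q.minOK h _ le_rfl fun χ hχ =>
      (S.isInducedBlock_below v).secProj_ne_zero_of_major S.hM (S.orderOf_eq v) rfl hd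
        (mem_irrFinset.1 hχ)

theorem StarSetup.kGood_of_isCyclic (S : StarSetup p M B P e) (h : IsCyclic P) : KGood p B :=
  Or.inr (Or.inr fun η h1 h2 h3 => by
    have := S.isDefectGroup.blockRank_le_norm_of_isCyclic S.hM S.hB h h1 h2 h3
    rwa [S.card_eq, Nat.cast_pow] at this)

theorem StarSetup.kGood_of_free (S : StarSetup p M B P e)
    (hab : P ≤ Subgroup.centralizer (P : Set G))
    (h : ∀ σ ∈ inAut P e, ∀ x : P, x ≠ 1 → σ x = x → σ = 1) : KGood p B := by
  by_cases h1 : P = ⊥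
  · exact S.kGood_of_isCyclic (h1 ▸ inferInstance)
  · exact Or.inr (Or.inr (S.minOK_of_free hab (StarSetup.free_iff_aut.2 h) h1))

theorem StarSetup.kGood_two (S : StarSetup 2 M B P e) (hab : P ≤ Subgroup.centralizer (P : Set G))
    (hc : Nat.card P ≤ 16) (h7 : ¬ 7 ∣ Nat.card (inAut P e)) : KGood 2 B := by
  have := isMulCommutative_of_le_centralizer hab
  letI : CommGroup P := { (inferInstance : Group P) with mul_comm := fun a b => mul_comm' a b }
  rcases aut_sixteen S.isPGroup hc (S.not_dvd_card_inAut hab) h7 with h | ⟨h1, h2, h | h⟩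
  · exact Or.inr (Or.inl ⟨rfl, (S.blockRank_eq_card_inAut hab h).le.trans h⟩)
  · exact (S.minOK_of_nine hab h1 h2 h).imp (·.trans one_le_two) Or.inr
  · exact S.kGood_of_free hab h

theorem StarSetup.kGood_or (S : StarSetup p M B P e) (hc : Nat.card P ≤ 16) (hp : p ≠ 2) :
    KGood p B ∨ p = 3 ∧ Nat.card P = 9 ∧ ∀ a : P, a ^ 3 = 1 := by
  have := S.hM.fact_prime
  refine or_iff_not_imp_left.2 fun h => ?_
  replace h := mt S.kGood_of_isCyclic h
  obtain ⟨n, hn⟩ := IsPGroup.iff_card.1 S.isPGroup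
  have h1 : 2 ≤ n := by
    by_contra! h1
    exact h (isCyclic_of_card_dvd_prime (p := p) (hn ▸ (pow_dvd_pow p (by omega)).trans
      (pow_one p).dvd))
  have h2 := Nat.pow_le_pow_right this.out.pos h1
  have h3 := this.out.two_le
  obtain rfl : p = 3 := by
    have : p < 5 := by nlinarith
    interval_cases p
    exacts [absurd rfl hp, rfl, absurd S.hM.prime (by norm_num)]
  have h4 : n < 3 := (Nat.pow_lt_pow_iff_right (by norm_num : 1 < 3)).1 (by omega)
  obtain rfl : n = 2 := by omega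
  exact ⟨rfl, hn, fun a => (not_isCyclic_iff_exponent_eq_prime Nat.prime_three hn).1 h ▸
    Monoid.pow_exponent_eq_one a⟩

theorem StarSetup.card_le_of_index_le_sixteen (S : StarSetup p M B P e) {z : P}
    (hz : z ∈ Subgroup.center P) (hi : (Subgroup.zpowers z).index ≤ 16) :
    Nat.card B ≤ Nat.card P := by
  have := S.hM.fact_prime
  have key : ∀ v ∈ Subgroup.center P, orderOf z ≤ orderOf v →
      ∃ (H : Type u) (_ : Group H) (_ : Fintype H) (B' : Set (IrrCharacter H)) (P' : Subgroup H)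
        (e' : (resK M)[H]) (S' : StarSetup p M B' P' e') (ρ : P →* P'), SubQuot S v P S' ρ ∧
          Nat.card P' ≤ 16 ∧ Nat.card P' = (Subgroup.zpowers v).index := fun v hv h => by
    obtain ⟨H, _, _, B', P', e', S', ρ, Q⟩ :=
      S.exists_subQuot_central (StarSetup.le_centralizer_of_mem_center hv)
    have h1 := Q.card_mul
    have h2 := (Subgroup.zpowers z).index_mul_card
    have h3 := (Subgroup.zpowers v).index_mul_card
    rw [Nat.card_zpowers] at h2 h3
    rw [Subgroup.orderOf_coe] at h1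
    have h4 := orderOf_pos v
    exact ⟨H, _, _, B', P', e', S', ρ, Q, Nat.le_of_mul_le_mul_right (by nlinarith) h4,
      Nat.eq_of_mul_eq_mul_right h4 (h1.trans h3.symm)⟩
  by_cases hab : ∀ a b : P, a * b = b * a
  · have hab' : P ≤ Subgroup.centralizer (P : Set G) := fun a ha b hb =>
      congrArg Subtype.val (hab ⟨b, hb⟩ ⟨a, ha⟩)
    letI : CommGroup P := { (inferInstance : Group P) with mul_comm := hab }
    have hc := fun v : P => Subgroup.mem_center_iff.2 fun b => hab b v
    have hE := S.not_dvd_card_inAut hab'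
    by_cases hp : p = 2
    · subst hp
      obtain ⟨v, h1, h2⟩ := exists_not_seven S.isPGroup hi hE
      obtain ⟨H, _, _, B', P', e', S', ρ, Q, h3, -⟩ := key v (hc v) h1
      exact Q.card_le (S'.kGood_two (Q.comm hab') h3 (Q.card_inAut hab' ▸ h2))
    by_contra h0
    obtain rfl : p = 3 := by
      obtain ⟨_, _, _, B', P', e', S', ρ, Q, h3, -⟩ := key z hz le_rfl
      exact ((S'.kGood_or h3 hp).resolve_left (mt Q.card_le h0)).1
    refine false_of_forall_inverted S.isPGroup hE (z := z) fun v hv => ?_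
    obtain ⟨_, _, _, B', P', e', S', ρ, Q, h3, h4⟩ := key v (hc v) hv
    obtain ⟨-, h5, h6⟩ := (S'.kGood_or h3 hp).resolve_left (mt Q.card_le h0)
    have := isMulCommutative_of_le_centralizer (Q.comm hab')
    letI : CommGroup P' := { (inferInstance : Group P') with mul_comm := fun a b => mul_comm' a b }
    obtain ⟨τ, h7, h8⟩ := exists_inv_aut_of_nine h5 h6 (S'.not_dvd_card_inAut (Q.comm hab'))
      (lt_of_not_ge fun h7 => h0 (Q.card_le (Or.inl ((S'.blockRank_eq_card_inAut (Q.comm hab')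
        (by omega)).le.trans h7))))
    obtain ⟨σ, h9, h10, h11⟩ := Q.lift_aut h7
    exact ⟨h4 ▸ h5, fun a => Q.ker'.1 (by rw [map_pow, h6]), σ, h9, h10,
      fun a => Q.ker'.1 (by rw [map_mul, h11, h8, inv_mul_cancel])⟩
  obtain ⟨H, _, _, B', P', e', S', ρ, Q, h3, -⟩ := key z hz le_rfl
  refine Q.card_le ?_
  by_cases hab' : ∀ a b : P', a * b = b * a
  swap
  · push Not at hab'
    obtain ⟨a, b, h⟩ := hab'
    by_cases hp : p = 2
    · subst hp
      exact Or.inr (Or.inl ⟨rfl, S'.rank_le_three_of_card_le_sixteen h3 h⟩)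
    · refine (S'.kGood_or h3 hp).resolve_right fun ⟨h4, h5, _⟩ => h ?_
      exact (IsPGroup.isMulCommutative_of_card_eq_prime_sq (p := p) (h4 ▸ h5)).is_comm.comm a b
  have hab'' : P' ≤ Subgroup.centralizer (P' : Set H) := fun a ha b hb =>
    congrArg Subtype.val (hab' ⟨b, hb⟩ ⟨a, ha⟩)
  letI : CommGroup P' := { (inferInstance : Group P') with mul_comm := hab' }
  by_cases hp : p = 2
  · subst hp
    refine S'.kGood_two hab'' h3 fun h4 => ?_
    have : Fact (Nat.Prime 7) := ⟨by norm_num⟩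
    obtain ⟨τ, h4⟩ := exists_prime_orderOf_dvd_card' 7 h4
    obtain ⟨σ, -, h5, h6⟩ := Q.lift_aut τ.2
    exact hab (comm_of_orderOf_seven Q.surj (fun _ => Q.ker') hz h5 h6 S'.isPGroup h3
      (by rw [Subgroup.orderOf_coe, h4]))
  · refine (S'.kGood_or h3 hp).elim id fun ⟨h4, h5, _⟩ => S'.kGood_of_free hab'' fun τ hτ x => ?_
    obtain ⟨σ, -, h6, h7⟩ := Q.lift_aut hτ
    exact aut_eq_one_of_card_le_sq Q.surj (fun _ => Q.ker') hz h6 h7 S'.isPGroup (h4 ▸ h5.le) hab
      (S'.not_dvd_card_inAut hab'') (pow_card_eq_one_of_mem hτ)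

end Cfsg
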