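import Cfsg.Agent.Blk.AutTrace
import Cfsg.Agent.Blk.Cover
import Cfsg.Agent.Blk.CycData
import Cfsg.Agent.CT.Clifford
import Cfsg.Agent.Grp.Fitting
import Cfsg.Prelude.Def_CaseTheorems

/-!
# Blocks and normal subgroups of index two; sectional rank
-/

set_option autoImplicit false

universe u v

namespace Cfsg

open ComplexConjugate

variable {G : Type u} [Group G] {p : ℕ} {M : Ideal AlgInt}

section two
variable [Fintype G] {N : Subgroup G} [hN : N.Normal] [Fintype N]

omit [Fintype N] in
theorem irrFinset_orbit_of_index_two [DecidableEq (IrrCharacter N)] (h2 : N.index = 2) {t : G}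
    (ht : t ∉ N) (θ : IrrCharacter N) : irrFinset (MulAction.orbit G θ) = {θ, t • θ} := by
  ext φ
  simp only [mem_irrFinset, Finset.mem_insert, Finset.mem_singleton]
  constructor
  · rintro ⟨g, rfl⟩
    by_cases hg : g ∈ N
    · exact Or.inl (θ.smul_eq_of_mem hg)
    · right
      have : t⁻¹ * g ∈ N := by
        rw [Subgroup.mul_mem_iff_of_index_two h2]
        simp [ht, hg]
      have h := θ.smul_eq_of_mem this
      rw [mul_smul, inv_smul_eq_iff] at h
      exact h
  · rintro (rfl | rfl)
    · exact MulAction.mem_orbit_self _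
    · exact MulAction.mem_orbit _ _

theorem res_of_index_two (h2 : N.index = 2) {t : G} (ht : t ∉ N) (χ : IrrCharacter G)
    {θ : IrrCharacter N} (h : classInner (fun n : N => χ.1 n) θ.1 ≠ 0) :
    (t • θ = θ ∧ (fun n : N => χ.1 n) = θ.1) ∨
      (t • θ ≠ θ ∧ (fun n : N => χ.1 n) = θ.1 + (t • θ).1) := by
  classical
  obtain ⟨e, he, -, h1, -, -, h3⟩ := clifford χ h
  have : e = 1 := by
    have h4 : 0 < (charInertia θ.1).index := Nat.pos_of_ne_zero Subgroup.index_ne_zero_of_finite
    rw [h2] at h3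
    by_contra hc
    have : 2 ≤ e := by omega
    nlinarith
  subst this
  rw [irrFinset_orbit_of_index_two h2 ht] at h1
  by_cases hs : t • θ = θ
  · exact Or.inl ⟨hs, funext fun n => by simp [h1, hs]⟩
  · exact Or.inr ⟨hs, funext fun n => by simp [h1, Finset.sum_pair (Ne.symm hs)]⟩

theorem classInner_res_self_of_index_two (h2 : N.index = 2) (χ : IrrCharacter G) :
    classInner (fun n : N => χ.1 n) (fun n : N => χ.1 n) = 1 ∨
      classInner (fun n : N => χ.1 n) (fun n : N => χ.1 n) = 2 := by
  obtain ⟨t, ht⟩ : ∃ t, t ∉ N := by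
    by_contra hc
    push Not at hc
    rw [(Subgroup.eq_top_iff' N).2 hc] at h2
    simp at h2
  obtain ⟨θ, hθ⟩ := (χ.isCharacter.res N).exists_irr_constituent
    (fun h => χ.one_ne_zero (congrFun h 1))
  rcases res_of_index_two h2 ht χ hθ with ⟨-, h⟩ | ⟨h0, h⟩
  · left; rw [h, θ.classInner_self]
  · right
    rw [h, classInner_add_left, classInner_add_right, classInner_add_right, θ.classInner_self,
      (t • θ).classInner_self, IrrCharacter.classInner_of_ne h0,
      IrrCharacter.classInner_of_ne h0.symm]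
    norm_num

omit hN in
open Classical in
theorem classInner_res_self_eq (h2 : N.index = 2) (χ : IrrCharacter G) :
    classInner (fun n : N => χ.1 n) (fun n : N => χ.1 n) =
      1 + classInner (fun g => (if g ∈ N then 1 else -1) * χ.1 g) χ.1 := by
  nth_rewrite 1 [← χ.classInner_self]
  rw [← classInner_add_left, classInner_def, classInner_def, ← N.card_mul_index, h2]
  have h1 : ∑ g : G, (χ.1 + fun g => (if g ∈ N then 1 else -1) * χ.1 g) g * conj (χ.1 g) =
      2 * ∑ n : N, χ.1 n * conj (χ.1 n) := by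
    rw [← Finset.sum_subtype (Finset.univ.filter (· ∈ N)) (by simp)
      (fun g => χ.1 g * conj (χ.1 g)), Finset.sum_filter, Finset.mul_sum]
    refine Finset.sum_congr rfl fun g _ => ?_
    simp only [Pi.add_apply]
    split_ifs <;> ring
  rw [h1]
  have : (Nat.card N : ℂ) ≠ 0 := Nat.cast_ne_zero.2 Nat.card_pos.ne'
  push_cast
  field_simp

theorem apply_eq_zero_of_classInner_res_ne_one (h2 : N.index = 2) {χ : IrrCharacter G}
    (h : classInner (fun n : N => χ.1 n) (fun n : N => χ.1 n) ≠ 1) {g : G} (hg : g ∉ N) :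
    χ.1 g = 0 := by
  classical
  have h1 := (classInner_res_self_of_index_two h2 χ).resolve_left h
  rw [classInner_res_self_eq h2] at h1
  have h3 : classInner (fun g => if g ∈ N then 0 else χ.1 g)
      (fun g => if g ∈ N then 0 else χ.1 g) = 0 := by
    have h4 : classInner (χ.1 - fun g => (if g ∈ N then 1 else -1) * χ.1 g) χ.1 = 0 := by
      rw [classInner_sub_left, χ.classInner_self]
      linear_combination -h1
    have h5 : classInner (χ.1 - fun g => (if g ∈ N then 1 else -1) * χ.1 g) χ.1 =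
        2 * classInner (fun g => if g ∈ N then 0 else χ.1 g)
          (fun g => if g ∈ N then 0 else χ.1 g) := by
      rw [classInner_def, classInner_def, mul_left_comm, Finset.mul_sum (a := 2)]
      congr 1
      refine Finset.sum_congr rfl fun g _ => ?_
      simp only [Pi.sub_apply]
      split_ifs <;> simp; ring
    rw [h5] at h4
    simpa using h4
  have := congrFun (classInner_self_eq_zero.1 h3) g
  simpa [hg] using this

theorem blockRank_le_add_of_index_two (h2 : N.index = 2) {b : Set (IrrCharacter N)}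
    {C : Set (IrrCharacter G)}
    (h : ∀ θ ∈ b, ∃ χ ∈ C, classInner (fun n : N => χ.1 n) θ.1 ≠ 0) :
    blockRank p b ≤ blockRank p C +
      Nat.card {χ | χ ∈ C ∧ classInner (fun n : N => χ.1 n) (fun n : N => χ.1 n) ≠ 1} := by
  classical
  obtain ⟨t, ht⟩ : ∃ t, t ∉ N := by
    by_contra hc
    push Not at hc
    rw [(Subgroup.eq_top_iff' N).2 hc] at h2
    simp at h2
  choose c hc using fun χ : IrrCharacter G => (χ.isCharacter.res N).exists_irr_constituent
    (fun h => χ.one_ne_zero (congrFun h 1))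
  set S := {χ | χ ∈ C ∧ classInner (fun n : N => χ.1 n) (fun n : N => χ.1 n) ≠ 1} with hS
  have h1 : regSpan p b ≤ (regSpan p C).map (regComapL p N.subtype) ⊔ regSpan p (c '' S) := by
    rw [regSpan_le_iff]
    intro θ hθ
    obtain ⟨χ, hχ, hχθ⟩ := h θ hθ
    have h3 : pRegularPart p (fun n : N => χ.1 n) ∈ (regSpan p C).map (regComapL p N.subtype) :=
      ⟨_, pRegularPart_mem_regSpan hχ, regComapL_pRegularPart _ _⟩
    rcases res_of_index_two h2 ht χ hχθ with ⟨-, h4⟩ | ⟨h0, h4⟩
    · exact Submodule.mem_sup_left (h4 ▸ h3)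
    · have hχS : χ ∈ S := ⟨hχ, by
        rw [h4, classInner_add_left, classInner_add_right, classInner_add_right, θ.classInner_self,
          (t • θ).classInner_self, IrrCharacter.classInner_of_ne h0,
          IrrCharacter.classInner_of_ne h0.symm]
        norm_num⟩
      have h5 : pRegularPart p (c χ).1 ∈ regSpan p (c '' S) :=
        pRegularPart_mem_regSpan ⟨χ, hχS, rfl⟩
      have h6 : c χ ∈ irrFinset (MulAction.orbit G θ) :=
        mem_irrFinset.2 (clifford_mem_orbit χ hχθ (hc χ))
      rw [irrFinset_orbit_of_index_two h2 ht, Finset.mem_insert, Finset.mem_singleton] at h6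
      rcases h6 with h6 | h6
      · exact Submodule.mem_sup_right (h6 ▸ h5)
      · have : pRegularPart p θ.1 =
            pRegularPart p (fun n : N => χ.1 n) - pRegularPart p (c χ).1 := by
          rw [h4, h6, pRegularPart_add]; simp
        rw [this]
        exact Submodule.sub_mem _ (Submodule.mem_sup_left h3) (Submodule.mem_sup_right h5)
  have h3 := Submodule.finrank_mono h1
  have h4 := Submodule.finrank_add_le_finrank_add_finrank
    ((regSpan p C).map (regComapL p N.subtype)) (regSpan p (c '' S))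
  have h5 := Submodule.finrank_map_le (regComapL p N.subtype) (regSpan p C)
  have h6 := blockRank_le_card (p := p) (c '' S)
  have h7 : Nat.card (c '' S) ≤ Nat.card S := Nat.card_image_le (Set.toFinite _)
  simp only [blockRank_eq_finrank] at *
  omega

theorem IsPBlock.blockRank_le_two_mul (hM : IsPModular p M) (h2 : N.index = 2)
    {B : Set (IrrCharacter G)} (hB : IsPBlock M B) {b : Set (IrrCharacter N)}
    (h : ∀ θ ∈ b, ∃ χ ∈ B, classInner (fun n : N => χ.1 n) θ.1 ≠ 0) :
    blockRank p b ≤ 2 * blockRank p B := by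
  classical
  obtain ⟨t, ht⟩ : ∃ t, t ∉ N := by
    by_contra hc
    push Not at hc
    rw [(Subgroup.eq_top_iff' N).2 hc] at h2
    simp at h2
  set U := {θ : IrrCharacter N | ∃ χ ∈ B, classInner (fun n : N => χ.1 n) θ.1 ≠ 0} with hUdef
  have hU : IsBlockUnion M U := by
    rintro θ ⟨χ, hχ, hχθ⟩ ψ hψ
    exact hB.exists_over_of_covers hM (isPBlock_blockOf θ)
      ⟨χ, hχ, θ, hM.mem_blockOf_self θ, hχθ⟩ hψ
  have hUt : ∀ θ ∈ U, t • θ ∈ U := by
    rintro θ ⟨χ, hχ, hχθ⟩
    exact ⟨χ, hχ, by rwa [IrrCharacter.classInner_res_smul χ.isClassFunction]⟩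
  refine (blockRank_mono (V := U) h).trans ?_
  let α : N ≃* N := (MulAut.conjNormal t : MulAut N)⁻¹
  let T : (N → ℂ) →ₗ[ℂ] (N → ℂ) := LinearMap.funLeft ℂ ℂ α
  have hT : ∀ θ : IrrCharacter N, T (pRegularPart p θ.1) = pRegularPart p (t • θ).1 := by
    intro θ
    funext n
    simp only [T, LinearMap.funLeft_apply, pRegularPart_apply, MulEquiv.orderOf_eq]
    rfl
  have htt : ∀ θ : IrrCharacter N, t • t • θ = θ := fun θ => by
    rw [← mul_smul]
    exact θ.smul_eq_of_mem (Subgroup.mul_self_mem_of_index_two h2 t)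
  let A : (N → ℂ) →ₗ[ℂ] (N → ℂ) := ∑ θ ∈ irrFinset U, (classInnerLeftL θ.1).smulRight
    ((2 : ℂ)⁻¹ • (pRegularPart p θ.1 + pRegularPart p (t • θ).1))
  have hA : ∀ f, A f = (2 : ℂ)⁻¹ • (pRegularPart p (blockPart U f) +
      T (pRegularPart p (blockPart U f))) := by
    intro f
    rw [pRegularPart_blockPart_eq_sum, map_sum, ← Finset.sum_add_distrib, Finset.smul_sum,
      LinearMap.sum_apply]
    refine Finset.sum_congr rfl fun θ _ => ?_
    rw [map_smul, hT, ← smul_add, smul_comm]
    rfl
  let W : Submodule ℂ (N → ℂ) := regSpan p U ⊓ LinearMap.eqLocus T LinearMap.id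
  have hAW : LinearMap.IsProj W A := by
    refine ⟨fun f => ?_, fun f hf => ?_⟩
    · rw [LinearMap.sum_apply]
      refine Submodule.sum_mem _ fun θ hθ => Submodule.smul_mem _ _ (Submodule.smul_mem _ _ ?_)
      rw [mem_irrFinset] at hθ
      refine ⟨Submodule.add_mem _ (pRegularPart_mem_regSpan hθ)
        (pRegularPart_mem_regSpan (hUt θ hθ)), ?_⟩
      change T _ = _
      rw [map_add, hT, hT, htt, add_comm]
      rfl
    · rw [hA, hU.blockPart_eq_of_mem_regSpan hM hf.1, pRegularPart_eq_of_mem_regSpan hf.1,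
        show T f = f from hf.2, ← two_smul ℂ f, smul_smul]
      simp
  have hW : W ≤ (regSpan p B).map (regComapL p N.subtype) := by
    intro f hf
    rw [← hAW.map_id f hf, LinearMap.sum_apply]
    refine Submodule.sum_mem _ fun θ hθ => Submodule.smul_mem _ _ (Submodule.smul_mem _ _ ?_)
    obtain ⟨χ, hχ, hχθ⟩ := mem_irrFinset.1 hθ
    have h3 : pRegularPart p (fun n : N => χ.1 n) ∈ (regSpan p B).map (regComapL p N.subtype) :=
      ⟨_, pRegularPart_mem_regSpan hχ, regComapL_pRegularPart _ _⟩
    rcases res_of_index_two h2 ht χ hχθ with ⟨h0, h4⟩ | ⟨-, h4⟩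
    · rw [h0, ← h4]
      exact Submodule.add_mem _ h3 h3
    · rwa [h4, pRegularPart_add] at h3
  have h3 := (Submodule.finrank_mono hW).trans (Submodule.finrank_map_le _ _)
  have h4 := hAW.trace
  obtain ⟨m, hm⟩ := hU.exists_sum_comp_aut_eq_nat hM α
  have h5 : ∑ θ ∈ irrFinset U, classInner (pRegularPart p (t • θ).1) θ.1 = m := by
    have hc : (Nat.card N : ℂ) ≠ 0 := Nat.cast_ne_zero.2 Nat.card_pos.ne'
    refine mul_left_cancel₀ hc ?_
    rw [← hm, Finset.sum_comm, Finset.mul_sum]
    refine Finset.sum_congr rfl fun θ _ => ?_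
    rw [classInner_def, mul_inv_cancel_left₀ hc, Finset.sum_filter]
    refine Finset.sum_congr rfl fun x _ => ?_
    rw [pRegularPart_apply]
    split_ifs
    · simp
    · rfl
  have h6 : LinearMap.trace ℂ _ A = (2 : ℂ)⁻¹ * (blockRank p U + m) := by
    rw [map_sum, hU.blockRank_eq_sum_classInner hM, ← h5, ← Finset.sum_add_distrib, Finset.mul_sum]
    refine Finset.sum_congr rfl fun θ _ => ?_
    rw [LinearMap.trace_smulRight, map_smul, map_add]
    rfl
  have h7 : blockRank p U + m = 2 * Module.finrank ℂ W := by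
    have : (blockRank p U + m : ℂ) = 2 * Module.finrank ℂ W := by
      rw [← h4, h6]; ring
    exact_mod_cast this
  rw [blockRank_eq_finrank p B]
  omega

end two

section rank

theorem SectionalPRankLE.card_le_of_injective {s : ℕ} (h : SectionalPRankLE p s G)
    {A : Type v} [Group A] (f : A →* G) (hf : Function.Injective f) (hc : ∀ a b : A, a * b = b * a)
    (he : ∀ a : A, a ^ p = 1) : Nat.card A ≤ p ^ s := by
  let g : A →* (⊤ : Subgroup G) ⧸ (⊥ : Subgroup (⊤ : Subgroup G)) :=
    (QuotientGroup.mk' ⊥).comp (Subgroup.topEquiv.symm.toMonoidHom.comp f)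
  have hg : Function.Injective g := by
    rw [injective_iff_map_eq_one]
    intro a ha
    simp only [g, MonoidHom.comp_apply, QuotientGroup.mk'_apply, QuotientGroup.eq_one_iff,
      Subgroup.mem_bot] at ha
    exact hf (by simpa using congrArg Subtype.val ha)
  rw [Nat.card_congr (MonoidHom.ofInjective hg).toEquiv]
  refine h ⊤ ⊥ g.range ⟨⟨?_⟩⟩ ?_
  · rintro ⟨_, a, rfl⟩ ⟨_, b, rfl⟩
    exact Subtype.ext (by simp only [Subgroup.coe_mul, ← map_mul, hc a b])
  · rintro _ ⟨a, rfl⟩
    rw [← map_pow, he, map_one]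

theorem SectionalPRankLE.card_le_of_isConjLE {s : ℕ} {D E : Subgroup G}
    (h : SectionalPRankLE p s D) (hE : IsConjLE E D) (hc : ∀ a ∈ E, ∀ b ∈ E, a * b = b * a)
    (he : ∀ a ∈ E, a ^ p = 1) : Nat.card E ≤ p ^ s := by
  obtain ⟨x, hx⟩ := hE
  refine h.card_le_of_injective
    ((Subgroup.inclusion hx).comp (E.equivMapOfInjective _ (MulAut.conj x).injective).toMonoidHom)
    ((Subgroup.inclusion_injective hx).comp (MulEquiv.injective _))
    (fun a b => Subtype.ext (hc _ a.2 _ b.2)) fun a => Subtype.ext (he _ a.2)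

theorem SectionalPRankLE.two_le [Finite G] [hp : Fact p.Prime] {s : ℕ} (h : SectionalPRankLE p s G)
    (hG : IsPGroup p G) (hc : ¬ IsCyclic G) : 2 ≤ s := by
  have h1 := sq_dvd_index_frattini_of_not_isCyclic hG hc
  have h2 : ((frattini G).subgroupOf ⊤).index ≤ p ^ s := by
    have := h ⊤ ((frattini G).subgroupOf ⊤) ⊤ ⟨⟨?_⟩⟩ ?_
    · rwa [Subgroup.card_top] at this
    · rintro ⟨a, -⟩ ⟨b, -⟩
      obtain ⟨a, rfl⟩ := QuotientGroup.mk_surjective a
      obtain ⟨b, rfl⟩ := QuotientGroup.mk_surjective b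
      refine Subtype.ext ?_
      simp only [Subgroup.coe_mul, ← QuotientGroup.mk_mul, QuotientGroup.eq,
        Subgroup.mem_subgroupOf]
      refine commutator_le_frattini_of_isPGroup hG ?_
      have := Subgroup.commutator_mem_commutator (Subgroup.mem_top (b⁻¹ : G))
        (Subgroup.mem_top (a⁻¹ : G))
      simpa [commutatorElement_def, mul_assoc, commutator_def] using this
    · rintro a -
      obtain ⟨a, rfl⟩ := QuotientGroup.mk_surjective a
      rw [← QuotientGroup.mk_pow, QuotientGroup.eq_one_iff, Subgroup.mem_subgroupOf]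
      exact pow_mem_frattini_of_isPGroup hG _
  rw [← Subgroup.relIndex, Subgroup.relIndex_top_right] at h2
  have := (Nat.le_of_dvd (Nat.pos_of_ne_zero Subgroup.index_ne_zero_of_finite) h1).trans h2
  exact (Nat.pow_le_pow_iff_right hp.out.one_lt).1 this

theorem SectionalPRankLE.one_le [Finite G] [hp : Fact p.Prime] {s : ℕ} (h : SectionalPRankLE p s G)
    (hG : IsPGroup p G) [Nontrivial G] : 1 ≤ s := by
  obtain ⟨k, hk⟩ := hG.exists_card_eq
  obtain ⟨x, hx⟩ := exists_prime_orderOf_dvd_card' (G := G) p (by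
    rw [hk]
    refine dvd_pow_self p ?_
    rintro rfl
    exact Finite.one_lt_card.ne' hk)
  have := h.card_le_of_injective (Subgroup.zpowers x).subtype Subtype.val_injective
    (fun a b => mul_comm' a b) (fun a => by
      have := pow_card_eq_one' (x := a)
      rwa [Nat.card_zpowers, hx] at this)
  rw [Nat.card_zpowers, hx] at this
  by_contra hc
  obtain rfl : s = 0 := by omega
  rw [pow_zero] at this
  have := hp.out.one_lt
  omega

variable [Finite G]

theorem IsDefectGroup.blockRank_lt_of_isCyclic (hM : IsPModular p M) {B : Set (IrrCharacter G)}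
    (hB : IsPBlock M B) {D : Subgroup G} (hD : IsDefectGroup p M B D) (hc : IsCyclic D)
    (h1 : D ≠ ⊥) : blockRank p B < p := by
  have := Fintype.ofFinite G
  obtain ⟨e, S⟩ := hD.exists_starSetup hM hB
  obtain ⟨X, ψ, δ, δ₀, h⟩ := S.exists_cycData hc h1
  have h2 := hM.prime.two_le
  have := Nat.le_of_dvd (by omega) h.card_X_dvd
  rw [h.blockRank_eq]
  omega

theorem IsDefectGroup.isConjLE_of_apply_ne_zero_of_normal (hM : IsPModular p M)
    {B : Set (IrrCharacter G)} (hB : IsPBlock M B) {D : Subgroup G} (hD : IsDefectGroup p M B D)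
    {χ : IrrCharacter G} (hχ : χ ∈ B) {u : G} (hu : ∃ k : ℕ, orderOf u = p ^ k) (h0 : χ.1 u ≠ 0)
    {E : Subgroup G} (hE : IsPGroup p E) (hEC : E ≤ Subgroup.centralizer {u})
    (hn : Subgroup.centralizer {u} ≤ Subgroup.normalizer (E : Set G)) : IsConjLE E D := by
  have h1 := hB.apply_section hM hu rfl hχ (s := 1) (by simpa using hM.prime.one_lt.ne')
  have h2 : (inducingChars M (Subgroup.centralizer {u}) B).Nonempty := by
    by_contra hc
    rw [Set.not_nonempty_iff_eq_empty] at hc
    apply h0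
    have := Fintype.ofFinite (Subgroup.centralizer ({u} : Set G))
    simpa [hc, blockPart_eq_sum_smul, show irrFinset (∅ : Set (IrrCharacter
      (Subgroup.centralizer ({u} : Set G)))) = ∅ by ext; simp] using h1
  obtain ⟨ξ, b, -, hb⟩ := h2
  obtain ⟨Q, hQ⟩ := hb.1.exists_isDefectGroup hM
  obtain ⟨D', hD', hQD⟩ := hb.exists_isDefectGroup_ge hM hQ
  have : (E.subgroupOf (Subgroup.centralizer {u})).Normal :=
    (Subgroup.normal_subgroupOf_iff_le_normalizer hEC).2 hn
  have h3 := hQ.le_of_normal hM hb.1 (P := E.subgroupOf _) (hE.comap_of_injective _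
    (Subgroup.subtype_injective _))
  refine (IsConjLE.of_le (le_trans ?_ hQD)).trans (hD'.isConjLE hM hB hD)
  rw [← Subgroup.map_subgroupOf_eq_of_le hEC]
  exact Subgroup.map_mono h3

end rank

end Cfsg
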