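import Cfsg.Agent.Blk.Defect
import Cfsg.Agent.CT.Galois

/-! Real blocks and the principal `2`-block. -/

set_option autoImplicit false
set_option linter.unusedSectionVars false
set_option linter.unusedVariables false

namespace Cfsg

open scoped ComplexConjugate MonoidAlgebra

universe u v w

variable {G : Type u} [Group G] [Finite G] {p : ℕ} {M : Ideal AlgInt}

theorem centralizer_singleton_inv' (g : G) :
    Subgroup.centralizer ({g⁻¹} : Set G) = Subgroup.centralizer ({g} : Set G) := by
  ext y
  simp only [Subgroup.mem_centralizer_singleton_iff]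
  exact Commute.inv_right_iff (a := y) (b := g)

theorem centralChar_cconj (χ : IrrCharacter G) (g : G) :
    centralChar χ.cconj.1 g = centralChar χ.1 g⁻¹ := by
  simp only [centralChar, IrrCharacter.cconj_apply', inv_one, centralizer_singleton_inv']

theorem IsPModular.sameBlock_cconj (hM : IsPModular p M) {χ ψ : IrrCharacter G}
    (h : SameBlock M χ.1 ψ.1) : SameBlock M χ.cconj.1 ψ.cconj.1 := by
  rw [hM.sameBlock_iff_red] at h ⊢
  intro g
  rw [centralChar_cconj, centralChar_cconj, h]

theorem IsPModular.cconj_mem_principalBlock (hM : IsPModular p M) {χ : IrrCharacter G}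
    (h : χ ∈ principalBlock M G) : χ.cconj ∈ principalBlock M G := by
  rw [isPBlock_principalBlock.mem_iff_sameBlock hM hM.triv_mem_principalBlock] at h ⊢
  simpa using hM.sameBlock_cconj h

theorem blockCoeff_inv_of_cconj {U : Set (IrrCharacter G)} (hU : ∀ χ ∈ U, χ.cconj ∈ U) (g : G) :
    blockCoeff U g⁻¹ = blockCoeff U g := by
  rw [blockCoeff_eq, blockCoeff_eq]
  congr 1
  refine Finset.sum_nbij' IrrCharacter.cconj IrrCharacter.cconj
    (fun χ hχ => mem_irrFinset.2 (hU χ (mem_irrFinset.1 hχ)))
    (fun χ hχ => mem_irrFinset.2 (hU χ (mem_irrFinset.1 hχ))) (fun χ _ => χ.cconj_cconj)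
    (fun χ _ => χ.cconj_cconj) (fun χ _ => ?_)
  rw [IrrCharacter.cconj_apply', IrrCharacter.cconj_apply', inv_one]

/-- for `χ` of degree prime to `p`, `λ_χ(a) χ(1)` is a sum over the centralizer of a Sylow
subgroup -/
theorem lam_mul_red_one [Fintype G] (χ : IrrCharacter G) {a : (resK M)[G]}
    (ha : a ∈ Subalgebra.center (resK M) (resK M)[G]) :
    lam M χ.1 a * red M (χ.1 1) = ∑ g : G, a.coeff g * red M (χ.1 g) := by
  obtain ⟨b, hb, rfl⟩ := exists_center_lift ha
  rw [lam_toK χ hb, ← red_mul (omega_toC_mem χ hb) (χ.mem_valO 1), omega,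
    div_mul_cancel₀ _ χ.one_ne_zero, charAlg_eq_sum, red_sum]
  · refine Finset.sum_congr rfl fun g _ => ?_
    rw [coeff_toC, red_mul (b.coeff g).2 (χ.mem_valO g), coeff_toK]
  · intro g _
    rw [coeff_toC]
    exact mul_mem (b.coeff g).2 (χ.mem_valO g)

/-- in characteristic `2`, for a character `χ` of odd degree lying in the block of its complex
conjugate, `λ_χ(a) = a(1)` for real central elements `a` vanishing on involutions -/
theorem IsPModular.lam_eq_coeff_one_of_real (hM : IsPModular 2 M) {χ : IrrCharacter G}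
    (hodd : ¬ 2 ∣ charDegree χ.1) (hreal : SameBlock M χ.1 χ.cconj.1) {a : (resK M)[G]}
    (ha : a ∈ Subalgebra.center (resK M) (resK M)[G]) (hinv : ∀ g, a.coeff g⁻¹ = a.coeff g)
    (h2 : ∀ g : G, orderOf g = 2 → a.coeff g = 0) : lam M χ.1 a = a.coeff 1 := by
  classical
  have := Fintype.ofFinite G
  have := hM.charP
  have : Fact (Nat.Prime 2) := ⟨hM.1⟩
  obtain ⟨P⟩ := (inferInstance : Nonempty (Sylow 2 G))
  have hv : valM M (χ.1 1) = 1 := by
    rw [χ.one_eq_charDegree, hM.valM_natCast_eq_one_iff]; exact hodd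
  have h1 : red M (χ.1 1) ≠ 0 := red_ne_zero_iff.2 hv
  apply mul_right_cancel₀ h1
  rw [lam_mul_red_one χ ha, sum_eq_sum_centralizer P.isPGroup' (fun x => by
    rw [nsmul_eq_mul, CharP.cast_eq_zero, zero_mul]) _ (fun _ _ _ _ => Finset.mem_univ _) _
    (fun g _ x _ => by rw [mem_center_iff_coeff.1 ha, χ.isClassFunction]),
    ← Finset.add_sum_erase _ _ (a := 1) (by simp), add_eq_left]
  refine Finset.sum_involution (fun g _ => g⁻¹) (fun g hg => ?_) (fun g hg h0 h => ?_)
    (fun g hg => ?_) (fun g _ => inv_inv g)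
  · have hg' : g ∈ Subgroup.centralizer ((P : Subgroup G) : Set G) := by
      simpa using (Finset.mem_erase.1 hg).2
    have hi : ¬ 2 ∣ (Subgroup.centralizer ({g} : Set G)).index := fun h =>
      P.not_dvd_index (h.trans (Subgroup.index_dvd_of_le (le_centralizer_singleton_iff.2 hg')))
    have h3 := (hM.sameBlock_iff_red _ _).1 hreal g
    have h4 : ∀ ψ : IrrCharacter G, red M (centralChar ψ.1 g) * red M (ψ.1 1) =
        ((Subgroup.centralizer ({g} : Set G)).index : resK M) * red M (ψ.1 g) := fun ψ => by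
      rw [← red_mul (centralChar_mem_valO ψ g) (ψ.mem_valO 1), centralChar,
        div_mul_cancel₀ _ ψ.one_ne_zero, red_mul (natCast_mem_valO _) (ψ.mem_valO g), red_natCast]
    have h5 := h4 χ.cconj
    rw [← h3, IrrCharacter.cconj_apply', IrrCharacter.cconj_apply', inv_one, h4 χ] at h5
    have h6 := mul_left_cancel₀ (mt (CharP.cast_eq_zero_iff (resK M) 2 _).1 hi) h5
    rw [hinv, ← h6, CharTwo.add_self_eq_zero]
  · apply h0
    rw [h2 g (orderOf_eq_prime (by rw [sq]; nth_rw 1 [← h]; exact inv_mul_cancel g)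
      (Finset.mem_erase.1 hg).1), zero_mul]
  · simpa using hg

/-- a character of odd degree in the `2`-block of its complex conjugate lies in the principal
block -/
theorem IsPModular.mem_principalBlock_of_real (hM : IsPModular 2 M) {χ : IrrCharacter G}
    (hodd : ¬ 2 ∣ charDegree χ.1) (hreal : SameBlock M χ.1 χ.cconj.1) :
    χ ∈ principalBlock M G := by
  have hB := (isPBlock_principalBlock (M := M) (G := G)).isBlockUnion hM
  have key : ∀ ψ : IrrCharacter G, ¬ 2 ∣ charDegree ψ.1 → SameBlock M ψ.1 ψ.cconj.1 →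
      lam M ψ.1 (idemK M (principalBlock M G)) = (idemK M (principalBlock M G)).coeff 1 :=
    fun ψ h1 h2 => hM.lam_eq_coeff_one_of_real h1 h2 (idemK_mem_center _)
      (fun g => by
        rw [coeff_idemK, coeff_idemK,
          blockCoeff_inv_of_cconj fun ξ hξ => hM.cconj_mem_principalBlock hξ])
      (fun g hg => by rw [coeff_idemK, hB.blockCoeff_eq_zero hM hg.symm.dvd, red_zero])
  rw [hB.mem_iff_lam_idemK hM, key χ hodd hreal, ← key (IrrCharacter.triv G)
    (by rw [IrrCharacter.charDegree_triv]; norm_num)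
    (by rw [IrrCharacter.cconj_triv]; exact hM.sameBlock_refl _),
    hB.lam_idemK_of_mem hM hM.triv_mem_principalBlock]

theorem exists_not_dvd_charDegree_of_full [Fact p.Prime] {B : Set (IrrCharacter G)}
    (hB : B.Nonempty) (h : blockDefect p B = (Nat.card G).factorization p) :
    ∃ χ ∈ B, ¬ p ∣ charDegree χ.1 := by
  obtain ⟨χ, hχ, h0⟩ := exists_blockHeight_eq_zero hB p
  have h1 := factorization_charDegree_eq (p := p) hχ
  refine ⟨χ, hχ, fun h2 => ?_⟩
  have := (Nat.Prime.dvd_iff_one_le_factorization Fact.out χ.charDegree_pos.ne').1 h2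
  omega

/-- a real `2`-block of maximal defect is the principal block -/
theorem IsPBlock.eq_principalBlock_of_real (hM : IsPModular 2 M) {B : Set (IrrCharacter G)}
    (hB : IsPBlock M B) (h : blockDefect 2 B = (Nat.card G).factorization 2)
    (hreal : ∀ χ ∈ B, χ.cconj ∈ B) : B = principalBlock M G := by
  obtain ⟨χ, hχ, h1⟩ := exists_not_dvd_charDegree_of_full (hB.nonempty hM) h
  exact hB.eq_of_mem hM isPBlock_principalBlock hχ
    (hM.mem_principalBlock_of_real h1 ((hB.mem_iff_sameBlock hM hχ _).1 (hreal χ hχ)))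

end Cfsg
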