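import Cfsg.Agent.Blk.Perfect
import Cfsg.Agent.Blk.Invol
import Cfsg.Agent.Blk.Contrib
import Cfsg.Agent.Blk.RealBlock

/-! The square of the sum of all involutions and norms of projective characters modulo two. -/

set_option autoImplicit false

namespace Cfsg

open scoped ComplexConjugate MonoidAlgebra

universe u

variable {G : Type u} [Group G]

open Classical in
/-- the number of solutions of `s ^ 2 = 1` inverting `x` -/
noncomputable def invCnt [Fintype G] (x : G) : ℕ :=
  (Finset.univ.filter fun s : G => s * s = 1 ∧ s * x * s⁻¹ = x⁻¹).card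

open Classical in
/-- the sum of all solutions of `s ^ 2 = 1` -/
noncomputable def invElt (G : Type u) [Group G] [Finite G] : ℂ[G] :=
  gaOfFun fun s => if s * s = 1 then 1 else 0

theorem invElt_mem_center [Finite G] : invElt G ∈ Subalgebra.center ℂ ℂ[G] := by
  classical
  refine mem_center_iff_coeff.2 fun g h => ?_
  simp only [invElt, coeff_gaOfFun]
  refine if_congr ⟨fun e => ?_, fun e => conj_mul_self_eq_one e h⟩ rfl rfl
  simpa [mul_assoc] using conj_mul_self_eq_one e h⁻¹

theorem coeff_invElt_mul [Fintype G] (x : G) : (invElt G * invElt G).coeff x = invCnt x := by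
  classical
  rw [ga_coeff_mul, invCnt, Finset.card_filter, Nat.cast_sum]
  refine Finset.sum_congr rfl fun s _ => ?_
  simp only [invElt, coeff_gaOfFun]
  by_cases h : s * s = 1
  · have h1 : s⁻¹ = s := inv_eq_of_mul_eq_one_left h
    have h2 : s⁻¹ * x * (s⁻¹ * x) = 1 ↔ s * x * s⁻¹ = x⁻¹ := by
      rw [h1, ← mul_assoc, mul_eq_one_iff_eq_inv]
    simp [h, h2]
  · simp [h]

open Classical in
theorem cast_invCnt [Fintype G] {k : Type*} [CommRing k] [CharP k 2] (x : G) :
    (invCnt x : k) =
      if IsConj x x⁻¹ then (Nat.card (Subgroup.centralizer ({x} : Set G)) : k) else 0 := by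
  have h1 := sum_conj_eq_card_centralizer_smul (fun y : G => if y = x⁻¹ then (1 : k) else 0) x
  rw [Finset.sum_ite_eq' _ x⁻¹, ← Finset.sum_filter,
    ← Finset.sum_filter_add_sum_filter_not _ (fun s => s * s = 1),
    Finset.sum_involution (s := (Finset.filter _ _).filter fun s => ¬ s * s = 1) (fun s _ => s⁻¹)
      (fun _ _ => CharTwo.add_self_eq_zero _) (fun s hs _ h => (Finset.mem_filter.1 hs).2
        (by rw [← eq_inv_iff_mul_eq_one, h])) (fun s hs => ?_) (fun s _ => inv_inv s),
    add_zero, Finset.filter_filter] at h1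
  · simp only [Finset.mem_filter, Finset.mem_univ, true_and, Finset.sum_const, nsmul_eq_mul,
      mul_one, mul_ite, mul_zero] at h1
    rw [← h1, invCnt]
    simp only [and_comm]
  · simp only [Finset.mem_filter, Finset.mem_univ, true_and, inv_inv] at hs ⊢
    refine ⟨?_, fun h => hs.2 (by rwa [← mul_inv_rev, inv_eq_one] at h)⟩
    have h2 := congrArg (·⁻¹) hs.1
    simp only [mul_inv_rev, inv_inv] at h2
    calc s⁻¹ * x * s = s⁻¹ * (s * (x⁻¹ * s⁻¹)) * s := by rw [h2]
      _ = x⁻¹ := by group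

theorem invCnt_conj [Fintype G] (x h : G) : invCnt (h * x * h⁻¹) = invCnt x := by
  have := mem_center_iff_coeff.1 (mul_mem (invElt_mem_center (G := G)) invElt_mem_center) x h
  rw [coeff_invElt_mul, coeff_invElt_mul] at this
  exact_mod_cast this

variable {M : Ideal AlgInt}

/-- the norm of a generalized character vanishing on the `2`-singular elements modulo two -/
theorem IsPModular.red_charAlg_invElt [Fintype G] (hM : IsPModular 2 M) {Φ : G → ℂ}
    (hΦ : IsGeneralizedCharacter G Φ) (h0 : ∀ g, 2 ∣ orderOf g → Φ g = 0) :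
    valM M (charAlg Φ (invElt G * invElt G) / Nat.card G - classInner Φ Φ) < 1 := by
  classical
  have := Fintype.ofFinite (ConjClasses G)
  have := hM.charP
  have hc := hΦ.isClassFunction
  let c : G → ℕ := fun x => Nat.card (Subgroup.centralizer ({x} : Set G))
  have hc0 : ∀ x, (c x : ℂ) ≠ 0 := fun x => Nat.cast_ne_zero.2 Nat.card_pos.ne'
  have hA : ∀ x, Φ x / c x ∈ valO M :=
    hM.div_card_centralizer_mem_of_vanish (hΦ.inIrrSpan _) h0
  let A : G → resK M := fun x => red M (Φ x / c x)
  have hAc : ∀ x y, IsConj x y → A y = A x ∧ c y = c x := fun x y h => by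
    have h1 : c y = c x := (card_centralizer_eq_of_isConj h).symm
    obtain ⟨g, rfl⟩ := isConj_iff.1 h
    exact ⟨by simp only [A, h1, hc x g], h1⟩
  have hci : ∀ x, c x⁻¹ = c x := fun x => by simp only [c, centralizer_singleton_inv']
  have h1 : charAlg Φ (invElt G * invElt G) / Nat.card G =
      ∑ K : ConjClasses G, (invCnt (Quotient.out K) : ℂ) * (Φ K.out / c K.out) := by
    have h2 := IsClassFunction.classInner_eq_sum_conjClasses (G := G)
      (θ := fun x => invCnt x * Φ x) (φ := fun _ => 1)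
      (fun g h => by simp only [invCnt_conj, hc g h]) (fun _ _ => rfl)
    simp only [classInner_def, map_one, mul_one] at h2
    simp only [charAlg_eq_sum, coeff_invElt_mul, ← mul_div_assoc]
    rw [← h2, div_eq_inv_mul]
  have h2 : classInner Φ Φ = ∑ K : ConjClasses G,
      (Φ K.out / c K.out) * (Φ (K.out)⁻¹ / c (K.out)⁻¹) * c K.out := by
    rw [hc.classInner_eq_sum_conjClasses hc]
    refine Finset.sum_congr rfl fun K _ => ?_
    rw [hci, hΦ.apply_inv, mul_assoc, div_mul_cancel₀ _ (hc0 _)]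
    ring
  have h3 : ∀ K : ConjClasses G, (invCnt (Quotient.out K) : ℂ) * (Φ K.out / c K.out) ∈ valO M :=
    fun K => mul_mem (natCast_mem_valO _) (hA _)
  have h4 : ∀ K : ConjClasses G,
      (Φ K.out / c K.out) * (Φ (K.out)⁻¹ / c (K.out)⁻¹) * c K.out ∈ valO M :=
    fun K => mul_mem (mul_mem (hA _) (hA _)) (natCast_mem_valO _)
  obtain ⟨n, hn⟩ := hΦ.exists_classInner_eq_int hΦ
  rw [← red_eq_red_iff (h1 ▸ sum_mem fun K _ => h3 K) (h2 ▸ sum_mem fun K _ => h4 K)]
  have h5 : red M (classInner Φ Φ) ^ 2 = red M (classInner Φ Φ) := by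
    rw [hn, red_intCast, ← frobenius_def, map_intCast]
  refine frobenius_inj (resK M) 2 ?_
  rw [frobenius_def, frobenius_def, h5, h1, h2, red_sum _ fun K _ => h3 K,
    red_sum _ fun K _ => h4 K, CharTwo.sum_sq]
  have hout : ∀ x : G, IsConj x (Quotient.out (ConjClasses.mk x)) := fun x =>
    ConjClasses.mk_eq_mk_iff_isConj.1 (Quotient.out_eq (ConjClasses.mk x)).symm
  have hinv : ∀ x y : G, IsConj x⁻¹ y → IsConj x y⁻¹ := fun x y h => by
    obtain ⟨g, rfl⟩ := isConj_iff.1 h
    exact isConj_iff.2 ⟨g, by group⟩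
  simp only [red_mul (natCast_mem_valO _) (hA _), red_mul (mul_mem (hA _) (hA _))
    (natCast_mem_valO _), red_mul (hA _) (hA _), red_natCast, cast_invCnt]
  rw [← Finset.sum_filter_add_sum_filter_not _ (fun K : ConjClasses G => IsConj K.out (K.out)⁻¹)
      (fun K => A K.out * A (K.out)⁻¹ * c K.out),
    Finset.sum_involution (s := Finset.univ.filter fun K : ConjClasses G =>
      ¬ IsConj K.out (K.out)⁻¹) (fun K _ => ConjClasses.mk (K.out)⁻¹) (fun K _ => ?_)
      (fun K hK _ h => ?_) (fun K hK => ?_) (fun K _ => ?_), add_zero, Finset.sum_filter]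
  · refine Finset.sum_congr rfl fun K _ => ?_
    split_ifs with h
    · rw [(hAc _ _ h).1, mul_pow, ← frobenius_def, map_natCast]; ring
    · simp
  · have h6 := hout (K.out)⁻¹
    rw [(hAc _ _ h6).1, (hAc _ _ h6).2, (hAc _ _ (hinv _ _ h6)).1, hci, mul_comm (A K.out)]
    exact CharTwo.add_self_eq_zero _
  · refine (Finset.mem_filter.1 hK).2 (ConjClasses.mk_eq_mk_iff_isConj.1 ?_)
    rw [h]; exact Quotient.out_eq K
  · refine Finset.mem_filter.2 ⟨Finset.mem_univ _, fun h => (Finset.mem_filter.1 hK).2 ?_⟩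
    have h6 := hout (K.out)⁻¹
    exact ((hinv _ _ h6).trans h.symm).trans h6.symm
  · refine Eq.trans ?_ (Quotient.out_eq K)
    exact ConjClasses.mk_eq_mk_iff_isConj.2 (hinv _ _ (hout _)).symm

theorem IrrCharacter.exists_int_omega_invElt [Finite G] (χ : IrrCharacter G) :
    ∃ n : ℤ, omega χ.1 (invElt G) = 1 + n := by
  classical
  have := Fintype.ofFinite G
  have := Fintype.ofFinite (ConjClasses G)
  have h1 : IsIntegral ℤ (omega χ.1 (invElt G)) := by
    rw [χ.omega_eq_sum_centralChar invElt_mem_center]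
    refine IsIntegral.sum _ fun K _ => IsIntegral.mul ?_ (centralChar_isIntegral χ _)
    simp only [invElt, coeff_gaOfFun]
    split_ifs
    exacts [isIntegral_one, isIntegral_zero]
  have h2 : ∀ s : G, ∃ n : ℤ, (invElt G).coeff s * χ.1 s = n := fun s => by
    simp only [invElt, coeff_gaOfFun]
    split_ifs with h
    · obtain ⟨n, hn, -⟩ := χ.exists_int_apply_of_mul_self h
      exact ⟨n, by rw [one_mul, hn]⟩
    · exact ⟨0, by simp⟩
  choose n hn using h2
  obtain ⟨m, hm⟩ := exists_int_of_isIntegral_of_rat h1 ⟨(∑ s, n s : ℤ) / charDegree χ.1, by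
    rw [omega, charAlg_eq_sum, χ.one_eq_charDegree]
    simp [hn]⟩
  exact ⟨m - 1, by rw [hm]; push_cast; ring⟩

/-- the central character of the sum of all involutions -/
noncomputable def invOm [Finite G] (χ : IrrCharacter G) : ℤ := χ.exists_int_omega_invElt.choose

theorem omega_invElt [Finite G] (χ : IrrCharacter G) : omega χ.1 (invElt G) = 1 + invOm χ :=
  χ.exists_int_omega_invElt.choose_spec

open Classical in
theorem charAlg_invElt [Fintype G] (θ : G → ℂ) :
    charAlg θ (invElt G) = θ 1 + ∑ s with orderOf s = 2, θ s := by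
  rw [charAlg_eq_sum, ← Finset.add_sum_erase _ _ (Finset.mem_univ 1), Finset.sum_filter,
    ← Finset.add_sum_erase _ _ (Finset.mem_univ 1)]
  simp only [invElt, coeff_gaOfFun, mul_one, if_true, one_mul, orderOf_one, ite_mul, zero_mul]
  rw [if_neg (by norm_num), zero_add]
  congr 1
  refine Finset.sum_congr rfl fun s hs => if_congr ⟨fun h => ?_, fun h => ?_⟩ rfl rfl
  · have := Fact.mk Nat.prime_two
    exact orderOf_eq_prime (by rwa [sq]) (Finset.ne_of_mem_erase hs)
  · rw [← sq, ← h, pow_orderOf_eq_one]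

open Classical in
theorem invOm_mul_one [Fintype G] (χ : IrrCharacter G) :
    invOm χ * χ.1 1 = ∑ s with orderOf s = 2, χ.1 s := by
  have h1 := omega_invElt χ
  rw [omega, div_eq_iff χ.one_ne_zero, charAlg_invElt] at h1
  linear_combination -h1

theorem IsPBlock.odd_invOm [Finite G] (hM : IsPModular 2 M) {B : Set (IrrCharacter G)}
    (hB : IsPBlock M B) (hd : blockDefect 2 B ≠ 0) {χ : IrrCharacter G} (hχ : χ ∈ B) :
    Odd (invOm χ) := by
  classical
  have := Fintype.ofFinite G
  have := Fintype.ofFinite (ConjClasses G)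
  have := hM.charP
  have h1 := mt (hB.blockDefect_eq_zero_iff_dvd hM hχ).2 hd
  have h2 : ∀ x : G, valM M ((invCnt x : ℂ) * centralChar χ.1 x) < 1 := fun x => by
    have h3 := mem_valO_of_isIntegral (M := M) (centralChar_isIntegral χ x)
    rw [← red_eq_zero_iff (mul_mem (natCast_mem_valO _) h3), red_mul (natCast_mem_valO _) h3,
      red_natCast, cast_invCnt]
    by_cases h4 : 2 ∣ Nat.card (Subgroup.centralizer ({x} : Set G))
    · rw [(CharP.cast_eq_zero_iff _ 2 _).2 h4, ite_self, zero_mul]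
    refine mul_eq_zero_of_right _ (red_eq_zero_of_lt ?_)
    have h5 := congrArg (·.factorization 2) (Subgroup.centralizer ({x} : Set G)).card_mul_index
    simp only [Nat.factorization_mul Nat.card_pos.ne' Subgroup.index_ne_zero_of_finite,
      Finsupp.add_apply, Nat.factorization_eq_zero_of_not_dvd h4, zero_add] at h5
    rw [Nat.prime_two.pow_dvd_iff_le_factorization χ.charDegree_pos.ne', not_le] at h1
    rw [centralChar, map_div₀, map_mul, χ.one_eq_charDegree, hM.valM_natCast χ.charDegree_pos.ne',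
      hM.valM_natCast Subgroup.index_ne_zero_of_finite, h5, div_lt_one₀ (pow_pos hM.valM_p_pos _)]
    exact (mul_le_of_le_one_right' (mem_valO_iff.1 (mem_valO_of_isIntegral (χ.isIntegral x)))).trans_lt
      (hM.valM_p_pow_lt_iff.2 h1)
  have h3 := χ.omega_eq_sum_centralChar (mul_mem invElt_mem_center invElt_mem_center)
  simp only [omega_center_mul χ invElt_mem_center, omega_invElt, coeff_invElt_mul] at h3
  have h4 : valM M (((1 + invOm χ) * (1 + invOm χ) : ℤ) : ℂ) < 1 := by
    push_cast
    rw [h3]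
    exact (valM M).map_sum_lt one_ne_zero fun K _ => h2 _
  have h5 := (Int.prime_two.dvd_or_dvd (hM.valM_intCast_lt_one_iff.1 h4)).elim id id
  exact Int.odd_iff.2 (by omega)

/-- the basic congruence for generalized characters vanishing on the `2`-singular elements -/
theorem IsPModular.proj_congr [Finite G] (hM : IsPModular 2 M) {B : Set (IrrCharacter G)}
    {x : IrrCharacter G → ℤ} (hx : ∑ χ ∈ irrFinset B, ∑ ψ ∈ irrFinset B,
      x χ * contrib 2 B χ ψ * x ψ = 2 ^ blockDefect 2 B * ∑ χ ∈ irrFinset B, x χ ^ 2) :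
    ∑ χ ∈ irrFinset B, x χ * redDeg 2 B χ.1 * invOm χ = 0 ∧
      2 ^ blockDefect 2 B ∣ ∑ χ ∈ irrFinset B, x χ * redDeg 2 B χ.1 ∧
      2 ^ (blockDefect 2 B + 1) ∣ ∑ χ ∈ irrFinset B, x χ * redDeg 2 B χ.1 * (1 + invOm χ ^ 2) -
        2 ^ blockDefect 2 B * ∑ χ ∈ irrFinset B, x χ ^ 2 := by
  classical
  have := Fintype.ofFinite G
  have := Fact.mk Nat.prime_two
  set d := blockDefect 2 B with hd
  set a := (Nat.card G).factorization 2 with ha
  have hda : d ≤ a := blockDefect_le
  set Φ : G → ℂ := ∑ χ ∈ irrFinset B, (x χ : ℂ) • χ.1 with hΦ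
  have hg : IsGeneralizedCharacter G Φ := isGeneralizedCharacter_sum_smul _ _
  have h1 : classInner Φ Φ = (∑ χ ∈ irrFinset B, x χ ^ 2 : ℤ) := by
    nth_rewrite 2 [hΦ]
    rw [classInner_sum_right, Int.cast_sum]
    refine Finset.sum_congr rfl fun χ hχ => ?_
    rw [classInner_smul_right, hΦ, classInner_sum_smul_irr, if_pos (mem_irrFinset.1 hχ),
      map_intCast]
    push_cast; ring
  have h2 : classInner (pRegularPart 2 Φ) Φ = classInner Φ Φ := by
    refine mul_left_cancel₀ (pow_ne_zero d (two_ne_zero (α := ℂ))) ?_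
    rw [h1, ← Int.cast_ofNat 2, ← Int.cast_pow, ← Int.cast_mul, ← hx]
    nth_rewrite 1 [hΦ]
    rw [pRegularPart_sum, classInner_sum_left, Finset.mul_sum]
    push_cast
    refine Finset.sum_congr rfl fun χ hχ => ?_
    rw [pRegularPart_smul, classInner_smul_left, hΦ, classInner_sum_right, Finset.mul_sum, Finset.mul_sum]
    refine Finset.sum_congr rfl fun ψ _ => ?_
    rw [classInner_smul_right, cast_contrib (mem_irrFinset.1 hχ), map_intCast]
    push_cast; ring
  have h3 : ∀ g, 2 ∣ orderOf g → Φ g = 0 := fun g h => by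
    have h4 : classInner (Φ - pRegularPart 2 Φ) (Φ - pRegularPart 2 Φ) = 0 := by
      rw [classInner_sub_left, classInner_sub_right, classInner_sub_right,
        ← classInner_pRegularPart_comm, ← classInner_pRegularPart_left, h2]
      simp
    simpa [pRegularPart_of_dvd h] using congrFun (classInner_self_eq_zero.1 h4) g
  have h4 : ∀ z, charAlg Φ z = 2 ^ (a - d) *
      ∑ χ ∈ irrFinset B, x χ * redDeg 2 B χ.1 * omega χ.1 z := fun z => by
    simp only [charAlg_eq_sum, hΦ, Finset.sum_apply, Pi.smul_apply, smul_eq_mul, Finset.mul_sum]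
    rw [Finset.sum_comm]
    refine Finset.sum_congr rfl fun χ hχ => ?_
    have h5 := one_eq_pow_mul_redDeg (p := 2) (mem_irrFinset.1 hχ)
    have h6 : omega χ.1 z * χ.1 1 = _ := div_mul_cancel₀ _ χ.one_ne_zero
    rw [charAlg_eq_sum] at h6
    simp only [mul_left_comm _ (x χ : ℂ), ← Finset.mul_sum, ← h6, h5]
    push_cast; ring
  have h5 := h4 1
  have h6 := h4 (invElt G)
  have h7 := hM.red_charAlg_invElt hg h3
  simp only [omega_one, mul_one, charAlg_one] at h5
  rw [charAlg_invElt, Finset.sum_eq_zero fun s hs => h3 s (by rw [(Finset.mem_filter.1 hs).2]),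
    h5, add_zero, mul_right_inj' (pow_ne_zero _ two_ne_zero)] at h6
  simp only [omega_invElt, mul_add, mul_one, Finset.sum_add_distrib, left_eq_add] at h6
  have h8 : ∑ χ ∈ irrFinset B, x χ * redDeg 2 B χ.1 * invOm χ = 0 := by exact_mod_cast h6
  have hv : 0 < valM M 2 := hM.valM_p_pos
  have hp : (2 : ℂ) ^ a = 2 ^ (a - d) * 2 ^ d := by rw [← pow_add, Nat.sub_add_cancel hda]
  refine ⟨h8, ?_, ?_⟩
  · have h9 := (hg.inIrrSpan (valO M)).apply_one_div_mem_of_vanish (p := 2) fun g h ⟨k, hk⟩ =>
      h3 g (hk ▸ dvd_pow_self 2 fun h' => h (by rwa [h', pow_zero, orderOf_eq_one_iff] at hk))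
    rw [h5, Nat.cast_pow, Nat.cast_ofNat, ← ha, hp,
      mul_div_mul_left _ _ (pow_ne_zero _ two_ne_zero), mem_valO_iff, map_div₀, map_pow,
      div_le_one₀ (pow_pos hv _)] at h9
    refine hM.valM_intCast_le_pow_iff.1 ?_
    exact_mod_cast h9
  · have h9 := ordProj_mul_cardReg 2 G
    obtain ⟨m, hm⟩ := Nat.odd_iff.2 (Nat.two_dvd_ne_zero.1 (not_dvd_cardReg Nat.prime_two G))
    set T : ℤ := ∑ χ ∈ irrFinset B, x χ * redDeg 2 B χ.1 * (1 + invOm χ ^ 2) with hT
    set N : ℤ := ∑ χ ∈ irrFinset B, x χ ^ 2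
    have h10 : charAlg Φ (invElt G * invElt G) = 2 ^ (a - d) * T := by
      have h11 : T = T + 2 * ∑ χ ∈ irrFinset B, x χ * redDeg 2 B χ.1 * invOm χ := by
        rw [h8, mul_zero, add_zero]
      rw [h4, h11, hT, Finset.mul_sum _ _ (2 : ℤ), ← Finset.sum_add_distrib]
      simp only [omega_center_mul _ invElt_mem_center, omega_invElt]
      push_cast
      congr 1
      exact Finset.sum_congr rfl fun χ _ => by ring
    have h11 : (cardReg 2 G : ℂ) ≠ 0 := Nat.cast_ne_zero.2 (cardReg_ne_zero 2 G)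
    have h15 := hM.valM_cardReg G
    generalize cardReg 2 G = r at *
    have h12 : ((T - 2 ^ d * r * N : ℤ) : ℂ) = 2 ^ d * r *
        (charAlg Φ (invElt G * invElt G) / Nat.card G - classInner Φ Φ) := by
      rw [h10, h1, ← h9, ← ha]
      push_cast
      rw [hp]
      field_simp
    have h13 : valM M ((T - 2 ^ d * r * N : ℤ) : ℂ) < valM M ((2 : ℕ) : ℂ) ^ d := by
      rw [h12, map_mul, map_mul, h15, mul_one, map_pow]
      exact mul_lt_of_lt_one_right (pow_pos hv _) h7
    have h14 : (2 : ℤ) ^ (d + 1) ∣ T - 2 ^ d * r * N := by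
      by_cases h0 : T - 2 ^ d * r * N = 0
      · rw [h0]; exact dvd_zero _
      rw [hM.valM_intCast h0, hM.valM_p_pow_lt_iff] at h13
      exact (padicValInt_dvd_iff (p := 2) _ _).2 (Or.inr h13)
    rw [hm] at h14
    have h16 := dvd_add h14 (dvd_mul_right (2 ^ (d + 1)) (m * N))
    push_cast at h16
    rwa [show T - 2 ^ d * (2 * m + 1) * N + 2 ^ (d + 1) * (m * N) = T - 2 ^ d * N by ring] at h16

end Cfsg
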