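import Cfsg.Agent.Blk.GenDec
import Cfsg.Agent.Blk.Induced

/-! Section counts for unions of blocks, and the local formula for `k - l` of the characters of a
subgroup lying in blocks that induce a given block. -/

set_option autoImplicit false

namespace Cfsg

open scoped MonoidAlgebra

universe u v

variable {G : Type u} [Group G] [Finite G] {p : ℕ} {M : Ideal AlgInt}

/-- the section count for a union of blocks -/
theorem IsBlockUnion.sum_classInner_sectionPart [Fintype G] (hM : IsPModular p M) {u : G}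
    {C : Subgroup G} (hu : ∃ k : ℕ, orderOf u = p ^ k) (hC : C = Subgroup.centralizer {u})
    {U : Set (IrrCharacter G)} {V : Set (IrrCharacter C)}
    (hV : IsBlockUnion M V)
    (h : ∀ (ψ : IrrCharacter C) (χ : IrrCharacter G),
      IsInducedBlock M C (blockOf M ψ.1) (blockOf M χ.1) → (ψ ∈ V ↔ χ ∈ U)) :
    ∑ χ ∈ irrFinset U, classInner (sectionPart p u χ.1) χ.1 = blockRank p V := by
  have := Fact.mk hM.prime
  rw [← hV.sum_univ_classInner_secProj hM hu hC, ← sum_irrFinset_eq_sum_univ (B := U)]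
  · refine Finset.sum_congr rfl fun χ hχ => ?_
    rw [← secProj_univ hu hC χ.isClassFunction, ← Set.union_compl_self V,
      secProj_union disjoint_compl_right,
      (isPBlock_blockOf χ).secProj_irr_of_disjoint hM hu hC (hV.compl' hM) ?_
        (hM.mem_blockOf_self χ), add_zero]
    rw [Set.disjoint_left]
    intro ψ hψ hψ'
    exact hψ' ((h ψ χ (hM.mem_inducingChars_iff.1 hψ)).2 (mem_irrFinset.1 hχ))
  · intro χ hχ
    rw [(isPBlock_blockOf χ).secProj_irr_of_disjoint hM hu hC hV ?_ (hM.mem_blockOf_self χ),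
      classInner_zero_left]
    rw [Set.disjoint_left]
    intro ψ hψ hψ'
    exact hχ ((h ψ χ (hM.mem_inducingChars_iff.1 hψ)).1 hψ')

open Classical in
theorem sum_card_centralizer_smul_sectionPart [Fintype G] [Fact p.Prime] (θ : G → ℂ) :
    ∑ u ∈ Finset.univ.filter (fun u : G => ∃ k : ℕ, orderOf u = p ^ k),
      (Nat.card (Subgroup.centralizer ({u} : Set G)) : ℂ) • sectionPart p u θ =
        (Nat.card G : ℂ) • θ := by
  ext g
  simp only [Finset.sum_apply, Pi.smul_apply, smul_eq_mul, sectionPart, mul_ite, mul_zero]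
  rw [← Finset.sum_filter, Finset.filter_filter]
  have h1 : Finset.univ.filter (fun u : G => (∃ k : ℕ, orderOf u = p ^ k) ∧
      IsConj u (pPart p g)) = Finset.univ.filter fun u => IsConj (pPart p g) u := by
    ext u
    simp only [Finset.mem_filter, Finset.mem_univ, true_and]
    refine ⟨fun h => h.2.symm, fun h => ⟨?_, h.symm⟩⟩
    obtain ⟨c, rfl⟩ := isConj_iff.1 h
    rw [← pPart_conj]
    exact ⟨_, orderOf_pPart _⟩
  rw [h1, Finset.sum_congr rfl fun u hu => by
    rw [← card_centralizer_eq_of_isConj (Finset.mem_filter.1 hu).2], Finset.sum_const,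
    card_filter_isConj, nsmul_eq_mul, ← mul_assoc, ← Nat.cast_mul, Subgroup.index_mul_card]

open Classical in
/-- `|G| (k(U) - l(U))` as a sum over nontrivial `p`-elements -/
theorem IsBlockUnion.card_mul_sub_eq_sum_section [Fintype G] (hM : IsPModular p M)
    {U : Set (IrrCharacter G)} (hU : IsBlockUnion M U) :
    (Nat.card G : ℂ) * ((Nat.card U : ℂ) - blockRank p U) =
      ∑ u ∈ Finset.univ.filter (fun u : G => u ≠ 1 ∧ ∃ k : ℕ, orderOf u = p ^ k),
        (Nat.card (Subgroup.centralizer ({u} : Set G)) : ℂ) *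
          ∑ χ ∈ irrFinset U, classInner (sectionPart p u χ.1) χ.1 := by
  have := Fact.mk hM.prime
  have h1 : Finset.univ.filter (fun u : G => ∃ k : ℕ, orderOf u = p ^ k) =
      insert 1 (Finset.univ.filter (fun u : G => u ≠ 1 ∧ ∃ k : ℕ, orderOf u = p ^ k)) := by
    ext u
    simp only [Finset.mem_filter, Finset.mem_univ, true_and, Finset.mem_insert]
    by_cases hu : u = 1
    · subst hu; simp only [orderOf_one, true_or, iff_true]; exact ⟨0, by simp⟩
    · simp [hu]
  have h2 : (Nat.card G : ℂ) * (Nat.card U : ℂ) =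
      ∑ u ∈ Finset.univ.filter (fun u : G => ∃ k : ℕ, orderOf u = p ^ k),
        (Nat.card (Subgroup.centralizer ({u} : Set G)) : ℂ) *
          ∑ χ ∈ irrFinset U, classInner (sectionPart p u χ.1) χ.1 := by
    simp only [Finset.mul_sum]
    rw [Finset.sum_comm, ← card_irrFinset, Finset.card_eq_sum_ones, Nat.cast_sum, Finset.mul_sum]
    refine Finset.sum_congr rfl fun χ _ => ?_
    simp only [← classInner_smul_left]
    rw [← classInner_sum_left, sum_card_centralizer_smul_sectionPart, classInner_smul_left,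
      χ.classInner_self, Nat.cast_one]
  rw [mul_sub, h2, h1, Finset.sum_insert (by simp), hU.blockRank_eq_sum_classInner hM]
  simp only [sectionPart_one hM.prime]
  rw [Subgroup.centralizer_eq_top_iff_subset.2 (by simp), Subgroup.card_top]
  ring

theorem IsPModular.gaPush_idemK_blockOf (hM : IsPModular p M) {X : Type v} [Group X] [Finite X]
    (ε : X ≃* G) (χ : IrrCharacter G) (ψ : IrrCharacter X) (h : ∀ x, ψ.1 x = χ.1 (ε x)) :
    gaPush (resK M) ε.toMonoidHom (idemK M (blockOf M ψ.1)) = idemK M (blockOf M χ.1) := by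
  rw [((isPBlock_blockOf ψ).isBlockUnion hM).gaPush_idemK hM _ ε.surjective]
  congr 1
  have h1 : ψ = χ.comap ε.toMonoidHom ε.surjective := Subtype.ext (funext h)
  ext ξ
  rw [Set.mem_preimage, h1]
  refine hM.sameBlock_comap_iff_of_not_dvd _ _ ?_ _ _
  rw [(MonoidHom.ker_eq_bot_iff _).2 ε.injective, Subgroup.card_bot, Nat.dvd_one]
  exact hM.prime.ne_one

/-- the section count inside a subgroup for the blocks inducing a given block -/
theorem IsPBlock.sum_classInner_sectionPart_inducingChars (hM : IsPModular p M)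
    {B : Set (IrrCharacter G)} (hB : IsPBlock M B) (H : Subgroup G) [Fintype H] {u : H}
    (hu : ∃ k : ℕ, orderOf u = p ^ k) :
    ∑ χ ∈ irrFinset (inducingChars M H B), classInner (sectionPart p u χ.1) χ.1 =
      blockRank p (inducingChars M (H ⊓ Subgroup.centralizer {(u : G)}) B) := by
  have := Fact.mk hM.prime
  have := hM.charP
  set C : Subgroup H := Subgroup.centralizer {u} with hC
  set K : Subgroup G := H ⊓ Subgroup.centralizer {(u : G)} with hK
  have hCK : C.map H.subtype = K := by
    ext x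
    simp only [Subgroup.mem_map, hC, hK, Subgroup.mem_inf, Subgroup.mem_centralizer_singleton_iff]
    constructor
    · rintro ⟨y, hy, rfl⟩
      exact ⟨y.2, congrArg Subtype.val hy⟩
    · rintro ⟨hx, hx'⟩
      exact ⟨⟨x, hx⟩, Subtype.ext hx', rfl⟩
  let ε : C ≃* K := (C.equivMapOfInjective _ H.subtype_injective).trans (MulEquiv.subgroupCongr hCK)
  have hε : K.subtype.comp ε.toMonoidHom = H.subtype.comp C.subtype := by
    ext x; rfl
  let V : Set (IrrCharacter C) := IrrCharacter.congr ε ⁻¹' inducingChars M K B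
  have hVK : ∀ (χ : IrrCharacter K) (ψ : IrrCharacter C), (∀ x, ψ.1 x = χ.1 (ε x)) →
      (χ ∈ inducingChars M K B ↔ ψ ∈ V) := by
    intro χ ψ h
    have : IrrCharacter.congr ε ψ = χ := Subtype.ext (funext fun x => by
      rw [IrrCharacter.congr_apply, h, MulEquiv.apply_symm_apply])
    rw [Set.mem_preimage, this]
  have hidem : ∀ ψ : IrrCharacter C, gaIncl (resK M) H (subIdem M C (blockOf M ψ.1)) =
      subIdem M K (blockOf M (IrrCharacter.congr ε ψ).1) := by
    intro ψ
    rw [subIdem, subIdem, ← hM.gaPush_idemK_blockOf ε (IrrCharacter.congr ε ψ) ψ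
      (fun x => by rw [IrrCharacter.congr_apply, MulEquiv.symm_apply_apply]),
      gaIncl_eq_gaPush, gaIncl_eq_gaPush, gaIncl_eq_gaPush, gaPush_gaPush, gaPush_gaPush, hε]
  have hV : IsBlockUnion M V := by
    intro ψ hψ ξ h
    refine hM.isBlockUnion_inducingChars K B _ hψ _ ?_
    have h1 : ∀ ψ : IrrCharacter C, IrrCharacter.congr ε ψ =
        ψ.comap ε.symm.toMonoidHom ε.symm.surjective := fun _ => rfl
    rw [h1, h1]
    exact hM.sameBlock_comap _ _ h
  rw [blockRank_eq_of_mulEquiv hM.prime ε hVK]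
  refine IsBlockUnion.sum_classInner_sectionPart hM hu hC hV fun ψ χ h => ?_
  rw [hM.isInducedBlock_sub_iff_indBlk h.1 h.2.1, hCK, hidem] at h
  rw [Set.mem_preimage, hM.mem_inducingChars_iff, hM.mem_inducingChars_iff,
    hM.isInducedBlock_iff_indBlk (isPBlock_blockOf _) hB,
    hM.isInducedBlock_iff_indBlk (isPBlock_blockOf _) hB]
  exact ⟨fun h' => h.of_trans h' inf_le_left le_top ((isPBlock_blockOf _).isBlk_subIdem hM)
    ((isPBlock_blockOf _).isBlk_subIdem hM), fun h' => h.trans h' inf_le_left le_top⟩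

open Classical in
/-- `|H| (k - l)` for the characters of `H` in blocks inducing `B` -/
theorem IsPBlock.card_mul_sub_inducingChars [Fintype G] (hM : IsPModular p M)
    {B : Set (IrrCharacter G)} (hB : IsPBlock M B) (H : Subgroup G) :
    (Nat.card H : ℤ) * ((Nat.card (inducingChars M H B) : ℤ) - blockRank p (inducingChars M H B)) =
      ∑ u ∈ Finset.univ.filter (fun u : G => u ≠ 1 ∧ ∃ k : ℕ, orderOf u = p ^ k),
        if u ∈ H then (Nat.card (H ⊓ Subgroup.centralizer {u} : Subgroup G) : ℤ) *
          blockRank p (inducingChars M (H ⊓ Subgroup.centralizer {u}) B) else 0 := by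
  apply Int.cast_injective (α := ℂ)
  push_cast
  rw [(hM.isBlockUnion_inducingChars H B).card_mul_sub_eq_sum_section hM, ← Finset.sum_filter]
  refine Finset.sum_bij (fun u _ => (u : G)) (fun u hu => ?_) (fun _ _ _ _ h => Subtype.ext h)
    (fun u hu => ?_) fun u hu => ?_
  · simp only [Finset.mem_filter, Finset.mem_univ, true_and] at hu ⊢
    exact ⟨⟨fun h => hu.1 (Subtype.ext h), by simpa using hu.2⟩, u.2⟩
  · simp only [Finset.mem_filter, Finset.mem_univ, true_and] at hu ⊢
    exact ⟨⟨u, hu.2⟩, ⟨fun h => hu.1.1 (congrArg Subtype.val h), by simpa using hu.1.2⟩, rfl⟩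
  · simp only [Finset.mem_filter] at hu
    rw [hB.sum_classInner_sectionPart_inducingChars hM H hu.2.2]
    congr 2
    refine Nat.card_congr ⟨fun x => ⟨x.1.1, x.1.2, ?_⟩, fun x => ⟨⟨x.1, x.2.1⟩, ?_⟩,
      fun _ => rfl, fun _ => rfl⟩
    · exact Subgroup.mem_centralizer_singleton_iff.2
        (congrArg Subtype.val (Subgroup.mem_centralizer_singleton_iff.1 x.2))
    · exact Subgroup.mem_centralizer_singleton_iff.2
        (Subtype.ext (Subgroup.mem_centralizer_singleton_iff.1 x.2.2))

theorem IsPBlock.card_rank_inducingChars_top (hM : IsPModular p M)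
    {B : Set (IrrCharacter G)} (hB : IsPBlock M B) {H : Subgroup G} (hH : H = ⊤) :
    Nat.card (inducingChars M H B) = Nat.card B ∧
      blockRank p (inducingChars M H B) = blockRank p B := by
  subst hH
  have h : ∀ (χ : IrrCharacter G) (ψ : IrrCharacter (⊤ : Subgroup G)),
      (∀ x, ψ.1 x = χ.1 (Subgroup.topEquiv x)) → (χ ∈ B ↔ ψ ∈ inducingChars M ⊤ B) := by
    intro χ ψ h
    rw [hM.mem_inducingChars_iff, hM.isInducedBlock_top_iff (fun _ => Subgroup.mem_top _)
      (isPBlock_blockOf ψ) hB (hM.mem_blockOf_self ψ) h]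
  refine ⟨?_, (blockRank_eq_of_mulEquiv hM.prime Subgroup.topEquiv h).symm⟩
  refine Nat.card_congr ((IrrCharacter.congr Subgroup.topEquiv).subtypeEquiv
    fun ξ => (h _ ξ fun x => ?_).symm)
  rw [IrrCharacter.congr_apply, MulEquiv.symm_apply_apply]

end Cfsg
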