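import Cfsg.Agent.Blk.EqDeg
import Cfsg.Agent.Blk.StarBridge
import Cfsg.Agent.Blk.RankQuot
import Cfsg.Agent.CT.Extension
import Cfsg.Agent.Grp.Frobenius

/-! Blocks with a normal defect group. -/

set_option autoImplicit false

namespace Cfsg

open scoped MonoidAlgebra ComplexConjugate

universe u v w

variable {p : ℕ} {M : Ideal AlgInt} {G : Type u} [Group G] [Finite G]

section alg
variable {k : Type v} [Field k] [Fact p.Prime] [CharP k p] {D Q : Subgroup G} {c e e' f : k[G]}

/-- two pairs on a normal `p`-subgroup above the same pair `(Q, f)` are `C(Q)`-conjugate -/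
theorem PairLE.exists_centralizer_conj_of_normal [hn : D.Normal] (he : IsPair p ⊤ D e)
    (he' : IsPair p ⊤ D e') (h : PairLE p ⊤ Q f D e) (h' : PairLE p ⊤ Q f D e') :
    ∃ y ∈ Subgroup.centralizer (Q : Set G), gaConj k y e = e' := by
  have hb := isPair_top_iff.1 he |>.2
  have hb' := isPair_top_iff.1 he' |>.2
  have hK : Subgroup.centralizer (Q : Set G) ≤
      Subgroup.normalizer ((Subgroup.centralizer (D : Set G) : Subgroup G) : Set G) := by
    rw [Subgroup.normalizer_eq_top]; exact le_top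
  set a := orbSum (Subgroup.centralizer (Q : Set G)) e with ha
  have h1 : a ∈ fixSuppGA k (Subgroup.centralizer (D : Set G)) (Subgroup.centralizer (Q : Set G)) :=
    orbSum_mem_fixSuppGA hK hb.supp
  have h2 : IsFixedGA D a := isFixedGA_of_mem_suppGA_centralizer h1.1
  have h3 : brGA k D a = a := brGA_eq_self h1.1
  have h4 : IsFixedGA (cenIn ⊤ Q) a := by rw [cenIn_top]; exact h1.2
  have h5 := hb.isIdempotentElem_orbSum hK
  have h6 := (h.brGA_mul_eq_iff (mem_suppGA_top a) h2 h4 h5).2
    (by rw [h3]; exact hb.orbSum_mul_self hK)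
  have h7 := (h'.brGA_mul_eq_iff (mem_suppGA_top a) h2 h4 h5).1 h6
  rw [h3] at h7
  exact hb.exists_conj_of_orbSum_mul_ne_zero hb' hK (by rw [h7]; exact he'.ne_zero)

/-- a block with normal defect group is nilpotent once its inertial quotient is trivial -/
theorem IsMaxPair.isNilpGA_of_normal [IsAlgClosed k] [hn : D.Normal] (hc : IsBlk k ⊤ c)
    (hm : IsMaxPair p ⊤ ⊤ c D e)
    (h : ∀ x, gaConj k x e = e → IsPRegular p x → x ∈ Subgroup.centralizer (D : Set G)) :
    IsNilpGA p ⊤ ⊤ c := by
  have he := hm.pairOf.pair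
  have hT : pairStab ⊤ D e ≤ cenIn ⊤ D ⊔ D := by
    refine le_of_regular_of_not_dvd (p := p) (C := Subgroup.centralizer (D : Set G)) ?_
      (fun x hx => h x (mem_pairStab.1 hx).2.2) ?_
      (hm.not_dvd_relIndex le_rfl top_le_normalizer_top hc)
    · rw [Subgroup.normalizer_eq_top]; exact le_top
    · rw [cenIn_top]; exact inf_le_left.trans le_sup_left
  refine hm.isNilpGA_of_forall le_rfl top_le_normalizer_top hc fun Q f hle x hx hreg => ?_
  obtain ⟨-, hxQ, hxf⟩ := mem_pairStab.1 hx
  have hxD : x ∈ Subgroup.normalizer (D : Set G) := by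
    rw [Subgroup.normalizer_eq_top]; trivial
  have h1 := hle.conj_of_normalizer (mem_normalizer_top x)
  rw [hxf, conjSub_eq_self_iff.2 hxQ, conjSub_eq_self_iff.2 hxD] at h1
  have he' := he.conj_of_normalizer (mem_normalizer_top x)
  rw [conjSub_eq_self_iff.2 hxD] at he'
  obtain ⟨y, hy, hye⟩ := hle.exists_centralizer_conj_of_normal he he' h1
  have h2 : y⁻¹ * x ∈ pairStab ⊤ D e := by
    refine mem_pairStab.2 ⟨trivial, by rw [Subgroup.normalizer_eq_top]; trivial, ?_⟩
    rw [gaConj_mul, ← hye, ← gaConj_mul, inv_mul_cancel, gaConj_one]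
  have h3 := hT h2
  rw [cenIn_top, sup_comm, ← SetLike.mem_coe, Subgroup.normal_mul] at h3
  obtain ⟨d, hd, z, hz, hdz⟩ := h3
  obtain ⟨n, hn⟩ := IsPGroup.iff_orderOf.1 he.pgrp ⟨d, hd⟩
  rw [Subgroup.orderOf_mk] at hn
  refine mem_centralizer_of_isPRegular (u := d) hreg ⟨n, hn⟩ (fun q hq => ?_) hxQ
  have h4 : x * q * x⁻¹ ∈ Q := (Subgroup.mem_normalizer_iff.1 hxQ q).1 hq
  have h5 := Subgroup.mem_centralizer_iff.1 hy _ h4
  have h6 := Subgroup.mem_centralizer_iff.1 hz q (hle.le hq)
  have h7 : x = y * (d * z) := by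
    have : d * z = y⁻¹ * x := hdz
    rw [this]; group
  calc x * q * x⁻¹ = y⁻¹ * (y * (x * q * x⁻¹)) := by group
    _ = y⁻¹ * (x * q * x⁻¹) * y := by rw [← h5]; group
    _ = d * (z * q) * z⁻¹ * d⁻¹ := by rw [h7]; group
    _ = d * q * d⁻¹ := by rw [← h6]; group

end alg

theorem IsBlk.not_dvd_orderOf_of_coeff_ne_zero (hM : IsPModular p M) {K : Subgroup G}
    {e : (resK M)[G]} (he : IsBlk (resK M) K e) {g : G} (hg : e.coeff g ≠ 0) :
    ¬ p ∣ orderOf g := by
  obtain ⟨b, hb, rfl⟩ := he.exists_eq_inclIdem hM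
  have hgK : g ∈ K := by
    by_contra h
    exact hg (mem_suppGA.1 (hb.isBlk_inclIdem hM).supp g h)
  rw [inclIdem, gaIncl_eq_gaPush] at hg
  have := coeff_gaPush_of_injective (R := resK M) K.subtype_injective (idemK M b) ⟨g, hgK⟩
  rw [Subgroup.subtype_apply] at this
  rw [this] at hg
  intro h1
  rw [coeff_idemK, hb.blockCoeff_eq_zero hM (by rwa [Subgroup.orderOf_mk]), red_zero] at hg
  exact hg rfl

/-- the image of a block under a homomorphism with central `p`-kernel is a block -/
theorem IsBlk.gaPush_of_centralizer (hM : IsPModular p M) {H : Type v} [Group H] [Finite H]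
    (π : G →* H) (hk : IsPGroup p π.ker) {C : Subgroup G}
    (hC : C ≤ Subgroup.centralizer (π.ker : Set G)) {e : (resK M)[G]} (he : IsBlk (resK M) C e) :
    IsBlk (resK M) (C.map π) (gaPush (resK M) π e) := by
  obtain ⟨b, hb, rfl⟩ := he.exists_eq_inclIdem hM
  have hs : Function.Surjective (π.subgroupMap C) := π.subgroupMap_surjective C
  have hker : ∀ x : C, x ∈ (π.subgroupMap C).ker → (x : G) ∈ π.ker := fun x hx =>
    congrArg Subtype.val (MonoidHom.mem_ker.1 hx)
  have hk' : IsPGroup p (π.subgroupMap C).ker := by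
    intro x
    obtain ⟨n, hn⟩ := hk ⟨x.1.1, hker _ x.2⟩
    have h1 : x.1.1 ^ p ^ n = 1 := congrArg Subtype.val hn
    exact ⟨n, Subtype.ext (Subtype.ext h1)⟩
  have h1 := hb.preimage_comap_of_regular hM _ hs hk' fun g _ =>
    Subgroup.mem_centralizer_iff.2 fun x hx =>
      Subtype.ext (Subgroup.mem_centralizer_iff.1 (hC g.2) x (hker x hx))
  have h2 := h1.isBlk_inclIdem hM
  rw [inclIdem, ← (hb.isBlockUnion hM).gaPush_idemK hM, gaIncl_eq_gaPush, gaPush_gaPush] at h2
  rw [inclIdem, gaIncl_eq_gaPush, gaPush_gaPush]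
  exact h2

section quot
variable {H : Type v} [Group H] [Finite H] {π : G →* H} {B : Set (IrrCharacter G)}
  {D : Subgroup G} {b : Set (IrrCharacter H)}

/-- blocks dominated by a block with normal defect group -/
theorem IsDefectGroup.map_of_normal (hM : IsPModular p M) (hB : IsPBlock M B)
    (hD : IsDefectGroup p M B D) [D.Normal] (hπ : Function.Surjective π) (hb : IsPBlock M b)
    (hbB : b ⊆ IrrCharacter.comap π hπ ⁻¹' B) : IsDefectGroup p M b (D.map π) := by
  obtain ⟨E, hE⟩ := hb.exists_isDefectGroup hM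
  obtain ⟨χ, hχ⟩ := hb.nonempty hM
  haveI := Subgroup.Normal.map ‹D.Normal› π hπ
  have h1 := (hE.isConjLE_map_of_comap hM π hπ hb hB hχ (hbB hχ) hD).le_of_normal_right
  have h2 := hE.le_of_normal hM hb (hD.isPGroup.map π)
  rwa [le_antisymm h2 h1]

theorem IsDefectGroup.blockHeight_comap_of_normal (hM : IsPModular p M) (hB : IsPBlock M B)
    (hD : IsDefectGroup p M B D) [D.Normal] (hπ : Function.Surjective π) (hk : π.ker ≤ D)
    (hb : IsPBlock M b) (hbB : b ⊆ IrrCharacter.comap π hπ ⁻¹' B) {χ : IrrCharacter H}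
    (hχ : χ ∈ b) : blockHeight p B (χ.comap π hπ).1 = blockHeight p b χ.1 := by
  haveI := hM.fact_prime
  have hp : p.Prime := Fact.out
  have h1 := factorization_charDegree_eq (p := p) hχ
  have h2 := factorization_charDegree_eq (p := p) (B := B) (hbB hχ)
  rw [IrrCharacter.charDegree_comap] at h2
  have h3 := (hD.map_of_normal hM hB hπ hb hbB).card_eq hM hb
  have h4 := hD.card_eq hM hB
  have h5 : (D.map π).index = D.index := by
    rw [Subgroup.index_map_eq _ hπ hk]
  have h6 := D.card_mul_index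
  have h7 := (D.map π).card_mul_index
  have h8 : D.index ≠ 0 := Subgroup.index_ne_zero_of_finite
  rw [← h6, h4, Nat.factorization_mul (pow_ne_zero _ hp.ne_zero) h8] at h2
  rw [← h7, h3, h5, Nat.factorization_mul (pow_ne_zero _ hp.ne_zero) h8] at h1
  simp only [Nat.factorization_pow, hp.factorization, Finsupp.coe_add, Pi.add_apply,
    Finsupp.smul_single, smul_eq_mul, mul_one, Finsupp.single_eq_same] at h1 h2
  omega

theorem IsDefectGroup.blockHeight_eq_zero_of_normal (hM : IsPModular p M) (hB : IsPBlock M B)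
    (hD : IsDefectGroup p M B D) [D.Normal] (hab : IsMulCommutative D) {χ : IrrCharacter G}
    (hχ : χ ∈ B) : blockHeight p B χ.1 = 0 := by
  haveI := hM.fact_prime
  have hp : p.Prime := Fact.out
  have h2 := factorization_charDegree_eq (p := p) hχ
  have h4 := hD.card_eq hM hB
  have h6 := D.card_mul_index
  have h8 : D.index ≠ 0 := Subgroup.index_ne_zero_of_finite
  rw [← h6, h4, Nat.factorization_mul (pow_ne_zero _ hp.ne_zero) h8] at h2
  simp only [Nat.factorization_pow, hp.factorization, Finsupp.coe_add, Pi.add_apply,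
    Finsupp.smul_single, smul_eq_mul, mul_one, Finsupp.single_eq_same] at h2
  have h9 := (Nat.factorization_le_iff_dvd χ.charDegree_pos.ne' h8).2
    (ito_charDegree_dvd_index hab χ) p
  omega

/-- a block with normal defect group `D` dominating a nilpotent block of `G ⧸ D'` is nilpotent -/
theorem IsDefectGroup.isNilpotentBlock_of_dominated (hM : IsPModular p M) (hB : IsPBlock M B)
    (hD : IsDefectGroup p M B D) [hn : D.Normal] (hπ : Function.Surjective π)
    (hk : π.ker ≤ ⁅D, D⁆) (hb : IsPBlock M b) (hbB : b ⊆ IrrCharacter.comap π hπ ⁻¹' B)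
    (hnil : IsNilpotentBlock p M b) : IsNilpotentBlock p M B := by
  haveI := hM.fact_prime
  haveI := hM.charP
  have hp : p.Prime := Fact.out
  have hDp := hD.isPGroup
  have hkD : π.ker ≤ D := hk.trans (Subgroup.commutator_le_left D D)
  haveI hn' := Subgroup.Normal.map hn π hπ
  have hE := hD.map_of_normal hM hB hπ hb hbB
  obtain ⟨ε, Sb⟩ := hE.exists_starSetup hM hb
  have hε := (isPair_top_iff.1 Sb.isPair).2
  set C := Subgroup.centralizer (D : Set G) with hCdef
  set K := Subgroup.centralizer ((D.map π : Subgroup H) : Set H) with hKdef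
  -- `p`-regular elements acting trivially on `D / ker π` centralize `D`
  have hreg : ∀ x : G, ¬ p ∣ orderOf x → π x ∈ K → x ∈ C := by
    intro x hx hxK
    have h1 : Subgroup.zpowers x ≤ C := by
      refine le_centralizer_of_commutator_le_commutator (le_normalizer_of_normal' _) ?_
        hDp.isNilpotent (le_trans ?_ hk)
      · obtain ⟨n, hn⟩ := IsPGroup.iff_card.1 hDp
        rw [hn, Nat.card_zpowers]
        exact Nat.Coprime.pow_left _ ((Nat.Prime.coprime_iff_not_dvd hp).2 hx)
      · rw [Subgroup.commutator_le]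
        intro d hd y hy
        have h2 : π y ∈ K := by
          have : Subgroup.zpowers x ≤ K.comap π := by
            rw [Subgroup.zpowers_le]; exact hxK
          exact this hy
        rw [MonoidHom.mem_ker, map_commutatorElement, commutatorElement_eq_one_iff_mul_comm]
        exact Subgroup.mem_centralizer_iff.1 h2 _ ⟨d, hd, rfl⟩
    exact h1 (Subgroup.mem_zpowers x)
  have hLK : C.map π ≤ K := by
    rintro _ ⟨x, hx, rfl⟩
    refine Subgroup.mem_centralizer_iff.2 ?_
    rintro _ ⟨d, hd, rfl⟩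
    rw [← map_mul, ← map_mul, Subgroup.mem_centralizer_iff.1 hx d hd]
  have hsupp : ∀ {a : (resK M)[H]}, IsBlk (resK M) K a →
      a ∈ fixSuppGA (resK M) (C.map π) (C.map π) := by
    intro a ha
    refine ⟨mem_suppGA.2 fun y hy => ?_, ha.fixed.mono hLK⟩
    by_contra h0
    obtain ⟨x, hx, rfl⟩ := exists_pRegular_lift π hπ (ha.not_dvd_orderOf_of_coeff_ne_zero hM h0)
    refine hy ⟨x, hreg x hx ?_, rfl⟩
    by_contra h1
    exact h0 (mem_suppGA.1 ha.supp _ h1)
  -- choose a block of `C` under `ε`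
  have hc := hB.isBlk_idemK hM
  have hcC : idemK M B ∈ fixSuppGA (resK M) C C := by
    have h1 := brGA_eq_self_of_normal hDp le_top le_rfl top_le_normalizer_of_normal hc.mem hc.idem
    refine ⟨?_, hc.fixed.mono le_top⟩
    rw [← h1]; exact brGA_mem_suppGA _ _
  have h1 : gaPush (resK M) π (idemK M B) * ε = ε := by
    have h2 := Sb.hmax.pairOf.br
    have hcb := hb.isBlk_idemK hM
    rw [brGA_eq_self_of_normal hE.isPGroup le_top le_rfl top_le_normalizer_of_normal hcb.mem
      hcb.idem] at h2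
    rw [(hB.isBlockUnion hM).gaPush_idemK hM π hπ, ← h2, ← mul_assoc,
      ((hB.isBlockUnion hM).preimage_comap hM π hπ).idemK_mul hM (hb.isBlockUnion hM),
      Set.inter_eq_right.2 hbB]
  have h2 : ∃ e, IsBlk (resK M) C e ∧ idemK M B * e = e ∧ ε * gaPush (resK M) π e ≠ 0 := by
    by_contra hcon
    push Not at hcon
    apply Sb.isPair.ne_zero
    have h3 : ε = ε * gaPush (resK M) π (idemK M B) := by
      rw [← h1]
      nth_rewrite 2 [h1]
      exact (Subalgebra.mem_center_iff.1 (gaPush_mem_center π hπ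
        (idemK_mem_center B)) ε).symm
    rw [h3, ← mul_one (idemK M B), ← sum_blkSet (k := resK M) C, Finset.mul_sum, map_sum,
      Finset.mul_sum]
    refine Finset.sum_eq_zero fun e he => ?_
    have he' := mem_blkSet.1 he
    rcases he'.fix_mul_eq_zero_or_eq le_rfl hcC hc.idem with h4 | h4
    · rw [h4, map_zero, mul_zero]
    · rw [h4]; exact hcon e he' h4
  obtain ⟨e, he, hce, hεe⟩ := h2
  have hpair : IsPairOf p ⊤ ⊤ (idemK M B) D e := by
    refine ⟨isPair_top_iff.2 ⟨hDp, he⟩, le_top, ?_⟩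
    rw [brGA_eq_self_of_normal hDp le_top le_rfl top_le_normalizer_of_normal hc.mem hc.idem, hce]
  have hm := hpair.isMaxPair_of_isDefGrp ((hB.isDefectGroup_iff hM).1 hD)
  have hf := he.gaPush_of_centralizer hM π (hDp.to_le hkD) (Subgroup.centralizer_le hkD)
  rw [hB.isNilpotentBlock_iff hM]
  refine hm.isNilpGA_of_normal hc fun x hx hxr => hreg x hxr ?_
  have hxK : π x ∈ Subgroup.normalizer ((K : Subgroup H) : Set H) := by
    rw [Subgroup.normalizer_eq_top]; trivial
  have hε' := hε.conj_of_normalizer hxK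
  have h4 := hf.fix_mul_eq_of_ne_zero le_rfl (hsupp hε) hε.idem hεe
  have h5 : gaConj (resK M) (π x) ε * gaPush (resK M) π e = gaPush (resK M) π e := by
    have := congrArg (gaConj (resK M) (π x)) h4
    rwa [map_mul, ← gaPush_gaConj, hx] at this
  have h6 : gaConj (resK M) (π x) ε = ε := by
    refine hε'.eq_of_mul_ne_zero' hε fun h0 => hf.ne_zero ?_
    rw [← h5, ← h4, ← mul_assoc, h0, zero_mul]
  refine (hb.isNilpotentBlock_iff hM).1 hnil _ _ Sb.hmax.pairOf _ trivial ?_ h6 ?_
  · rw [Subgroup.normalizer_eq_top]; trivial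
  · exact fun h => hxr (h.trans (orderOf_map_dvd π x))

end quot

end Cfsg
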