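import Cfsg.Agent.Blk.OlssonGrp
import Cfsg.Agent.S4541

/-! Olsson's bound for `2`-blocks of defect at most five. -/

set_option autoImplicit false

namespace Cfsg

open scoped MonoidAlgebra commutatorElement ComplexConjugate

universe u

variable {M : Ideal AlgInt}

theorem IsPModular.exists_add_five (hM : IsPModular 2 M) {f : ℕ → ℂ} (hf : f ∈ cycFam (2 ^ 3))
    {k : ℕ} (hk : k = 3 ∨ k = 7) (h1 : f k = f 1) (h5 : f (5 * k) = f 5) :
    ∃ a : ℤ, f 1 + f 5 = 2 * a ∧ (valM M (f 1) = 1 → a ≠ 0) := by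
  have hζ := Complex.isPrimitiveRoot_exp (4 * 2) (by decide)
  set ζ := Complex.exp _
  obtain ⟨a, ha⟩ := exists_normalForm_cycFam (m := 4) (q := 2) (by decide) (by decide) hζ hf
  have h4 : ζ ^ 4 = -1 := (hζ.pow (by decide) (show 4 * 2 = 4 * 2 from rfl)).eq_neg_one_of_two_right
  have h2 : f 1 + f 5 = f 3 + f 7 ∧ (f 1 - f 5 = f 3 - f 7 ∨ f 1 - f 5 = f 7 - f 3) := by
    rcases hk with rfl | rfl
    · rw [cycFam_congr hf (show 5 * 3 ≡ 7 [MOD 2 ^ 3] by decide)] at h5
      simp [h1, h5]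
    · rw [cycFam_congr hf (show 5 * 7 ≡ 3 [MOD 2 ^ 3] by decide)] at h5
      simp [h1, h5, add_comm]
  have h3 := hM.red_cycFam hf 1 0
  have h6 : f 0 = (a 0 0 + a 0 1 + a 1 0 + a 1 1 + a 2 0 + a 2 1 + a 3 0 + a 3 1 : ℤ) := by
    simp [ha, Finset.sum_range_succ, add_assoc]
  simp only [ha, Finset.sum_range_succ, Finset.range_zero, Finset.sum_empty] at h2
  have h7 : a 2 0 = a 2 1 := by
    have : (a 2 0 : ℂ) = a 2 1 := by grind
    exact_mod_cast this
  have h8 : 2 ∣ a 1 0 + a 1 1 + a 3 0 + a 3 1 := by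
    rcases h2.2 with h8 | h8
    · have : (a 1 0 - a 1 1 : ℂ) = a 3 0 - a 3 1 := by grind
      have : a 1 0 - a 1 1 = a 3 0 - a 3 1 := by exact_mod_cast this
      omega
    · have : (a 1 0 - a 1 1 : ℂ) = -(a 3 0 - a 3 1) := by grind
      have : a 1 0 - a 1 1 = -(a 3 0 - a 3 1) := by exact_mod_cast this
      omega
  refine ⟨a 0 0 - a 0 1, ?_, fun h9 h10 => ?_⟩
  · simp only [ha, Finset.sum_range_succ, Finset.range_zero, Finset.sum_empty, h7]
    push_cast
    grind
  · rw [← red_ne_zero_iff, h3, h6, red_ne_zero_iff] at h9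
    exact (hM.valM_intCast_lt_one_iff.2 (by omega)).ne h9

variable {G : Type u} [Group G] [Fintype G] {B : Set (IrrCharacter G)} {P : Subgroup G}
  {e : (resK M)[G]}

/-- the number of characters of height zero -/
noncomputable abbrev kZero (B : Set (IrrCharacter G)) : ℕ :=
  Nat.card {χ : IrrCharacter G // χ ∈ B ∧ blockHeight 2 B χ.1 = 0}

namespace StarSetup
variable (S : StarSetup 2 M B P e)
include S

theorem exists_fullCen (u : P) : ∃ v : P, PairFuse 2 P e (u : G) v ∧ FullCen 2 P e v := by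
  obtain ⟨v, h1, h2⟩ := Set.exists_max_image {v : P | PairFuse 2 P e (u : G) v}
    (fun w => Nat.card (P ⊓ Subgroup.centralizer {(w : G)} : Subgroup G)) (Set.toFinite _)
    ⟨u, S.fuse_of_isConj (IsConj.refl u)⟩
  exact ⟨v, h1, fun w hw => h2 w (S.fuse_trans h1 hw)⟩

theorem kZero_le_of_fuse (u : P) {n : ℕ} (h : ∀ v : P, PairFuse 2 P e (u : G) v → FullCen 2 P e v →
    Nat.card (Subgroup.centralizer {v}) ≤ n) (hn : n ≤ orderOf u * 4) : kZero B ≤ n := by
  obtain ⟨v, h1, h2⟩ := S.exists_fullCen u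
  obtain ⟨H, _, _, B', P', e', S', ρ, Q⟩ := S.exists_subQuot h2 rfl
  have h3 := h v h1 h2
  have h4 := Q.card_mul
  have h5 := Q.card
  rw [card_inf_centralizer_coe] at h4 h5
  rw [Subgroup.orderOf_coe, ← h1.orderOf_eq] at h4
  have h6 := orderOf_pos u
  exact ((Agent.S4541.result M S.hM B S.hB v (S.orderOf_eq v) _ (S.isInducedBlock_below v)).2.2
    (Q.rank ▸ S'.rank_le_three_of_card_le_four (by nlinarith))).trans (h5 ▸ h3)

theorem two_mul_kZero_le {u : P} (hu : orderOf u = 8) (hf : FullCen 2 P e u)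
    (hc : Nat.card (Subgroup.centralizer {u}) ≤ 16) {k : ℕ} (hk : k = 3 ∨ k = 7)
    (h1 : IsConj u (u ^ k)) (h5 : ¬ PairFuse 2 P e (u : G) (u ^ 5 : P)) : 2 * kZero B ≤ 16 := by
  classical
  obtain ⟨H, _, _, B', P', e', S', ρ, Q⟩ := S.exists_subQuot hf rfl
  have h2 := Q.card_mul
  have h3 := Q.card
  rw [card_inf_centralizer_coe] at h2 h3
  rw [← Subgroup.orderOf_coe] at hu
  rw [hu] at h2
  have h4 : blockRank 2 (S.below u) = 1 := Q.rank ▸ S'.blockRank_eq_one_of_isCyclic
    (isCyclic_of_card_dvd_prime (p := 2) (by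
      have := Nat.card_pos (α := P')
      obtain h | h : Nat.card P' = 1 ∨ Nat.card P' = 2 := by omega
      all_goals simp only [h, one_dvd, dvd_refl]))
  set q : ℂ := ((2 : ℕ) : ℂ) ^ blockDefect 2 (S.below u) with hq
  have h6 : ∀ (χ ψ : IrrCharacter G) (j : ℕ), Nat.Coprime 8 j →
      secCon 2 ((u : G) ^ j) (S.below u) χ.1 ψ.1 = q * S.mm (u ^ j) χ.1 ψ.1 := fun χ ψ j hj => by
    rw [secCon_eq, mm, S.secProj_below_pow χ.isClassFunction u (hu ▸ hj)]
  have hk1 : Nat.Coprime 8 k ∧ Nat.Coprime 8 (5 * k) := by rcases hk with rfl | rfl <;> decide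
  choose a h7 h8 using fun χ ψ : IrrCharacter G => S.hM.exists_add_five
    ((S.isBlockUnion_below u).secCon_mem_cycFam S.hM rfl χ.isCharacter.isGeneralizedCharacter
      ψ.isCharacter.isGeneralizedCharacter (hu ▸ dvd_rfl)) hk (by
        rw [h6 _ _ _ hk1.1, h6 _ _ 1 (by decide), pow_one,
          S.mm_congr χ.isClassFunction (S.fuse_of_isConj h1)]) (by
        rw [h6 _ _ _ hk1.2, h6 _ _ 5 (by decide), mul_comm 5, pow_mul,
          S.mm_congr χ.isClassFunction (S.fuse_of_isConj (h1.pow 5))])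
  have h11 : ∑ χ ∈ irrFinset B, a χ χ = 2 ^ blockDefect 2 (S.below u) := by
    have h11 := fun j hj => S.hB.sum_secCon_self S.hM (orderOf_pow_pElement S.hM.prime
      (S.orderOf_eq u) j) (centralizer_pow_of_mem_coprExp (n := 8) (hu ▸ dvd_rfl) rfl hj)
      (S.isBlockUnion_below u) (S.below_subset u)
    have : ∑ χ ∈ irrFinset B, (2 * a χ χ : ℂ) = q * 2 := by
      simp only [← h7, Finset.sum_add_distrib, h11 1 (by decide), h11 5 (by decide), h4, ← hq]
      ring
    rw [← Finset.mul_sum, mul_comm, hq] at this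
    exact_mod_cast mul_right_cancel₀ two_ne_zero this
  simp only [h6 _ _ 1 (by decide), h6 _ _ 5 (by decide)] at h7
  simp only [pow_one] at h7 h8
  have h9 : ∀ χ : IrrCharacter G, 2 * ∑ ψ ∈ irrFinset B, a χ ψ * a ψ χ =
      2 ^ blockDefect 2 (S.below u) * a χ χ := fun χ => by
    have h9 : ∑ ψ ∈ irrFinset B, 4 * (a χ ψ * a ψ χ : ℂ) = q * (2 * a χ χ) := by
      rw [Finset.sum_congr rfl fun (ψ : IrrCharacter G) _ => show 4 * (a χ ψ * a ψ χ : ℂ) =
        q * q * (S.mm u χ ψ * S.mm u ψ χ +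
        S.mm u χ ψ * S.mm (u ^ 5) ψ χ + S.mm (u ^ 5) χ ψ * S.mm u ψ χ +
        S.mm (u ^ 5) χ ψ * S.mm (u ^ 5) ψ χ) by
          linear_combination -(2 * a ψ χ) * h7 χ ψ -
            (q * S.mm u χ ψ + q * S.mm (u ^ 5) χ ψ) * h7 ψ χ]
      simp only [← Finset.mul_sum, Finset.sum_add_distrib, S.sum_mm_mul_mm_self χ.isClassFunction,
        S.sum_mm_mul_mm_of_not χ.isClassFunction h5,
        S.sum_mm_mul_mm_of_not χ.isClassFunction (mt PairFuse.symm h5), ← h7]
      ring
    rw [← Finset.mul_sum, hq] at h9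
    have : ((2 * ∑ ψ ∈ irrFinset B, a χ ψ * a ψ χ : ℤ) : ℂ) =
      (2 ^ blockDefect 2 (S.below u) * a χ χ : ℤ) := by push_cast at h9 ⊢; linear_combination h9 / 2
    exact_mod_cast this
  have h10 : ∀ χ ψ, a ψ χ = a χ ψ := fun χ ψ => by
    have := congrArg conj (h7 χ ψ)
    simp only [map_add, map_mul, S.conj_mm χ.isClassFunction ψ.isClassFunction, hq, map_pow,
      map_natCast, map_intCast, map_ofNat] at this
    rw [← hq, h7] at this
    exact_mod_cast mul_left_cancel₀ two_ne_zero this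
  have h12 : (2 : ℤ) ^ blockDefect 2 (S.below u) ≤ 16 := by exact_mod_cast h3 ▸ hc
  have h13 : ∀ χ, 0 ≤ a χ χ := fun χ => nonneg_of_mul_nonneg_right (h9 χ ▸ mul_nonneg two_pos.le
    (Finset.sum_nonneg fun ψ _ => by rw [h10 χ ψ]; exact mul_self_nonneg _)) (by positivity)
  rw [kZero, natCard_subtype_mem_and]
  set T := (irrFinset B).filter fun ψ => blockHeight 2 B ψ.1 = 0
  have h14 : ∀ χ ∈ T, ∀ ψ ∈ T, a χ ψ ≠ 0 := fun χ hχ ψ hψ => h8 _ _
    (((S.isInducedBlock_below u).valM_secCon_eq_one_iff S.hM (S.orderOf_eq u) rfl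
      (mem_irrFinset.1 (Finset.mem_filter.1 hχ).1) (mem_irrFinset.1 (Finset.mem_filter.1 hψ).1)).2
      ⟨(Finset.mem_filter.1 hχ).2, (Finset.mem_filter.1 hψ).2⟩)
  by_cases h15 : ∃ χ ∈ T, a χ χ = 1
  · obtain ⟨χ, hχ, h15⟩ := h15
    have h16 := (Finset.card_nsmul_le_sum T (fun ψ => a χ ψ * a ψ χ) 1 fun ψ hψ => by
      rw [h10 χ ψ]; exact mul_self_pos.2 (h14 χ hχ ψ hψ)).trans
      (Finset.sum_le_sum_of_subset_of_nonneg (Finset.filter_subset _ _) fun ψ _ _ => by
        rw [h10 χ ψ]; exact mul_self_nonneg _)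
    have h17 := h9 χ
    rw [nsmul_one] at h16
    rw [h15] at h17
    omega
  · have h16 := (Finset.card_nsmul_le_sum T (fun ψ => a ψ ψ) 2 fun ψ hψ => by
      have := h13 ψ
      have := h14 ψ hψ ψ hψ
      have : a ψ ψ ≠ 1 := fun h => h15 ⟨ψ, hψ, h⟩
      omega).trans
      (Finset.sum_le_sum_of_subset_of_nonneg (Finset.filter_subset _ _) fun ψ _ _ => h13 ψ)
    rw [nsmul_eq_mul] at h16
    omega

theorem centric_of_normal {Q : Subgroup G} {g : G} (hn : P ≤ Subgroup.normalizer (Q : Set G))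
    (hQ : P ⊓ Subgroup.centralizer (Q : Set G) ≤ Q) (hg : PairMor 2 P e Q g) :
    P ⊓ Subgroup.centralizer (conjSub Q g : Set G) ≤ conjSub Q g := fun r hr => by
  have := S.hM.charP
  obtain ⟨f, hf⟩ := exists_pairLE S.isPair hg.le
  have h1 : conjSub (conjSub Q g) g⁻¹ = Q := conjSub_conjSub_inv Q g
  have h2 : P ≤ pairStab ⊤ Q f := fun y hy =>
    mem_pairStab.2 ⟨trivial, hn hy, (hf.nsub S.isPair hn).fixed y hy⟩
  have h3 := (hf.isPair_left S.isPair).centralizer_le_pairStab
  have h4 : conjSub (P ⊓ Subgroup.centralizer (conjSub Q g : Set G)) g⁻¹ ≤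
      Subgroup.centralizer (Q : Set G) := (conjSub_mono inf_le_right _).trans (by
    rw [centralizer_conjSub, conjSub_conjSub_inv])
  obtain ⟨y, hy, h5⟩ := hg.inv.exists_ext S.isPair (K := pairStab ⊤ Q f) (h1.symm ▸ hf)
    (h1.symm ▸ h3) (h1.symm ▸ le_rfl) (by
      rw [inf_eq_left.2 h2]; exact S.hmax.isDefGrp_pairStab_of_normal S.isBlk hf hn)
    inf_le_left (h4.trans h3)
  have h6 := pairStab_le_normalizer _ _ _ hy
  have h7 := (Subgroup.mem_normalizer_iff.1 (normalizer_le_normalizer_centralizer Q h6) _).1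
    (h4 (conj_mem_conjSub.2 hr))
  rw [mem_conjSub, ← inv_inv g, inv_inv g⁻¹]
  exact (Subgroup.mem_normalizer_iff.1 h6 _).2 (hQ ⟨by
    simpa [mul_assoc] using h5.conj_mem (Subgroup.mem_sup_right hr), h7⟩)

theorem kZero_le_of_cls (hc : Nat.card P = 32) (h4 : Nat.card (commutator P) = 4)
    (h : commutator P ≤ Subgroup.center P) : kZero B ≤ 8 := by
  obtain ⟨u, hu⟩ := exists_range_commHom h h4
  set Z := Subgroup.center P
  have h1 : Nat.card (Subgroup.centralizer {u}) = 8 := by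
    have := (commHom h u).ker.card_mul_index
    rw [Subgroup.index_ker, hu, h4, ker_commHom] at this
    omega
  have hcen : ∀ v : P, Z ≤ Subgroup.centralizer {v} := fun v z hz =>
    Subgroup.mem_centralizer_singleton_iff.2 (mul_comm_of_mem_center hz v)
  have h2 : u ∉ Z := fun h2 => by
    rw [Subgroup.centralizer_eq_top_iff_subset.2 (Set.singleton_subset_iff.2 h2),
      Subgroup.card_top] at h1
    omega
  have hself : ∀ v : P, v ∈ Subgroup.centralizer {v} := fun v =>
    Subgroup.mem_centralizer_singleton_iff.2 rfl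
  have h3 : Nat.card Z = 4 := by
    have h3 := Subgroup.card_le_of_le h
    have h5 := Subgroup.card_dvd_of_le (hcen u)
    have h6 := mt (Subgroup.eq_of_le_of_card_ge (hcen u)) fun h6 => h2 (h6 ▸ hself u)
    rw [h1] at h5 h6
    have := (Nat.dvd_prime_pow Nat.prime_two (m := 3)).1 h5
    obtain ⟨_ | _ | _ | _, -, h7⟩ := this <;> omega
  refine S.kZero_le_of_fuse u (fun v hv hf => by_contra fun h5 => ?_) (by
    have := orderOf_pos u
    have := mt orderOf_eq_one_iff.1 fun h : u = 1 => h2 (h ▸ one_mem _)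
    omega)
  obtain ⟨g, h6, hg⟩ := S.exists_ext_of_fullCen hf hv
  set C := P ⊓ Subgroup.centralizer {(u : G)}
  have h7 : ∀ A ≤ P, (∀ z ∈ Z, (z : G) ∈ A) → P ≤ Subgroup.normalizer (A : Set G) :=
    fun A hA hZ d hd => Subgroup.mem_normalizer_fintype fun a ha => by
      simpa [commutatorElement_def] using mul_mem (hZ ⁅⟨d, hd⟩, ⟨a, hA ha⟩⁆
        (h (Subgroup.commutator_mem_commutator trivial trivial))) ha
  have h8 := h7 C inf_le_left fun z hz => coe_mem_inf_centralizer.2 (mul_comm_of_mem_center hz u)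
  have h9 := S.centric_of_normal h8 (inf_le_inf_left _ (Subgroup.centralizer_le
    (Set.singleton_subset_iff.2 (coe_mem_inf_centralizer.2 rfl)))) hg
  have h10 : Z ≤ (conjSub C g).subgroupOf P := fun z hz => h9 ⟨z.2, fun a ha =>
    congrArg Subtype.val (Subgroup.mem_center_iff.1 hz ⟨a, hg.conj_le ha⟩)⟩
  have h11 : Nat.card (conjSub C g) = 8 := by rw [card_conjSub, card_inf_centralizer_coe, h1]
  have h12 := fun v a => mem_or_inv_mul_mem h10 (by
    rw [Nat.card_congr (Subgroup.subgroupOfEquivOfLe hg.conj_le).toEquiv, h11, h3]) (v := v) (a := a)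
  have h13 : v ∈ Z := by_contra fun h13 => h5 (by
    rw [← card_inf_centralizer_coe, ← h11]
    refine Subgroup.card_le_of_le fun d hd => h9 ⟨hd.1, fun a ha => ?_⟩
    rcases h12 v ⟨a, hg.conj_le ha⟩ (by
      rw [Subgroup.mem_subgroupOf, h6]
      exact conj_mem_conjSub.2 (coe_mem_inf_centralizer.2 rfl)) h13 ha with h14 | h14
    · exact congrArg Subtype.val (mul_comm_of_mem_center h14 ⟨d, hd.1⟩)
    · simpa [commute_iff_eq] using Commute.mul_left
        (Subgroup.mem_centralizer_singleton_iff.1 hd.2).symm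
        (congrArg Subtype.val (mul_comm_of_mem_center h14 ⟨d, hd.1⟩)))
  have h14 : ∀ z ∈ Z, g * z * g⁻¹ ∈ conjSub C g := fun z hz =>
    conj_mem_conjSub.2 (coe_mem_inf_centralizer.2 (mul_comm_of_mem_center hz u))
  obtain ⟨w, hw, h15, h16⟩ : ∃ w, ∃ hw : w ∈ Z, w ≠ 1 ∧ ⟨_, hg.conj_le (h14 w hw)⟩ ∈ Z := by
    by_contra! h15
    have := Fintype.ofFinite Z
    obtain ⟨a, b, c, h16, h17, h18⟩ := (Fintype.two_lt_card_iff (α := Z)).1 (by
      rw [Fintype.card_eq_nat_card, h3]; decide)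
    have h19 := fun a b : Z => h15 _ (a⁻¹ * b).2
    refine h19 b c (by simpa [inv_mul_eq_one]) ?_
    convert (h12 _ _ (h14 _ (a⁻¹ * b).2) (h19 a b (by simpa [inv_mul_eq_one]))
      (h14 _ (a⁻¹ * c).2)).resolve_left (h19 a c (by simpa [inv_mul_eq_one])) using 1
    ext; simp [mul_assoc]
  obtain ⟨d, rfl⟩ := (hu.trans (Subgroup.eq_of_le_of_card_ge h (h3.trans h4.symm).le)).ge hw
  obtain ⟨d', hd', h17⟩ := S.exists_conj_of_chain_mor hg (N₂ := Z.map P.subtype)
    (N₁ := conjSub (Subgroup.zpowers (⁅u, d⁆ : P)) g)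
    (by rw [conjSub_zpowers, Subgroup.zpowers_le]; exact ⟨_, h16, rfl⟩)
    (by rintro _ ⟨z, hz, rfl⟩; exact h10 hz) (h7 _ hg.conj_le h10)
    (fun d hd => Or.inr ⟨by
      rintro _ ⟨z, hz, rfl⟩; exact congrArg Subtype.val (mul_comm_of_mem_center hz ⟨d, hd⟩),
      fun a ha => ⟨⁅⟨a, hg.conj_le ha⟩, ⟨d, hd⟩⁆,
        h (Subgroup.commutator_mem_commutator trivial trivial), rfl⟩⟩) d.2 (h8 d.2)
    (Or.inl (Stab2.conj ⟨by
      rintro _ ⟨j, rfl⟩
      exact Commute.zpow_left (congrArg Subtype.val (mul_comm_of_mem_center hw d)) j,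
      fun a ha => by
        lift a to P using ha.1
        change ((⁅a, d⁆ : P) : G) ∈ _
        rcases mem_or_inv_mul_mem (hcen u) (by rw [h1, h3]) (hself u) h2
          (Subgroup.mem_centralizer_singleton_iff.2 (coe_mem_inf_centralizer.1 ha)) with h17 | h17
        · simp [commutatorElement_eq_one_iff_mul_comm.2 (mul_comm_of_mem_center h17 d)]
        · rw [commutatorElement_def a, eq_inv_mul_iff_mul_eq.1 ((mul_assoc ..).symm.trans
            (mul_comm_of_mem_center h17 d)).symm |>.symm]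
          simp [commutatorElement_def, mul_assoc]⟩ g))
  have h18 := h17 u (coe_mem_inf_centralizer.2 rfl)
  rw [← h6, show d' * v = v * d' from
    congrArg Subtype.val (Subgroup.mem_center_iff.1 h13 ⟨d', hd'⟩), mul_inv_cancel_right, h6] at h18
  exact h15 (commutatorElement_eq_one_iff_mul_comm.2 (Subtype.ext (by
    simpa [eq_mul_inv_iff_mul_eq] using h18.symm)))

theorem kZero_le_eight (hc : Nat.card P = 32) (h4 : Nat.card (commutator P) = 4) :
    kZero B ≤ 8 := by
  have h0 : ∀ u : P, u * u ≠ 1 → 8 ≤ orderOf u * 4 := fun u hu => by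
    have := four_le_orderOf S.isPGroup hu
    omega
  by_cases h : commutator P ≤ Subgroup.center P
  · exact S.kZero_le_of_cls hc h4 h
  by_cases hZ : 2 < Nat.card (Subgroup.center P)
  swap
  · have := (Finite.one_lt_card_iff_nontrivial (α := P)).1 (by omega)
    have := Finite.one_lt_card_iff_nontrivial.2 S.isPGroup.center_nontrivial
    obtain ⟨u, h1, h2⟩ := card_centralizer_le_eight hc h4 (by omega)
    exact S.kZero_le_of_fuse u (fun v hv _ => h2 v hv.orderOf_eq.symm) (h0 u h1)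
  obtain ⟨u, h1, h2⟩ | ⟨u, k, h1, h2, h3, h5, h6, h7⟩ | ⟨a, t, h1, h2, h3, h5, h6, h7, h8⟩ :=
    exists_of_card_center hc h hZ
  · exact S.kZero_le_of_fuse u (fun v hv _ => h2 v hv.orderOf_eq.symm) (h0 u h1)
  · have := S.two_mul_kZero_le h2 (fun w hw => by
      rw [card_inf_centralizer_coe, card_inf_centralizer_coe, h6]
      exact h7 w (hw.orderOf_eq ▸ h2)) h6.le h1 h3 fun h8 => by
        obtain ⟨y, hy⟩ := isConj_iff.1 (S.isConj_of_pairFuse h8 (le_antisymm
          (Subgroup.zpowers_le.2 (Subgroup.npow_mem_zpowers _ 5)) (Subgroup.zpowers_le.2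
            (mem_zpowers_pow_iff.2 (by rw [Subgroup.orderOf_coe, h2]; decide))))
          (fun d hd => Subgroup.mem_normalizer_fintype (by
            rintro _ ⟨j, rfl⟩
            rw [← conj_zpow]
            rcases h5 ⟨d, hd⟩ with h9 | h9 <;>
              simp [zpow_mem, pow_mem, show d * u * d⁻¹ = _ from congrArg Subtype.val h9]))
          fun x hx ho => mem_centralizer_of_le_zpowers
            (S.isPGroup.to_le (Subgroup.zpowers_le.2 u.2)) le_rfl hx ho)
        have h9 := h5 y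
        rw [hy, ← pow_one u, ← pow_mul, ← pow_mul, pow_eq_pow_iff_modEq, pow_eq_pow_iff_modEq,
          h2] at h9
        rcases h1 with rfl | rfl <;> exact absurd h9 (by decide)
    omega
  · refine S.kZero_le_of_fuse t (fun v hv _ => (h8 v hv.orderOf_eq.symm).resolve_right fun h9 => ?_)
      (h0 t h6)
    obtain ⟨g, hg, h10, -⟩ := S.exists_odd_of_central (u := v * v)
      (by rcases h9 with h9 | h9 <;> simp [h9, h2]) h5 (S.fuse_mul_self hv).symm
    rcases h9 with h9 | h9 <;> rw [h9] at h10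
    · exact h6 (Cj.unique h10 cj_one)
    · have h11 : Cj g (a ^ 4) ((⟨_, (Subgroup.mem_normalizer_iff.1 hg a).1 a.2⟩ : P) ^ 4) := by
        simp [Cj]
      generalize (⟨g * a * g⁻¹, _⟩ : P) = b at h11
      rcases h3 b with h12 | h12 <;> rw [h12] at h11
      exacts [h1 (h11.inj cj_one), h7 (Cj.unique h10 h11)]

theorem kZero_le_of_two (hc : Nat.card P ≤ 32) (h : Nat.card (commutator P) = 2) :
    kZero B ≤ (commutator P).index := by
  obtain ⟨u, h1, h2⟩ : ∃ u : P, u * u ≠ 1 ∧ CenFree e u := by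
    by_cases h1 : ∀ z ∈ Subgroup.center P, z * z = 1
    · obtain ⟨u, hu⟩ : ∃ u : P, u * u ≠ 1 := by
        by_contra! h2
        simp [(commutator_eq_bot_iff _).2 ⟨⟨fun a b => by_contra fun h5 =>
          (exists_mul_self_ne_one h5).elim fun x hx => hx (h2 x)⟩⟩] at h
      exact ⟨u, hu, fun z hz h2 =>
        hu ((mul_self_eq_one_iff_of_orderOf_eq h2.orderOf_eq).2 (h1 z hz))⟩
    push Not at h1
    obtain ⟨z, hz, h1⟩ := h1
    obtain ⟨c, h2⟩ := exists_cls2_of_card h (index_center_eq_four S.isPGroup h (by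
      have := mt (mul_self_of_card_le_two · hz) h1
      have := (Subgroup.center P).card_mul_index
      nlinarith))
    obtain ⟨t, -, h3⟩ := h2.exists_cenFree S
    by_cases h4 : t * t = 1
    · exact ⟨t * z, by rwa [(show Commute z t from mul_comm_of_mem_center hz t).mul_mul_mul_comm,
        h4, one_mul], h3 z hz⟩
    · exact ⟨t, h4, mul_one t ▸ h3 1 (one_mem _)⟩
  have h3 := (commutator P).card_mul_index
  have h4 := four_le_orderOf S.isPGroup h1
  refine S.kZero_le_of_fuse u (fun v hv _ => ?_) (by rw [h] at h3; omega)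
  have := (Subgroup.centralizer {v}).card_mul_index
  rw [index_centralizer_eq_two h.le fun h5 => h2 v h5 hv] at this
  rw [h] at h3
  omega

/-- **Olsson's bound** for `2`-blocks of defect at most five -/
theorem kZero_le_index (hc : Nat.card P ≤ 32) : kZero B ≤ (commutator P).index := by
  classical
  have h1 := (commutator P).card_mul_index
  obtain ⟨_ | _ | n, hn⟩ := (S.isPGroup.to_subgroup (commutator P)).exists_card_eq
  · have h2 := (commutator_eq_bot_iff _).1 (Subgroup.card_eq_one.1 hn)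
    rw [hn, pow_zero, one_mul] at h1
    refine h1 ▸ le_trans (Nat.card_le_card_of_injective (fun χ => (⟨χ.1, χ.2.1⟩ : B))
      fun a b h => Subtype.ext (congrArg (·.1) h)) ?_
    obtain h | h := subsingleton_or_nontrivial P
    · exact S.card_le_of_index_le_sixteen (one_mem _) (by
        rw [Subgroup.index_eq_one.2 (Subsingleton.elim _ _)]; decide)
    obtain ⟨z, hz⟩ := exists_ne (1 : P)
    refine S.card_le_of_index_le_sixteen (z := z) (by simp [Subgroup.center_eq_top]) ?_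
    have := (Subgroup.zpowers z).card_mul_index
    have := Subgroup.one_lt_card_iff_ne_bot _ |>.2 (Subgroup.zpowers_ne_bot.2 hz)
    nlinarith
  · exact S.kZero_le_of_two hc hn
  obtain ⟨m, hm⟩ := sq_dvd_index_commutator_of_not_isCyclic S.isPGroup fun h => by
    simp [(commutator_eq_bot_iff _).2 inferInstance, eq_comm (a := 1)] at hn
  have h2 : 4 ≤ Nat.card (commutator P) :=
    hn ▸ Nat.pow_le_pow_right two_pos (show 2 ≤ n + 1 + 1 by omega)
  have h3 : (commutator P).index ≠ 0 := Subgroup.index_ne_zero_of_finite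
  obtain rfl | rfl : m = 1 ∨ m = 2 := by
    have : m ≤ 2 := by nlinarith
    omega
  · obtain ⟨σ, τ, m, k, h⟩ := exists_isTame_of_index_commutator S.isPGroup (by nlinarith) hm
    have := Fintype.ofFinite (Subgroup.zpowers σ)
    obtain ⟨_, _, _, T⟩ := S.exists_tameQ h
    rw [kZero, natCard_subtype_mem_and, T.four, hm]
    rfl
  · rw [hm] at h1 ⊢
    exact S.kZero_le_eight (by omega) (by omega)

end StarSetup

end Cfsg
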