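import Cfsg.Agent.Blk.Principal
import Cfsg.Agent.Blk.Invol
import Cfsg.Agent.CT.ClassSum
import Cfsg.Agent.Grp.Coprime
import Cfsg.Agent.Grp.NormalComplement

/-! Glauberman's `Z*`-theorem, reduced to the Brauer–Suzuki situation; the case of abelian Sylow
`2`-subgroups. -/

set_option autoImplicit false
set_option linter.style.haveILetI false
set_option linter.unusedSectionVars false

namespace Cfsg

open scoped ComplexConjugate

universe u

variable {G : Type u} [Group G] [Finite G]

theorem mul_self_eq_one_of_isConj {a b : G} (ha : a * a = 1) (h : IsConj a b) : b * b = 1 := by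
  obtain ⟨c, rfl⟩ := isConj_iff.1 h
  exact conj_mul_self_eq_one ha c

theorem orderOf_eq_of_isConj' {a b : G} (h : IsConj a b) : orderOf a = orderOf b := by
  obtain ⟨c, rfl⟩ := isConj_iff.1 h
  exact ((MulAut.conj c).orderOf_eq a).symm

theorem pow_conj_of_inverts {w b : G} (h : b * w * b⁻¹ = w⁻¹) (j : ℕ) :
    w ^ j * b * (w ^ j)⁻¹ = w ^ (2 * j) * b := by
  have h2 : b * (w ^ j)⁻¹ = w ^ j * b := by
    rw [← inv_pow, ← mul_inv_eq_iff_eq_mul, ← conj_pow, ← conj_inv, h, inv_inv]
  rw [mul_assoc, h2, ← mul_assoc, ← pow_add, two_mul]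

theorem conj_eq_inv_of_mul_involutions' {a b : G} (ha : a * a = 1) (hb : b * b = 1) :
    b * (a * b) * b⁻¹ = (a * b)⁻¹ := by
  rw [mul_inv_rev, inv_eq_of_mul_eq_one_right ha, ← mul_assoc, mul_inv_cancel_right,
    inv_eq_of_mul_eq_one_right hb]

/-- two involutions with product of odd order are conjugate by a power of the product -/
theorem exists_pow_conj_eq_of_odd {a b : G} (ha : a * a = 1) (hb : b * b = 1)
    (h : Odd (orderOf (a * b))) : ∃ j : ℕ, (a * b) ^ j * b * ((a * b) ^ j)⁻¹ = a := by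
  obtain ⟨k, hk⟩ := h
  refine ⟨k + 1, ?_⟩
  rw [pow_conj_of_inverts (conj_eq_inv_of_mul_involutions' ha hb),
    show 2 * (k + 1) = 2 * k + 1 + 1 by ring, pow_succ, ← hk,
    pow_orderOf_eq_one, one_mul, mul_assoc, hb, mul_one]

/-- an involution commuting with none of its other conjugates -/
theorem odd_orderOf_mul_of_isolated {u : G} (hu : u * u = 1)
    (h : ∀ t, IsConj u t → Commute u t → t = u) {s t : G} (hs : IsConj u s) (ht : IsConj u t) :
    Odd (orderOf (s * t)) := by
  have h' : ∀ x, IsConj u x → Commute t x → x = t := by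
    obtain ⟨c, rfl⟩ := isConj_iff.1 ht
    intro x hx hc
    have := h (c⁻¹ * x * c) (hx.trans (isConj_iff.2 ⟨c⁻¹, by rw [inv_inv]⟩)) (by
      have := hc.map (MulAut.conj c⁻¹)
      simpa [mul_assoc] using this)
    rw [← this]; group
  have hs2 := mul_self_eq_one_of_isConj hu hs
  have ht2 := mul_self_eq_one_of_isConj hu ht
  have h1 := pow_conj_of_inverts (conj_eq_inv_of_mul_involutions hs2 ht2)
  have h2 := pow_conj_of_inverts (conj_eq_inv_of_mul_involutions' hs2 ht2)
  rw [← Nat.not_even_iff_odd]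
  rintro ⟨k, hk⟩
  have hk0 : 0 < k := by have := orderOf_pos (s * t); omega
  have hz : (s * t) ^ k * (s * t) ^ k = 1 := by rw [← pow_add, ← hk, pow_orderOf_eq_one]
  have hz1 : (s * t) ^ k ≠ 1 := pow_ne_one_of_lt_orderOf hk0.ne' (by omega)
  have hc : Commute t ((s * t) ^ k) := by
    have := h2 k
    rw [two_mul, pow_add, hz, one_mul, mul_inv_eq_iff_eq_mul] at this
    exact this.symm
  refine hz1 (mul_right_cancel (b := t) ?_)
  rw [one_mul]
  refine h' _ ?_ (hc.mul_right (Commute.refl t))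
  rcases Nat.even_or_odd' k with ⟨j, rfl | rfl⟩
  · exact ht.trans (isConj_iff.2 ⟨_, h2 j⟩)
  · refine hs.trans (isConj_iff.2 ⟨(s * t) ^ j, ?_⟩)
    rw [h1, pow_succ, mul_assoc _ (s * t), mul_assoc s, ht2, mul_one]

theorem orderOf_eq_two_of_mul_self {a : G} (ha : a * a = 1) (h1 : a ≠ 1) : orderOf a = 2 :=
  haveI := Fact.mk Nat.prime_two
  orderOf_eq_prime (by rw [sq, ha]) h1

theorem mul_self_of_orderOf_eq_two {a : G} (ha : orderOf a = 2) : a * a = 1 := by
  rw [← sq, ← ha, pow_orderOf_eq_one]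

/-- the character-theoretic core of the `Z*`-theorem -/
theorem zStar_apply_mul {M : Ideal AlgInt} (hM : IsPModular 2 M) {u : G} (hu : u * u = 1)
    (hiso : ∀ s t, IsConj u s → IsConj u t → Odd (orderOf (s * t)))
    (hloc : ∀ z : G, orderOf z = 2 → ∀ s t : Subgroup.centralizer ({z} : Set G), IsConj u s →
      IsConj s t → s * t ∈ pPrimeCore 2 (Subgroup.centralizer ({z} : Set G)))
    {v : G} (hv : v * v = 1) (hvu : ¬ IsConj u v) (huv : Commute u v) {χ : IrrCharacter G}
    (hχ : χ ∈ principalBlock M G) : χ.1 1 * χ.1 (u * v) = χ.1 u * χ.1 v := by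
  haveI := Fact.mk Nat.prime_two
  haveI := Fintype.ofFinite G
  have key : ∀ s, IsConj u s → χ.1 (s * v) = χ.1 (u * v) := by
    intro s hs
    have hs2 := mul_self_eq_one_of_isConj hu hs
    have h1 := pow_conj_of_inverts (conj_eq_inv_of_mul_involutions hs2 hv)
    have h2 := pow_conj_of_inverts (conj_eq_inv_of_mul_involutions' hs2 hv)
    obtain ⟨k, hk⟩ : Even (orderOf (s * v)) := by
      rw [← Nat.not_odd_iff_even]
      intro h
      obtain ⟨j, hj⟩ := exists_pow_conj_eq_of_odd hs2 hv h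
      exact hvu (hs.trans (isConj_iff.2 ⟨_, hj⟩).symm)
    have hk0 : 0 < k := by have := orderOf_pos (s * v); omega
    set z := (s * v) ^ k with hz
    have hz2 : z * z = 1 := by rw [← pow_add, ← hk, pow_orderOf_eq_one]
    have hzo := orderOf_eq_two_of_mul_self hz2 (pow_ne_one_of_lt_orderOf hk0.ne' (by omega))
    have hsz : s ∈ Subgroup.centralizer ({z} : Set G) := by
      have := h1 k
      rw [two_mul, pow_add, hz2, one_mul, mul_inv_eq_iff_eq_mul] at this
      exact Subgroup.mem_centralizer_singleton_iff.2 this.symm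
    have hvz : v ∈ Subgroup.centralizer ({z} : Set G) := by
      have := h2 k
      rw [two_mul, pow_add, hz2, one_mul, mul_inv_eq_iff_eq_mul] at this
      exact Subgroup.mem_centralizer_singleton_iff.2 this.symm
    let s' : Subgroup.centralizer ({z} : Set G) := ⟨s, hsz⟩
    let v' : Subgroup.centralizer ({z} : Set G) := ⟨v, hvz⟩
    have h3 : (s' * v') ^ 2 ∈ pPrimeCore 2 _ := by
      have := hloc z hzo s' (v' * s' * v'⁻¹) hs (isConj_iff.2 ⟨v', rfl⟩)
      rwa [show v'⁻¹ = v' from Subtype.ext (inv_eq_of_mul_eq_one_right hv), ← mul_assoc,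
        ← mul_assoc, mul_assoc (s' * v'), ← sq] at this
    obtain ⟨j, rfl⟩ : Odd k := by
      have h4 := not_dvd_orderOf_of_mem_pPrimeCore h3
      rw [← Subgroup.orderOf_coe, Subgroup.coe_pow, Subgroup.coe_mul, orderOf_pow' _ two_ne_zero,
        hk, ← two_mul, Nat.gcd_mul_right_left, Nat.mul_div_cancel_left _ two_pos] at h4
      exact Nat.odd_iff.2 (by omega)
    have h5 := hM.apply_mul_of_mem_pPrimeCore_centralizer (u := z) ⟨1, by rw [hzo, pow_one]⟩ rfl hχ
      (Subgroup.pow_mem _ h3 (j + 1))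
    have h5' : z * ((s * v) ^ 2) ^ (j + 1) = s * v := by
      rw [hz, ← pow_mul, ← pow_add,
        show 2 * j + 1 + 2 * (j + 1) = (2 * j + 1 + (2 * j + 1)) + 1 by ring, ← hk, pow_succ,
        pow_orderOf_eq_one, one_mul]
    rw [Subgroup.coe_pow, Subgroup.coe_pow, Subgroup.coe_mul, h5'] at h5
    rw [h5]
    refine (χ.isClassFunction.eq_of_isConj ?_).symm
    -- `z s` is conjugate to `v`
    have h6 : (s * v) ^ (j + 1) * v * ((s * v) ^ (j + 1))⁻¹ = (z * s)⁻¹ * (z * z) := by
      rw [h2, hz2, mul_one, eq_inv_iff_mul_eq_one,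
        show 2 * (j + 1) = (2 * j + 1) + 1 by ring, pow_succ, ← hz, mul_assoc z, mul_assoc s, hv,
        mul_one, mul_assoc, ← mul_assoc s, Subgroup.mem_centralizer_singleton_iff.1 hsz,
        mul_assoc z, hs2, mul_one, hz2]
    rw [hz2, mul_one, mul_inv_rev, inv_eq_of_mul_eq_one_right hs2,
      inv_eq_of_mul_eq_one_right hz2] at h6
    set c := (s * v) ^ (j + 1)
    have hs' : IsConj u (c * u * c⁻¹) := isConj_iff.2 ⟨c, rfl⟩
    obtain ⟨i, hi⟩ := exists_pow_conj_eq_of_odd hs2 (mul_self_eq_one_of_isConj hu hs')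
      (hiso _ _ hs hs')
    have h7 : Commute ((s * (c * u * c⁻¹)) ^ i) (s * z) := by
      refine (Commute.mul_left ((Commute.refl s).mul_right
        (Subgroup.mem_centralizer_singleton_iff.1 hsz)) ?_).pow_left i
      rw [← h6]
      simpa using huv.map (MulAut.conj c)
    set d := (s * (c * u * c⁻¹)) ^ i
    refine isConj_iff.2 ⟨d * c, ?_⟩
    calc d * c * (u * v) * (d * c)⁻¹ = (d * (c * u * c⁻¹) * d⁻¹) * (d * (c * v * c⁻¹) * d⁻¹) := by
          group
      _ = z := by rw [hi, h6, h7.eq, mul_inv_cancel_right, ← mul_assoc, hs2, one_mul]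
  have h := χ.one_mul_sum_conj_mul' u v
  rw [Finset.sum_congr rfl fun h _ => key _ (isConj_iff.2 ⟨h, rfl⟩), Finset.sum_const,
    Finset.card_univ, Fintype.card_eq_nat_card, nsmul_eq_mul, mul_left_comm] at h
  exact mul_left_cancel₀ (Nat.cast_ne_zero.2 Nat.card_pos.ne') h

/-- the final contradiction in the proof of the `Z*`-theorem -/
theorem zStar_false {u : G} (hu : orderOf u = 2)
    (hiso : ∀ s t, IsConj u s → IsConj u t → Odd (orderOf (s * t)))
    (hloc : ∀ z : G, orderOf z = 2 → ∀ s t : Subgroup.centralizer ({z} : Set G), IsConj u s →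
      IsConj s t → s * t ∈ pPrimeCore 2 (Subgroup.centralizer ({z} : Set G)))
    (hX : Subgroup.normalClosure ({u} : Set G) = ⊤) {v : G} (hv : orderOf v = 2) (hvu : v ≠ u)
    (huv : Commute u v) : False := by
  classical
  haveI := Fact.mk Nat.prime_two
  obtain ⟨M, hM⟩ := exists_isPModular Nat.prime_two
  have hu2 := mul_self_of_orderOf_eq_two hu
  have hv2 := mul_self_of_orderOf_eq_two hv
  have hnc : ∀ w, w * w = 1 → w ≠ u → Commute u w → ¬ IsConj u w := fun w hw h1 h2 h3 => by
    have h4 := hiso u w (IsConj.refl u) h3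
    rw [orderOf_eq_two_of_mul_self (by rw [← sq, h2.mul_pow, sq, sq, hu2, hw, one_mul])
      (fun h => h1 (by rw [eq_inv_of_mul_eq_one_right h, inv_eq_of_mul_eq_one_right hu2]))] at h4
    exact absurd h4 (by decide)
  have hv1 : v ≠ 1 := fun h => by rw [h, orderOf_one] at hv; exact absurd hv (by decide)
  have hker : ∀ N : Subgroup G, N.Normal → u ∈ N → N = ⊤ := fun N hN h =>
    eq_top_iff.2 (hX ▸ Subgroup.normalClosure_le_normal (Set.singleton_subset_iff.2 h))
  have hterm : ∀ χ ∈ irrFinset (principalBlock M G), χ ≠ IrrCharacter.triv G →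
      χ.1 v * conj (χ.1 1) + χ.1 v * conj (χ.1 u) = 0 := by
    intro χ hχ h1
    rw [mem_irrFinset] at hχ
    have h2 := zStar_apply_mul hM hu2 hiso hloc hv2 (hnc v hv2 hvu huv) huv hχ
    have h3 := zStar_apply_mul hM hu2 hiso hloc (v := u * v)
      (by rw [← sq, huv.mul_pow, sq, sq, hu2, hv2, one_mul])
      (hnc _ (by rw [← sq, huv.mul_pow, sq, sq, hu2, hv2, one_mul])
        (fun h => hv1 (mul_eq_left.1 h)) ((Commute.refl u).mul_right huv))
      ((Commute.refl u).mul_right huv) hχ
    rw [← mul_assoc, hu2, one_mul] at h3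
    have h4 : χ.1 u ≠ χ.1 1 := fun h => h1 (χ.charKer_eq_top_iff.1
      (hker _ inferInstance (χ.mem_charKer.2 h)))
    rw [χ.conj_apply_of_mul_self hu2, χ.conj_apply_of_mul_self (one_mul 1)]
    refine mul_left_cancel₀ (sub_ne_zero.2 h4) ?_
    linear_combination (-χ.1 u) * h2 - χ.1 1 * h3
  have hB := isPBlock_principalBlock (M := M) (G := G)
  have h1 := hB.sum_mul_conj_eq_zero hM (g := v) (h := 1) (by
    rw [pPart_one, pPart_eq_self_iff.2 ⟨1, by rw [hv, pow_one]⟩, isConj_one_left]; exact hv1)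
  have h2 := hB.sum_mul_conj_eq_zero hM (g := v) (h := u) (by
    rw [pPart_eq_self_iff.2 ⟨1, by rw [hv, pow_one]⟩, pPart_eq_self_iff.2 ⟨1, by rw [hu, pow_one]⟩]
    exact fun h => hnc v hv2 hvu huv h.symm)
  have h3 := congrArg₂ (· + ·) h1 h2
  simp only [← Finset.sum_add_distrib] at h3
  rw [Finset.sum_eq_single_of_mem _ (mem_irrFinset.2 hM.triv_mem_principalBlock) hterm] at h3
  simp [IrrCharacter.triv] at h3

/-- Glauberman's `Z*`-theorem for a class of groups closed under sections in which the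
Brauer–Suzuki theorem holds -/
theorem zStar_of_class (Cl : ∀ (K : Type u) [Group K] [Finite K], Prop)
    (hsub : ∀ (K : Type u) [Group K] [Finite K], Cl K → ∀ H : Subgroup K, Cl H)
    (hquot : ∀ (K : Type u) [Group K] [Finite K], Cl K → ∀ (N : Subgroup K) [N.Normal], Cl (K ⧸ N))
    (hBS : ∀ (K : Type u) [Group K] [Finite K], Cl K → pPrimeCore 2 K = ⊥ → ∀ u : K,
      orderOf u = 2 → (∀ v, orderOf v = 2 → Commute u v → v = u) → u ∈ Subgroup.center K)
    (G : Type u) [Group G] [Finite G] : Cl G → ∀ u : G, u * u = 1 →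
      (∀ s t, IsConj u s → IsConj u t → Odd (orderOf (s * t))) →
      ∀ s t, IsConj u s → IsConj u t → s * t ∈ pPrimeCore 2 G := by
  haveI := Fact.mk Nat.prime_two
  revert G
  refine induction_on_card fun G _ _ ih hG u hu hiso => ?_
  have hq : ∀ (N : Subgroup G) [N.Normal], N ≠ ⊥ → ∀ s t, IsConj u s → IsConj u t →
      s * t ∈ (pPrimeCore 2 (G ⧸ N)).comap (QuotientGroup.mk' N) := by
    intro N _ hN s t hs ht
    rw [Subgroup.mem_comap, map_mul]
    refine ih _ (card_quotient_lt hN) (hquot G hG N) (QuotientGroup.mk' N u)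
      (by rw [← map_mul, hu, map_one]) ?_ _ _ ((QuotientGroup.mk' N).map_isConj hs) ((QuotientGroup.mk' N).map_isConj ht)
    intro a b ha hb
    obtain ⟨c, rfl⟩ := isConj_iff.1 ha
    obtain ⟨d, rfl⟩ := isConj_iff.1 hb
    obtain ⟨c, rfl⟩ := QuotientGroup.mk'_surjective N c
    obtain ⟨d, rfl⟩ := QuotientGroup.mk'_surjective N d
    refine (hiso _ _ (isConj_iff.2 ⟨c, rfl⟩) (isConj_iff.2 ⟨d, rfl⟩)).of_dvd_nat ?_
    simpa using orderOf_map_dvd (QuotientGroup.mk' N) (c * u * c⁻¹ * (d * u * d⁻¹))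
  have hs : ∀ H : Subgroup G, H ≠ ⊤ → ∀ s t : H, IsConj u s → IsConj s t →
      s * t ∈ pPrimeCore 2 H := by
    intro H hH s t hs ht
    refine ih _ (card_lt_of_ne_top hH) (hsub G hG H) s
      (Subtype.ext (mul_self_eq_one_of_isConj hu hs)) ?_ _ _ (IsConj.refl s) ht
    intro a b ha hb
    rw [← Subgroup.orderOf_coe]
    exact hiso _ _ (hs.trans (H.subtype.map_isConj ha)) (hs.trans (H.subtype.map_isConj hb))
  by_cases hO : pPrimeCore 2 G = ⊥
  swap
  · intro s t hs ht
    have := hq _ hO s t hs ht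
    rwa [comap_pPrimeCore_quotient (coprime_card_pPrimeCore 2)] at this
  suffices h : u ∈ Subgroup.center G by
    intro s t hs ht
    obtain ⟨c, rfl⟩ := isConj_iff.1 hs
    obtain ⟨d, rfl⟩ := isConj_iff.1 ht
    rw [Subgroup.mem_center_iff.1 h, Subgroup.mem_center_iff.1 h, mul_inv_cancel_right,
      mul_inv_cancel_right, hu]
    exact Subgroup.one_mem _
  have hfin : (∀ t, IsConj u t → u * t = 1) → u ∈ Subgroup.center G := fun h =>
    Subgroup.mem_center_iff.2 fun g => by
      rw [← mul_inv_eq_iff_eq_mul, eq_inv_of_mul_eq_one_right (h _ (isConj_iff.2 ⟨g, rfl⟩)),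
        inv_eq_of_mul_eq_one_right hu]
  by_contra huZ
  have hu1 : u ≠ 1 := fun h => huZ (h ▸ Subgroup.one_mem _)
  have huo := orderOf_eq_two_of_mul_self hu hu1
  have hZ : ∀ z : G, orderOf z = 2 → Subgroup.centralizer ({z} : Set G) ≠ ⊤ := by
    intro z hz hC
    have hzZ : Subgroup.zpowers z ≤ Subgroup.center G := Subgroup.zpowers_le.2
      (Subgroup.centralizer_eq_top_iff_subset.1 hC rfl)
    haveI : (Subgroup.zpowers z).Normal := ⟨fun x hx g => by
      rwa [Subgroup.mem_center_iff.1 (hzZ hx) g, mul_inv_cancel_right]⟩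
    refine huZ (hfin fun t ht => ?_)
    have h1 := hq (Subgroup.zpowers z) (fun h => by
      rw [Subgroup.zpowers_eq_bot.1 h, orderOf_one] at hz; exact absurd hz (by decide)) u t
      (IsConj.refl u) ht
    set L := (pPrimeCore 2 (G ⧸ Subgroup.zpowers z)).comap (QuotientGroup.mk' _) with hL
    have h2 : HasNormalPComplement 2 L := by
      refine HasNormalPComplement.of_quotient_of_le_center
        (Z := (Subgroup.zpowers z).subgroupOf L) (fun x hx => Subgroup.mem_center_iff.2 fun y =>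
          Subtype.ext (Subgroup.mem_center_iff.1 (hzZ hx) y)) (HasNormalPComplement.of_not_dvd ?_)
      rw [← Subgroup.index_eq_card, ← Subgroup.relIndex, relIndex_comap_mk]
      exact not_dvd_card_pPrimeCore 2
    have h3 := hasNormalPComplement_iff_forall_mem_pPrimeCore.1 h2 ⟨_, h1⟩ (by
      rw [← Subgroup.orderOf_coe, ← even_iff_two_dvd, Nat.not_even_iff_odd]
      exact hiso _ _ (IsConj.refl u) ht)
    have h4 := Subgroup.mem_map_of_mem L.subtype h3
    rw [map_subtype_pPrimeCore_of_normal, hO, bot_inf_eq] at h4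
    exact Subgroup.mem_bot.1 h4
  have hX : Subgroup.normalClosure ({u} : Set G) = ⊤ := by
    by_contra hX
    set X := Subgroup.normalClosure ({u} : Set G)
    have huX : u ∈ X := Subgroup.subset_normalClosure rfl
    refine huZ (hfin fun t ht => ?_)
    have htX : t ∈ X := by
      obtain ⟨c, rfl⟩ := isConj_iff.1 ht
      exact Subgroup.Normal.conj_mem inferInstance _ huX _
    have h3 := hs X hX ⟨u, huX⟩ (⟨t, htX⟩ * ⟨u, huX⟩ * ⟨t, htX⟩⁻¹) (IsConj.refl u)
      (isConj_iff.2 ⟨_, rfl⟩)
    have h4 := Subgroup.mem_map_of_mem X.subtype h3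
    rw [map_subtype_pPrimeCore_of_normal, hO, bot_inf_eq, Subgroup.mem_bot] at h4
    have h5 : (u * t) ^ 2 = 1 := by
      rw [← h4, sq]
      simp [mul_assoc, inv_eq_of_mul_eq_one_right (mul_self_eq_one_of_isConj hu ht)]
    refine orderOf_eq_one_iff.1 (Nat.eq_one_of_dvd_coprimes ?_ (orderOf_dvd_of_pow_eq_one h5)
      dvd_rfl)
    exact Nat.coprime_two_left.2 (hiso _ _ (IsConj.refl u) ht)
  refine huZ (hBS G hG hO u huo fun v hv huv => ?_)
  by_contra hvu
  exact zStar_false huo hiso (fun z hz => hs _ (hZ z hz)) hX hv hvu huv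

/-- an abelian group all of whose non-trivial subgroups share a non-trivial element is cyclic -/
theorem isCyclic_of_comm_of_forall_mem (hG : IsMulCommutative G) {u : G} (hu : u ≠ 1)
    (h : ∀ K : Subgroup G, K ≠ ⊥ → u ∈ K) : IsCyclic G := by
  obtain ⟨χ, hχ⟩ := exists_faithful_irr_of_forall_le (N := Subgroup.zpowers u)
    (by rwa [Ne, Subgroup.zpowers_eq_bot]) fun K _ hK => Subgroup.zpowers_le.2 (h K hK)
  have h1 := χ.isCyclic_center_of_faithful hχ
  rw [Subgroup.center_eq_top_iff.2 hG] at h1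
  exact isCyclic_of_surjective _ Subgroup.topEquiv.surjective

theorem comm_of_isMulCommutative {H : Subgroup G} (h : IsMulCommutative H) {x y : G} (hx : x ∈ H)
    (hy : y ∈ H) : x * y = y * x :=
  congrArg Subtype.val (h.is_comm.comm ⟨x, hx⟩ ⟨y, hy⟩)

/-- Glauberman's `Z*`-theorem for groups with abelian Sylow `2`-subgroups -/
theorem zStar_of_comm (hG : ∀ Q : Subgroup G, IsPGroup 2 Q → IsMulCommutative Q) {u : G}
    (hu : u * u = 1) (hiso : ∀ t, IsConj u t → Commute u t → t = u) {s t : G} (hs : IsConj u s)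
    (ht : IsConj u t) : s * t ∈ pPrimeCore 2 G := by
  haveI := Fact.mk Nat.prime_two
  refine zStar_of_class (fun K _ _ => ∀ Q : Subgroup K, IsPGroup 2 Q → IsMulCommutative Q)
    ?_ ?_ ?_ G hG u hu (fun s t => odd_orderOf_mul_of_isolated hu hiso) s t hs ht
  · intro K _ _ hK H Q hQ
    exact ⟨⟨fun x y => Subtype.ext (Subtype.ext (comm_of_isMulCommutative (hK _ (hQ.map H.subtype))
      (Subgroup.mem_map_of_mem _ x.2) (Subgroup.mem_map_of_mem _ y.2)))⟩⟩
  · intro K _ _ hK N _ Q hQ
    obtain ⟨P, hP⟩ := hQ.exists_le_sylow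
    obtain ⟨R, rfl⟩ := Sylow.mapSurjective_surjective (QuotientGroup.mk'_surjective N) 2 P
    haveI := hK _ R.isPGroup'
    have : IsMulCommutative ((R : Subgroup K).map (QuotientGroup.mk' N)) := inferInstance
    exact ⟨⟨fun x y => Subtype.ext (comm_of_isMulCommutative this (hP x.2) (hP y.2))⟩⟩
  · intro K _ _ hK hO u hu h
    obtain ⟨P, hP⟩ := exists_mem_sylow_of_orderOf (p := 2) (g := u) ⟨1, by rw [hu, pow_one]⟩
    have hc := hK _ P.isPGroup'
    have hcyc : IsCyclic (P : Subgroup K) := by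
      refine isCyclic_of_comm_of_forall_mem hc (u := ⟨u, hP⟩) (fun h => ?_) fun L hL => ?_
      · rw [show u = 1 from congrArg Subtype.val h, orderOf_one] at hu
        exact absurd hu (by decide)
      · obtain ⟨v, hv, hvo⟩ := exists_orderOf_eq_prime_of_dvd_card
          (dvd_card_of_isPGroup_of_ne_bot (P.isPGroup'.to_subgroup L) hL)
        obtain rfl : ⟨u, hP⟩ = v := Subtype.ext (h v (by rwa [Subgroup.orderOf_coe])
          (comm_of_isMulCommutative hc hP v.2)).symm
        exact hv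
    have h1 := (hasNormalPComplement_iff_sup_sylow P).1 (hasNormalPComplement_two_of_isCyclic P hcyc)
    rw [hO, bot_sup_eq] at h1
    exact Subgroup.mem_center_iff.2 fun g => comm_of_isMulCommutative hc
      (h1 ▸ Subgroup.mem_top g) hP

/-- a group with abelian Sylow `2`-subgroups, `O(G) = 1` and no central involution has no subgroup
of index `2` -/
theorem sylow_le_commutator_of_comm (S : Sylow 2 G) (hS : IsMulCommutative (S : Subgroup G))
    (hO : pPrimeCore 2 G = ⊥) (hZ : ∀ t ∈ Subgroup.center G, t * t = 1 → t = 1) :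
    (S : Subgroup G) ≤ commutator G := by
  haveI := Fact.mk Nat.prime_two
  have hall : ∀ Q : Subgroup G, IsPGroup 2 Q → IsMulCommutative Q := fun Q hQ => by
    obtain ⟨g, hg⟩ := exists_conj_smul_le_sylow S hQ
    refine ⟨⟨fun x y => Subtype.ext ((MulAut.conj g).injective ?_)⟩⟩
    simp only [Subgroup.coe_mul, map_mul]
    exact comm_of_isMulCommutative hS (hg (Subgroup.smul_mem_pointwise_smul _ _ _ x.2))
      (hg (Subgroup.smul_mem_pointwise_smul _ _ _ y.2))
  obtain ⟨A, -, hA, hAc⟩ := exists_complement_in (N := (S : Subgroup G))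
    (L := Subgroup.normalizer ((S : Subgroup G) : Set G)) Subgroup.le_normalizer le_rfl
    (coprime_card_of_isPGroup S.isPGroup' fun h => S.not_dvd_index
      (h.trans (Subgroup.relIndex_dvd_index_of_le Subgroup.le_normalizer)))
  have hc : (Nat.card (S : Subgroup G)).Coprime (Nat.card A) := hAc ▸
    coprime_card_of_isPGroup S.isPGroup' fun h => S.not_dvd_index
      (h.trans (Subgroup.relIndex_dvd_index_of_le Subgroup.le_normalizer))
  have h1 := commutator_sup_centralizer_of_coprime (N := (S : Subgroup G)) (A := A)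
    (hA ▸ le_sup_right) hc (Or.inl (isSolvable_of_isMulCommutative hS))
  have h2 : (S : Subgroup G) ⊓ Subgroup.centralizer (A : Set G) = ⊥ := by
    by_contra h
    obtain ⟨t, ⟨htS, htA⟩, hto⟩ := exists_orderOf_eq_prime_of_dvd_card
      (dvd_card_of_isPGroup_of_ne_bot S.isPGroup'.to_inf_left h)
    have ht2 := mul_self_of_orderOf_eq_two hto
    have htN : t ∈ Subgroup.centralizer (Subgroup.normalizer ((S : Subgroup G) : Set G) : Set G) := by
      rw [← hA, centralizer_sup]
      exact ⟨Subgroup.le_centralizer _ htS, htA⟩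
    have hiso : ∀ x, IsConj t x → Commute t x → x = t := by
      intro x hx hc
      have hx2 := mul_self_eq_one_of_isConj ht2 hx
      have hQ : IsPGroup 2 (Subgroup.zpowers t ⊔ Subgroup.zpowers x : Subgroup G) :=
        IsPGroup.to_sup_of_normal_right' (isPGroup_zpowers_iff.2 ⟨1, by rw [hto, pow_one]⟩)
          (isPGroup_zpowers_iff.2 ⟨1, by rw [← orderOf_eq_of_isConj' hx, hto, pow_one]⟩)
          (Subgroup.zpowers_le.2 (Subgroup.centralizer_le_normalizer _ (by
            rw [centralizer_zpowers]; exact Subgroup.mem_centralizer_singleton_iff.2 hc)))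
      obtain ⟨g, hg⟩ := exists_conj_smul_le_sylow S hQ
      have hfus : ∀ y, IsConj t y → y ∈ (S : Subgroup G) → y = t := fun y hy hyS => by
        obtain ⟨c, rfl⟩ := isConj_iff.1 hy
        obtain ⟨n, hn, e⟩ := S.conj_eq_normalizer_conj_of_mem t c⁻¹ htS (by rwa [inv_inv])
        rw [inv_inv] at e
        rw [e, mul_assoc, ← htN n hn, inv_mul_cancel_left]
      have e1 := hfus (g * t * g⁻¹) (isConj_iff.2 ⟨g, rfl⟩) (hg (Subgroup.smul_mem_pointwise_smul
        _ _ _ (Subgroup.mem_sup_left (Subgroup.mem_zpowers t))))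
      have e2 := hfus (g * x * g⁻¹) (hx.trans (isConj_iff.2 ⟨g, rfl⟩))
        (hg (Subgroup.smul_mem_pointwise_smul _ _ _
          (Subgroup.mem_sup_right (Subgroup.mem_zpowers x))))
      exact (MulAut.conj g).injective (e2.trans e1.symm)
    have h3 : t = 1 := hZ t (Subgroup.mem_center_iff.2 fun g => by
      have := zStar_of_comm hall ht2 hiso (IsConj.refl t) (isConj_iff.2 ⟨g, rfl⟩)
      rw [hO, Subgroup.mem_bot] at this
      rw [← mul_inv_eq_iff_eq_mul, eq_inv_of_mul_eq_one_right this,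
        inv_eq_of_mul_eq_one_right ht2]) ht2
    rw [h3, orderOf_one] at hto
    exact absurd hto (by decide)
  rw [h2, sup_bot_eq] at h1
  rw [← h1]
  exact Subgroup.commutator_mono le_top le_top

end Cfsg
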