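import Cfsg.Agent.Blk.Idx16
import Cfsg.Agent.Blk.ZStar

/-! Groups of order at most `32`. -/

set_option autoImplicit false

namespace Cfsg

open scoped commutatorElement

universe u v w

theorem eq_of_mem_of_card_le_two {A : Type u} [Group A] [Finite A] {F : Subgroup A}
    (hF : Nat.card F ≤ 2) {a b : A} (ha : a ∈ F) (hb : b ∈ F) (ha1 : a ≠ 1) (hb1 : b ≠ 1) :
    a = b := by
  have : Nontrivial F := ⟨⟨⟨a, ha⟩, 1, fun h => ha1 (congrArg Subtype.val h)⟩⟩
  have := Finite.one_lt_card (α := F)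
  exact congrArg Subtype.val (((Nat.card_eq_two_iff' (1 : F)).1 (by omega)).unique
    (y₁ := ⟨a, ha⟩) (y₂ := ⟨b, hb⟩) (mt (congrArg Subtype.val) ha1) (mt (congrArg Subtype.val) hb1))

theorem mul_self_of_card_le_two {A : Type u} [Group A] [Finite A] {F : Subgroup A}
    (hF : Nat.card F ≤ 2) {a : A} (ha : a ∈ F) : a * a = 1 := by
  by_contra h
  have h1 : a ≠ 1 := fun h1 => h (by simp [h1])
  exact h1 (mul_eq_left.1 (eq_of_mem_of_card_le_two hF (mul_mem ha ha) ha h h1))

theorem isCyclic_of_unique_invol {A : Type u} [CommGroup A] [Finite A] (hA : IsPGroup 2 A)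
    (h : ∀ a b : A, a * a = 1 → b * b = 1 → a ≠ 1 → b ≠ 1 → a = b) : IsCyclic A := by
  have key : ∀ K : Subgroup A, K ≠ ⊥ → ∃ a ∈ K, a * a = 1 ∧ a ≠ 1 := fun K hK => by
    obtain ⟨a, ha⟩ := exists_prime_orderOf_dvd_card' 2
      (dvd_card_of_isPGroup_of_ne_bot (hA.to_subgroup K) hK)
    exact ⟨a, a.2, congrArg Subtype.val ((pow_two a).symm.trans (ha ▸ pow_orderOf_eq_one a)),
      fun h1 => by simp [show a = 1 from Subtype.ext h1] at ha⟩
  rcases subsingleton_or_nontrivial A with h1 | h1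
  · infer_instance
  · obtain ⟨z, -, h2, h3⟩ := key ⊤ top_ne_bot
    refine isCyclic_of_comm_of_forall_mem inferInstance h3 fun K hK => ?_
    obtain ⟨a, h4, h5, h6⟩ := key K hK
    exact h a z h5 h2 h6 h3 ▸ h4

theorem isCyclic_of_invol_aut {A : Type u} [CommGroup A] [Finite A] (hA : IsPGroup 2 A)
    (hc : 8 ≤ Nat.card A) {φ : A →* A} (hφ : ∀ a, φ (φ a) = a) {F : Subgroup A}
    (hF : Nat.card F ≤ 2) (h : ∀ a, φ a = a → a ∈ F) : IsCyclic A := by
  set N : A →* A := MonoidHom.id A * φ with hN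
  set δ : A →* A := MonoidHom.id A / φ with hδ
  have h0 : ∀ a, N a ∈ F := fun a => h _ (by simp [hN, hφ, mul_comm])
  have h1 : N.ker.index ≤ 2 := by
    rw [Subgroup.index_ker]
    exact (Subgroup.card_le_of_le (by rintro _ ⟨a, rfl⟩; exact h0 a)).trans hF
  have h2 : Nat.card δ.ker ≤ 2 := (Subgroup.card_le_of_le fun a ha =>
    h a (div_eq_one.1 ha).symm).trans hF
  have h3 : δ.range ≤ N.ker := by rintro _ ⟨a, rfl⟩; simp [hN, hδ, hφ]
  have h4 : IsCyclic N.ker := by
    have h4 : ∀ a : N.ker, a * a = 1 → (a : A) ∈ F := fun a ha =>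
      h a (mul_left_cancel (a := (a : A)) (a.2.trans (congrArg Subtype.val ha).symm))
    exact isCyclic_of_unique_invol (hA.to_subgroup _) fun a b ha hb h5 h6 => Subtype.ext
      (eq_of_mem_of_card_le_two hF (h4 a ha) (h4 b hb) (by simpa using h5) (by simpa using h6))
  by_cases h5 : N.ker = ⊤
  · rw [h5] at h4
    exact isCyclic_of_surjective _ Subgroup.topEquiv.surjective
  have h6 := N.ker.card_mul_index
  have h7 : N.ker.index = 2 := by
    have := mt Subgroup.index_eq_one.1 h5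
    have : N.ker.index ≠ 0 := Subgroup.index_ne_zero_of_finite
    omega
  have h8 := δ.ker.card_mul_index
  rw [Subgroup.index_ker] at h8
  obtain ⟨k, hk⟩ := h4.exists_ofOrder_eq_natCard
  obtain ⟨t, ht⟩ := (Subgroup.eq_of_le_of_card_ge h3 (by nlinarith)).ge k.2
  obtain ⟨n, hn⟩ := IsPGroup.iff_card.1 hA
  obtain ⟨m, rfl⟩ : ∃ m, n = m + 3 := Nat.exists_eq_add_of_le'
    ((Nat.pow_le_pow_iff_right one_lt_two).1 (hn ▸ hc))
  have h9 : t ^ 2 ^ (m + 2) ≠ 1 := fun h9 => by
    have h10 : N t ^ 2 = 1 := (pow_two _).trans (mul_self_of_card_le_two hF (h0 t))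
    have h11 : (k : A) * N t = t ^ 2 := by simp [← ht, hN, hδ, pow_two]
    have h12 : k ^ 2 ^ (m + 1) = 1 := Subtype.ext (by
      rw [pow_succ', pow_mul, ← h11, mul_pow, pow_succ' 2 m, pow_mul (N t), h10] at h9
      simpa [pow_succ'] using h9)
    have := Nat.le_of_dvd (by positivity) (orderOf_dvd_of_pow_eq_one h12)
    rw [h7, ← hk, hn, pow_succ, pow_succ] at h6
    have := Nat.two_pow_pos (m + 1)
    omega
  exact isCyclic_of_orderOf_eq_card t (hn ▸ orderOf_eq_prime_pow h9 (hn ▸ pow_card_eq_one'))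

variable {T : Type u} [Group T] [Finite T]

theorem exists_notMem_of_index_two {A : Subgroup T} (h : A.index = 2) : ∃ x, x ∉ A := by
  by_contra! h1
  simp [(Subgroup.eq_top_iff' A).2 h1] at h

theorem mem_center_of_index_two {A : Subgroup T} (h : A.index = 2) (hA : IsMulCommutative A)
    {x a : T} (hx : x ∉ A) (ha : a ∈ A) (h1 : x * a = a * x) : a ∈ Subgroup.center T :=
  Subgroup.mem_center_iff.2 fun b => by
    by_cases hb : b ∈ A
    · exact setLike_mul_comm hb ha
    · simpa [commute_iff_eq] using Commute.mul_left (setLike_mul_comm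
        ((Subgroup.mul_mem_iff_of_index_two h).2 (iff_of_false hb (mt inv_mem_iff.1 hx))) ha)
        (Commute.inv_right (Commute.symm h1)).symm.inv_left

theorem isCyclic_of_index_two (hT : IsPGroup 2 T) {A : Subgroup T} (h : A.index = 2)
    (hA : IsMulCommutative A) (hc : 16 ≤ Nat.card T) (h4 : (commutator T).index = 4) :
    IsCyclic A := by
  have := Subgroup.normal_of_index_eq_two h
  have h1 := (commutator T).card_mul_index
  have h2 := A.card_mul_index
  have h3 := card_eq_card_commutator_mul_card_center hA (h ▸ Nat.prime_two) fun h3 => by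
    rw [(commutator_eq_bot_iff _).2 h3] at h1 h4
    simp at h4; omega
  rw [h4] at h1
  rw [h] at h2
  have h5 : Nat.card (Subgroup.center T) = 2 :=
    Nat.eq_of_mul_eq_mul_left (Nat.card_pos (α := commutator T)) (by omega)
  obtain ⟨x, hx⟩ := exists_notMem_of_index_two h
  letI : CommGroup A := { (inferInstance : Group A) with mul_comm := fun a b => mul_comm' a b }
  refine isCyclic_of_invol_aut (hT.to_subgroup A) (by omega) 
    (φ := (MulAut.conjNormal (H := A) x).toMonoidHom) (fun a => Subtype.ext ?_)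
    (F := (Subgroup.center T).subgroupOf A)
    ((Nat.le_of_dvd Nat.card_pos (Subgroup.card_comap_dvd_of_injective _ _
      A.subtype_injective)).trans h5.le) fun a (ha : MulAut.conjNormal x a = a) =>
      mem_center_of_index_two h hA hx a.2 (mul_inv_eq_iff_eq_mul.1 (congrArg Subtype.val ha))
  have := setLike_mul_comm (Subgroup.mul_self_mem_of_index_two h x) a.2
  simp only [MulEquiv.coe_toMonoidHom, MulAut.conjNormal_apply]
  rw [← mul_assoc, ← mul_assoc, this]; group

theorem exists_index_two_of_index_commutator (n : ℕ) : ∀ {T : Type u} [Group T] [Finite T],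
    Nat.card T = 2 ^ (n + 4) → (commutator T).index = 4 →
      ∃ σ : T, (Subgroup.zpowers σ).index = 2 := by
  have key : ∀ {T : Type u} [Group T] [Finite T] {n : ℕ}, Nat.card T = 2 ^ (n + 4) →
      (commutator T).index = 4 → ∀ A : Subgroup T, IsMulCommutative A → A.index = 2 →
        ∃ σ : T, (Subgroup.zpowers σ).index = 2 := fun {T} _ _ n hc h4 A h1 h2 => by
    obtain ⟨σ, h3⟩ := A.isCyclic_iff_exists_zpowers_eq_top.1 (isCyclic_of_index_two
      (IsPGroup.of_card hc) h2 h1 (hc ▸ Nat.pow_le_pow_right (i := 4) two_pos (by omega)) h4)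
    exact ⟨σ, h3 ▸ h2⟩
  induction n with
  | zero =>
    intro T _ _ hc h4
    obtain ⟨A, -, h1, h2⟩ := exists_comm_index_eq_of_card_eq_pow_four (p := 2) hc fun h => by
      rw [(commutator_eq_bot_iff _).2 h] at h4
      simp [hc] at h4
    exact key hc h4 A h1 h2
  | succ n ih =>
    intro T _ _ hc h4
    have hT : IsPGroup 2 T := IsPGroup.of_card hc
    obtain ⟨z, hz⟩ := exists_prime_orderOf_dvd_card' 2 (dvd_card_of_isPGroup_of_ne_bot
      (hT.to_subgroup _) (inf_center_ne_bot_of_isNilpotent hT.isNilpotent (N := commutator T)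
        fun h => by
          rw [h, Subgroup.index_bot, hc, show 4 = 2 ^ 2 from rfl, Nat.pow_right_inj one_lt_two] at h4
          omega))
    have h1 : Subgroup.zpowers (z : T) ≤ Subgroup.center T := Subgroup.zpowers_le.2 z.2.2
    have : (Subgroup.zpowers (z : T)).Normal := ⟨fun a ha g => by
      rw [← mul_comm_of_mem_center (h1 ha)]; simpa using ha⟩
    have h2 := fun H : Subgroup (T ⧸ Subgroup.zpowers (z : T)) =>
      H.index_comap_of_surjective (QuotientGroup.mk'_surjective _)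
    obtain ⟨σ, h3⟩ := ih (T := T ⧸ Subgroup.zpowers (z : T)) (by
      have := (Subgroup.zpowers (z : T)).index_mul_card
      rw [Nat.card_zpowers, Subgroup.orderOf_coe, hz, hc, pow_succ] at this
      exact Nat.eq_of_mul_eq_mul_right two_pos this) (by
      rw [← h2, ← map_commutator_eq_of_surjective _ (QuotientGroup.mk'_surjective _),
        QuotientGroup.comap_map_mk', sup_eq_right.2 (Subgroup.zpowers_le.2 z.2.1), h4])
    obtain ⟨σ, rfl⟩ := QuotientGroup.mk'_surjective _ σ
    rw [← h2, ← MonoidHom.map_zpowers, QuotientGroup.comap_map_mk'] at h3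
    exact key hc h4 _ (isMulCommutative_sup_zpowers inferInstance
      fun a ha => mul_comm_of_mem_center (h1 ha) σ) h3

/-- **Taussky** -/
theorem exists_isTame_of_index_commutator (hT : IsPGroup 2 T) (hc : 16 ≤ Nat.card T)
    (h4 : (commutator T).index = 4) : ∃ σ τ : T, ∃ m k, IsTame σ τ m k := by
  obtain ⟨n, hn⟩ := IsPGroup.iff_card.1 hT
  obtain ⟨n, rfl⟩ : ∃ m, n = m + 4 := Nat.exists_eq_add_of_le'
    ((Nat.pow_le_pow_iff_right one_lt_two).1 (hn ▸ hc))
  obtain ⟨σ, h⟩ := exists_index_two_of_index_commutator n hn h4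
  have h0 : ¬ IsMulCommutative T := fun h0 => by
    rw [(commutator_eq_bot_iff _).2 h0] at h4
    simp at h4; omega
  rcases cyc_two_cases hT (fun _ => h0 inferInstance) h.le with h1 | h1 | ⟨y, m, h1, -, -, h2, -, h3⟩
  · have := h1.card_four; omega
  · exact ⟨σ, h1⟩
  have := Subgroup.normal_of_index_eq_two h
  have h5 := card_eq_card_commutator_mul_card_center (A := Subgroup.zpowers σ) inferInstance
    (h ▸ Nat.prime_two) h0
  have h6 := (commutator T).card_mul_index
  have h7 := (Subgroup.zpowers σ).card_mul_index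
  rw [h4] at h6
  rw [h] at h7
  have h8 : σ ^ 2 ∈ Subgroup.center T := mem_center_of_index_two h inferInstance h2
    (pow_mem (Subgroup.mem_zpowers σ) 2) (mul_inv_eq_iff_eq_mul.1 (by
      rcases h3 with h3 | ⟨h3, -⟩ <;> rw [← conj_pow, h3]
      rw [(Commute.pow_self σ m).mul_pow, ← pow_mul, mul_comm m, ← h1, pow_orderOf_eq_one, one_mul]))
  have h9 : Nat.card (Subgroup.center T) = 2 :=
    Nat.eq_of_mul_eq_mul_left (Nat.card_pos (α := commutator T)) (by omega)
  have := orderOf_le_of_pow_eq_one (by norm_num) ((pow_mul σ 2 2).trans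
    ((pow_two _).trans (mul_self_of_card_le_two h9.le h8)))
  rw [Nat.card_zpowers] at h7
  omega

theorem index_centralizer_eq_two (h : Nat.card (commutator T) ≤ 2) {a : T}
    (ha : a ∉ Subgroup.center T) : (Subgroup.centralizer {a}).index = 2 := by
  have h1 := index_centralizer_le_card (K := commutator T) (x := a) fun g =>
    Subgroup.commutator_mem_commutator trivial trivial
  have h2 : (Subgroup.centralizer {a}).index ≠ 1 := fun h2 => ha (Subgroup.mem_center_iff.2 fun g =>
    Subgroup.mem_centralizer_singleton_iff.1 ((Subgroup.index_eq_one.1 h2).ge trivial))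
  have : (Subgroup.centralizer {a}).index ≠ 0 := Subgroup.index_ne_zero_of_finite
  omega

theorem comm_of_relIndex_le_two {Z H : Subgroup T} (h : Z.relIndex H ≤ 2)
    (hZ : ∀ z ∈ Z, ∀ a ∈ H, z * a = a * z) {a b : T} (ha : a ∈ H) (hb : b ∈ H) : a * b = b * a := by
  by_cases h1 : a ∈ Z
  · exact hZ a h1 b hb
  by_cases h2 : b ∈ Z
  · exact (hZ b h2 a ha).symm
  simpa [mul_assoc] using hZ _ (mul_mem_of_relIndex_le_two h ha hb h1 h2) a ha |>.symm

theorem index_center_eq_four (hT : IsPGroup 2 T) (h : Nat.card (commutator T) = 2)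
    (hi : (Subgroup.center T).index < 16) : (Subgroup.center T).index = 4 := by
  obtain ⟨a, b, hab⟩ : ∃ a b : T, a * b ≠ b * a := by
    by_contra! h1
    simp [(commutator_eq_bot_iff _).2 ⟨⟨h1⟩⟩] at h
  have ha := index_centralizer_eq_two h.le fun h1 => hab (mul_comm_of_mem_center h1 b)
  have hb := index_centralizer_eq_two h.le fun h1 => hab (mul_comm_of_mem_center h1 a).symm
  set H := Subgroup.centralizer {a} ⊓ Subgroup.centralizer {b} with hH
  have h1 : Subgroup.center T ≤ H :=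
    le_inf (Subgroup.center_le_centralizer _) (Subgroup.center_le_centralizer _)
  have h2 : H.index = 4 := le_antisymm (Subgroup.index_inf_le.trans (by rw [ha, hb]))
    (by simpa [ha] using two_mul_index_le_of_lt (lt_of_le_not_ge (inf_le_left (b := _)) fun h2 => hab
      (Subgroup.mem_centralizer_singleton_iff.1 (h2 (Subgroup.mem_centralizer_singleton_iff.2 rfl)).2)))
  have h3 := Subgroup.relIndex_mul_index h1
  obtain ⟨n, hn⟩ := hT.index (Subgroup.center T)
  have h4 : (Subgroup.center T).relIndex H ≤ 2 := by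
    have : n < 4 := (Nat.pow_lt_pow_iff_right one_lt_two).1 (hn ▸ hi)
    rw [h2, hn] at h3
    interval_cases n <;> omega
  rw [← h2, le_antisymm h1 fun d hd => Subgroup.mem_center_iff.2 fun g => ?_]
  have h5 : ∀ g ∈ Subgroup.centralizer {a}, Commute g d := fun g hg => by
    have h5 := fun g hg => comm_of_relIndex_le_two h4 (fun z hz a _ => mul_comm_of_mem_center hz a)
      (a := g) hg hd
    by_cases h6 : g ∈ Subgroup.centralizer {b}
    · exact h5 g ⟨hg, h6⟩
    · simpa using Commute.mul_left (h5 (g * a) ⟨mul_mem hg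
        (Subgroup.mem_centralizer_singleton_iff.2 rfl), (Subgroup.mul_mem_iff_of_index_two hb).2
        (iff_of_false h6 (mt Subgroup.mem_centralizer_singleton_iff.1 hab))⟩)
        (Commute.inv_left (Subgroup.mem_centralizer_singleton_iff.1 hd.1).symm)
  by_cases h6 : g ∈ Subgroup.centralizer {a}
  · exact h5 g h6
  · simpa [commute_iff_eq] using Commute.mul_left (h5 (g * b)
      ((Subgroup.mul_mem_iff_of_index_two ha).2 (iff_of_false h6
        (mt Subgroup.mem_centralizer_singleton_iff.1 hab.symm))))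
      (Commute.inv_left (Subgroup.mem_centralizer_singleton_iff.1 hd.2).symm)

/-- the commutator map in a group of class two -/
def commHom (h : commutator T ≤ Subgroup.center T) (u : T) : T →* T where
  toFun d := ⁅u, d⁆
  map_one' := by simp
  map_mul' a b := by
    rw [← mul_inv_cancel_right ⁅u, b⁆ a, mul_comm_of_mem_center
      (h (Subgroup.commutator_mem_commutator trivial trivial)) a]
    simp only [commutatorElement_def]; group

theorem ker_commHom (h : commutator T ≤ Subgroup.center T) (u : T) :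
    (commHom h u).ker = Subgroup.centralizer {u} := Subgroup.ext fun d => by
  rw [Subgroup.mem_centralizer_singleton_iff, eq_comm]
  exact commutatorElement_eq_one_iff_mul_comm

theorem exists_range_commHom (h : commutator T ≤ Subgroup.center T)
    (hc : Nat.card (commutator T) = 4) : ∃ u, (commHom h u).range = commutator T := by
  by_contra! h0
  have h1 : ∀ u, (commHom h u).range ≤ commutator T := by
    rintro u _ ⟨d, rfl⟩; exact Subgroup.commutator_mem_commutator trivial trivial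
  have h2 : ∀ u a b : T, ⁅u, a⁆ ≠ 1 → ⁅u, b⁆ ≠ 1 → ⁅u, a⁆ = ⁅u, b⁆ := fun u a b => by
    refine eq_of_mem_of_card_le_two (F := (commHom h u).range) ?_ ⟨a, rfl⟩ ⟨b, rfl⟩
    have h3 := mt (Subgroup.eq_of_le_of_card_ge (h1 u)) (h0 u)
    have h4 := Subgroup.card_dvd_of_le (h1 u)
    rw [hc] at h3 h4
    by_contra! h5
    obtain h6 : Nat.card (commHom h u).range = 3 := by omega
    rw [h6] at h4
    omega
  have h3 : ∀ a b : T, ⁅a, b⁆ = ⁅b, a⁆ := fun a b => by
    by_cases h3 : ⁅a, b⁆ = 1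
    · rw [← commutatorElement_inv a b, h3, inv_one]
    · rw [← commutatorElement_inv a b]
      exact (h2 a _ _ h3 fun h4 => h3 (inv_eq_one.1
        (((commHom h a).map_inv b).symm.trans h4))).trans ((commHom h a).map_inv b)
  have h4 : ∀ a b c : T, ⁅a * b, c⁆ = ⁅a, c⁆ * ⁅b, c⁆ := fun a b c => by
    rw [h3, h3 a, h3 b]; exact (commHom h c).map_mul a b
  obtain ⟨a, b, hab⟩ : ∃ a b : T, ⁅a, b⁆ ≠ 1 := by
    by_contra! h5
    simp [(commutator_eq_bot_iff _).2 ⟨⟨fun a b => commutatorElement_eq_one_iff_mul_comm.1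
      (h5 a b)⟩⟩] at hc
  refine h0 a (le_antisymm (h1 a) (Subgroup.commutator_le.2 fun x _ y _ => by_contra fun h5 => ?_))
  have h6 : ⁅x, y⁆ ≠ 1 := fun h6 => h5 (h6 ▸ one_mem _)
  have h7 : ⁅a, b⁆ ≠ ⁅x, y⁆ := fun h7 => h5 ⟨b, h7⟩
  have h8 : ⁅a, y⁆ = 1 := by_contra fun h8 => h7 (by
    rw [h2 a b y hab h8, h3, h3 x]; exact h2 y _ _ (h3 y a ▸ h8) (h3 y x ▸ h6))
  have h9 : ⁅x, b⁆ = 1 := by_contra fun h9 => h7 (by
    rw [← h2 x b y h9 h6, h3, h3 x]; exact h2 b _ _ (h3 b a ▸ hab) (h3 b x ▸ h9))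
  exact h7 (by simpa [h4, h8, h9] using h2 (a * x) b y (by simpa [h4, h9]) (by simpa [h4, h8]))

theorem Cls2.aut_c {c : T} (h : Cls2 c) (φ : MulAut T) : φ c = c := by
  obtain ⟨a, b, hab⟩ := h.exists_not_comm
  have h1 := (h.commutator a b).resolve_left (mt commutatorElement_eq_one_iff_mul_comm.1 hab)
  have h2 := h.commutator (φ a) (φ b)
  rw [← map_commutatorElement, h1] at h2
  exact h2.resolve_left (by simpa using h.ne)

theorem Cls2.comm_of_aut {c : T} (h : Cls2 c) (hsq : ∀ a : T, a * a = 1 ∨ a * a = c) {φ : MulAut T}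
    {s : T} (h1 : ∀ a, φ (φ a) = s * a * s⁻¹) (h2 : φ s = s) (h3 : s * s = 1)
    (h4 : ∀ r ∈ Subgroup.center T, φ r = r → r * r = 1) {a : T} (ha : φ a * a ≠ a * φ a) :
    s * a = a * s := by
  by_contra h5
  have h6 : s * φ a ≠ φ a * s := fun h6 => h5 (φ.injective (by simpa [h2] using h6))
  obtain ⟨r, hr, h7⟩ := h.exists_eq_mul (u := a * φ a) (fun h7 => ha (by
    simpa [mul_assoc] using mul_comm_of_mem_center h7 a))
    (h.comm_mul (Ne.symm h5) h6.symm).symm fun h7 => h5 (mul_comm_of_mem_center h7 a)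
  have h8 : φ (φ a) = a * c := by rw [h1, h.eq_of_ne h5, h.mul_c, mul_inv_cancel_right]
  have h9 : φ r = r := by
    rw [h7, map_mul, map_mul, h8, ← mul_assoc (φ a), h.eq_of_ne ha, mul_assoc _ c c, h.sq,
      mul_one] at h2
    exact mul_left_cancel h2
  have h10 : φ a * φ a = a * a := by
    rw [← map_mul]; rcases hsq a with h10 | h10 <;> simp [h10, h.aut_c]
  rw [h7, mul_assoc, ← mul_assoc r, mul_comm_of_mem_center hr, mul_assoc _ r r, h4 r hr h9, mul_one,
    mul_assoc, ← mul_assoc (φ a), h.eq_of_ne ha, h.mul_c, mul_assoc a (φ a), h10, ← mul_assoc,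
    ← mul_assoc] at h3
  rcases hsq a with h11 | h11 <;> simp [h11, h.sq, h.ne] at h3

theorem card_centralizer_le_eight (hc : Nat.card T = 32) (h4 : Nat.card (commutator T) = 4)
    (hZ : Nat.card (Subgroup.center T) = 2) : ∃ u : T, u * u ≠ 1 ∧
      ∀ w : T, orderOf w = orderOf u → Nat.card (Subgroup.centralizer {w}) ≤ 8 := by
  have hT : ¬ IsMulCommutative T := fun h => by simp [(commutator_eq_bot_iff _).2 h] at h4
  have hT2 : IsPGroup 2 T := IsPGroup.of_card (n := 5) hc
  have h0 : ∀ H : Subgroup T, H.index = 2 → Nat.card H = 16 ∧ ¬ IsMulCommutative H := fun H h0 => by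
    have := Subgroup.normal_of_index_eq_two h0
    have h1 := H.card_mul_index
    rw [h0] at h1
    exact ⟨by omega, fun h2 => by
      have := card_eq_card_commutator_mul_card_center h2 (h0 ▸ Nat.prime_two) hT
      rw [h4, hZ] at this
      omega⟩
  have h1 : ∀ w : T, w * w ≠ 1 → ¬ Nat.card (Subgroup.centralizer {w}) ≤ 8 →
      (Subgroup.centralizer {w}).index = 2 := fun w h1 h2 => by
    obtain ⟨n, hn⟩ := hT2.index (Subgroup.centralizer {w})
    have h3 := (Subgroup.centralizer {w}).card_mul_index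
    obtain _ | _ | n := n
    · exact absurd (mul_self_of_card_le_two hZ.le (Subgroup.mem_center_iff.2 fun g =>
        Subgroup.mem_centralizer_singleton_iff.1 ((Subgroup.index_eq_one.1 hn).ge trivial))) h1
    · exact hn
    · have := Nat.pow_le_pow_right two_pos (show 2 ≤ n + 1 + 1 by omega)
      nlinarith
  by_cases h2 : ∀ a : T, a ^ 4 = 1
  swap
  · obtain ⟨u, hu⟩ := not_forall.1 h2
    have h3 : ∀ w : T, w ^ 4 ≠ 1 → w * w ≠ 1 := fun w h3 h5 => h3 (by
      rw [show 4 = 2 * 2 from rfl, pow_mul, pow_two w, h5, one_pow])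
    refine ⟨u, h3 u hu, fun w hw => by_contra fun h5 => ?_⟩
    rw [← orderOf_dvd_iff_pow_eq_one, ← hw] at hu
    obtain ⟨h6, h7⟩ := h0 _ (h1 w (h3 w (mt orderOf_dvd_iff_pow_eq_one.2 hu)) h5)
    have h8 : Subgroup.zpowers w ≤ Subgroup.centralizer {w} :=
      Subgroup.zpowers_le.2 (Subgroup.mem_centralizer_singleton_iff.2 rfl)
    obtain ⟨k, hk⟩ := IsPGroup.iff_orderOf.1 hT2 w
    have h9 := card_mul_relIndex h8
    rw [hk, show 4 = 2 ^ 2 from rfl, Nat.pow_dvd_pow_iff_le_right one_lt_two] at hu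
    have := Nat.pow_le_pow_right two_pos (show 3 ≤ k by omega)
    rw [Nat.card_zpowers, hk, h6] at h9
    refine h7 ⟨⟨fun a b => Subtype.ext (comm_of_relIndex_le_two (Z := Subgroup.zpowers w)
      (by nlinarith) ?_ a.2 b.2)⟩⟩
    rintro _ ⟨j, rfl⟩ a ha
    exact (Commute.zpow_right (Subgroup.mem_centralizer_singleton_iff.1 ha) j).symm
  obtain ⟨u, hu⟩ : ∃ u : T, u * u ≠ 1 := by
    by_contra! h3
    exact hT ⟨⟨fun a b => by_contra fun h5 => (exists_mul_self_ne_one h5).elim fun x hx => hx (h3 x)⟩⟩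
  refine ⟨u, hu, fun w hw => by_contra fun h5 => ?_⟩
  replace hw := mt (mul_self_eq_one_iff_of_orderOf_eq hw).1 hu
  have h6 := h1 w hw h5
  obtain ⟨h7, h8⟩ := h0 _ h6
  set H := Subgroup.centralizer {w}
  have := Subgroup.normal_of_index_eq_two h6
  obtain ⟨c, y, h⟩ := exists_cls2F_of_sixteen h7 h8 fun a => Subtype.ext (h2 a)
  have h9 : ∀ r ∈ Subgroup.center H, r * r = 1 → r = 1 ∨ r = c := fun r hr h9 => by
    have h10 : ∀ z ∈ Subgroup.center H, z = 1 ∨ z = c ∨ z * z = y * y := fun z hz => by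
      rcases h.four z hz with rfl | rfl | rfl | rfl
      exacts [Or.inl rfl, Or.inr (Or.inl rfl), Or.inr (Or.inr rfl), Or.inr (Or.inr (by
        rw [mul_assoc, ← mul_assoc y, h.mul_c, ← mul_comm_of_mem_center h.cen, ← mul_assoc, h.sq,
          one_mul]))]
    rcases h10 ⟨w, Subgroup.mem_centralizer_singleton_iff.2 rfl⟩ (Subgroup.mem_center_iff.2 fun g =>
      Subtype.ext (Subgroup.mem_centralizer_singleton_iff.1 g.2)) with h11 | h11 | h11
    · exact absurd (by simp [show w = 1 from congrArg Subtype.val h11]) hw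
    · exact absurd (congrArg Subtype.val (h11 ▸ h.sq)) hw
    · exact or_iff_not_imp_left.2 fun a1 => by_contra fun a2 => hw (congrArg Subtype.val
        (h11.trans ((((h10 r hr).resolve_left a1).resolve_left a2).symm.trans h9)))
  have hsq : ∀ a : H, a * a = 1 ∨ a * a = c := fun a => h9 _ (h.sq_cen a) (Subtype.ext (by
    simpa [pow_succ, mul_assoc] using h2 a))
  have h10 : ∀ x ∉ H, ∀ a : H, MulAut.conjNormal x a * a ≠ a * MulAut.conjNormal x a →
      x * x * a = a * (x * x) := fun x hx a ha => congrArg Subtype.val (h.comm_of_aut hsq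
    (s := ⟨_, Subgroup.mul_self_mem_of_index_two h6 x⟩) (fun a => Subtype.ext (by simp [mul_assoc]))
    (Subtype.ext (by simp [mul_assoc])) (Subtype.ext (by simpa [pow_succ, mul_assoc] using h2 x))
    (fun r hr h10 => Subtype.ext (mul_self_of_card_le_two hZ.le (Subgroup.mem_center_iff.2 fun g => by
      have h11 := fun g hg => congrArg Subtype.val (Subgroup.mem_center_iff.1 hr ⟨g, hg⟩)
      by_cases hg : g ∈ H
      · exact h11 g hg
      · simpa [commute_iff_eq] using Commute.mul_left (h11 _ ((Subgroup.mul_mem_iff_of_index_two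
          h6).2 (iff_of_false hg (mt inv_mem_iff.1 hx))))
          (show Commute x r from mul_inv_eq_iff_eq_mul.1 (congrArg Subtype.val h10))))) ha)
  have h11 : ∀ x ∉ H, ∀ a ∈ H, ⁅a, x⁆ ∈ Subgroup.zpowers (c : T) := fun x hx a ha => by
    set b := MulAut.conjNormal x (⟨a, ha⟩ : H) with hb
    have h11 : b * ⟨a, ha⟩ = ⟨a, ha⟩ * b := by_contra fun h11 => h11 (Subtype.ext (by
      have h12 := h10 (a * x) (by rwa [mul_mem_cancel_left ha]) ⟨a, ha⟩ fun h12 => h11 (Subtype.ext
        (eq_mul_inv_iff_mul_eq.1 (by simpa [hb, mul_assoc] using congrArg Subtype.val h12)))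
      have h13 := h10 x hx _ h11
      have h14 : a * x * (a * x) = a * b * (x * x) := by simp [hb, mul_assoc]
      rw [h14, mul_assoc, h13] at h12
      exact mul_left_cancel (a := a) (by simpa [← mul_assoc] using h12)))
    have h12 : ⟨a, ha⟩ * b⁻¹ ∈ Subgroup.center H := by
      by_cases h12 : (⟨a, ha⟩ : H) ∈ Subgroup.center H
      · exact mul_mem h12 (inv_mem (MulAut.apply_mem_center _ h12))
      · exact h.mul_cen h12 rfl (Commute.inv_left h11) h12 fun h13 => h12 (by
          simpa [hb] using MulAut.apply_mem_center (MulAut.conjNormal x)⁻¹ (inv_mem_iff.1 h13))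
    have h13 : b * b = ⟨a, ha⟩ * ⟨a, ha⟩ := by
      rw [hb, ← map_mul]; rcases hsq ⟨a, ha⟩ with h13 | h13 <;> simp [h13, h.aut_c]
    rw [show ⁅a, x⁆ = (⟨a, ha⟩ * b⁻¹ : H) by simp [hb, commutatorElement_def, mul_assoc]]
    rcases h9 _ h12 (by rw [(Commute.inv_left h11).mul_mul_mul_comm, ← h13, ← mul_inv_rev]; simp)
      with h14 | h14 <;> simp [h14]
  have h12 := Subgroup.card_le_of_le (show commutator T ≤ Subgroup.zpowers (c : T) from
    Subgroup.commutator_le.2 fun a _ b _ => by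
      by_cases ha : a ∈ H <;> by_cases hb : b ∈ H
      · rcases h.commutator ⟨a, ha⟩ ⟨b, hb⟩ with h12 | h12 <;>
          simp [show ⁅a, b⁆ = _ from congrArg Subtype.val h12]
      · exact h11 b hb a ha
      · exact commutatorElement_inv b a ▸ inv_mem (h11 a ha b hb)
      · simpa [commutatorElement_def] using h11 b hb _
          ((Subgroup.mul_mem_iff_of_index_two h6).2 (iff_of_false ha hb)))
  rw [Nat.card_zpowers, Subgroup.orderOf_coe, h.orderOf_eq] at h12
  omega

theorem mem_or_inv_mul_mem {Z H : Subgroup T}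
    (h : Z ≤ H) (hc : Nat.card H = Nat.card Z * 2) {v a : T} (hv : v ∈ H) (hv' : v ∉ Z)
    (ha : a ∈ H) : a ∈ Z ∨ v⁻¹ * a ∈ Z := or_iff_not_imp_left.2 fun h1 =>
  (Subgroup.mul_mem_iff_of_index_two (H := Z.subgroupOf H) (Nat.eq_of_mul_eq_mul_left Nat.card_pos
    ((card_mul_relIndex h).trans hc)) (a := ⟨v, hv⟩⁻¹) (b := ⟨a, ha⟩)).2
    (iff_of_false (mt inv_mem_iff.1 hv') h1)

theorem exists_abelian_of_card_center (hc : Nat.card T = 32)
    (h : ¬ commutator T ≤ Subgroup.center T) (hZ : 2 < Nat.card (Subgroup.center T)) :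
    Nat.card (Subgroup.center T) = 4 ∧ ∃ (a : T) (A : Subgroup T), A.index = 2 ∧
      a * a ∉ Subgroup.center T ∧ a ^ 4 ∈ Subgroup.center T ∧ a ∈ A ∧ IsMulCommutative A ∧
        ∀ w ∈ A, ∃ i : ℕ, ∃ z ∈ Subgroup.center T, w = a ^ i * z := by
  set Z := Subgroup.center T
  have h1 : ¬ IsMulCommutative (T ⧸ Z) := mt Subgroup.Normal.quotient_commutative_iff_commutator_le.1 h
  obtain ⟨b, hb⟩ : ∃ b : T ⧸ Z, b * b ≠ 1 := by
    by_contra! h2
    exact h1 ⟨⟨fun a b => by_contra fun h5 => (exists_mul_self_ne_one h5).elim fun x hx => hx (h2 x)⟩⟩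
  have h2 := four_le_orderOf ((IsPGroup.of_card (n := 5) hc).to_quotient Z) hb
  have h3 := (Subgroup.zpowers b).card_mul_index
  have h4 : (Subgroup.zpowers b).index ≠ 1 := fun h4 => h1 (by
    have := isCyclic_iff_exists_zpowers_eq_top.2 ⟨b, Subgroup.index_eq_one.1 h4⟩
    infer_instance)
  have h5 := Z.card_mul_index
  have h6 : (Subgroup.zpowers b).index ≠ 0 := Subgroup.index_ne_zero_of_finite
  rw [Nat.card_zpowers, ← Subgroup.index_eq_card] at h3
  have h7 : 8 ≤ Z.index := by nlinarith [Nat.pos_of_ne_zero h6, Nat.lt_of_le_of_ne h6.pos h4.symm]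
  have h8 : Nat.card Z = 4 := by
    have : Nat.card Z ≤ 4 := by nlinarith
    interval_cases Nat.card Z <;> omega
  rw [h8] at h5
  have h9 : (Subgroup.zpowers b).index = 2 := by
    have : (Subgroup.zpowers b).index ≤ 2 := by nlinarith
    omega
  rw [h9] at h3
  obtain ⟨a, rfl⟩ := QuotientGroup.mk_surjective b
  have h10 : ∀ w ∈ (Subgroup.zpowers (a : T ⧸ Z)).comap (QuotientGroup.mk' Z),
      ∃ i : ℕ, ∃ z ∈ Z, w = a ^ i * z := fun w hw => by
    obtain ⟨i, hi⟩ := mem_powers_iff_mem_zpowers.2 hw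
    exact ⟨i, _, QuotientGroup.eq.1 hi, by simp⟩
  refine ⟨h8, a, _, (Subgroup.index_comap_of_surjective _ (QuotientGroup.mk'_surjective Z)).trans h9,
    mt (QuotientGroup.eq_one_iff _).2 hb, (QuotientGroup.eq_one_iff _).1 ?_,
    Subgroup.mem_zpowers _, ⟨⟨fun v w => Subtype.ext ?_⟩⟩, h10⟩
  · rw [QuotientGroup.mk_pow, ← orderOf_dvd_iff_pow_eq_one, show orderOf (a : T ⧸ Z) = 4 by omega]
  · obtain ⟨i, y, hy, h11⟩ := h10 _ v.2
    obtain ⟨j, z, hz, h12⟩ := h10 _ w.2
    rw [Subgroup.coe_mul, Subgroup.coe_mul, h11, h12]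
    exact ((Commute.pow_pow_self a i j).mul_right (Subgroup.mem_center_iff.1 hz _)).mul_left
      (mul_comm_of_mem_center hy _)

theorem exists_of_card_center (hc : Nat.card T = 32)
    (h : ¬ commutator T ≤ Subgroup.center T) (hZ : 2 < Nat.card (Subgroup.center T)) :
    (∃ u : T, u * u ≠ 1 ∧ ∀ w : T, orderOf w = orderOf u →
      Nat.card (Subgroup.centralizer {w}) ≤ 8) ∨
    (∃ u : T, ∃ k, (k = 3 ∨ k = 7) ∧ orderOf u = 8 ∧ IsConj u (u ^ k) ∧
      (∀ y, y * u * y⁻¹ = u ∨ y * u * y⁻¹ = u ^ k) ∧ Nat.card (Subgroup.centralizer {u}) = 16 ∧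
      ∀ w : T, orderOf w = 8 → Nat.card (Subgroup.centralizer {w}) ≤ 16) ∨
    ∃ a t : T, a ^ 4 ≠ 1 ∧ a ^ 4 ∈ Subgroup.center T ∧ (∀ y : T, y ^ 4 = 1 ∨ y ^ 4 = a ^ 4) ∧
      t * t ∈ Subgroup.center T ∧ t * t ≠ 1 ∧ t * t ≠ a ^ 4 ∧ ∀ w : T, orderOf w = orderOf t →
        Nat.card (Subgroup.centralizer {w}) ≤ 8 ∨ w * w = 1 ∨ w * w = a ^ 4 := by
  obtain ⟨h1, a, A, h2, h3, h4, ha, hA, h5⟩ := exists_abelian_of_card_center hc h hZ
  set Z := Subgroup.center T
  have := Subgroup.normal_of_index_eq_two h2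
  have hz4 : ∀ z ∈ Z, z ^ 4 = 1 := fun z hz => congrArg Subtype.val (h1 ▸ pow_card_eq_one' (x := (⟨z, hz⟩ : Z)))
  have h6 : ∀ y ∉ A, Nat.card (Subgroup.centralizer {y}) ≤ 8 := fun y hy => by
    have h6 := card_inf_mul_relIndex A (Subgroup.centralizer {y})
    have h7 := Nat.le_of_dvd two_pos (h2 ▸ A.relIndex_dvd_index_of_normal (Subgroup.centralizer {y}))
    have h8 := Subgroup.card_le_of_le (show A ⊓ Subgroup.centralizer {y} ≤ Z from fun w hw =>
      mem_center_of_index_two h2 hA hy hw.1 (Subgroup.mem_centralizer_singleton_iff.1 hw.2).symm)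
    nlinarith
  have h7 : ∀ y ∉ A, y * y ∈ Z := fun y hy => mem_center_of_index_two h2 hA hy
    (Subgroup.mul_self_mem_of_index_two h2 y) (mul_assoc ..).symm
  obtain ⟨x, hx⟩ := exists_notMem_of_index_two h2
  have hx' : a * x ∉ A := by rwa [mul_mem_cancel_left ha]
  obtain ⟨b, hb⟩ : ∃ b, b = x * a * x⁻¹ := ⟨_, rfl⟩
  have hbA : b ∈ A := hb ▸ this.conj_mem a ha x
  have h8 : Commute a b := setLike_mul_comm ha hbA
  have h9 : a * x * (a * x) = a * b * (x * x) := by simp [hb, mul_assoc]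
  have h10 : a * b ∈ Z := (mul_mem_cancel_right (h7 x hx)).1 (h9 ▸ h7 _ hx')
  have h11 : a * b * (a * b) ≠ a ^ 4 := fun h11 => h3 (mem_center_of_index_two h2 hA hx
    (mul_mem ha ha) (by
      rw [h8.symm.mul_mul_mul_comm, show a ^ 4 = a * a * (a * a) by simp [pow_succ, mul_assoc],
        mul_right_inj, hb] at h11
      exact mul_inv_eq_iff_eq_mul.1 (Eq.trans (by simp [mul_assoc]) h11)))
  have h12 : a ^ 4 * a ^ 4 = 1 := by
    have := hz4 _ h10
    rwa [h8.mul_pow, hb, conj_pow, Subgroup.mem_center_iff.1 h4 x, mul_inv_cancel_right] at this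
  have hsq : ∀ y : T, y ^ 4 = y * y * (y * y) := fun y => by simp [pow_succ, mul_assoc]
  by_cases h13 : a ^ 4 = 1
  · obtain ⟨t, h14⟩ : ∃ t : T, t ^ 4 ≠ 1 := by
      by_contra! h14
      have h15 := h14 (a * x)
      rw [hsq, h9, (show Commute (x * x) (a * b) from
        mul_comm_of_mem_center (h7 x hx) _).mul_mul_mul_comm, ← hsq x, h14, mul_one] at h15
      exact h11 (h15.trans h13.symm)
    refine Or.inl ⟨t, fun h15 => h14 (by simp [hsq, h15]), fun w hw => h6 w fun h15 => h14 ?_⟩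
    obtain ⟨i, z, hz, rfl⟩ := h5 w h15
    rw [← orderOf_dvd_iff_pow_eq_one, ← hw, orderOf_dvd_iff_pow_eq_one, Commute.mul_pow
      (Subgroup.mem_center_iff.1 hz _), hz4 z hz, ← pow_mul, pow_mul', h13, one_pow, one_mul]
  have h14 : orderOf a = 8 := orderOf_eq_prime_pow (p := 2) (n := 2) h13 (by rw [← h12, ← pow_add]; rfl)
  have h15 : orderOf (a ^ 4) = 2 := orderOf_eq_prime (by rwa [sq]) h13
  have h16 : Nat.card (Subgroup.zpowers (a ^ 4)) = 2 := by rw [Nat.card_zpowers, h15]
  have h17 : ∀ y ∈ Subgroup.zpowers (a ^ 4), y = 1 ∨ y = a ^ 4 := fun y hy =>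
    or_iff_not_imp_left.2 fun h => eq_of_mem_of_card_le_two h16.le hy (Subgroup.mem_zpowers _) h h13
  by_cases h18 : a * b ∈ Subgroup.zpowers (a ^ 4)
  · obtain ⟨k, hk, h19⟩ : ∃ k, (k = 3 ∨ k = 7) ∧ b = a ^ k := by
      rcases h17 _ h18 with h19 | h19
      · exact ⟨7, Or.inr rfl, mul_left_cancel (a := a) (by rw [h19, ← h12, ← pow_succ', ← pow_add])⟩
      · exact ⟨3, Or.inl rfl, mul_left_cancel (a := a) (by rw [h19, ← pow_succ'])⟩
    have h20 : ∀ w : T, orderOf w = 8 → Nat.card (Subgroup.centralizer {w}) ≤ 16 := fun w hw => by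
      have h20 := (Subgroup.centralizer {w}).card_mul_index
      have h21 : (Subgroup.centralizer {w}).index ≠ 1 := fun h21 => by
        have := orderOf_dvd_of_pow_eq_one (hz4 w (Subgroup.mem_center_iff.2 fun g =>
          Subgroup.mem_centralizer_singleton_iff.1 ((Subgroup.index_eq_one.1 h21).ge trivial)))
        simp [hw] at this
      have h22 : (Subgroup.centralizer {w}).index ≠ 0 := Subgroup.index_ne_zero_of_finite
      nlinarith [Nat.lt_of_le_of_ne h22.pos h21.symm]
    refine Or.inr (Or.inl ⟨a, k, hk, h14, isConj_iff.2 ⟨x, hb ▸ h19⟩, fun y => ?_,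
      le_antisymm (h20 a h14) ?_, h20⟩)
    · by_cases hy : y ∈ A
      · exact Or.inl (by rw [setLike_mul_comm hy ha, mul_inv_cancel_right])
      · have := setLike_mul_comm ((Subgroup.mul_mem_iff_of_index_two h2).2
          (iff_of_false (mt inv_mem_iff.1 hx) hy)) ha
        exact Or.inr (by rw [← h19, hb, ← mul_inv_cancel_left x y, mul_assoc x, this]; group)
    · have h21 := A.card_mul_index
      have := Subgroup.card_le_of_le (show A ≤ Subgroup.centralizer {a} from fun w hw =>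
        Subgroup.mem_centralizer_singleton_iff.2 (setLike_mul_comm hw ha))
      rw [h2] at h21
      omega
  have h19 := fun z => mem_or_inv_mul_mem (Subgroup.zpowers_le.2 h4) (by rw [h1, h16]) h10 h18 (a := z)
  have h20 : ∀ z ∈ Z, z * z = 1 := fun z hz => by
    rcases h19 z hz with h20 | h20
    · exact mul_self_of_card_le_two h16.le h20
    · have h21 := (h17 _ ((h19 _ (mul_mem h10 h10)).resolve_right
        (by rwa [inv_mul_cancel_left]))).resolve_right h11
      rw [← mul_inv_cancel_left (a * b) z, (show Commute _ (a * b) from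
        Subgroup.mem_center_iff.1 h10 _).mul_mul_mul_comm, h21, mul_self_of_card_le_two h16.le h20,
        one_mul]
  have h21 : ∀ i : ℕ, ∀ z ∈ Z, a ^ i * z * (a ^ i * z) = a ^ (2 * i) := fun i z hz => by
    rw [(show Commute z _ from mul_comm_of_mem_center hz _).mul_mul_mul_comm, h20 z hz, mul_one,
      ← pow_add, two_mul]
  obtain ⟨t, ht, h22⟩ : ∃ t ∉ A, t * t ∉ Subgroup.zpowers (a ^ 4) := by
    by_contra! h22
    exact h18 ((mul_mem_cancel_right (h22 x hx)).1 (h9 ▸ h22 _ hx'))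
  refine Or.inr (Or.inr ⟨a, t, h13, h4, fun y => ?_, h7 t ht, fun h => h22 (h ▸ one_mem _),
    fun h => h22 (h ▸ Subgroup.mem_zpowers _), fun w hw => ?_⟩)
  · by_cases hy : y ∈ A
    · obtain ⟨i, z, hz, rfl⟩ := h5 y hy
      exact h17 _ ⟨i, by rw [hsq (_ * z), h21 i z hz]; simp only; group⟩
    · exact Or.inl (by rw [hsq, h20 _ (h7 y hy)])
  · by_cases hy : w ∈ A
    · obtain ⟨i, z, hz, rfl⟩ := h5 w hy
      have h23 := (hsq t).trans (h20 _ (h7 t ht))
      rw [← orderOf_dvd_iff_pow_eq_one, ← hw, orderOf_dvd_iff_pow_eq_one, hsq, h21 i z hz, ← pow_add,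
        ← orderOf_dvd_iff_pow_eq_one, h14] at h23
      obtain ⟨j, rfl⟩ : 2 ∣ i := by omega
      exact Or.inr (h17 _ ⟨j, by rw [h21 _ z hz]; simp only; group⟩)
    · exact Or.inl (h6 w hy)

end Cfsg
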