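import Cfsg.Agent.Blk.HtTwo
import Cfsg.Agent.Blk.InvSq
import Cfsg.Agent.Blk.Klein

/-! `2`-blocks with a single class of nontrivial subsections. -/

set_option autoImplicit false

namespace Cfsg

open scoped MonoidAlgebra ComplexConjugate

universe u v

variable {M : Ideal AlgInt} {G : Type u} [Group G] [Fintype G] {B : Set (IrrCharacter G)}
  {P : Subgroup G} {e : (resK M)[G]}

theorem IsPModular.proj_congr_sub (hM : IsPModular 2 M) {t : Finset (IrrCharacter G)}
    (ht : t ⊆ irrFinset B) {x : IrrCharacter G → ℤ} (hx : ∑ χ ∈ t, ∑ ψ ∈ t,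
      x χ * contrib 2 B χ ψ * x ψ = 2 ^ blockDefect 2 B * ∑ χ ∈ t, x χ ^ 2) :
    ∑ χ ∈ t, x χ * redDeg 2 B χ.1 * invOm χ = 0 ∧
      2 ^ blockDefect 2 B ∣ ∑ χ ∈ t, x χ * redDeg 2 B χ.1 ∧
      2 ^ (blockDefect 2 B + 1) ∣ ∑ χ ∈ t, x χ * redDeg 2 B χ.1 * (1 + invOm χ ^ 2) -
        2 ^ blockDefect 2 B * ∑ χ ∈ t, x χ ^ 2 := by
  classical
  have h1 : ∀ f : IrrCharacter G → ℤ,
      ∑ χ ∈ irrFinset B, (if χ ∈ t then f χ else 0) = ∑ χ ∈ t, f χ := fun f => by
    rw [← Finset.sum_filter, Finset.filter_mem_eq_inter, Finset.inter_eq_right.2 ht]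
  have := hM.proj_congr (B := B) (x := fun χ => if χ ∈ t then x χ else 0) (by
    simp only [ite_mul, zero_mul, mul_ite, mul_zero, ite_pow, zero_pow two_ne_zero, h1]
    rw [← hx, ← h1]
    exact Finset.sum_congr rfl fun χ _ => by split_ifs <;> simp)
  simpa only [ite_mul, zero_mul, ite_pow, zero_pow two_ne_zero, h1] using this

/-- a projective vector with two entries has even norm -/
theorem IsPBlock.even_of_proj_pair (hM : IsPModular 2 M) (hB : IsPBlock M B)
    (hd : blockDefect 2 B ≠ 0) {χ ψ : IrrCharacter G} (hχ : χ ∈ B) (hψ : ψ ∈ B) (h : χ ≠ ψ)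
    {a b : ℤ} (hx : a * contrib 2 B χ χ * a + 2 * (a * contrib 2 B χ ψ * b) +
      b * contrib 2 B ψ ψ * b = 2 ^ blockDefect 2 B * (a ^ 2 + b ^ 2)) : 2 ∣ a ^ 2 + b ^ 2 := by
  classical
  have := Fact.mk Nat.prime_two
  obtain ⟨h1, ⟨m, h2⟩, h3⟩ := hM.proj_congr_sub (B := B) (t := {χ, ψ})
    (Finset.insert_subset (mem_irrFinset.2 hχ) (Finset.singleton_subset_iff.2 (mem_irrFinset.2 hψ)))
    (x := fun ξ => if ξ = χ then a else b) (by
      simp only [Finset.sum_pair h, if_true, if_neg h.symm, contrib_comm B ψ χ]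
      linear_combination hx)
  simp only [Finset.sum_pair h, if_true, if_neg h.symm] at h1 h2 h3
  obtain ⟨r, hr⟩ := hB.odd_invOm hM hd hχ
  obtain ⟨s, hs⟩ := hB.odd_invOm hM hd hψ
  have h4 : a * redDeg 2 B χ.1 * (1 + invOm χ ^ 2) + b * redDeg 2 B ψ.1 * (1 + invOm ψ ^ 2) =
      2 ^ (blockDefect 2 B + 1) * (-m * (2 * r * s + r + s)) := by
    linear_combination (1 - invOm χ * invOm ψ) * h2 + (invOm χ + invOm ψ) * h1 -
      2 ^ blockDefect 2 B * m * invOm ψ * hr - 2 ^ blockDefect 2 B * m * (2 * r + 1) * hs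
  rw [h4, dvd_sub_right (dvd_mul_right _ _), pow_succ] at h3
  exact (mul_dvd_mul_iff_left (pow_ne_zero _ two_ne_zero)).1 h3

theorem pow_mul_classInner_reg_eq {p : ℕ} [Fact p.Prime] {η : G → ℂ} (hB : blockPart B η = η)
    {n : IrrCharacter G → ℤ} (hn : ∀ χ, classInner η χ.1 = n χ) :
    (p : ℂ) ^ blockDefect p B * classInner (pRegularPart p η) (pRegularPart p η) =
      (∑ x ∈ irrFinset B, ∑ y ∈ irrFinset B, n x * contrib p B x y * n y : ℤ) := by
  rw [← classInner_pRegularPart_left]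
  nth_rewrite 2 [← hB]
  rw [← hB, pRegularPart_blockPart_eq_sum, hB, blockPart_eq_sum_smul, classInner_sum_left,
    Finset.mul_sum]
  push_cast
  refine Finset.sum_congr rfl fun x hx => ?_
  rw [classInner_smul_left, classInner_sum_right, Finset.mul_sum, Finset.mul_sum]
  refine Finset.sum_congr rfl fun y _ => ?_
  rw [classInner_smul_right, cast_contrib (mem_irrFinset.1 hx), hn, hn, map_intCast]
  ring

omit [Fintype G] in
theorem IsGeneralizedCharacter.secRes_of_sq [Finite G] {θ : G → ℂ}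
    (hθ : IsGeneralizedCharacter G θ) {u : G} (hu : u ^ 2 = 1) {C : Subgroup G}
    (hC : C = Subgroup.centralizer {u}) : IsGeneralizedCharacter C fun c => θ (u * c) := by
  have := Fintype.ofFinite C
  refine isGeneralizedCharacter_of_classInner (hθ.isClassFunction.secRes hC) fun ψ => ?_
  obtain ⟨n, hn⟩ :=
    (hθ.comp C.subtype).exists_classInner_eq_int ψ.isCharacter.isGeneralizedCharacter
  have h1 := classInner_mul_center_irr (fun c : C => θ c) ψ (self_mem_center_of_eq hC)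
  have h2 := ψ.apply_pow_div_of_mem_center (self_mem_center_of_eq hC) 2
  rw [show (⟨u, self_mem_centralizer_eq hC⟩ : C) ^ 2 = 1 from Subtype.ext hu,
    div_self ψ.one_ne_zero, eq_comm, sq_eq_one_iff] at h2
  erw [hn] at h1
  rcases h2 with h | h <;> rw [h] at h1
  exacts [⟨n, by simpa using h1⟩, ⟨-n, by simpa using h1⟩]

namespace StarSetup
variable (S : StarSetup 2 M B P e)
include S

open Classical in
theorem contrib_of_fuse {u : P} (hu : u ≠ 1) (h : ∀ v : P, v ≠ 1 → PairFuse 2 P e (u : G) v)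
    {χ : IrrCharacter G} (hχ : χ ∈ B) (ψ : IrrCharacter G) : (contrib 2 B χ ψ : ℂ) =
      Nat.card P * ((if χ = ψ then 1 else 0) - S.mm u χ.1 ψ.1) := by
  have := Fact.mk Nat.prime_two
  have h1 := congrArg (classInner · ψ.1) (S.eq_add_secProj_of_fuse hu h (blockPart_irr_of_mem hχ))
  simp only [classInner_add_left, χ.classInner_eq] at h1
  rw [cast_contrib hχ, S.card_eq, mm, h1, Nat.cast_pow, add_sub_cancel_right]

theorem card_of_fuse {u : P} (hu : u ≠ 1) (h : ∀ v : P, v ≠ 1 → PairFuse 2 P e (u : G) v) :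
    Nat.card B = blockRank 2 B + blockRank 2 (S.below u) := by
  have h1 := congrArg (Int.cast (R := ℂ)) (S.hB.sum_contrib_self S.hM)
  push_cast at h1
  rw [Finset.sum_congr rfl fun χ hχ => S.contrib_of_fuse hu h (mem_irrFinset.1 hχ) χ,
    ← Finset.mul_sum, Finset.sum_sub_distrib, S.sum_mm_self, S.card_eq] at h1
  simp only [if_true, Finset.sum_const, card_irrFinset, nsmul_eq_mul, mul_one, Nat.cast_pow,
    Nat.cast_ofNat, mul_right_inj' (pow_ne_zero _ (two_ne_zero (α := ℂ))), sub_eq_iff_eq_add] at h1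
  exact_mod_cast h1

omit S in
theorem _root_.Cfsg.IsPBlock.odd_contrib_iff (hM : IsPModular 2 M) (hB : IsPBlock M B)
    {χ : IrrCharacter G} (hχ : χ ∈ B) : Odd (contrib 2 B χ χ) ↔ blockHeight 2 B χ.1 = 0 := by
  have := Fact.mk Nat.prime_two
  rw [← Int.not_even_iff_odd, even_iff_two_dvd]
  refine ⟨fun h => by_contra fun h0 => h ((dvd_pow_self 2 h0).trans
    (pow_blockHeight_dvd_contrib hχ χ)), fun h0 h => ?_⟩
  have h1 := hB.valM_contrib_of_height_zero hM hχ hχ h0
  rw [h0, pow_zero] at h1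
  exact (hM.valM_intCast_lt_one_iff.2 h).ne h1

variable (hab : P ≤ Subgroup.centralizer (P : Set G))
include hab

open Classical in
/-- a regular inertial action on an elementary abelian group -/
theorem exists_column_of_fuse {u : P} (hu : u ≠ 1) (hu2 : (u : G) ^ 2 = 1)
    (h : ∀ v : P, v ≠ 1 → PairFuse 2 P e (u : G) v) (hn : IsNilpotentBlock 2 M (S.below u)) :
    ∃ d : IrrCharacter G → ℤ, (∀ χ ∈ B, Odd (d χ) ∧ blockHeight 2 B χ.1 = 0) ∧
      ∑ χ ∈ irrFinset B, d χ ^ 2 = Nat.card P ∧ ∀ χ ∈ B, ∀ ψ : IrrCharacter G,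
        contrib 2 B χ ψ = (if χ = ψ then Nat.card P else 0) - d χ * d ψ := by
  obtain ⟨d, -, h1, h2⟩ := S.exists_int_column hab hu2 hn
  have h3 : ∀ χ ∈ B, ∀ ψ : IrrCharacter G,
      contrib 2 B χ ψ = (if χ = ψ then Nat.card P else 0) - d χ * d ψ := fun χ hχ ψ => by
    apply Int.cast_injective (α := ℂ)
    rw [S.contrib_of_fuse hu h hχ, mul_sub, mm, h2]
    split_ifs <;> simp
  have hd : blockDefect 2 B ≠ 0 := fun h0 => hu (by
    have := S.card_eq
    rw [h0, pow_zero, Nat.card_eq_one_iff_unique] at this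
    exact this.1.elim _ _)
  have h4 : ∀ χ ∈ B, Odd (d χ) ↔ blockHeight 2 B χ.1 = 0 := fun χ hχ => by
    rw [← S.hB.odd_contrib_iff S.hM hχ, h3 χ hχ, if_pos rfl, S.card_eq, Int.odd_sub, Int.even_mul,
      or_self, Nat.cast_pow, Nat.cast_ofNat, ← Int.not_even_iff_odd (n := 2 ^ _),
      Int.even_pow, ← Int.not_even_iff_odd]
    simp [hd]
  suffices h5 : ∀ χ ∈ B, Odd (d χ) from ⟨d, fun χ hχ => ⟨h5 χ hχ, (h4 χ hχ).1 (h5 χ hχ)⟩, h1, h3⟩
  intro ψ hψ
  by_contra h5
  obtain ⟨χ, hχ, h6⟩ := exists_blockHeight_eq_zero (S.hB.nonempty S.hM) 2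
  have h7 := (h4 χ hχ).2 h6
  have h8 : χ ≠ ψ := fun h => h5 (h ▸ h7)
  have h9 := S.hB.even_of_proj_pair S.hM hd hχ hψ h8 (a := d ψ) (b := -d χ) (by
    rw [h3 χ hχ, h3 χ hχ, h3 ψ hψ, if_pos rfl, if_pos rfl, if_neg h8, S.card_eq]
    push_cast; ring)
  obtain ⟨a, ha⟩ := h7
  obtain ⟨b, hb⟩ := Int.not_odd_iff_even.1 h5
  rw [ha, hb, show (b + b) ^ 2 + (-(2 * a + 1)) ^ 2 = 2 * (2 * b ^ 2 + 2 * a ^ 2 + 2 * a) + 1 by ring]
    at h9
  omega

omit hab in
theorem klein_form (hV : IsKleinFour P) (hl : blockRank 2 B = 3) {η : G → ℂ}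
    (hη : IsGeneralizedCharacter G η) (hB : blockPart B η = η) :
    ∃ n : ℤ, (2 : ℂ) ^ blockDefect 2 B * classInner (pRegularPart 2 η) (pRegularPart 2 η) = n ∧
      (n % 8 = 3 ∨ 4 ∣ n) := by
  classical
  have := Fact.mk Nat.prime_two
  have hab := kleinFour_le_centralizer hV
  have : Nontrivial P := Finite.one_lt_card_iff_nontrivial.1 (by rw [hV.card_four]; norm_num)
  obtain ⟨u, hu⟩ := exists_ne (1 : P)
  obtain ⟨d, h1, h2, h3⟩ := S.exists_column_of_fuse hab hu (by rw [sq, kleinFour_mul_self hV u.2])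
    (fun v hv => S.klein_fuse hV (S.klein_blockRank hV ▸ hl) hu hv)
    (S.isNilpotentBlock_below_of_free hab (S.klein_free hV) hu)
  choose n hn using fun χ : IrrCharacter G =>
    hη.exists_classInner_eq_int χ.isCharacter.isGeneralizedCharacter
  refine ⟨_, pow_mul_classInner_reg_eq hB hn, ?_⟩
  have h4 : ∑ x ∈ irrFinset B, ∑ y ∈ irrFinset B, n x * contrib 2 B x y * n y =
      4 * ∑ x ∈ irrFinset B, n x ^ 2 - (∑ x ∈ irrFinset B, n x * d x) ^ 2 := by
    rw [sq (Finset.sum _ _), Finset.sum_mul_sum, Finset.mul_sum, ← Finset.sum_sub_distrib]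
    refine Finset.sum_congr rfl fun x hx => ?_
    simp only [h3 x (mem_irrFinset.1 hx), mul_sub, sub_mul, Finset.sum_sub_distrib, hV.card_four]
    congr 1
    · simp only [Nat.cast_ite, mul_ite, ite_mul, Nat.cast_zero, mul_zero, zero_mul,
        Finset.sum_ite_eq, if_pos hx]
      push_cast; ring
    · exact Finset.sum_congr rfl fun _ _ => by ring
  have h5 : (2 : ℤ) ∣ ∑ x ∈ irrFinset B, (n x ^ 2 - n x * d x) := Finset.dvd_sum fun x hx => by
    obtain ⟨a, ha⟩ := (h1 x (mem_irrFinset.1 hx)).1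
    have := (Int.even_mul_pred_self (n x)).two_dvd
    rw [ha, show n x ^ 2 - n x * (2 * a + 1) = n x * (n x - 1) - 2 * (n x * a) by ring]
    exact dvd_sub this (dvd_mul_right _ _)
  rw [h4]
  rw [Finset.sum_sub_distrib] at h5
  generalize ∑ x ∈ irrFinset B, n x ^ 2 = A at *
  generalize ∑ x ∈ irrFinset B, n x * d x = s at *
  obtain ⟨m, hm | hm⟩ := Int.even_or_odd' s
  · exact Or.inr ⟨A - m ^ 2, by rw [hm]; ring⟩
  · obtain ⟨c, hc⟩ := Int.even_mul_succ_self m
    have : s ^ 2 = 8 * c + 1 := by rw [hm]; linear_combination 4 * hc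
    omega

/-- the contributions of a subsection whose dominated block has a Klein four defect group -/
theorem exists_mm_of_eight (hP : Nat.card P = 8) (hel : ∀ x : P, x ^ 2 = 1) {v : P} (hv : v ≠ 1)
    (hl : blockRank 2 (S.below v) = 3) (χ : IrrCharacter G) :
    ∃ n : ℤ, 8 * S.mm v χ.1 χ.1 = n ∧ (n % 8 = 3 ∨ 4 ∣ n) := by
  classical
  have hM := S.hM
  have := hM.fact_prime
  set K := Subgroup.centralizer ({(v : G)} : Set G) with hK
  have hvK : (v : G) ∈ K := Subgroup.mem_centralizer_singleton_iff.2 rfl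
  have hPK : P ≤ K := le_centralizer_of_comm hab v
  have hv2 : (v : G) ^ 2 = 1 := congrArg Subtype.val (hel v)
  set Z : Subgroup K := Subgroup.zpowers ⟨v, hvK⟩ with hZ
  have hc : Z ≤ Subgroup.center K := Subgroup.zpowers_le.2 (self_mem_center_of_eq hK)
  have hn : Z.Normal := ⟨fun z hz g => by
    rw [Subgroup.mem_center_iff.1 (hc hz) g]; simpa using hz⟩
  have := Fintype.ofFinite (K ⧸ Z)
  set π := QuotientGroup.mk' Z with hπdef
  have hπ : Function.Surjective π := QuotientGroup.mk'_surjective Z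
  have hker : π.ker = Z := QuotientGroup.ker_mk' Z
  have hZR : π.ker ≤ P.subgroupOf K := hker.le.trans (Subgroup.zpowers_le.2 v.2)
  have S₁ := S.subSetup hab v
  have hk : IsPGroup 2 π.ker := S₁.isPGroup.to_le hZR
  have hc' : π.ker ≤ Subgroup.center K := hker.le.trans hc
  have S₂ := S₁.quot hc' hk hM hπ
  have hZ2 : Nat.card π.ker = 2 := by
    rw [hker, Nat.card_zpowers]
    exact orderOf_eq_prime (Subtype.ext hv2) fun h => hv (Subtype.ext (congrArg (fun k : K => (k : G)) h))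
  have h4 : Nat.card ((P.subgroupOf K).map π) = 4 := by
    have := card_mul_relIndex hZR
    rw [Subgroup.relIndex_ker, hZ2, card_subgroupOf_of_le hPK, hP] at this
    omega
  have hV : IsKleinFour ((P.subgroupOf K).map π) := by
    have : Nontrivial ((P.subgroupOf K).map π) :=
      Finite.one_lt_card_iff_nontrivial.1 (by rw [h4]; norm_num)
    refine ⟨h4, Monoid.exponent_eq_prime_iff Nat.prime_two |>.2 fun g hg =>
      orderOf_eq_prime ?_ hg⟩
    obtain ⟨_, x, hx, rfl⟩ := g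
    refine Subtype.ext ?_
    change π x ^ 2 = 1
    rw [← map_pow, show x ^ 2 = 1 from
      Subtype.ext (congrArg (fun k : P => (k : G)) (hel ⟨x, hx⟩)), map_one]
  have hU := S.isBlockUnion_below v
  have hη := (χ.isCharacter.isGeneralizedCharacter.secRes_of_sq hv2 hK).blockPart (S.below v)
  obtain ⟨η', h1, h2, h3⟩ := hU.exists_regComapL_eq_of_central hM π hπ hk hc' hη
    (blockPart_idem _ _)
  obtain ⟨n, h5, h6⟩ := S₂.klein_form hV
    ((hU.blockRank_preimage_comap_of_isPGroup hM π hπ hk).trans hl) h1 h2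
  refine ⟨n, ?_, h6⟩
  have h7 : (2 : ℂ) ^ blockDefect 2 (IrrCharacter.comap π hπ ⁻¹' S.below v) = 4 := by
    exact_mod_cast S₂.card_eq.symm.trans h4
  have h9 := S.secCon_below (θ := χ.1) (φ := χ.1) v
  rw [hU.secCon_eq_res hM _ χ.isClassFunction, mul_right_inj' (pow_ne_zero _ (by norm_num))] at h9
  rw [← h5, ← card_mul_classInner_regComapL hM.1 π hπ hk
    (fun g _ z hz => (Subgroup.mem_center_iff.1 (hc' hz) g).symm), h3, hZ2, ← h9, h7,
    ← classInner_pRegularPart_left,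
    ← hU.blockPart_pRegularPart' hM, ← classInner_blockPart_left, blockPart_idem]
  push_cast; ring

end StarSetup

end Cfsg
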