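import Cfsg.Agent.Blk.SecMM
import Cfsg.Agent.Blk.NormalDef
import Cfsg.Agent.Blk.AbTwo
import Cfsg.Agent.Blk.CycMin

/-! Morphisms of the fusion system of a Brauer pair, and passage to central quotients. -/

set_option autoImplicit false

namespace Cfsg

open scoped MonoidAlgebra

universe u v w

variable {G : Type u} [Group G]

section mor
variable {k : Type v} [Field k] {p : ℕ} {P Q R K : Subgroup G} {c e f : k[G]} {x y : G}

/-- conjugation by `x` is a morphism on `Q` in the fusion system of `(P, e)` -/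
def PairMor (p : ℕ) (P : Subgroup G) (e : k[G]) (Q : Subgroup G) (x : G) : Prop :=
  ∃ f, PairLE p ⊤ Q f P e ∧ PairLE p ⊤ (conjSub Q x) (gaConj k x f) P e

theorem PairMor.le (h : PairMor p P e Q x) : Q ≤ P := h.elim fun _ h => h.1.le

theorem PairMor.conj_le (h : PairMor p P e Q x) : conjSub Q x ≤ P := h.elim fun _ h => h.2.le

theorem PairMor.conj_mem (h : PairMor p P e Q x) {q : G} (hq : q ∈ Q) : x * q * x⁻¹ ∈ P :=
  h.conj_le (conj_mem_conjSub.2 hq)

theorem pairFuse_iff_pairMor {u v : G} :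
    PairFuse p P e u v ↔ ∃ x, v = x * u * x⁻¹ ∧ PairMor p P e (Subgroup.zpowers u) x := by
  constructor
  · rintro ⟨x, f, rfl, h1, h2⟩
    exact ⟨x, rfl, f, h1, by rwa [conjSub_zpowers]⟩
  · rintro ⟨x, rfl, f, h1, h2⟩
    exact ⟨x, f, rfl, h1, by rwa [conjSub_zpowers] at h2⟩

variable [Finite G] [Fact p.Prime] [CharP k p] (he : IsPair p ⊤ P e)
include he

theorem PairMor.pairLE (h : PairMor p P e Q x) (hf : PairLE p ⊤ Q f P e) :
    PairLE p ⊤ (conjSub Q x) (gaConj k x f) P e := by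
  obtain ⟨g, h1, h2⟩ := h
  rwa [PairLE.unique he hf h1]

theorem PairMor.mono (h : PairMor p P e Q x) (hR : R ≤ Q) : PairMor p P e R x := by
  obtain ⟨g, h1, h2⟩ := h
  obtain ⟨f, hf⟩ := exists_pairLE (h1.isPair_left he) hR
  exact ⟨f, hf.trans h1, (hf.conj_of_normalizer (top_le_normalizer_top trivial)).trans h2⟩

theorem PairMor.pairFuse (h : PairMor p P e Q x) {u : G} (hu : u ∈ Q) :
    PairFuse p P e u (x * u * x⁻¹) :=
  pairFuse_iff_pairMor.2 ⟨x, rfl, h.mono he (Subgroup.zpowers_le.2 hu)⟩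

theorem PairMor.mul (h : PairMor p P e Q x) (h' : PairMor p P e (conjSub Q x) y) :
    PairMor p P e Q (y * x) := by
  obtain ⟨g, h1, h2⟩ := h
  exact ⟨g, h1, by rw [conjSub_mul, gaConj_mul]; exact h'.pairLE he h2⟩

omit he [Finite G] [Fact p.Prime] [CharP k p] in
theorem PairMor.inv (h : PairMor p P e Q x) : PairMor p P e (conjSub Q x) x⁻¹ := by
  obtain ⟨g, h1, h2⟩ := h
  exact ⟨_, h2, by rwa [conjSub_conjSub_inv, gaConj_inv_gaConj]⟩

theorem pairMor_of_stab (hQ : Q ≤ P) (hx : x ∈ pairStab ⊤ P e) : PairMor p P e Q x := by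
  obtain ⟨f, hf⟩ := exists_pairLE he hQ
  exact ⟨f, hf, hf.conj_of_stab (top_le_normalizer_top trivial) (mem_pairStab.1 hx).2.1
    (mem_pairStab.1 hx).2.2⟩

theorem pairMor_of_mem (hQ : Q ≤ P) (hx : x ∈ P) : PairMor p P e Q x :=
  pairMor_of_stab he hQ (he.le_pairStab le_top hx)

theorem mem_pairStab_iff_pairMor (hf : PairLE p ⊤ Q f P e) :
    x ∈ pairStab ⊤ Q f ↔ x ∈ Subgroup.normalizer (Q : Set G) ∧ PairMor p P e Q x := by
  rw [mem_pairStab]
  refine ⟨fun h => ⟨h.2.1, f, hf, ?_⟩, fun h => ⟨trivial, h.1, ?_⟩⟩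
  · rwa [conjSub_eq_self_iff.2 h.2.1, h.2.2]
  · have := h.2.pairLE he hf
    rw [conjSub_eq_self_iff.2 h.1] at this
    exact PairLE.unique he this hf

theorem pairMor_of_centralizer (hQ : Q ≤ P) (hx : x ∈ Subgroup.centralizer (Q : Set G)) :
    PairMor p P e Q x := by
  obtain ⟨f, hf⟩ := exists_pairLE he hQ
  exact ((mem_pairStab_iff_pairMor he hf).1 ((hf.isPair_left he).centralizer_le_pairStab hx)).2

theorem pairMor_self_iff : PairMor p P e P x ↔ x ∈ pairStab ⊤ P e := by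
  rw [mem_pairStab_iff_pairMor he (PairLE.refl P e)]
  exact ⟨fun h => ⟨conjSub_eq_self_iff.1 (conjSub_eq_of_ge h.conj_le), h⟩, fun h => h.2⟩

/-- extension of a morphism -/
theorem PairMor.exists_ext (h : PairMor p P e Q x) (hf : PairLE p ⊤ (conjSub Q x) f P e)
    (hCK : Subgroup.centralizer (conjSub Q x : Set G) ≤ K) (hK : K ≤ pairStab ⊤ (conjSub Q x) f)
    (hD : IsDefGrp p K f (P ⊓ K)) (hR : R ≤ P) (hRK : conjSub R x ≤ K) :
    ∃ y ∈ K, PairMor p P e (Q ⊔ R) (y * x) := by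
  obtain ⟨f₀, h1, h2⟩ := h
  obtain rfl := PairLE.unique he hf h2
  obtain ⟨g, hg⟩ := exists_pairLE he (sup_le h1.le hR)
  have hKQ := hK.trans (pairStab_le_normalizer _ _ _)
  have hn : R ≤ Subgroup.normalizer (Q : Set G) := by
    rw [← conjSub_le_conjSub_iff (g := x), ← normalizer_conjSub]
    exact hRK.trans hKQ
  have h3 := ((PairLE.of_le_of_le he h1 hg le_sup_left).nsub (hg.isPair_left he)
    (sup_le Subgroup.le_normalizer hn)).conj_of_normalizer (top_le_normalizer_top (x := x) trivial)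
  rw [conjSub_sup] at h3
  obtain ⟨y, hy, h4⟩ := h2.exists_conj_of_nsub he (by rwa [cenIn_top])
    (le_top.trans top_le_normalizer_top) hKQ ((isFixedGA_pairStab _ _ _).mono hK) hD hRK h3
  exact ⟨y, hy, g, hg, by rwa [conjSub_mul, gaConj_mul, conjSub_sup]⟩

omit he

variable (hc : IsBlk k ⊤ c) (hm : IsMaxPair p ⊤ ⊤ c P e)
include hc hm

theorem IsMaxPair.isDefGrp_pairStab_of_normal (hf : PairLE p ⊤ Q f P e)
    (hn : P ≤ Subgroup.normalizer (Q : Set G)) : IsDefGrp p (pairStab ⊤ Q f) f P :=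
  hm.isDefGrp_of_le le_rfl top_le_normalizer_top hc hf
    ((hf.isPair_left hm.pairOf.pair).cenIn_le_pairStab le_rfl) (pairStab_le_norIn _ _ _)
    (isFixedGA_pairStab _ _ _)
    (le_stabGA.2 ⟨le_inf le_top hn, (hf.nsub hm.pairOf.pair hn).fixed⟩)

/-- morphisms between normal subgroups extend to `P` up to an automorphism of the target -/
theorem PairMor.exists_stab_of_normal (h : PairMor p P e Q x)
    (hn : P ≤ Subgroup.normalizer (Q : Set G))
    (hn' : P ≤ Subgroup.normalizer (conjSub Q x : Set G)) :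
    ∃ s ∈ Subgroup.normalizer (conjSub Q x : Set G), PairMor p P e (conjSub Q x) s ∧
      s * x ∈ pairStab ⊤ P e := by
  have he := hm.pairOf.pair
  obtain ⟨f, hf⟩ := exists_pairLE he h.conj_le
  have hD := hm.isDefGrp_pairStab_of_normal hc hf hn'
  have hP : P ⊓ pairStab ⊤ (conjSub Q x) f = P := inf_eq_left.2 hD.le
  obtain ⟨s, hs, h1⟩ := h.exists_ext he hf (hf.isPair_left he).centralizer_le_pairStab le_rfl
    (by rwa [hP]) le_rfl (by
      obtain ⟨f₀, h1, h2⟩ := h
      obtain rfl := PairLE.unique he hf h2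
      rw [← conjSub_pairStab_of_mem Q f₀ (Subgroup.mem_top x), conjSub_le_conjSub_iff]
      exact (hm.isDefGrp_pairStab_of_normal hc h1 hn).le)
  rw [sup_eq_right.2 h.le, pairMor_self_iff he] at h1
  exact ⟨s, ((mem_pairStab_iff_pairMor he hf).1 hs).1, ((mem_pairStab_iff_pairMor he hf).1 hs).2, h1⟩

/-- `P` induces a Sylow subgroup of the automorphism group of a normal subgroup -/
theorem IsMaxPair.not_dvd_relIndex_of_normal [IsAlgClosed k] (hf : PairLE p ⊤ Q f P e)
    (hn : P ≤ Subgroup.normalizer (Q : Set G)) :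
    ¬ p ∣ (autInducedBy P Q).relIndex (autInducedBy (pairStab ⊤ Q f) Q) := by
  have hf' := hf.isPair_left hm.pairOf.pair
  have h1 := hf'.not_dvd_relIndex (hf'.cenIn_le_pairStab le_rfl)
    (pairStab_le_normalizer_cenIn top_le_normalizer_top _ _) (isFixedGA_pairStab _ _ _)
    (hm.isDefGrp_pairStab_of_normal hc hf hn)
  rw [relIndex_autInducedBy hn (pairStab_le_normalizer _ _ _),
    sup_eq_left.2 hf'.centralizer_le_pairStab, sup_comm]
  rwa [cenIn_top] at h1

end mor

section quot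
variable {H : Type w} [Group H] {π : G →* H} {p : ℕ} {Q R P : Subgroup G}

/-- the preimage of the centralizer of the image -/
abbrev cenQuot (π : G →* H) (Q : Subgroup G) : Subgroup G :=
  (Subgroup.centralizer (Q.map π : Set H)).comap π

theorem mem_cenQuot {g : G} : g ∈ cenQuot π Q ↔ ∀ q ∈ Q, π (q * g * q⁻¹) = π g := by
  rw [Subgroup.mem_comap, Subgroup.mem_centralizer_iff]
  constructor
  · intro h q hq
    rw [map_mul, map_mul, h _ ⟨q, hq, rfl⟩, map_inv, mul_inv_cancel_right]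
  · rintro h _ ⟨q, hq, rfl⟩
    rw [← mul_inv_eq_iff_eq_mul, ← map_inv, ← map_mul, ← map_mul, h q hq]

theorem centralizer_le_cenQuot : Subgroup.centralizer (Q : Set G) ≤ cenQuot π Q := fun g hg =>
  mem_cenQuot.2 fun q hq => by rw [hg q hq, mul_inv_cancel_right]

theorem conjSub_cenQuot (x : G) : conjSub (cenQuot π Q) x = cenQuot π (conjSub Q x) := by
  ext g
  rw [mem_conjSub, Subgroup.mem_comap, Subgroup.mem_comap, map_conjSub', centralizer_conjSub,
    mem_conjSub, map_mul, map_mul, map_inv]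

theorem map_cenQuot (hπ : Function.Surjective π) :
    (cenQuot π Q).map π = Subgroup.centralizer (Q.map π : Set H) :=
  Subgroup.map_comap_eq_self_of_surjective hπ _

variable (hc : π.ker ≤ Subgroup.center G)
include hc

theorem cenQuot_le_normalizer :
    cenQuot π Q ≤ Subgroup.normalizer (Subgroup.centralizer (Q : Set G) : Set G) := by
  have key : ∀ g ∈ cenQuot π Q, ∀ x ∈ Subgroup.centralizer (Q : Set G),
      g * x * g⁻¹ ∈ Subgroup.centralizer (Q : Set G) := fun g hg x hx q hq => by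
    have h1 : g⁻¹ * q * g * q⁻¹ ∈ π.ker := by
      have := mem_cenQuot.1 hg q hq
      rw [MonoidHom.mem_ker, mul_assoc, mul_assoc, map_mul, ← mul_assoc, this, map_inv,
        inv_mul_cancel]
    have h2 := Subgroup.mem_center_iff.1 (hc h1) x
    have h3 := hx q hq
    calc q * (g * x * g⁻¹) = g * ((g⁻¹ * q * g * q⁻¹) * (q * x)) * g⁻¹ := by group
      _ = g * (x * (g⁻¹ * q * g * q⁻¹) * q) * g⁻¹ := by rw [h3, h2]; group
      _ = _ := by group
  intro g hg
  rw [Subgroup.mem_normalizer_iff]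
  refine fun x => ⟨key g hg x, fun h => ?_⟩
  simpa [mul_assoc] using key g⁻¹ (inv_mem hg) _ h

theorem cenQuot_le_centralizer_ker : cenQuot π Q ≤ Subgroup.centralizer (π.ker : Set G) :=
  fun g _ _ hz => (Subgroup.mem_center_iff.1 (hc hz) g).symm

variable [Finite G] [Fact p.Prime] (hk : IsPGroup p π.ker)
include hk

theorem mem_centralizer_of_mem_cenQuot {g : G} (hg : g ∈ cenQuot π Q) (hr : IsPRegular p g) :
    g ∈ Subgroup.centralizer (Q : Set G) := fun q hq => by
  have h1 : q * g * q⁻¹ * g⁻¹ ∈ π.ker := by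
    rw [MonoidHom.mem_ker, map_mul, mem_cenQuot.1 hg q hq, map_inv, mul_inv_cancel]
  by_contra h
  have h2 : Commute g (q * g * q⁻¹ * g⁻¹) := Subgroup.mem_center_iff.1 (hc h1) g
  obtain ⟨n, hn⟩ := (IsPGroup.iff_orderOf.1 hk) ⟨_, h1⟩
  have h3 := dvd_orderOf_mul_of_commute h2 hr ⟨n, by rwa [Subgroup.orderOf_mk] at hn⟩
    fun h4 => h (by rw [mul_inv_eq_one] at h4; rw [← mul_inv_eq_iff_eq_mul, h4])
  rw [h2.eq, inv_mul_cancel_right] at h3
  have h4 : orderOf (q * g * q⁻¹) = orderOf g := (MulAut.conj q).orderOf_eq g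
  exact hr (h4 ▸ h3)

omit hk in
/-- the Brauer map commutes with central quotients -/
theorem brGA_gaPush_of_central {k : Type v} [Field k] [CharP k p] (hQ : IsPGroup p Q) {a : k[G]}
    (ha : IsFixedGA Q a) : brGA k (Q.map π) (gaPush k π a) = gaPush k π (brGA k Q a) := by
  classical
  have := Fintype.ofFinite G
  ext y
  show (brGA k (Q.map π) (gaPush k π a)).coeff y = (gaPush k π (brGA k Q a)).coeff y
  by_cases hy : y ∈ Subgroup.centralizer (Q.map π : Set H)
  · rw [coeff_brGA_of_mem _ hy, coeff_gaPush, coeff_gaPush,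
      sum_eq_sum_centralizer hQ (charP_nsmul_eq_zero (R := k) p) _ (fun g hg x hx => ?_) _
        (fun g hg x _ => ?_), Finset.sum_filter]
    · refine Finset.sum_congr rfl fun x _ => ?_
      split_ifs with h
      · exact (coeff_brGA_of_mem _ h).symm
      · exact (coeff_brGA_of_notMem _ h).symm
    · rw [Finset.mem_filter] at hx ⊢
      refine ⟨Finset.mem_univ _, ?_⟩
      rw [← hx.2] at hy ⊢
      exact mem_cenQuot.1 hy g hg
    · exact isFixedGA_iff_coeff.1 ha g hg x
  · rw [coeff_brGA_of_notMem _ hy, coeff_gaPush, Finset.sum_eq_zero fun x hx => ?_]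
    exact coeff_brGA_of_notMem _ fun h => hy ((Finset.mem_filter.1 hx).2 ▸ centralizer_le_cenQuot h)

/-- the image of a pair in a central quotient -/
noncomputable def quotIdem {k : Type v} [Field k] (π : G →* H) (Q : Subgroup G) (f : k[G]) : k[H] :=
  gaPush k π (orbSum (cenQuot π Q) f)

omit hc hk [Fact p.Prime] in
theorem quotIdem_conj {k : Type v} [Field k] (f : k[G]) (x : G) :
    quotIdem π (conjSub Q x) (gaConj k x f) = gaConj k (π x) (quotIdem π Q f) := by
  rw [quotIdem, quotIdem, ← conjSub_cenQuot, ← gaConj_orbSum, gaPush_gaConj]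

variable [Finite H] {M : Ideal AlgInt} (hM : IsPModular p M) (hπ : Function.Surjective π)
  {c e f g : (resK M)[G]}
include hM

theorem IsPair.isBlk_orbSum_cenQuot (hf : IsPair p ⊤ Q f) :
    IsBlk (resK M) (cenQuot π Q) (orbSum (cenQuot π Q) f) :=
  (isPair_top_iff.1 hf).2.isBlk_orbSum_of_regular hM centralizer_le_cenQuot
    (cenQuot_le_normalizer hc) fun _ => mem_centralizer_of_mem_cenQuot hc hk

theorem IsPair.gaPush_ne_zero (hf : IsPair p ⊤ Q f) : gaPush (resK M) π f ≠ 0 :=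
  ((isPair_top_iff.1 hf).2.gaPush_of_centralizer hM π hk
    (centralizer_le_cenQuot.trans (cenQuot_le_centralizer_ker hc))).ne_zero

omit hM hk [Fact p.Prime] [Finite H] in
theorem IsPair.quotIdem_mul (hf : IsPair p ⊤ Q f) :
    quotIdem π Q f * gaPush (resK M) π f = gaPush (resK M) π f := by
  rw [quotIdem, ← map_mul, (isPair_top_iff.1 hf).2.orbSum_mul_self (cenQuot_le_normalizer hc)]

include hπ

theorem IsPair.quot (hf : IsPair p ⊤ Q f) : IsPair p ⊤ (Q.map π) (quotIdem π Q f) :=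
  isPair_top_iff.2 ⟨hf.pgrp.map π, map_cenQuot (Q := Q) hπ ▸
    (hf.isBlk_orbSum_cenQuot hc hk hM).gaPush_of_centralizer hM π hk
      (cenQuot_le_centralizer_ker hc)⟩

theorem NSub.quot (h : NSub p ⊤ Q f R g) :
    NSub p ⊤ (Q.map π) (quotIdem π Q f) (R.map π) (quotIdem π R g) := by
  have := hM.charP
  have hfix : IsFixedGA R (orbSum (cenQuot π Q) f) := fun x hx => by
    rw [gaConj_orbSum, conjSub_cenQuot, conjSub_eq_self_iff.2 (h.le_normalizer hx), h.fixed x hx]
  refine NSub.of_ne_zero (h.left.quot hc hk hM hπ) (h.right.quot hc hk hM hπ)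
    (Subgroup.map_mono h.le) ?_ (hfix.gaPush π) fun h0 => h.right.gaPush_ne_zero hc hk hM ?_
  · rintro _ ⟨x, hx, rfl⟩
    rw [← conjSub_eq_self_iff, ← map_conjSub', conjSub_eq_self_iff.2 (h.le_normalizer hx)]
  · have h1 : brGA (resK M) R (orbSum (cenQuot π Q) f) * g = g := by
      rw [← h.br, ← mul_assoc, ← brGA_mul h.right.pgrp hfix h.fixed,
        (isPair_top_iff.1 h.left).2.orbSum_mul_self (cenQuot_le_normalizer hc)]
    rw [← h1, map_mul, ← h.right.quotIdem_mul hc, ← mul_assoc,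
      ← brGA_gaPush_of_central hc h.right.pgrp hfix]
    exact mul_eq_zero_of_left h0 _

theorem PairLE.quot (h : PairLE p ⊤ Q f P e) :
    PairLE p ⊤ (Q.map π) (quotIdem π Q f) (P.map π) (quotIdem π P e) :=
  h.head_induction (motive := fun Q f =>
    PairLE p ⊤ (Q.map π) (quotIdem π Q f) (P.map π) (quotIdem π P e)) (PairLE.refl _ _)
    fun _ _ _ _ h1 _ h2 => (h1.quot hc hk hM hπ).pairLE.trans h2

theorem PairMor.quot {x : G} (h : PairMor p P e Q x) :
    PairMor p (P.map π) (quotIdem π P e) (Q.map π) (π x) := by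
  obtain ⟨f, h1, h2⟩ := h
  refine ⟨_, h1.quot hc hk hM hπ, ?_⟩
  rw [← quotIdem_conj, ← map_conjSub']
  exact h2.quot hc hk hM hπ

omit hπ in
theorem IsPair.exists_conj_of_quotIdem_eq (hf : IsPair p ⊤ Q f) (hg : IsPair p ⊤ Q g)
    (h : quotIdem π Q f = quotIdem π Q g) : ∃ x ∈ cenQuot π Q, gaConj (resK M) x f = g := by
  refine (isPair_top_iff.1 hf).2.exists_conj_of_orbSum_mul_ne_zero (isPair_top_iff.1 hg).2
    (cenQuot_le_normalizer hc) fun h0 => hg.gaPush_ne_zero hc hk hM ?_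
  rw [← hg.quotIdem_mul hc, ← h, quotIdem, ← map_mul, h0, map_zero]

/-- lifting morphisms from a central quotient -/
theorem PairMor.exists_lift (he : IsPair p ⊤ P e) (hP : π.ker ≤ P) (hQ : π.ker ≤ Q) (hQP : Q ≤ P)
    {y : H} (h : PairMor p (P.map π) (quotIdem π P e) (Q.map π) y) :
    ∃ x, PairMor p P e Q x ∧ ∀ q ∈ Q, π (x * q * x⁻¹) = y * π q * y⁻¹ := by
  have := hM.charP
  obtain ⟨x, rfl⟩ := hπ y
  obtain ⟨f, hf⟩ := exists_pairLE he hQP
  have h1 : conjSub Q x ≤ P := by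
    have := h.conj_le
    rwa [← map_conjSub', Subgroup.map_le_map_iff, sup_eq_left.2 hP] at this
  obtain ⟨g, hg⟩ := exists_pairLE he h1
  have h2 := h.pairLE (he.quot hc hk hM hπ) (hf.quot hc hk hM hπ)
  rw [← quotIdem_conj, ← map_conjSub'] at h2
  obtain ⟨z, hz, h3⟩ := ((hf.isPair_left he).conj_of_normalizer
    (top_le_normalizer_top (x := x) trivial)).exists_conj_of_quotIdem_eq hc hk hM
    (hg.isPair_left he) (PairLE.unique (he.quot hc hk hM hπ) h2 (hg.quot hc hk hM hπ))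
  have h4 : ∀ q ∈ Q, π (z * (x * q * x⁻¹) * z⁻¹) = π (x * q * x⁻¹) := fun q hq => by
    have := Subgroup.mem_centralizer_iff.1 hz _ ⟨_, conj_mem_conjSub.2 hq, rfl⟩
    rw [map_mul, map_mul, ← this, map_inv, mul_inv_cancel_right]
  have h5 : conjSub (conjSub Q x) z = conjSub Q x := by
    refine conjSub_eq_of_ge ?_
    rintro _ ⟨_, ⟨q, hq, rfl⟩, rfl⟩
    have h6 : (x * q * x⁻¹)⁻¹ * (z * (x * q * x⁻¹) * z⁻¹) ∈ π.ker := by
      rw [MonoidHom.mem_ker, map_mul, h4 q hq, map_inv, inv_mul_cancel]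
    have h7 : π.ker ≤ conjSub Q x := fun a ha => by
      rw [mem_conjSub, mul_assoc, ← Subgroup.mem_center_iff.1 (hc ha) x, inv_mul_cancel_left]
      exact hQ ha
    have h8 := (conjSub Q x).mul_mem (conj_mem_conjSub.2 hq) (h7 h6)
    rwa [mul_inv_cancel_left] at h8
  refine ⟨z * x, ⟨f, hf, by rwa [conjSub_mul, gaConj_mul, h5, h3]⟩, fun q hq => ?_⟩
  rw [← map_inv, ← map_mul, ← map_mul, ← h4 q hq]
  congr 1
  group

theorem StarSetup.quot {B : Set (IrrCharacter G)} (S : StarSetup p M B P e) :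
    StarSetup p M (IrrCharacter.comap π hπ ⁻¹' B) (P.map π) (quotIdem π P e) := by
  have := hM.charP
  have := Fintype.ofFinite G
  have hreg : ∀ g : G, ¬ p ∣ orderOf g → g ∈ Subgroup.centralizer (π.ker : Set G) :=
    fun g _ _ hz => (Subgroup.mem_center_iff.1 (hc hz) g).symm
  have hB := S.hB.preimage_comap_of_regular hM π hπ hk hreg
  have hD := (S.hB.isDefectGroup_preimage_iff_of_regular hM π hπ hk hreg _).2
    ⟨P, S.isDefectGroup, rfl⟩
  refine ⟨hM, hB, IsPairOf.isMaxPair_of_isDefGrp (IsPairOf.of_ne_zero le_rfl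
    (hB.isBlk_top hM).mem (hB.isBlk_top hM).idem (S.isPair.quot hc hk hM hπ) le_top
    fun h0 => S.isPair.gaPush_ne_zero hc hk hM ?_) ((hB.isDefectGroup_iff hM).1 hD)⟩
  rw [← S.hmax.pairOf.br, map_mul, ← S.isPair.quotIdem_mul hc, ← mul_assoc,
    ← brGA_gaPush_of_central hc S.isPGroup (S.isBlk.fixed.mono le_top),
    (S.hB.isBlockUnion hM).gaPush_idemK hM π hπ, h0, zero_mul]

end quot

section sub
variable {k : Type v} [Field k] {p : ℕ} [Finite G] [Fact p.Prime] [CharP k p]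
  {P R V K : Subgroup G} {e f : k[G]}

/-- pairs of `C(V)` and pairs of `G` containing `V` -/
theorem pairLE_centralizer_iff (he : IsPair p ⊤ P e) (hK : K = Subgroup.centralizer (V : Set G))
    (hf : PairLE p ⊤ R f P e) (hVR : V ≤ R) (hRK : R ≤ K) {Q : Subgroup K} {ε : k[K]}
    (hQ : Q ≤ R.subgroupOf K) :
    PairLE p ⊤ Q ε (R.subgroupOf K) (gaTrunc k K f) ↔
      PairLE p ⊤ (V ⊔ Q.map K.subtype) (gaIncl k K ε) P e := by
  have hf' := hf.isPair_left he
  have hRV : R ≤ Subgroup.normalizer (V : Set G) :=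
    hRK.trans (hK ▸ centralizer_le_normalizer' V)
  have h1 : (R.subgroupOf K).map K.subtype = R := Subgroup.map_subgroupOf_eq_of_le hRK
  have h2 : gaPush k K.subtype (gaTrunc k K f) = f :=
    gaIncl_gaTrunc_of_mem (suppGA_mono (hK ▸ Subgroup.centralizer_le hVR) hf'.supp)
  have h3 : K = cenIn ⊤ V := by rw [cenIn_top, hK]
  have h4 : IsPair p K R f := by
    rw [h3, isPair_cenIn_iff (hf'.pgrp.to_le hVR) (le_top.trans top_le_normalizer_top)
      (le_top.trans top_le_normalizer_top) hRV, sup_eq_right.2 hVR]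
    exact hf'
  have h5 : IsPair p ⊤ (R.subgroupOf K) (gaTrunc k K f) := by
    rw [← isPair_gaPush_iff K.subtype_injective, h1, h2, map_subtype_top]
    exact h4
  have h6 : Q.map K.subtype ≤ R := h1 ▸ Subgroup.map_mono hQ
  rw [← pairLE_gaPush_iff K.subtype_injective h5, h1, h2, map_subtype_top, gaIncl_eq_gaPush]
  generalize Q.map K.subtype = A at h6 ⊢
  generalize gaPush k K.subtype ε = a
  constructor
  · intro h
    rw [h3] at h
    have h7 := h.sup_of_cenIn (hf'.pgrp.to_le hVR) (le_top.trans top_le_normalizer_top)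
      (le_top.trans top_le_normalizer_top) hRV
    rw [sup_eq_right.2 hVR] at h7
    exact h7.trans hf
  · intro h
    have h7 := PairLE.of_le_of_le he h hf (sup_le hVR h6)
    rw [← sup_eq_right.2 hVR] at h7 hf'
    have h8 := h7.cenIn_of_sup hf' h6 hRV
    rwa [← h3] at h8

theorem pairMor_centralizer_iff (he : IsPair p ⊤ P e) (hK : K = Subgroup.centralizer (V : Set G))
    (hf : PairLE p ⊤ R f P e) (hVR : V ≤ R) (hR : R = P ⊓ K) {Q : Subgroup K} {x : K} :
    PairMor p (R.subgroupOf K) (gaTrunc k K f) Q x ↔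
      PairMor p P e (V ⊔ Q.map K.subtype) x := by
  have hRK : R ≤ K := hR ▸ inf_le_right
  have h1 : conjSub (V ⊔ Q.map K.subtype) x = V ⊔ (conjSub Q x).map K.subtype := by
    rw [conjSub_sup, map_conjSub', conjSub_eq_self_iff.2
      (centralizer_le_normalizer' V (hK ▸ x.2))]
    rfl
  have h2 : ∀ ε : k[K], gaConj k (x : G) (gaIncl k K ε) = gaIncl k K (gaConj k x ε) := fun ε =>
    (gaPush_gaConj K.subtype x ε).symm
  have h3 : ∀ {A : Subgroup K}, V ⊔ A.map K.subtype ≤ P → A ≤ R.subgroupOf K := fun h a ha =>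
    hR ▸ ⟨h (Subgroup.mem_sup_right ⟨a, ha, rfl⟩), a.2⟩
  constructor
  · rintro ⟨ε, h4, h5⟩
    refine ⟨_, (pairLE_centralizer_iff he hK hf hVR hRK h4.le).1 h4, ?_⟩
    rw [h1, h2]
    exact (pairLE_centralizer_iff he hK hf hVR hRK h5.le).1 h5
  · rintro ⟨g, h4, h5⟩
    have h6 : gaIncl k K (gaTrunc k K g) = g := gaIncl_gaTrunc_of_mem
      (suppGA_mono ((Subgroup.centralizer_le (SetLike.coe_subset_coe.2 le_sup_left)).trans hK.ge)
        (h4.isPair_left he).supp)
    rw [← h6] at h4 h5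
    rw [h1, h2] at h5
    exact ⟨_, (pairLE_centralizer_iff he hK hf hVR hRK (h3 h4.le)).2 h4,
      (pairLE_centralizer_iff he hK hf hVR hRK (h3 h5.le)).2 h5⟩

end sub

end Cfsg
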