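import Cfsg.Agent.Blk.Subsec
import Cfsg.Agent.Blk.SecContrib
import Cfsg.Agent.Blk.Induced
import Cfsg.Prelude.Def_BlockLocal

/-! A criterion for perfect isometries: compatible generalised decomposition numbers give a
perfect isometry (Broué). -/

set_option autoImplicit false

namespace Cfsg

open scoped ComplexConjugate MonoidAlgebra

universe u v w

variable {p : ℕ} {M : Ideal AlgInt}

section basic
variable {G : Type u} [Group G] [Finite G]

theorem IsPModular.div_natCast_mem_of_div_ordProj (hM : IsPModular p M) {z : ℂ} {n : ℕ}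
    (hn : n ≠ 0) (h : z / ((p ^ n.factorization p : ℕ) : ℂ) ∈ valO M) : z / (n : ℂ) ∈ valO M := by
  have h1 : (((p ^ n.factorization p : ℕ) : ℂ) / n) ∈ valO M := by
    rw [hM.natCast_div_mem_iff (pow_ne_zero _ hM.prime.ne_zero) hn, hM.prime.factorization_pow]
    simp
  have h2 : ((p ^ n.factorization p : ℕ) : ℂ) ≠ 0 := by
    exact_mod_cast pow_ne_zero _ hM.prime.ne_zero
  have := mul_mem h h1
  rwa [div_mul_div_cancel₀ h2] at this

/-- an `O`-combination of irreducible characters vanishing on the `p`-singular elements is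
divisible by the centralizer orders -/
theorem IsPModular.div_card_centralizer_mem_of_vanish (hM : IsPModular p M) {θ : G → ℂ}
    (h : InIrrSpan (valO M) θ) (h0 : ∀ g : G, p ∣ orderOf g → θ g = 0) (x : G) :
    θ x / (Nat.card (Subgroup.centralizer ({x} : Set G)) : ℂ) ∈ valO M := by
  have := hM.fact_prime
  exact hM.div_natCast_mem_of_div_ordProj Nat.card_pos.ne'
    (h.apply_div_mem_of_vanish (fun _ ha _ hz => mul_mem (mem_valO_of_isIntegral ha) hz) h0 x)

theorem card_centralizer_mul_regular [Fact p.Prime] {u : G} {C : Subgroup G}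
    (hu : ∃ k : ℕ, orderOf u = p ^ k) (hC : C = Subgroup.centralizer {u}) {s : C}
    (hs : ¬ p ∣ orderOf s) :
    Nat.card (Subgroup.centralizer ({u * s} : Set G)) =
      Nat.card (Subgroup.centralizer ({s} : Set C)) := by
  have hle : Subgroup.centralizer ({u * s} : Set G) ≤ C := by
    have := centralizer_le_centralizer_pPart p (u * (s : G))
    rwa [pPart_mul_eq_of_regular hu hC hs, ← hC] at this
  have : Subgroup.centralizer ({s} : Set C) =
      (Subgroup.centralizer ({u * s} : Set G)).subgroupOf C := by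
    ext c
    rw [Subgroup.mem_subgroupOf, Subgroup.mem_centralizer_singleton_iff,
      Subgroup.mem_centralizer_singleton_iff]
    have hc := (commute_of_mem_centralizer_eq hC c).eq
    constructor
    · intro h
      have h' : (c : G) * s = s * c := congrArg Subtype.val h
      rw [← mul_assoc, ← hc, mul_assoc, h', mul_assoc]
    · intro h
      apply Subtype.ext
      rw [← mul_assoc, ← hc, mul_assoc, mul_assoc] at h
      exact mul_left_cancel h
  rw [this, Nat.card_congr (Subgroup.subgroupOfEquivOfLe hle).toEquiv]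

/-- `θ` vanishes on the `p`-regular elements and is divisible by the centralizer orders -/
structure IsSingProj (p : ℕ) (M : Ideal AlgInt) {G : Type u} [Group G] (θ : G → ℂ) : Prop where
  div_mem : ∀ x : G, θ x / (Nat.card (Subgroup.centralizer ({x} : Set G)) : ℂ) ∈ valO M
  vanish : ∀ x : G, ¬ p ∣ orderOf x → θ x = 0

omit [Finite G] in
theorem IsSingProj.sum_mul {J : Type w} (s : Finset J) {θ : J → G → ℂ} {a : J → ℂ}
    (h : ∀ j ∈ s, IsSingProj p M (θ j)) (ha : ∀ j ∈ s, a j ∈ valO M) :
    IsSingProj p M (fun x => ∑ j ∈ s, a j * θ j x) where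
  div_mem x := by
    rw [Finset.sum_div]
    refine sum_mem fun j hj => ?_
    rw [mul_div_assoc]
    exact mul_mem (ha j hj) ((h j hj).div_mem x)
  vanish x hx := Finset.sum_eq_zero fun j hj => by rw [(h j hj).vanish x hx, mul_zero]

theorem IsPModular.isSingProj_secInd (hM : IsPModular p M) {u : G} {C : Subgroup G}
    (hu : ∃ k : ℕ, orderOf u = p ^ k) (hu1 : u ≠ 1) (hC : C = Subgroup.centralizer {u})
    {Φ : C → ℂ} (h : InIrrSpan (valO M) Φ) (h0 : ∀ c : C, p ∣ orderOf c → Φ c = 0) :
    IsSingProj p M (secInd p u C Φ) := by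
  have := hM.fact_prime
  constructor
  · intro g
    by_cases hg : IsConj u (pPart p g)
    · obtain ⟨x, s, hs, rfl⟩ := exists_conj_eq_mul_regular hC hg
      rw [isClassFunction_secInd p u C Φ, secInd_mul_regular hu hC h.isClassFunction hs,
        ← card_centralizer_eq_of_isConj (isConj_iff.2 ⟨x, rfl⟩),
        card_centralizer_mul_regular hu hC hs]
      exact hM.div_card_centralizer_mem_of_vanish h h0 s
    · rw [secInd_of_not_isConj hu hC Φ hg, zero_div]; exact zero_mem _
  · intro g hg
    refine secInd_of_not_isConj hu hC Φ ?_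
    rw [pPart_eq_one_iff.2 hg, isConj_one_left]
    exact hu1

end basic

section perfect
variable {G : Type u} [Group G] [Finite G] {H : Type v} [Group H] [Finite H]

/-- perfectness only has to be checked with one argument `p`-singular -/
theorem IsPModular.isPerfectFun_of_isSingProj (hM : IsPModular p M) {μ : G → H → ℂ}
    (halg : ∀ x y, IsAlgebraic ℚ (μ x y))
    (h1 : ∀ y, InIrrSpan (valO M) (fun x => μ x y)) (h2 : ∀ x, InIrrSpan (valO M) (μ x))
    (h3 : ∀ y, p ∣ orderOf y → IsSingProj p M (fun x => μ x y))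
    (h4 : ∀ x, p ∣ orderOf x → IsSingProj p M (μ x)) : IsPerfectFun p M μ := by
  intro x y
  have ha : ∀ n : ℕ, IsAlgebraic ℚ (μ x y / (n : ℂ)) := fun n => by
    rw [div_eq_mul_inv]
    exact (halg x y).mul (isAlgebraic_natCast n).inv
  refine ⟨hM.memLocalRing_iff.2 ⟨ha _, ?_⟩, hM.memLocalRing_iff.2 ⟨ha _, ?_⟩, ?_⟩
  · by_cases hy : p ∣ orderOf y
    · exact (h3 y hy).div_mem x
    · exact hM.div_card_centralizer_mem_of_vanish (h1 y) (fun g hg => (h4 g hg).vanish y hy) x
  · by_cases hx : p ∣ orderOf x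
    · exact (h4 x hx).div_mem y
    · exact hM.div_card_centralizer_mem_of_vanish (h2 x) (fun g hg => (h3 g hg).vanish x hx) y
  · unfold IsPRegular
    by_cases hx : p ∣ orderOf x <;> by_cases hy : p ∣ orderOf y
    · left; simp [hx, hy]
    · right; exact (h4 x hx).vanish y hy
    · right; exact (h3 y hy).vanish x hx
    · left; simp [hx, hy]

omit [Finite G] in
theorem signedBijectionKernel_eq_sum (c : Set (IrrCharacter H))
    (I : IrrCharacter H → IrrCharacter G) (ε : IrrCharacter H → ℤ) (x : G) (y : H) :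
    signedBijectionKernel c I ε x y = ∑ η ∈ irrFinset c, (ε η : ℂ) * (I η).1 x * η.1 y := by
  unfold signedBijectionKernel
  have : c = (irrFinset c : Set (IrrCharacter H)) := by
    ext η; rw [Finset.mem_coe, mem_irrFinset]
  conv_lhs => rw [this]
  rw [finsum_mem_coe_finset]

theorem inIrrSpan_sum_irr {J : Type w} (s : Finset J) (χ : J → IrrCharacter G) {a : J → ℂ}
    (ha : ∀ j ∈ s, a j ∈ valO M) : InIrrSpan (valO M) (fun x => ∑ j ∈ s, a j * (χ j).1 x) :=
  InIrrSpan.sum' s fun j hj =>
    (χ j).isCharacter.isGeneralizedCharacter.const_mul_inIrrSpan (ha j hj)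

/-- a "frame" for the values of the characters of `B` on the `p`-singular elements: `D` plays the
role of the generalised decomposition numbers -/
structure SingFrame (p : ℕ) (M : Ideal AlgInt) (B : Set (IrrCharacter G)) {J : Type w}
    [Fintype J] (D : J → IrrCharacter G → ℂ) (F : J → G → ℂ) : Prop where
  decomp : ∀ χ ∈ B, ∀ x : G, p ∣ orderOf x → χ.1 x = ∑ j, D j χ * F j x
  mem : ∀ j x, F j x ∈ valO M
  proj : ∀ j, IsSingProj p M (fun x => ∑ χ ∈ irrFinset B, conj (D j χ) * χ.1 x)

theorem sum_irrFinset_bijOn {c : Set (IrrCharacter H)} {B : Set (IrrCharacter G)}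
    {I : IrrCharacter H → IrrCharacter G} (hI : Set.BijOn I c B) {A : Type*} [AddCommMonoid A]
    (f : IrrCharacter G → A) : ∑ η ∈ irrFinset c, f (I η) = ∑ χ ∈ irrFinset B, f χ := by
  refine Finset.sum_bij (fun η _ => I η) (fun η hη => mem_irrFinset.2 (hI.mapsTo
    (mem_irrFinset.1 hη))) (fun η hη η' hη' h => hI.injOn (mem_irrFinset.1 hη)
    (mem_irrFinset.1 hη') h) (fun χ hχ => ?_) fun _ _ => rfl
  obtain ⟨η, hη, rfl⟩ := hI.surjOn (mem_irrFinset.1 hχ)
  exact ⟨η, mem_irrFinset.2 hη, rfl⟩

/-- compatible frames give a perfect isometry -/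
theorem SingFrame.isPerfectIsometry (hM : IsPModular p M) {B : Set (IrrCharacter G)}
    {c : Set (IrrCharacter H)} {J : Type w} [Fintype J] {D : J → IrrCharacter G → ℂ}
    {F : J → G → ℂ} {D' : J → IrrCharacter H → ℂ} {F' : J → H → ℂ}
    (hB : SingFrame p M B D F) (hc : SingFrame p M c D' F')
    {I : IrrCharacter H → IrrCharacter G} {ε : IrrCharacter H → ℤ} (hI : Set.BijOn I c B)
    (hε : ∀ η ∈ c, ε η = 1 ∨ ε η = -1)
    (h : ∀ η ∈ c, ∀ j, (ε η : ℂ) * D' j η = conj (D j (I η))) :
    IsPerfectIsometry p M c B I ε := by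
  refine ⟨hI, hε, hM.isPerfectFun_of_isSingProj ?_ ?_ ?_ ?_ ?_⟩
  · intro x y
    rw [signedBijectionKernel_eq_sum]
    refine isAlgebraic_of_isIntegral_int (IsIntegral.sum _ fun η _ => ?_)
    exact ((isIntegral_algebraMap (R := ℤ) (x := ε η)).mul
      ((I η).isCharacter.isIntegral x)).mul (η.isCharacter.isIntegral y)
  · intro y
    have := inIrrSpan_sum_irr (M := M) (irrFinset c) I (a := fun η => (ε η : ℂ) * η.1 y)
      fun η _ => mul_mem (intCast_mem_valO _) (η.mem_valO y)
    convert this using 2 with x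
    rw [signedBijectionKernel_eq_sum]
    exact Finset.sum_congr rfl fun η _ => by ring
  · intro x
    have := inIrrSpan_sum_irr (M := M) (irrFinset c) id (a := fun η => (ε η : ℂ) * (I η).1 x)
      fun η _ => mul_mem (intCast_mem_valO _) ((I η).mem_valO x)
    convert this using 2 with y
    rw [signedBijectionKernel_eq_sum]; rfl
  · intro y hy
    have := IsSingProj.sum_mul Finset.univ (fun j _ => hB.proj j) (fun j _ => hc.mem j y)
    convert this using 2 with x
    rw [signedBijectionKernel_eq_sum]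
    simp only [← sum_irrFinset_bijOn hI, Finset.mul_sum]
    rw [Finset.sum_comm]
    refine Finset.sum_congr rfl fun η hη => ?_
    have hη' := mem_irrFinset.1 hη
    rw [hc.decomp η hη' y hy, Finset.mul_sum]
    refine Finset.sum_congr rfl fun j _ => ?_
    rw [← h η hη' j]; ring
  · intro x hx
    have := IsSingProj.sum_mul Finset.univ (fun j _ => hc.proj j) (fun j _ => hB.mem j x)
    convert this using 2 with y
    rw [signedBijectionKernel_eq_sum]
    simp only [Finset.mul_sum]
    rw [Finset.sum_comm]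
    refine Finset.sum_congr rfl fun η hη => ?_
    have hη' := mem_irrFinset.1 hη
    rw [hB.decomp _ (hI.mapsTo hη') x hx, Finset.mul_sum, Finset.sum_mul]
    refine Finset.sum_congr rfl fun j _ => ?_
    have h1 : D j (I η) = ε η * conj (D' j η) := by
      rw [← Complex.conj_conj (D j (I η)), ← h η hη' j, map_mul, map_intCast]
    have h2 : (ε η : ℂ) * ε η = 1 := by
      rcases hε η hη' with h | h <;> simp [h]
    rw [h1]
    linear_combination (conj (D' j η) * F j x * η.1 y) * h2

end perfect

section frame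
variable {G : Type u} [Group G] [Finite G] {B : Set (IrrCharacter G)}

theorem IsBasicSet.isSingProj_sum_conj_gdn (hM : IsPModular p M) {u : G} {C : Subgroup G}
    (hu : ∃ k : ℕ, orderOf u = p ^ k) (hu1 : u ≠ 1) (hC : C = Subgroup.centralizer {u})
    (hB : IsPBlock M B) {V : Set (IrrCharacter C)} (hV : IsBlockUnion M V)
    (hVB : V ⊆ inducingChars M C B) {ι : Type v} [Fintype ι] {φ : ι → C → ℂ}
    {d : IrrCharacter C → ι → ℤ} (h : IsBasicSet p V φ d) (i : ι) :
    IsSingProj p M (fun x => ∑ χ ∈ irrFinset B, conj (gdn u V d χ.1 i) * χ.1 x) := by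
  have := hM.isSingProj_secInd hu hu1 hC
    ((isGeneralizedCharacter_projChar (U := V) (d := d) i).inIrrSpan (valO M))
    (fun c hc => h.projChar_apply_of_dvd hM hV i hc)
  convert this using 2 with x
  exact h.sum_conj_gdn_mul hM hu hC hB hV hVB i x

theorem IsBasicSet.secInd_mem_valO [Fact p.Prime] {u : G} {C : Subgroup G}
    (hu : ∃ k : ℕ, orderOf u = p ^ k) (hC : C = Subgroup.centralizer {u})
    {V : Set (IrrCharacter C)} {ι : Type v} [Fintype ι] {φ : ι → C → ℂ}
    {d : IrrCharacter C → ι → ℤ} (h : IsBasicSet p V φ d) (i : ι) (g : G) :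
    secInd p u C (φ i) g ∈ valO M := by
  refine Cfsg.secInd_mem_valO hu hC (h.isClassFunction i) (fun c hc => ?_) g
  obtain ⟨a, ha⟩ := h.span i
  rw [ha, Finset.sum_apply]
  refine sum_mem fun χ _ => ?_
  rw [Pi.smul_apply, smul_eq_mul, pRegularPart_of_not_dvd hc]
  exact mul_mem (intCast_mem_valO _) (χ.mem_valO c)

variable {P : Subgroup G} {e : (resK M)[G]}

/-- the frame given by a family of subsections with one Brauer character each -/
theorem StarSetup.singFrame (S : StarSetup p M B P e) {J : Type w} [Fintype J] (u : J → P)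
    (hu1 : ∀ j, u j ≠ 1) {a : J → ℂ} (ha : ∀ j, a j ∈ valO M)
    (hdec : ∀ χ ∈ B, ∀ x : G, p ∣ orderOf x →
      χ.1 x = ∑ j, a j * secProj p (u j : G) (S.below (u j)) χ.1 x)
    {φ : ∀ j, Unit → Subgroup.centralizer ({(u j : G)} : Set G) → ℂ}
    {d : ∀ j, IrrCharacter (Subgroup.centralizer ({(u j : G)} : Set G)) → Unit → ℤ}
    (hφ : ∀ j, IsBasicSet p (S.below (u j)) (φ j) (d j)) :
    SingFrame p M B (fun j χ => gdn (u j : G) (S.below (u j)) (d j) χ.1 ())
      (fun j x => a j * secInd p (u j : G) _ (φ j ()) x) := by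
  have := S.hM.fact_prime
  have hu : ∀ j, ∃ k : ℕ, orderOf (u j : G) = p ^ k := fun j =>
    exists_orderOf_eq_pow_of_mem S.hmax.pairOf.pair.pgrp (u j).2
  refine ⟨fun χ hχ x hx => ?_, fun j x => mul_mem (ha j) ((hφ j).secInd_mem_valO (hu j) rfl () x),
    fun j => (hφ j).isSingProj_sum_conj_gdn S.hM (hu j) (fun h => hu1 j (Subtype.ext h)) rfl S.hB
      (S.isBlockUnion_below _) (S.below_subset _) ()⟩
  rw [hdec χ hχ x hx]
  refine Finset.sum_congr rfl fun j _ => ?_
  rw [(hφ j).secProj_eq_sum]
  simp only [Finset.univ_unique, Finset.sum_singleton, Pi.smul_apply, smul_eq_mul]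
  ring

/-- values on singular elements, summed over all nontrivial elements of the defect group -/
theorem StarSetup.apply_eq_sum_secProj_of_dvd (S : StarSetup p M B P e)
    [Fintype {v : P // v ≠ 1}] {χ : IrrCharacter G} (hχ : χ ∈ B) {x : G} (hx : p ∣ orderOf x) :
    χ.1 x = ∑ v : {v : P // v ≠ 1},
      (1 / (fuseCard p P e v : ℂ)) * secProj p (v.1 : G) (S.below v.1) χ.1 x := by
  classical
  have := Fintype.ofFinite P
  have h1 := congrFun (S.blockPart_eq_sum_secProj χ.isClassFunction) x
  rw [blockPart_irr_of_mem hχ, Finset.sum_apply,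
    ← Finset.add_sum_erase _ _ (Finset.mem_univ (1 : P)),
    S.secProj_below_one (blockPart_irr_of_mem hχ), Pi.smul_apply, pRegularPart_of_dvd hx,
    smul_zero, zero_add] at h1
  rw [h1, Finset.sum_subtype (p := fun v : P => v ≠ 1) _ (by simp)]
  rfl

/-- the generalised decomposition numbers of two non-fused subsections are orthogonal -/
theorem StarSetup.sum_gdn_mul_conj_of_not_fuse (S : StarSetup p M B P e) {v w : P}
    (hvw : ¬ PairFuse p P e (v : G) w)
    {φ : Unit → Subgroup.centralizer ({(v : G)} : Set G) → ℂ}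
    {d : IrrCharacter (Subgroup.centralizer ({(v : G)} : Set G)) → Unit → ℤ}
    (hφ : IsBasicSet p (S.below v) φ d)
    {φ' : Unit → Subgroup.centralizer ({(w : G)} : Set G) → ℂ}
    {d' : IrrCharacter (Subgroup.centralizer ({(w : G)} : Set G)) → Unit → ℤ}
    (hφ' : IsBasicSet p (S.below w) φ' d') :
    ∑ χ ∈ irrFinset B, conj (gdn (v : G) (S.below v) d χ.1 ()) *
      gdn (w : G) (S.below w) d' χ.1 () = 0 := by
  have := S.hM.fact_prime
  have := S.hM.charP
  have hu : ∀ j : P, ∃ k : ℕ, orderOf (j : G) = p ^ k := fun j =>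
    exists_orderOf_eq_pow_of_mem S.hmax.pairOf.pair.pgrp j.2
  set Θ := secInd p (v : G) _ (projChar (S.below v) d ()) with hΘ
  have hΘc : IsClassFunction G Θ := isClassFunction_secInd _ _ _ _
  have h1 : Θ = ∑ χ ∈ irrFinset B, conj (gdn (v : G) (S.below v) d χ.1 ()) • χ.1 := by
    ext x
    rw [Finset.sum_apply]
    exact (hφ.sum_conj_gdn_mul S.hM (hu v) rfl S.hB (S.isBlockUnion_below _) (S.below_subset _)
      () x).symm
  have h2 : secProj p (v : G) (S.below v) Θ = Θ := by
    rw [hΘ, (S.isBlockUnion_below v).secProj_secInd S.hM (hu v) rfl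
      (isClassFunction_projChar _), blockPart_projChar]
  have h3 : secProj p (w : G) (S.below w) Θ = 0 := by
    rw [← h2, ← S.bstar_fuseInd_eq hΘc, S.secProj_below_bstar
      (isPairStable_fuseInd S.hmax.pairOf.pair v) hΘc, fuseInd, if_neg hvw, zero_smul]
  have h4 : gdn (w : G) (S.below w) d' Θ () • secInd p (w : G) _ (φ' ()) = 0 := by
    rw [← h3, hφ'.secProj_eq_sum]; simp
  have h5 : secInd p (w : G) _ (φ' ()) ≠ 0 := by
    intro h0
    apply hφ'.indep.ne_zero ()
    ext s
    by_cases hs : p ∣ orderOf s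
    · exact hφ'.apply_of_dvd () hs
    · rw [← secInd_mul_regular (hu w) rfl (hφ'.isClassFunction ()) hs, h0]; rfl
  have h6 := (smul_eq_zero.1 h4).resolve_right h5
  rw [h1, gdn_sum] at h6
  simpa only [gdn_smul] using h6

/-- a block `c` of `K ≥ N_G(P)` with defect group `P` inducing `B` shares a maximal pair with
`B` -/
theorem IsInducedBlock.exists_isMaxPair_of_normalizer_le (hM : IsPModular p M)
    (hP : IsDefectGroup p M B P) {K : Subgroup G} (hK : Subgroup.normalizer (P : Set G) ≤ K)
    {c : Set (IrrCharacter K)} (hcD : IsDefectGroup p M c (P.subgroupOf K))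
    (hc : IsInducedBlock M K c B) :
    ∃ e, StarSetup p M B P e ∧ IsMaxPair p K K (subIdem M K c) P e := by
  have := hM.fact_prime
  have := hM.charP
  have hPK : P ≤ K := Subgroup.le_normalizer.trans hK
  have hb := hc.1.isBlk_subIdem hM
  have hD := (hc.1.isDefectGroup_subgroupOf_iff hM hPK).1 hcD
  obtain ⟨e, he⟩ := hD.exists_isMaxPair le_rfl Subgroup.le_normalizer hb.mem hb.idem
  have hC : cenIn ⊤ P ≤ K :=
    inf_le_right.trans ((Subgroup.centralizer_le_normalizer _).trans hK)
  have h1 := (hc.indBlk hM).isPairOf le_top hb (hc.2.1.isBlk_top hM) he.pairOf hC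
  exact ⟨e, ⟨hM, hc.2.1, h1.isMaxPair_of_isDefGrp ((hc.2.1.isDefectGroup_iff hM).1 hP)⟩,
    he⟩

/-- for abelian defect groups a block is nilpotent iff its Brauer correspondent is -/
theorem IsInducedBlock.isNilpotentBlock_iff_of_normalizer_le (hM : IsPModular p M)
    (hP : IsDefectGroup p M B P) (hab : P ≤ Subgroup.centralizer (P : Set G)) {K : Subgroup G}
    (hK : Subgroup.normalizer (P : Set G) ≤ K)
    {c : Set (IrrCharacter K)} (hcD : IsDefectGroup p M c (P.subgroupOf K))
    (hc : IsInducedBlock M K c B) : IsNilpotentBlock p M c ↔ IsNilpotentBlock p M B := by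
  have := hM.fact_prime
  have := hM.charP
  obtain ⟨e, S, he⟩ := hc.exists_isMaxPair_of_normalizer_le hM hP hK hcD
  rw [hc.1.isNilpotentBlock_iff_sub hM, S.isNilpotentBlock_iff_of_comm hab,
    he.isNilpGA_iff_of_comm le_rfl Subgroup.le_normalizer (hc.1.isBlk_subIdem hM) hab]
  have : pairStab K P e = pairStab ⊤ P e := by
    ext x
    rw [mem_pairStab, mem_pairStab]
    exact ⟨fun h => ⟨trivial, h.2⟩, fun h => ⟨hK h.2.1, h.2⟩⟩
  rw [this]

end frame

end Cfsg
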