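import Cfsg.Agent.Blk.PrinRep
import Cfsg.Agent.S4702

/-! Brauer's theorem on perfect groups with a Sylow subgroup of prime order. -/

set_option autoImplicit false
set_option linter.unusedSectionVars false

namespace Cfsg

universe u v

variable {G : Type u} [Group G]

/-- `n = (h u p + u² + u + h)/(u + 1)` with positive `h`, `u` -/
def HasBrauerRep (p n : ℕ) : Prop :=
  ∃ h u : ℕ, 0 < h ∧ 0 < u ∧ n * (u + 1) = h * u * p + u ^ 2 + u + h

theorem hasBrauerRep_of_mul {m n d e u k : ℕ} (hm : 0 < m) (h : d * e = m * (1 + n * (m + 1)))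
    (hd : d = 1 + u * (m + 1)) (he : e + 1 = k * (m + 1)) :
    u = 0 ∨ k = 1 ∨ HasBrauerRep (m + 1) n := by
  rcases Nat.eq_zero_or_pos u with hu | hu
  · exact Or.inl hu
  rcases k with _ | _ | j
  · omega
  · exact Or.inr (Or.inl rfl)
  refine Or.inr (Or.inr ?_)
  have h1 : n * m = (j + 1) * (u + 1) + u * (j + 2) * m := by
    refine Nat.eq_of_mul_eq_mul_left (Nat.succ_pos m) ?_
    have h2 : d * (e + 1) = m * (1 + n * (m + 1)) + d := by rw [mul_add, h, mul_one]
    rw [he, hd] at h2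
    simp only [Nat.succ_eq_add_one]
    linarith
  obtain ⟨c, hc⟩ : m ∣ (j + 1) * (u + 1) :=
    (Nat.dvd_add_left (dvd_mul_left m _)).1 (h1 ▸ dvd_mul_left m n)
  have h2 : n = c + u * (j + 2) := Nat.eq_of_mul_eq_mul_right hm (by rw [h1, hc]; ring)
  refine ⟨c, u, Nat.pos_of_ne_zero fun h0 => ?_, hu, ?_⟩
  · rw [h0] at hc
    simp at hc
  · rw [h2]
    linear_combination u * hc

theorem dvd_cases_of_not_hasBrauerRep {p n d : ℕ} (hp : 2 ≤ p) (h : ¬ HasBrauerRep p n)
    (hd : d ∣ (p - 1) * (1 + n * p)) :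
    (∀ u, d = 1 + u * p → d = 1 ∨ d = 1 + n * p) ∧
    (∀ k, d + 1 = k * p → d + 1 = p ∨ d = (p - 1) * (1 + n * p)) := by
  obtain ⟨m, rfl⟩ : ∃ m, p = m + 1 := ⟨p - 1, by omega⟩
  simp only [Nat.add_sub_cancel] at hd ⊢
  obtain ⟨e, he⟩ := hd
  have hm : 0 < m := by omega
  constructor
  · intro u hu
    obtain ⟨k, hk⟩ : m + 1 ∣ e + 1 := by
      have h1 : e + 1 + (m + 1) * (u * e) = (m + 1) * (1 + n * m) := by
        rw [hu] at he
        linarith
      exact (Nat.dvd_add_left (dvd_mul_right _ _)).1 (h1 ▸ dvd_mul_right _ _)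
    rcases hasBrauerRep_of_mul hm he.symm hu (hk.trans (mul_comm _ _)) with h1 | h1 | h1
    · left; rw [hu, h1]; simp
    · right
      rw [h1, mul_one, add_left_inj] at hk
      rw [hk, mul_comm d] at he
      exact (Nat.eq_of_mul_eq_mul_left hm he).symm
    · exact (h h1).elim
  · intro k hk
    have he0 : 0 < e := Nat.pos_of_ne_zero fun h0 => by
      rw [h0, mul_zero] at he
      exact (Nat.mul_pos hm (by omega)).ne' he
    obtain ⟨e, rfl⟩ : ∃ e', e = e' + 1 := ⟨e - 1, by omega⟩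
    obtain ⟨u, hu⟩ : m + 1 ∣ e := by
      have h1 : (m + 1) * (1 + n * m) + e = (m + 1) * (k * (e + 1)) := by
        have h2 : (d + 1) * (e + 1) = m * (1 + n * (m + 1)) + (e + 1) := by rw [he]; ring
        rw [hk] at h2
        linarith
      exact (Nat.dvd_add_right (dvd_mul_right _ _)).1 (h1 ▸ dvd_mul_right _ _)
    rcases hasBrauerRep_of_mul (u := u) hm (he.trans (mul_comm _ _)).symm (by rw [hu]; ring) hk
      with h1 | h1 | h1
    · right; rw [he, hu, h1]; simp
    · left; rw [hk, h1, one_mul]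
    · exact (h h1).elim

theorem hasBrauerRep_of_dvd {p n m : ℕ} (hp : 2 ≤ p) (hm : 0 < m) (hne : m ≠ n)
    (h : 1 + m * p ∣ 1 + n * p) : HasBrauerRep p n := by
  obtain ⟨e, he⟩ := h
  have he0 : 0 < e := Nat.pos_of_ne_zero fun h0 => by
    rw [h0, mul_zero] at he
    omega
  obtain ⟨e, rfl⟩ : ∃ e', e = e' + 1 := ⟨e - 1, by omega⟩
  obtain ⟨k, rfl⟩ : p ∣ e := by
    have h1 : p * (m * (e + 1)) + e = p * n := by linarith
    exact (Nat.dvd_add_right (dvd_mul_right _ _)).1 (h1 ▸ dvd_mul_right _ _)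
  have h1 : n = m + k + m * k * p := Nat.eq_of_mul_eq_mul_left (by omega : 0 < p) (by linarith)
  refine ⟨k * (m + 1), m, Nat.mul_pos (Nat.pos_of_ne_zero fun h0 => hne ?_) m.succ_pos, hm, ?_⟩
  · rw [h1, h0]; simp
  · rw [h1]; ring

theorem HasBrauerRep.le {p n : ℕ} (h : HasBrauerRep p n) : p + 3 ≤ 2 * n := by
  obtain ⟨h, u, hh, hu, h1⟩ := h
  refine Nat.le_of_mul_le_mul_right (c := u + 1) ?_ u.succ_pos
  obtain ⟨h, rfl⟩ : ∃ h', h = h' + 1 := ⟨h - 1, by omega⟩
  obtain ⟨u, rfl⟩ : ∃ u', u = u' + 1 := ⟨u - 1, by omega⟩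
  nlinarith [Nat.zero_le (h * u * p), Nat.zero_le (h * p), Nat.zero_le (u * p), Nat.zero_le (u * u)]

theorem IrrCharacter.eq_triv_of_perfect [Finite G] (hperf : commutator G = ⊤) {χ : IrrCharacter G}
    (h : charDegree χ.1 = 1) : χ = IrrCharacter.triv G := by
  obtain ⟨f, rfl⟩ := χ.exists_eq_ofHom h
  rw [← IrrCharacter.ofHom_one]
  congr 1
  ext1 g
  exact Abelianization.commutator_subset_ker f (hperf ▸ Subgroup.mem_top g)

theorem PrinOne.two_le_of_perfect [Fintype G] (hperf : commutator G = ⊤) {p : ℕ} [Fact p.Prime]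
    {P : Subgroup G} (O : PrinOne p P) : 2 ≤ autIdx P := by
  by_contra h
  have h1 := O.autIdx_pos
  obtain ⟨ψ, hψ⟩ := O.Y_nonempty
  have h2 := O.degree_rel hψ
  rw [(Finset.eq_singleton_iff_unique_mem (s := O.X)).2 ⟨O.triv_mem, fun χ hχ =>
    Finset.card_le_one.1 (by rw [O.card_X]; omega) χ hχ _ O.triv_mem⟩, Finset.sum_singleton,
    O.δ_triv, IrrCharacter.charDegree_triv] at h2
  refine O.notMem ψ hψ (IrrCharacter.eq_triv_of_perfect hperf (χ := ψ) ?_ ▸ O.triv_mem)
  rcases O.δ₀_sign with h0 | h0 <;> rw [h0] at h2 <;> omega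

theorem two_le_autIdx_of_perfect [Finite G] (hperf : commutator G = ⊤) {p : ℕ} [Fact p.Prime]
    (P : Sylow p G) (hP : Nat.card P = p) : 2 ≤ autIdx (P : Subgroup G) :=
  have := Fintype.ofFinite G
  let ⟨O⟩ := exists_prinOne P hP
  O.two_le_of_perfect hperf

theorem index_sylN_ne_one_of_perfect [Finite G] (hperf : commutator G = ⊤) {p : ℕ}
    [hp : Fact p.Prime] (P : Sylow p G) (hP : Nat.card P = p) : (sylN P).index ≠ 1 := by
  intro h
  have h1 : ∀ g, g ∈ sylN P := (Subgroup.eq_top_iff' _).1 (Subgroup.index_eq_one.1 h)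
  have hP' : Nat.card (P : Subgroup G) = p := hP
  obtain ⟨φ, hφ⟩ := exists_hom_units_of_cyclic (T := sylN P) P.isPGroup'
    (isCyclic_of_prime_card hP') (by
      intro h
      rw [h, Subgroup.card_bot] at hP'
      exact hp.out.ne_one hP'.symm) le_rfl (fun h1 => P.not_dvd_index (h1.trans
        ((Subgroup.relIndex_dvd_index_of_le (Subgroup.centralizer_le_normalizer _)).trans
          (Subgroup.index_dvd_of_le (le_centralizer_of_card_prime hP')))))
  have h2 := two_le_autIdx_of_perfect hperf P hP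
  rw [autIdx, Subgroup.relIndex_eq_one.2 fun g _ => ?_] at h2
  · omega
  · have := Abelianization.commutator_subset_ker (φ.comp ((MonoidHom.id G).codRestrict _ h1))
      (hperf ▸ Subgroup.mem_top g)
    have h3 : (⟨g, h1 g⟩ : sylN P) ∈ φ.ker := this
    rwa [hφ] at h3

theorem PrinOne.repCfg [Fintype G] (hperf : commutator G = ⊤) {p : ℕ} [hp : Fact p.Prime]
    {P : Sylow p G} (hP : Nat.card P = p) (hO : pPrimeCore p G = ⊥) {n : ℕ}
    (hn : (sylN P).index = 1 + n * p) (h : ¬ HasBrauerRep p n) (O : PrinOne p (P : Subgroup G)) :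
    RepCfg p P O n := by
  classical
  have hq := O.two_le_of_perfect hperf
  have ht := O.card_Y_mul
  have ht0 := O.card_Y_pos
  have hp3 : 3 ≤ p := by nlinarith
  have hn0 : 0 < n := Nat.pos_of_ne_zero fun h0 =>
    index_sylN_ne_one_of_perfect hperf P hP (by rw [hn, h0]; simp)
  have hC : (Subgroup.centralizer ((P : Subgroup G) : Set G)).index =
      autIdx (P : Subgroup G) * (1 + n * p) := by
    rw [← hn, Subgroup.relIndex_mul_index (Subgroup.centralizer_le_normalizer _)]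
  have hX : ∀ χ ∈ O.X, χ ≠ IrrCharacter.triv G → (O.δ χ = 1 ∧ charDegree χ.1 = 1 + n * p) ∨
      (O.δ χ = -1 ∧ (charDegree χ.1 + 1 = p ∨ charDegree χ.1 = (p - 1) * (1 + n * p))) := by
    intro χ hχ h1
    have h2 := dvd_cases_of_not_hasBrauerRep hp.out.two_le h ((O.X_dvd hP hχ).trans (by
      rw [hC, ← O.card_Y]
      exact mul_dvd_mul_right (dvd_mul_left _ _) _))
    have h3 := O.fixDim_X hP hχ
    have h4 := χ.charDegree_pos
    rcases O.δ_sign χ hχ with h5 | h5 <;> rw [h5] at h3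
    · refine Or.inl ⟨h5, (h2.1 (fixDim (P : Subgroup G) χ.1 - 1) ?_).resolve_left
        fun h6 => h1 (IrrCharacter.eq_triv_of_perfect hperf h6)⟩
      rcases hf : fixDim (P : Subgroup G) χ.1 with _ | k <;> rw [hf] at h3
      · omega
      · simp only [Nat.add_sub_cancel]
        push_cast at h3
        zify
        linarith
    · refine Or.inr ⟨h5, h2.2 (fixDim (P : Subgroup G) χ.1 + 1) ?_⟩
      zify
      linarith
  have hY : ∀ ψ ∈ O.Y, (O.δ₀ = 1 ∧ O.Y.card * charDegree ψ.1 = 1 + n * p) ∨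
      (O.δ₀ = -1 ∧ (charDegree ψ.1 = autIdx (P : Subgroup G) ∨
        charDegree ψ.1 = autIdx (P : Subgroup G) * (1 + n * p))) := by
    intro ψ hψ
    have h2 := dvd_cases_of_not_hasBrauerRep (d := O.Y.card * charDegree ψ.1) hp.out.two_le h (by
      rw [← O.card_Y, mul_assoc, ← hC]
      exact mul_dvd_mul_left _ (O.Y_dvd hP hψ))
    have h3 := O.fixDim_Y hP hψ
    have h4 := Nat.mul_pos ht0 ψ.charDegree_pos
    have ht' : (O.Y.card : ℤ) * autIdx (P : Subgroup G) + 1 = p := by exact_mod_cast ht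
    rcases O.δ₀_sign with h5 | h5 <;> rw [h5] at h3
    · refine Or.inl ⟨h5, (h2.1 (O.Y.card * fixDim (P : Subgroup G) ψ.1 - 1) ?_).resolve_left
        fun h6 => O.notMem ψ hψ (IrrCharacter.eq_triv_of_perfect hperf
          (Nat.eq_one_of_mul_eq_one_left h6) ▸ O.triv_mem)⟩
      have h6 : (p : ℤ) * (O.Y.card * fixDim (P : Subgroup G) ψ.1 : ℕ) =
          (O.Y.card * charDegree ψ.1 : ℕ) + p - 1 := by
        push_cast
        linear_combination O.Y.card * h3 + ht'
      rcases hf : O.Y.card * fixDim (P : Subgroup G) ψ.1 with _ | k <;> rw [hf] at h6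
      · omega
      · simp only [Nat.add_sub_cancel]
        push_cast at h6
        zify
        linarith
    · refine Or.inr ⟨h5, (h2.2 (O.Y.card * fixDim (P : Subgroup G) ψ.1 + 1) ?_).imp
        (fun h6 => Nat.eq_of_mul_eq_mul_left ht0 (by omega))
        (fun h6 => Nat.eq_of_mul_eq_mul_left ht0 (by rw [h6, ← O.card_Y, mul_assoc]))⟩
      zify
      linear_combination -O.Y.card * h3 + ht'
  have hp0 : (p : ℤ) ≠ 0 := by exact_mod_cast hp.out.ne_zero
  have hex : ∃ χ : IrrCharacter G, (χ ∈ O.X ∨ χ ∈ O.Y) ∧ fixDim (P : Subgroup G) χ.1 = 0 ∧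
      charKer χ.1 = ⊥ := by
    by_contra! h1
    obtain ⟨ψ, hψ⟩ := O.Y_nonempty
    have h2 : 1 + n * p ∣ O.Y.card * charDegree ψ.1 := by
      rcases hY ψ hψ with h2 | ⟨h2, h3 | h3⟩
      · rw [h2.2]
      · refine (h1 ψ (Or.inr hψ) ?_ (O.charKer_Y_eq_bot hP hO hψ (by omega))).elim
        have h4 := O.fixDim_Y hP hψ
        rw [h2, h3, neg_one_mul, add_neg_cancel, mul_eq_zero] at h4
        exact_mod_cast h4.resolve_left hp0
      · rw [h3]
        exact Dvd.dvd.mul_left (dvd_mul_left _ _) _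
    have h3 : ∀ χ ∈ O.X.erase (IrrCharacter.triv G), 1 + n * p ∣ charDegree χ.1 := by
      intro χ hχ
      rw [Finset.mem_erase] at hχ
      rcases hX χ hχ.2 hχ.1 with h2 | ⟨h2, h3 | h3⟩
      · rw [h2.2]
      · refine (h1 χ (Or.inl hχ.2) ?_ (O.charKer_X_eq_bot hP hO hχ.2 (by omega))).elim
        have h4 := O.fixDim_X hP hχ.2
        have h5 : (charDegree χ.1 : ℤ) + 1 = p := by exact_mod_cast h3
        have h6 : (p : ℤ) * fixDim (P : Subgroup G) χ.1 = 0 := by rw [h4, h2]; linarith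
        exact_mod_cast (mul_eq_zero.1 h6).resolve_left hp0
      · rw [h3]
        exact dvd_mul_left _ _
    have h4 := O.degree_rel hψ
    rw [← Finset.add_sum_erase _ _ O.triv_mem, O.δ_triv, IrrCharacter.charDegree_triv] at h4
    have h5 : ((1 + n * p : ℕ) : ℤ) ∣ ∑ χ ∈ O.X.erase (IrrCharacter.triv G),
        O.δ χ * charDegree χ.1 :=
      Finset.dvd_sum fun χ hχ => (Int.natCast_dvd_natCast.2 (h3 χ hχ)).mul_left _
    have h6 : ((1 + n * p : ℕ) : ℤ) ∣ (O.Y.card : ℤ) := by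
      have h7 : (O.Y.card : ℤ) = -(O.δ₀ * (O.Y.card * charDegree ψ.1 : ℕ) + O.Y.card *
          ∑ χ ∈ O.X.erase (IrrCharacter.triv G), O.δ χ * charDegree χ.1) := by
        push_cast at h4 ⊢
        linear_combination O.Y.card * h4
      rw [h7, dvd_neg]
      exact dvd_add ((Int.natCast_dvd_natCast.2 h2).mul_left _) (h5.mul_left _)
    have h7 := Nat.le_of_dvd ht0 (Int.natCast_dvd_natCast.1 h6)
    nlinarith
  have hcen : Subgroup.centralizer ((P : Subgroup G) : Set G) ≤ P := by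
    intro c hc
    obtain ⟨χ, h1, h2, h3⟩ := hex
    have h4 := O.apply_eq_of_fixDim hP h1 h2 (pRegPart_mem p hc) (not_dvd_orderOf_pRegPart c)
    have h5 : pRegPart p c = 1 := by
      rw [← Subgroup.mem_bot, ← h3]
      exact χ.mem_charKer.2 h4
    obtain ⟨u, hu, hu1⟩ := exists_ne_one_of_card_prime (P := (P : Subgroup G)) hP
    exact mem_sylow_of_commute_of_card_prime P hP hu hu1
      (isPGroup_zpowers_iff.2 (pRegPart_eq_one_iff.1 h5)) (hc u hu)
  have H : SCP p P := ⟨hP, hcen⟩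
  have hG := H.card_G
  rw [← sum_charDegree_sq, hn] at hG
  refine ⟨H, by omega, hn, hn0, hq, fun χ hχ h1 => ?_, fun ψ hψ => ?_⟩
  · rcases hX χ hχ h1 with h2 | ⟨h2, h3 | h3⟩
    · exact Or.inr h2
    · exact Or.inl ⟨h2, h3⟩
    · have h4 := Finset.single_le_sum (f := fun χ : IrrCharacter G => charDegree χ.1 ^ 2)
        (fun _ _ => Nat.zero_le _) (Finset.mem_univ χ)
      rw [hG, h3] at h4
      obtain ⟨m, rfl⟩ : ∃ m, p = m + 1 := ⟨p - 1, by omega⟩
      simp only [Nat.add_sub_cancel] at h4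
      have h5 : autIdx (P : Subgroup G) ≤ m := by nlinarith
      have h6 : m * m * (1 + n * (m + 1)) ≤ (m + 1) * autIdx (P : Subgroup G) :=
        Nat.le_of_mul_le_mul_right (c := 1 + n * (m + 1)) (by linarith) (by omega)
      have h7 : m * (1 + n * (m + 1)) ≤ m + 1 :=
        Nat.le_of_mul_le_mul_left (by nlinarith : m * (m * (1 + n * (m + 1))) ≤ m * (m + 1))
          (by omega)
      nlinarith
  · rcases hY ψ hψ with h2 | ⟨h2, h3 | h3⟩
    · exact Or.inr h2
    · exact Or.inl ⟨h2, h3⟩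
    · have h4 := Finset.sum_le_sum_of_subset (f := fun χ : IrrCharacter G => charDegree χ.1 ^ 2)
        (Finset.subset_univ O.Y)
      rw [hG, Finset.sum_congr rfl fun ξ hξ => by rw [O.Y_deg_eq hξ hψ], Finset.sum_const,
        smul_eq_mul, h3] at h4
      have h5 : O.Y.card * autIdx (P : Subgroup G) * (1 + n * p) ≤ p :=
        Nat.le_of_mul_le_mul_right (c := autIdx (P : Subgroup G) * (1 + n * p)) (by linarith)
          (Nat.mul_pos (by omega) (by omega))
      nlinarith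

theorem brauer_prime_core [Finite G] (hperf : commutator G = ⊤) {p : ℕ} [hp : Fact p.Prime]
    (P : Sylow p G) (hP : Nat.card P = p) (hO : pPrimeCore p G = ⊥) {n : ℕ}
    (hn : Nat.card (Sylow p G) = 1 + n * p) (h : ¬ HasBrauerRep p n) :
    (n = 1 ∧ 3 < p ∧ 2 * Nat.card G = p * (p - 1) * (p + 1) ∧
      Nonempty (G ≃* Matrix.ProjectiveSpecialLinearGroup (Fin 2) (ZMod p))) ∨
    (n ≠ 1 ∧ 3 < p ∧ Nat.card G = p * (p - 1) * (p - 2) ∧
      ∃ (m : ℕ) (F : Type) (_ : Field F) (_ : Fintype F), Fintype.card F = 2 ^ m ∧ p = 2 ^ m + 1 ∧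
        Nonempty (G ≃* Matrix.SpecialLinearGroup (Fin 2) F)) := by
  have := Fintype.ofFinite G
  obtain ⟨O⟩ := exists_prinOne P hP
  have H := O.repCfg hperf hP hO (P.card_eq_index_normalizer.symm.trans hn) h
  have h2 := H.two_le
  rcases H.main hO with ⟨h3, h4, h5⟩ | ⟨h3, -, ζ, Q⟩
  · refine Or.inl ⟨h3, by omega, ?_, h5⟩
    rw [H.card_G, H.idx, h3, show p - 1 = 2 * autIdx (P : Subgroup G) by omega]
    ring
  · obtain ⟨β, _, _, K, hβ, ⟨e⟩, h4, hfix⟩ := Q.exists_perm
    have h5 := Q.five_le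
    obtain ⟨a, -, ha, F, _, _, hF, ⟨e'⟩⟩ := Cfsg.Agent.S4702.result (α := β) (by omega)
      (by rw [hβ]; exact hp.out.odd_of_ne_two (by omega)) K h4 hfix
    exact Or.inr ⟨h3, by omega, Q.card_eq, a, F, inferInstance, inferInstance, hF,
      hβ.symm.trans ha, ⟨e.trans e'⟩⟩

/-- A perfect group with `O_{p'} = 1` and `p + 1` Sylow subgroups of order `p` is `PSL(2, p)`. -/
theorem psl2_of_card_sylow [Finite G] (hperf : commutator G = ⊤) {p : ℕ} [hp : Fact p.Prime]
    (P : Sylow p G) (hP : Nat.card P = p) (hO : pPrimeCore p G = ⊥)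
    (hn : Nat.card (Sylow p G) = p + 1) :
    3 < p ∧ Nonempty (G ≃* Matrix.ProjectiveSpecialLinearGroup (Fin 2) (ZMod p)) := by
  rcases brauer_prime_core hperf P hP hO (n := 1) (by rw [hn]; ring) (fun h => by
    have := h.le
    omega) with h | h
  · exact ⟨h.2.1, h.2.2.2⟩
  · exact (h.1 rfl).elim

theorem card_sylow_quotient_pPrimeCore [Finite G] {p : ℕ} [hp : Fact p.Prime] (P : Sylow p G)
    (Q : Sylow p (G ⧸ pPrimeCore p G)) : Nat.card Q = Nat.card P := by
  have h1 := Subgroup.card_eq_card_quotient_mul_card_subgroup (pPrimeCore p G)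
  have h2 := Q.card_eq_multiplicity
  have h3 := P.card_eq_multiplicity
  rw [h1, Nat.factorization_mul Nat.card_pos.ne' Nat.card_pos.ne', Finsupp.add_apply,
    Nat.factorization_eq_zero_of_not_dvd (not_dvd_card_pPrimeCore p), add_zero] at h3
  exact h2.trans h3.symm

theorem card_sylow_dvd_of_surjective [Finite G] {K : Type v} [Group K] {p : ℕ} [hp : Fact p.Prime]
    (f : G →* K) (hf : Function.Surjective f) : Nat.card (Sylow p K) ∣ Nat.card (Sylow p G) := by
  have := Finite.of_surjective f hf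
  obtain ⟨P⟩ : Nonempty (Sylow p G) := inferInstance
  rw [P.card_eq_index_normalizer, (P.mapSurjective hf).card_eq_index_normalizer]
  exact (Subgroup.index_dvd_of_le (Subgroup.le_normalizer_map f)).trans (Subgroup.index_map_dvd _ hf)

theorem brauer_prime [Finite G] (hperf : commutator G = ⊤) {p : ℕ} [hp : Fact p.Prime]
    (P : Sylow p G) (hP : Nat.card P = p) {n : ℕ}
    (hn : Nat.card (Sylow p G) = 1 + n * p) (h : ¬ HasBrauerRep p n) :
    (n = 1 ∧ 3 < p ∧ 2 * Nat.card (G ⧸ pPrimeCore p G) = p * (p - 1) * (p + 1) ∧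
      Nonempty (G ⧸ pPrimeCore p G ≃* Matrix.ProjectiveSpecialLinearGroup (Fin 2) (ZMod p))) ∨
    (n ≠ 1 ∧ 3 < p ∧ Nat.card (G ⧸ pPrimeCore p G) = p * (p - 1) * (p - 2) ∧
      ∃ (m : ℕ) (F : Type) (_ : Field F) (_ : Fintype F), Fintype.card F = 2 ^ m ∧ p = 2 ^ m + 1 ∧
        Nonempty (G ⧸ pPrimeCore p G ≃* Matrix.SpecialLinearGroup (Fin 2) F)) := by
  obtain ⟨Q⟩ : Nonempty (Sylow p (G ⧸ pPrimeCore p G)) := inferInstance
  have hQ := (card_sylow_quotient_pPrimeCore P Q).trans hP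
  have hperf' : commutator (G ⧸ pPrimeCore p G) = ⊤ := by
    have := Subgroup.map_commutator ⊤ ⊤ (QuotientGroup.mk' (pPrimeCore p G))
    rw [← commutator_def, hperf, Subgroup.map_top_of_surjective _ (QuotientGroup.mk'_surjective _),
      ← commutator_def] at this
    exact this.symm
  have h1 := card_sylow_modEq_one p (G ⧸ pPrimeCore p G)
  obtain ⟨m, hm⟩ := (Nat.modEq_iff_dvd' Nat.card_pos).1 h1.symm
  have h2 : Nat.card (Sylow p (G ⧸ pPrimeCore p G)) = 1 + m * p := by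
    have := Nat.card_pos (α := Sylow p (G ⧸ pPrimeCore p G))
    rw [mul_comm] at hm
    omega
  have h3 : 0 < m := Nat.pos_of_ne_zero fun h0 => index_sylN_ne_one_of_perfect hperf' Q hQ
    (Q.card_eq_index_normalizer.symm.trans (by rw [h2, h0]; simp))
  obtain rfl : m = n := by
    by_contra h4
    refine h (hasBrauerRep_of_dvd hp.out.two_le h3 h4 ?_)
    rw [← h2, ← hn]
    exact card_sylow_dvd_of_surjective _ (QuotientGroup.mk'_surjective _)
  exact brauer_prime_core hperf' Q hQ (pPrimeCore_quotient_pPrimeCore p) h2 h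

end Cfsg
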