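import Cfsg.Agent.Blk.SylowTheta
import Cfsg.Agent.Grp.PSL2Rec

/-! Brauer's theorem on groups with a Sylow subgroup of prime order: the case of few degrees. -/

set_option autoImplicit false
set_option linter.unusedSectionVars false

namespace Cfsg

open scoped ComplexConjugate

universe u v

variable {G : Type u} [Group G]

namespace PrinOne

variable [Fintype G] {p : ℕ} [hp : Fact p.Prime] {P : Subgroup G} (O : PrinOne p P)

/-- the characters outside the principal block -/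
noncomputable def Z : Finset (IrrCharacter G) :=
  open Classical in Finset.univ.filter fun χ => χ ∉ O.X ∧ χ ∉ O.Y

theorem mem_Z {χ : IrrCharacter G} : χ ∈ O.Z ↔ χ ∉ O.X ∧ χ ∉ O.Y := by simp [Z]

theorem sum_split {M : Type*} [AddCommMonoid M] (F : IrrCharacter G → M) :
    ∑ χ, F χ = ∑ χ ∈ O.X, F χ + ∑ χ ∈ O.Y, F χ + ∑ χ ∈ O.Z, F χ := by
  classical
  rw [← Finset.sum_union (Finset.disjoint_right.2 O.notMem),
    ← Finset.sum_add_sum_compl (O.X ∪ O.Y)]
  congr 1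
  exact Finset.sum_congr (by ext χ; simp [mem_Z]) fun _ _ => rfl

theorem sum_δ_fixDim (hP : Nat.card P = p) {ψ : IrrCharacter G} (hψ : ψ ∈ O.Y) :
    O.δ₀ * fixDim P ψ.1 + ∑ χ ∈ O.X, O.δ χ * fixDim P χ.1 = autIdx P := by
  refine mul_left_cancel₀ (a := (p : ℤ)) (by exact_mod_cast hp.out.ne_zero) ?_
  have h1 : (p : ℤ) * ∑ χ ∈ O.X, O.δ χ * fixDim P χ.1 =
      ∑ χ ∈ O.X, O.δ χ * charDegree χ.1 + (p - 1) * autIdx P := by
    rw [← O.card_X, Finset.mul_sum, mul_comm ((p : ℤ) - 1), ← nsmul_eq_mul, ← Finset.sum_const,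
      ← Finset.sum_add_distrib]
    refine Finset.sum_congr rfl fun χ hχ => ?_
    have h2 := O.fixDim_X hP hχ
    rcases O.δ_sign χ hχ with h | h <;> rw [h] at h2 ⊢ <;> linarith
  have h2 := O.fixDim_Y hP hψ
  have h3 := O.degree_rel hψ
  rcases O.δ₀_sign with h | h <;> rw [h] at h2 h3 ⊢ <;> linarith

theorem Y_fixDim_eq (hP : Nat.card P = p) {ψ ψ' : IrrCharacter G} (h : ψ ∈ O.Y) (h' : ψ' ∈ O.Y) :
    fixDim P ψ.1 = fixDim P ψ'.1 := by
  have h1 := O.fixDim_Y hP h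
  rw [O.Y_deg_eq h h', ← O.fixDim_Y hP h'] at h1
  exact_mod_cast mul_left_cancel₀ (by exact_mod_cast hp.out.ne_zero) h1

theorem card_Y_mul : O.Y.card * autIdx P + 1 = p := by
  have := hp.out.pos
  rw [O.card_Y]
  omega

theorem classInner_mul_conj_ne_zero {ψ ψ' ζ : IrrCharacter G} (hψ : ψ ∈ O.Y) (hψ' : ψ' ∈ O.Y)
    (hne : ψ ≠ ψ') (hζ : ζ ∈ O.X) (h1 : O.δ ζ = 1) :
    classInner (ψ.1 * fun g => conj (ψ.1 g)) ζ.1 ≠ 0 := by
  have h2 := O.inner_X_of_reg (f := (ψ.1 * fun g => conj (ψ.1 g)) - ψ.1 * fun g => conj (ψ'.1 g))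
    (fun g hg => by simp [O.Y_reg_eq hψ hψ' hg]) hζ
  rw [classInner_sub_left, classInner_sub_left, classInner_mul_left _ _ fun _ => 1,
    classInner_mul_left _ _ fun _ => 1, h1] at h2
  have h3 : ∀ ξ : IrrCharacter G, ((fun _ => 1) * fun g => conj (conj (ξ.1 g))) = ξ.1 := by
    intro ξ; funext g; simp
  rw [h3, h3, ψ.classInner_self, IrrCharacter.classInner_of_ne hne,
    ← (ψ.isCharacter.mul ψ'.isCharacter.conj).cast_cmult ζ.isCharacter] at h2
  intro h4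
  rw [h4] at h2
  have h5 : ((cmult (ψ.1 * fun g => conj (ψ'.1 g)) ζ.1 + 1 : ℕ) : ℂ) = 0 := by
    push_cast at h2 ⊢
    linear_combination -h2
  exact Nat.succ_ne_zero _ (Nat.cast_eq_zero.1 h5)

end PrinOne

theorem cmult_irr [Fintype G] (χ ψ : IrrCharacter G) [Decidable (χ = ψ)] :
    cmult χ.1 ψ.1 = if χ = ψ then 1 else 0 := by
  refine cmult_eq_of ?_
  split_ifs with h
  · rw [h, ψ.classInner_self, Nat.cast_one]
  · rw [IrrCharacter.classInner_of_ne h, Nat.cast_zero]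

/-- All degrees in the principal block are of the shapes `1`, `p - 1`, `1 + n p`. -/
structure RepCfg [Fintype G] (p : ℕ) (P : Sylow p G) (O : PrinOne p (P : Subgroup G)) (n : ℕ) :
    Prop extends SCP p P where
  ne_two : p ≠ 2
  idx : (sylN P).index = 1 + n * p
  n_pos : 0 < n
  two_le : 2 ≤ autIdx (P : Subgroup G)
  X_deg : ∀ χ ∈ O.X, χ ≠ IrrCharacter.triv G →
    (O.δ χ = -1 ∧ charDegree χ.1 + 1 = p) ∨ (O.δ χ = 1 ∧ charDegree χ.1 = 1 + n * p)
  Y_deg : ∀ ψ ∈ O.Y, (O.δ₀ = -1 ∧ charDegree ψ.1 = autIdx (P : Subgroup G)) ∨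
    (O.δ₀ = 1 ∧ O.Y.card * charDegree ψ.1 = 1 + n * p)

namespace RepCfg

variable [Fintype G] {p : ℕ} [hp : Fact p.Prime] {P : Sylow p G}
  {O : PrinOne p (P : Subgroup G)} {n : ℕ} (H : RepCfg p P O n)
include H

theorem X_fix {χ : IrrCharacter G} (hχ : χ ∈ O.X) (h1 : χ ≠ IrrCharacter.triv G) :
    (O.δ χ = -1 ∧ fixDim (P : Subgroup G) χ.1 = 0) ∨
    (O.δ χ = 1 ∧ fixDim (P : Subgroup G) χ.1 = n + 1 ∧ charDegree χ.1 = 1 + n * p) := by
  have h2 := O.fixDim_X H.card hχ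
  have hp0 : (p : ℤ) ≠ 0 := by exact_mod_cast hp.out.ne_zero
  rcases H.X_deg χ hχ h1 with ⟨h3, h4⟩ | ⟨h3, h4⟩
  · refine Or.inl ⟨h3, ?_⟩
    have h5 : (charDegree χ.1 : ℤ) + 1 = p := by exact_mod_cast h4
    have : (p : ℤ) * fixDim (P : Subgroup G) χ.1 = p * (0 : ℕ) := by
      rw [h2, h3]; push_cast; linarith
    exact_mod_cast mul_left_cancel₀ hp0 this
  · refine Or.inr ⟨h3, ?_, h4⟩
    have : (p : ℤ) * fixDim (P : Subgroup G) χ.1 = p * (n + 1 : ℕ) := by
      rw [h2, h3, h4]; push_cast; ring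
    exact_mod_cast mul_left_cancel₀ hp0 this

theorem Y_fix {ψ : IrrCharacter G} (hψ : ψ ∈ O.Y) :
    (O.δ₀ = -1 ∧ fixDim (P : Subgroup G) ψ.1 = 0) ∨
    (O.δ₀ = 1 ∧ O.Y.card * fixDim (P : Subgroup G) ψ.1 = n + 1 ∧
      O.Y.card * charDegree ψ.1 = 1 + n * p) := by
  have h2 := O.fixDim_Y H.card hψ
  have hp0 : (p : ℤ) ≠ 0 := by exact_mod_cast hp.out.ne_zero
  rcases H.Y_deg ψ hψ with ⟨h3, h4⟩ | ⟨h3, h4⟩
  · refine Or.inl ⟨h3, ?_⟩
    have : (p : ℤ) * fixDim (P : Subgroup G) ψ.1 = p * (0 : ℕ) := by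
      rw [h2, h3, h4]; push_cast; ring
    exact_mod_cast mul_left_cancel₀ hp0 this
  · refine Or.inr ⟨h3, ?_, h4⟩
    have h5 : (O.Y.card : ℤ) * charDegree ψ.1 = 1 + n * p := by exact_mod_cast h4
    have h6 : (O.Y.card : ℤ) * autIdx (P : Subgroup G) + 1 = p := by exact_mod_cast O.card_Y_mul
    have : (p : ℤ) * (O.Y.card * fixDim (P : Subgroup G) ψ.1 : ℕ) = p * (n + 1 : ℕ) := by
      push_cast
      rw [mul_left_comm, h2, h3]
      linarith
    exact_mod_cast mul_left_cancel₀ hp0 this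

theorem sum_Z : ∑ χ ∈ O.Z, fixDim (P : Subgroup G) χ.1 ^ 2 = n := by
  classical
  obtain ⟨ψ, hψ⟩ := O.Y_nonempty
  have h1 := sum_fixDim_mul_charDegree (P : Subgroup G)
  rw [O.sum_split, H.index_P, H.idx] at h1
  have h2 := O.sum_δ_fixDim H.card hψ
  have h3 : ∑ χ ∈ O.Z, fixDim (P : Subgroup G) χ.1 * charDegree χ.1 =
      p * ∑ χ ∈ O.Z, fixDim (P : Subgroup G) χ.1 ^ 2 := by
    rw [Finset.mul_sum]
    refine Finset.sum_congr rfl fun χ hχ => ?_
    rw [← O.fixDim_other H.card H.cen (O.mem_Z.1 hχ).1 (O.mem_Z.1 hχ).2]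
    ring
  have h4 : ((∑ χ ∈ O.Y, fixDim (P : Subgroup G) χ.1 * charDegree χ.1 : ℕ) : ℤ) =
      O.δ₀ * fixDim (P : Subgroup G) ψ.1 * (1 + n * p) := by
    rw [Finset.sum_congr rfl fun χ hχ => by
      rw [O.Y_fixDim_eq H.card hχ hψ, O.Y_deg_eq hχ hψ], Finset.sum_const, smul_eq_mul]
    rcases H.Y_fix hψ with ⟨-, h⟩ | ⟨h, -, h'⟩
    · simp [h]
    · rw [mul_left_comm, h', h]; push_cast; ring
  have h5 : ((∑ χ ∈ O.X, fixDim (P : Subgroup G) χ.1 * charDegree χ.1 : ℕ) : ℤ) + n * p =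
      (∑ χ ∈ O.X, O.δ χ * fixDim (P : Subgroup G) χ.1) * (1 + n * p) := by
    rw [Finset.sum_mul, Nat.cast_sum, ← Finset.add_sum_erase _ _ O.triv_mem,
      ← Finset.add_sum_erase _ _ O.triv_mem, fixDim_triv, O.δ_triv, IrrCharacter.charDegree_triv,
      Finset.sum_congr rfl (g := fun χ => O.δ χ * fixDim (P : Subgroup G) χ.1 * (1 + n * p))
        fun χ hχ => by
          rcases H.X_fix (Finset.mem_of_mem_erase hχ) (Finset.ne_of_mem_erase hχ) with
            ⟨-, h⟩ | ⟨h, -, h'⟩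
          · simp [h]
          · rw [h, h']; push_cast; ring]
    push_cast
    ring
  rw [h3] at h1
  have h6 := congrArg (Nat.cast (R := ℤ)) h1
  rw [Nat.cast_add, Nat.cast_add, h4] at h6
  have h7 : (p : ℤ) * (∑ χ ∈ O.Z, fixDim (P : Subgroup G) χ.1 ^ 2 : ℕ) = p * n := by
    push_cast at h5 h6 ⊢
    linear_combination h6 - h5 - (1 + n * p) * h2
  exact_mod_cast mul_left_cancel₀ (by exact_mod_cast hp.out.ne_zero) h7

theorem theta_eq_of_X (μ : sylA P →* ℂˣ) {χ : IrrCharacter G} (hχ : χ ∈ O.X)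
    (h1 : χ ≠ IrrCharacter.triv G) (h : cmult (sylTheta P μ) χ.1 ≠ 0) : sylTheta P μ = χ.1 := by
  have h2 := H.cmult_sylTheta_le μ χ.isCharacter
  rcases H.X_fix hχ h1 with ⟨-, h3⟩ | ⟨-, -, h3⟩
  · omega
  · exact (isCharacter_sylTheta μ).eq_of_constituent_of_charDegree_eq χ
      (((isCharacter_sylTheta μ).cmult_ne_zero_iff χ.isCharacter).1 h)
      (by rw [charDegree_sylTheta, H.idx, h3])

theorem inner_theta (μ : sylA P →* ℂˣ) {ψ : IrrCharacter G} (hψ : ψ ∈ O.Y) :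
    O.δ₀ * cmult (sylTheta P μ) ψ.1 + ∑ χ ∈ O.X, O.δ χ * cmult (sylTheta P μ) χ.1 = 1 := by
  have h1 := O.inner_const hψ (f := sylTheta P μ) (c := 1) fun g hg => H.sylTheta_sing μ hg
  simp only [← (isCharacter_sylTheta μ).cast_cmult (IrrCharacter.isCharacter _)] at h1
  exact_mod_cast h1

theorem cmult_one_triv : cmult (sylTheta P 1) (IrrCharacter.triv G).1 = 1 := by
  rw [sylTheta_one, cmult_indFun_one _ (IrrCharacter.isCharacter _), fixDim_triv]

theorem cmult_one_X {χ : IrrCharacter G} (hχ : χ ∈ O.X) (h1 : χ ≠ IrrCharacter.triv G) :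
    cmult (sylTheta P 1) χ.1 = 0 := by
  classical
  by_contra h
  have h2 := H.cmult_one_triv
  rw [H.theta_eq_of_X 1 hχ h1 h, cmult_irr, if_neg h1] at h2
  omega

theorem sum_X_one {M : Type*} [AddCommMonoid M] (F : IrrCharacter G → ℕ → M)
    (h : ∀ χ, F χ 0 = 0) :
    ∑ χ ∈ O.X, F χ (cmult (sylTheta P 1) χ.1) = F (IrrCharacter.triv G) 1 := by
  rw [Finset.sum_eq_single_of_mem _ O.triv_mem fun χ hχ h1 => by rw [H.cmult_one_X hχ h1, h],
    H.cmult_one_triv]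

theorem cmult_one_Y {ψ : IrrCharacter G} (hψ : ψ ∈ O.Y) : cmult (sylTheta P 1) ψ.1 = 0 := by
  have h1 := H.inner_theta 1 hψ
  rw [H.sum_X_one (fun χ m => O.δ χ * m) (by simp), O.δ_triv] at h1
  rcases O.δ₀_sign with h | h <;> rw [h] at h1 <;> omega

theorem cmult_one_Z {χ : IrrCharacter G} (hχ : χ ∈ O.Z) :
    cmult (sylTheta P 1) χ.1 = fixDim (P : Subgroup G) χ.1 := by
  have h1 := (isCharacter_sylTheta (P := P) 1).charDegree_eq_sum_cmult
  rw [charDegree_sylTheta, H.idx, O.sum_split, H.sum_X_one (fun χ m => m * charDegree χ.1)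
    (by simp), Finset.sum_eq_zero fun ψ hψ => by rw [H.cmult_one_Y hψ, zero_mul],
    IrrCharacter.charDegree_triv, add_zero, mul_one, add_right_inj,
    Finset.sum_congr rfl (g := fun χ => cmult (sylTheta P 1) χ.1 * fixDim (P : Subgroup G) χ.1 * p)
      fun χ hχ => by
        rw [← O.fixDim_other H.card H.cen (O.mem_Z.1 hχ).1 (O.mem_Z.1 hχ).2]; ring,
    ← Finset.sum_mul, Nat.mul_left_inj hp.out.ne_zero, ← H.sum_Z] at h1
  have h2 := (Finset.sum_eq_sum_iff_of_le fun ξ _ => by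
    rw [pow_two]
    exact Nat.mul_le_mul_right _ (H.cmult_sylTheta_le 1 ξ.isCharacter)).1 h1.symm χ hχ
  have h3 := H.cmult_sylTheta_le 1 χ.isCharacter
  rw [pow_two] at h2
  rcases Nat.eq_zero_or_pos (fixDim (P : Subgroup G) χ.1) with h | h
  · omega
  · exact Nat.eq_of_mul_eq_mul_right h h2

theorem norm_one : cmult (sylTheta P 1) (sylTheta P 1) = n + 1 := by
  rw [(isCharacter_sylTheta 1).cmult_self_eq_sum, O.sum_split, H.sum_X_one (fun _ m => m ^ 2)
    (by simp), Finset.sum_eq_zero fun ψ hψ => by rw [H.cmult_one_Y hψ]; simp,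
    Finset.sum_congr rfl fun χ hχ => by rw [H.cmult_one_Z hχ], H.sum_Z]
  ring

theorem theta_cases {μ : sylA P →* ℂˣ} (hμ : μ ≠ 1) :
    ((∀ ψ ∈ O.Y, cmult (sylTheta P μ) ψ.1 = 0) ∧ cmult (sylTheta P μ) (sylTheta P μ) = 1) ∨
    (O.δ₀ = 1 ∧ (∀ ψ ∈ O.Y, cmult (sylTheta P μ) ψ.1 = 1) ∧
      (∀ g, sylTheta P μ g = ∑ ψ ∈ O.Y, ψ.1 g) ∧
      cmult (sylTheta P μ) (sylTheta P μ) = O.Y.card) := by
  classical
  by_cases h : ∃ χ ∈ O.X, cmult (sylTheta P μ) χ.1 ≠ 0
  · obtain ⟨χ, hχ, h⟩ := h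
    have h1 : χ ≠ IrrCharacter.triv G := by
      rintro rfl
      exact h (cmult_sylTheta_triv hμ)
    rw [H.theta_eq_of_X μ hχ h1 h]
    refine Or.inl ⟨fun ψ hψ => ?_, by rw [cmult_irr, if_pos rfl]⟩
    rw [cmult_irr, if_neg fun h2 : χ = ψ => O.notMem ψ hψ (h2 ▸ hχ)]
  · push Not at h
    have h1 : ∀ ψ ∈ O.Y, O.δ₀ = 1 ∧ cmult (sylTheta P μ) ψ.1 = 1 := by
      intro ψ hψ
      have h1 := H.inner_theta μ hψ
      rw [Finset.sum_eq_zero fun χ hχ => by rw [h χ hχ]; simp] at h1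
      rcases O.δ₀_sign with h | h <;> rw [h] at h1 <;> omega
    obtain ⟨ψ, hψ⟩ := O.Y_nonempty
    have h2 := (h1 ψ hψ).1
    have h3 : ∀ g, sylTheta P μ g = ∑ ψ ∈ O.Y, ψ.1 g := by
      refine (isCharacter_sylTheta μ).eq_sum_of_charDegree_le _ (fun ξ hξ => ?_) ?_
      · rw [← (isCharacter_sylTheta μ).cmult_ne_zero_iff ξ.isCharacter, (h1 ξ hξ).2]
        exact one_ne_zero
      · rw [charDegree_sylTheta, H.idx, O.sum_Y_deg hψ]
        rcases H.Y_fix hψ with ⟨h4, -⟩ | ⟨-, -, h4⟩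
        · omega
        · exact h4.ge
    refine Or.inr ⟨h2, fun ξ hξ => (h1 ξ hξ).2, h3, cmult_eq_of ?_⟩
    nth_rw 2 [show sylTheta P μ = ∑ ψ ∈ O.Y, ψ.1 from funext fun g => by
      rw [h3, Finset.sum_apply]]
    rw [classInner_sum_right, Finset.sum_congr rfl fun ξ hξ => by
      rw [← (isCharacter_sylTheta μ).cast_cmult ξ.isCharacter, (h1 ξ hξ).2]]
    simp

theorem card_fixedBy_eq {y : G} (hy : y ∈ sylN P) (hyP : y ∉ (P : Subgroup G)) :
    Nat.card (MulAction.fixedBy (G ⧸ sylN P) y) = n + 1 := by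
  have h1 := H.sum_card_fixedBy_sylOut
  have h2 := H.card_sylOut
  rw [H.norm_one, H.idx, ← h2] at h1
  have h3 : ∑ y ∈ sylOut P, Nat.card (MulAction.fixedBy (G ⧸ sylN P) (y : G)) =
      ∑ _y ∈ sylOut P, (n + 1) := by
    rw [Finset.sum_const, smul_eq_mul]
    linarith
  refine (Finset.sum_eq_sum_iff_of_le fun z hz => ?_).1 h3 ⟨y, hy⟩ (mem_sylOut.2 hyP)
  have h4 := H.card_fixedBy_le z.2 (mem_sylOut.1 hz)
  rw [H.idx] at h4
  exact Nat.le_of_mul_le_mul_left (by linarith) hp.out.pos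

theorem exists_sign (h : 2 ∣ autIdx (P : Subgroup G)) :
    ∃ μ : sylA P →* ℂˣ, μ ≠ 1 ∧ cmult (sylTheta P μ) (sylTheta P μ) = n + 1 ∧
      ∀ g, sylTheta P μ g = sylTheta P 1 g ∨ sylTheta P μ g = -sylTheta P 1 g := by
  obtain ⟨μ, h1, h2⟩ := H.exists_sign_theta h
  refine ⟨μ, h1, ?_, h2⟩
  rw [← H.norm_one]
  refine cmult_eq_of ?_
  rw [(isCharacter_sylTheta 1).cast_cmult (isCharacter_sylTheta 1), classInner_def, classInner_def]
  congr 1
  refine Finset.sum_congr rfl fun g _ => ?_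
  rcases h2 g with h | h <;> simp [h]

omit H in
theorem _root_.Cfsg.SCP.centralizer_le_of_card (H : SCP p P) {y : G} (hy : y ∈ sylN P)
    (hyP : y ∉ (P : Subgroup G))
    (h : Nat.card (Subgroup.centralizer ({y} : Set G)) = autIdx (P : Subgroup G)) :
    Subgroup.centralizer ({y} : Set G) ≤ sylN P :=
  inf_eq_left.1 (Subgroup.eq_of_le_of_card_ge inf_le_left
    (by rw [h, H.card_centralizer_inf hy hyP]))

omit H in
theorem _root_.Cfsg.SCP.le_card_centralizer (H : SCP p P) {y : G} (hy : y ∈ sylN P)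
    (hyP : y ∉ (P : Subgroup G)) :
    autIdx (P : Subgroup G) ≤ Nat.card (Subgroup.centralizer ({y} : Set G)) := by
  rw [← H.card_centralizer_inf hy hyP]
  exact Subgroup.card_le_of_le inf_le_left

section neg

theorem norm_of_neg (h0 : O.δ₀ = -1) {μ : sylA P →* ℂˣ} (hμ : μ ≠ 1) :
    cmult (sylTheta P μ) (sylTheta P μ) = 1 := by
  rcases H.theta_cases hμ with h | h
  · exact h.2
  · omega

theorem odd_of_neg (h0 : O.δ₀ = -1) : ¬ 2 ∣ autIdx (P : Subgroup G) := by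
  intro h
  obtain ⟨μ, h1, h2, -⟩ := H.exists_sign h
  have := H.n_pos
  rw [H.norm_of_neg h0 h1] at h2
  omega

theorem centralizer_le_of_neg (h0 : O.δ₀ = -1) {y : G} (hy : y ∈ sylN P)
    (hyP : y ∉ (P : Subgroup G)) : Subgroup.centralizer ({y} : Set G) ≤ sylN P := by
  classical
  have := Fintype.ofFinite (sylA P →* ℂˣ)
  have h1 := H.sum_card_centralizer
  have h2 := H.card_sylOut
  have h3 := H.two_le
  rw [← Finset.add_sum_erase _ _ (Finset.mem_univ 1), H.norm_one, H.idx,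
    Finset.sum_congr rfl fun μ hμ => H.norm_of_neg h0 (Finset.ne_of_mem_erase hμ),
    Finset.sum_const, Finset.card_erase_of_mem (Finset.mem_univ _), Finset.card_univ, H.card_dual,
    smul_eq_mul, mul_one] at h1
  have h4 : ∑ _y ∈ sylOut P, autIdx (P : Subgroup G) =
      ∑ y ∈ sylOut P, Nat.card (Subgroup.centralizer ({(y : G)} : Set G)) := by
    rw [Finset.sum_const, smul_eq_mul]
    obtain ⟨r, hr⟩ : ∃ r, autIdx (P : Subgroup G) = r + 1 := ⟨autIdx (P : Subgroup G) - 1, by omega⟩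
    rw [hr] at h1 h2 ⊢
    simp only [Nat.add_sub_cancel] at h1
    have h5 : (sylOut P).card = p * r := by linarith
    rw [h5]
    linarith
  exact H.centralizer_le_of_card hy hyP ((Finset.sum_eq_sum_iff_of_le fun z hz =>
    H.le_card_centralizer z.2 (mem_sylOut.1 hz)).1 h4 ⟨y, hy⟩ (mem_sylOut.2 hyP)).symm

theorem eq_of_neg (h0 : O.δ₀ = -1) : n = 1 ∧ O.Y.card = 2 := by
  classical
  have h1 := O.card_Y_mul
  have h2 : 1 < O.Y.card := by
    have h3 := H.odd_of_neg h0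
    have h4 := O.card_Y_pos
    have h5 := hp.out.eq_two_or_odd.resolve_left H.ne_two
    by_contra h6
    rw [show O.Y.card = 1 by omega] at h1
    omega
  obtain ⟨ψ, hψ, ψ', hψ', hne⟩ := Finset.one_lt_card.1 h2
  set S := (O.X.erase (IrrCharacter.triv G)).filter fun χ => O.δ χ = 1 with hS
  have hSm : ∀ χ ∈ S, χ ∈ O.X ∧ O.δ χ = 1 ∧ charDegree χ.1 = 1 + n * p := by
    intro χ hχ
    rw [hS, Finset.mem_filter, Finset.mem_erase] at hχ
    rcases H.X_fix hχ.1.2 hχ.1.1 with h | h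
    · omega
    · exact ⟨hχ.1.2, h.1, h.2.2⟩
  have h3 := O.sum_δ_fixDim H.card hψ
  have h4 : fixDim (P : Subgroup G) ψ.1 = 0 := by
    rcases H.Y_fix hψ with h | h
    · exact h.2
    · omega
  rw [h4, ← Finset.add_sum_erase _ _ O.triv_mem, fixDim_triv, O.δ_triv,
    Finset.sum_congr rfl (g := fun χ => if O.δ χ = 1 then (n + 1 : ℤ) else 0) fun χ hχ => by
      rcases H.X_fix (Finset.mem_of_mem_erase hχ) (Finset.ne_of_mem_erase hχ) with h | h
      · simp [h.1, h.2]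
      · simp [h.1, h.2.1],
    ← Finset.sum_filter, ← hS, Finset.sum_const, nsmul_eq_mul] at h3
  have h5 : autIdx (P : Subgroup G) = 1 + S.card * (n + 1) := by
    have : ((autIdx (P : Subgroup G) : ℕ) : ℤ) = (1 + S.card * (n + 1) : ℕ) := by
      push_cast at h3 ⊢
      linarith
    exact_mod_cast this
  have hnot : IrrCharacter.triv G ∉ S := by simp [hS]
  have h6 := (ψ.isCharacter.mul ψ.isCharacter.conj).sum_charDegree_le
    (insert (IrrCharacter.triv G) S) fun ξ hξ => by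
      rcases Finset.mem_insert.1 hξ with rfl | hξ
      · exact O.classInner_mul_conj_ne_zero hψ hψ' hne O.triv_mem O.δ_triv
      · exact O.classInner_mul_conj_ne_zero hψ hψ' hne (hSm ξ hξ).1 (hSm ξ hξ).2.1
  have h7 : charDegree ψ.1 = autIdx (P : Subgroup G) := by
    rcases H.Y_deg ψ hψ with h | h
    · exact h.2
    · omega
  rw [Finset.sum_insert hnot, IrrCharacter.charDegree_triv,
    Finset.sum_congr rfl fun ξ hξ => (hSm ξ hξ).2.2, Finset.sum_const, smul_eq_mul,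
    charDegree_eq_of_one_eq (n := autIdx (P : Subgroup G) * autIdx (P : Subgroup G)) (by
      simp [ψ.one_eq_charDegree, h7])] at h6
  have h8 := H.two_le
  have h9 := H.n_pos
  generalize autIdx (P : Subgroup G) = q at *
  generalize S.card = a at *
  generalize O.Y.card = t at *
  have ha : 0 < a := by
    rcases Nat.eq_zero_or_pos a with rfl | h
    · omega
    · exact h
  have h10 : 1 + n * p ≤ (n + 1) * (q + 1) := Nat.le_of_mul_le_mul_left (by nlinarith) ha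
  have h11 : n * t ≤ n + 1 := Nat.le_of_mul_le_mul_right (c := q) (by nlinarith) (by omega)
  constructor <;> nlinarith

end neg

theorem exists_conj_of_fixed {g : G} (hg : ¬ p ∣ orderOf g) (hg1 : g ≠ 1) {x : G}
    (h : g • (x : G ⧸ sylN P) = x) :
    x⁻¹ * g * x ∈ sylN P ∧ x⁻¹ * g * x ∉ (P : Subgroup G) := by
  refine ⟨smul_mk_eq_iff.1 h, fun h1 => hg1 ?_⟩
  have h2 := H.eq_one_of_mem_of_not_dvd h1 (by
    rwa [show x⁻¹ * g * x = MulAut.conj x⁻¹ g by simp, MulEquiv.orderOf_eq])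
  rwa [mul_eq_one_iff_eq_inv, mul_eq_left] at h2

theorem card_fixedBy_of_fixed {g : G} (hg : ¬ p ∣ orderOf g) (hg1 : g ≠ 1) {γ : G ⧸ sylN P}
    (h : g • γ = γ) : Nat.card (MulAction.fixedBy (G ⧸ sylN P) g) = n + 1 := by
  induction γ using QuotientGroup.induction_on with
  | H x =>
    obtain ⟨h1, h2⟩ := H.exists_conj_of_fixed hg hg1 h
    have h3 := (isCharacter_sylTheta (P := P) 1).isClassFunction g x⁻¹
    rw [inv_inv, sylTheta_one_apply, sylTheta_one_apply, H.card_fixedBy_eq h1 h2] at h3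
    exact_mod_cast h3.symm

section pos

theorem Y_pos (h0 : O.δ₀ = 1) {ψ : IrrCharacter G} (hψ : ψ ∈ O.Y) :
    O.Y.card * fixDim (P : Subgroup G) ψ.1 = n + 1 ∧ O.Y.card * charDegree ψ.1 = 1 + n * p := by
  rcases H.Y_fix hψ with h | h
  · omega
  · exact h.2

theorem Y_eq_zero (h0 : O.δ₀ = 1) {ψ : IrrCharacter G} (hψ : ψ ∈ O.Y) {g : G}
    (hg : ∀ γ : G ⧸ sylN P, g • γ ≠ γ) : ψ.1 g = 0 := by
  have := Fintype.ofFinite (sylA P →* ℂˣ)
  have h1 := H.sum_cmult_sylTheta ψ.isCharacter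
  have h2 : fixDim (P : Subgroup G) ψ.1 ≠ 0 := by
    intro h
    have := (H.Y_pos h0 hψ).1
    rw [h] at this
    omega
  obtain ⟨μ, -, hμ⟩ := Finset.exists_ne_zero_of_sum_ne_zero (h1 ▸ h2)
  have hμ1 : μ ≠ 1 := by
    rintro rfl
    exact hμ (H.cmult_one_Y hψ)
  have hr : ¬ p ∣ orderOf g := fun h => by
    have h3 := H.sylTheta_sing μ h
    rw [sylTheta_eq_zero μ hg] at h3
    exact zero_ne_one h3
  rcases H.theta_cases hμ1 with h | h
  · exact (hμ (h.1 ψ hψ)).elim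
  · have h3 := h.2.2.1 g
    rw [sylTheta_eq_zero μ hg, O.sum_Y_reg hψ hr] at h3
    exact (mul_eq_zero.1 h3.symm).resolve_left (by exact_mod_cast O.card_Y_pos.ne')

theorem even_of_pos (h0 : O.δ₀ = 1) : 2 ∣ autIdx (P : Subgroup G) := by
  by_contra h
  obtain ⟨ψ, hψ⟩ := O.Y_nonempty
  have h1 := O.card_Y_mul
  have h2 := hp.out.eq_two_or_odd.resolve_left H.ne_two
  have h3 : 2 ∣ O.Y.card := by
    refine ((Nat.Prime.dvd_mul Nat.prime_two).1 ?_).resolve_right h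
    omega
  have : Fact (Nat.Prime 2) := ⟨Nat.prime_two⟩
  obtain ⟨S⟩ : Nonempty (Sylow 2 G) := inferInstance
  have := Fintype.ofFinite (S : Subgroup G)
  have h4 := ψ.isCharacter.card_mul_fixDim (S : Subgroup G)
  rw [sum_subgroup_of_const (f := ψ.1) (c := 0) fun s hs hs1 => H.Y_eq_zero h0 hψ fun γ hγ => by
    induction γ using QuotientGroup.induction_on with
    | H x =>
      have h5 := Subgroup.orderOf_dvd_natCard _ (smul_mk_eq_iff.1 hγ)
      rw [show x⁻¹ * s * x = MulAut.conj x⁻¹ s by simp, MulEquiv.orderOf_eq, H.card_N] at h5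
      obtain ⟨k, hk⟩ := exists_orderOf_eq_pow_of_mem S.isPGroup' hs
      have h6 : 2 ∣ orderOf s := by
        rw [hk]
        refine dvd_pow_self 2 fun h7 => hs1 ?_
        rwa [h7, pow_zero, orderOf_eq_one_iff] at hk
      rcases (Nat.Prime.dvd_mul Nat.prime_two).1 (h6.trans h5) with h7 | h7
      · omega
      · exact h h7, mul_zero, add_zero, ψ.one_eq_charDegree] at h4
  have h5 : Nat.card (S : Subgroup G) * fixDim (S : Subgroup G) ψ.1 = charDegree ψ.1 := by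
    exact_mod_cast h4
  refine S.not_dvd_index ((Nat.mul_dvd_mul_iff_left (Nat.card_pos (α := (S : Subgroup G)))).1 ?_)
  rw [Subgroup.card_mul_index, H.card_G, H.idx, ← (H.Y_pos h0 hψ).2, ← h5, mul_comm _ 2]
  exact Dvd.dvd.mul_left (mul_dvd_mul h3 (dvd_mul_right _ _)) _

theorem exists_sign_pos (h0 : O.δ₀ = 1) : O.Y.card = n + 1 ∧ ∃ μ : sylA P →* ℂˣ, μ ≠ 1 ∧
    (∀ ψ ∈ O.Y, cmult (sylTheta P μ) ψ.1 = 1) ∧ (∀ g, sylTheta P μ g = ∑ ψ ∈ O.Y, ψ.1 g) ∧
    cmult (sylTheta P μ) (sylTheta P μ) = n + 1 ∧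
      ∀ g, sylTheta P μ g = sylTheta P 1 g ∨ sylTheta P μ g = -sylTheta P 1 g := by
  obtain ⟨μ, h1, h2, h3⟩ := H.exists_sign (H.even_of_pos h0)
  have := H.n_pos
  rcases H.theta_cases h1 with h | h
  · omega
  · exact ⟨h.2.2.2.symm.trans h2, μ, h1, h.2.1, h.2.2.1, h2, h3⟩

theorem card_Y_pos_eq (h0 : O.δ₀ = 1) : O.Y.card = n + 1 := (H.exists_sign_pos h0).1

theorem fixDim_Y_pos (h0 : O.δ₀ = 1) {ψ : IrrCharacter G} (hψ : ψ ∈ O.Y) :
    fixDim (P : Subgroup G) ψ.1 = 1 := by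
  have h1 := (H.Y_pos h0 hψ).1
  rw [H.card_Y_pos_eq h0] at h1
  exact Nat.eq_of_mul_eq_mul_left n.succ_pos (h1.trans (mul_one _).symm)

theorem odd_deg_pos (h0 : O.δ₀ = 1) {ψ : IrrCharacter G} (hψ : ψ ∈ O.Y) :
    ¬ 2 ∣ charDegree ψ.1 := by
  have h1 := O.fixDim_Y H.card hψ
  rw [H.fixDim_Y_pos h0 hψ, h0] at h1
  have h2 := H.even_of_pos h0
  have h3 := hp.out.eq_two_or_odd.resolve_left H.ne_two
  omega

theorem Y_val_pos (h0 : O.δ₀ = 1) {ψ : IrrCharacter G} (hψ : ψ ∈ O.Y) {y : G} (hy : y ∈ sylN P)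
    (hyP : y ∉ (P : Subgroup G)) : ψ.1 y = 1 ∨ ψ.1 y = -1 := by
  obtain ⟨h1, μ, -, -, h2, -, h3⟩ := H.exists_sign_pos h0
  have h4 := h3 y
  rw [h2, O.sum_Y_reg hψ (H.not_dvd_of_notMem hy hyP), sylTheta_one_apply,
    H.card_fixedBy_eq hy hyP, h1] at h4
  have h5 : ((n + 1 : ℕ) : ℂ) ≠ 0 := by exact_mod_cast n.succ_ne_zero
  exact h4.imp (fun h => mul_left_cancel₀ h5 (by rw [h, mul_one]))
    (fun h => mul_left_cancel₀ h5 (by rw [h, mul_neg_one]))

theorem centralizer_le_of_pos (h0 : O.δ₀ = 1) {y : G} (hy : y ∈ sylN P)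
    (hyP : y ∉ (P : Subgroup G)) (hy2 : y * y ≠ 1) :
    Subgroup.centralizer ({y} : Set G) ≤ sylN P := by
  classical
  have := Fintype.ofFinite (sylA P →* ℂˣ)
  obtain ⟨ψ, hψ⟩ := O.Y_nonempty
  obtain ⟨-, μ₀, hμ1, hμ2, -, hμ3, -⟩ := H.exists_sign_pos h0
  have hm : μ₀ ∈ Finset.univ.erase (1 : sylA P →* ℂˣ) := by simp [hμ1]
  have hn : ∀ μ ∈ (Finset.univ.erase (1 : sylA P →* ℂˣ)).erase μ₀,
      cmult (sylTheta P μ) (sylTheta P μ) = 1 := by
    intro μ hμ
    have h1 := H.sum_cmult_sylTheta ψ.isCharacter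
    rw [H.fixDim_Y_pos h0 hψ, ← Finset.add_sum_erase _ _ (Finset.mem_univ μ₀), hμ2 ψ hψ,
      Nat.add_eq_left, Finset.sum_eq_zero_iff] at h1
    have h2 := h1 μ (by simp [Finset.ne_of_mem_erase hμ])
    rcases H.theta_cases (Finset.ne_of_mem_erase (Finset.mem_of_mem_erase hμ)) with h | h
    · exact h.2
    · rw [h.2.1 ψ hψ] at h2
      omega
  have h1 := H.sum_card_centralizer
  have h2 := H.card_sylOut
  have h3 := H.two_le
  rw [← Finset.add_sum_erase _ _ (Finset.mem_univ 1), ← Finset.add_sum_erase _ _ hm, H.norm_one,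
    H.idx, hμ3, Finset.sum_congr rfl hn, Finset.sum_const, Finset.card_erase_of_mem hm,
    Finset.card_erase_of_mem (Finset.mem_univ _), Finset.card_univ, H.card_dual,
    smul_eq_mul, mul_one] at h1
  obtain ⟨y₀, hy₀⟩ : ∃ y₀ : sylN P, orderOf y₀ = 2 :=
    have : Fact (Nat.Prime 2) := ⟨Nat.prime_two⟩
    exists_prime_orderOf_dvd_card' 2 (H.card_N ▸ (H.even_of_pos h0).mul_left p)
  have hy₀2 : (y₀ : G) * y₀ = 1 := by
    have := pow_orderOf_eq_one y₀
    rw [hy₀, pow_two] at this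
    exact congrArg Subtype.val this
  have hy₀P : (y₀ : G) ∉ (P : Subgroup G) := fun h => by
    have h4 := orderOf_eq_of_card_prime H.card h (fun h5 => by
      rw [show y₀ = 1 from Subtype.ext h5, orderOf_one] at hy₀
      omega)
    rw [Subgroup.orderOf_coe, hy₀] at h4
    exact H.ne_two h4.symm
  have h4 : ∑ z ∈ sylOut P, (if (z : G) * z = 1 then (1 : ℂ) else 0) = p := by
    have := Fintype.ofFinite (sylN P)
    rw [← mul_one (p : ℂ), ← H.sum_ite_mk_eq (y₀ : sylA P), ← Finset.sum_filter,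
      ← Finset.sum_filter]
    refine Finset.sum_congr ?_ fun _ _ => rfl
    ext z
    simp only [Finset.mem_filter, mem_sylOut, Finset.mem_univ, true_and]
    refine ⟨fun h => sylA_mk_eq.2 (H.mul_mem_of_invol y₀.2 hy₀P hy₀2 z.2 h.1 h.2), fun h => ?_⟩
    obtain ⟨c, hc⟩ := isConj_iff.1 (H.isConj_of_mk_eq hy₀P h)
    refine ⟨fun h5 => hy₀P (sylA_mk_eq_one.1 (h ▸ sylA_mk_eq_one.2 h5)), ?_⟩
    rw [← hc, conj_mul, hy₀2, mul_one, mul_inv_cancel]
  have h5 : ∑ z ∈ sylOut P, (if (z : G) * z = 1 then 1 else 0) = p := by exact_mod_cast h4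
  have h6 : ∑ z ∈ sylOut P, (autIdx (P : Subgroup G) +
        autIdx (P : Subgroup G) * n * if (z : G) * z = 1 then 1 else 0) =
      ∑ y ∈ sylOut P, Nat.card (Subgroup.centralizer ({(y : G)} : Set G)) := by
    rw [Finset.sum_add_distrib, ← Finset.mul_sum, h5, Finset.sum_const, smul_eq_mul]
    obtain ⟨r, hr⟩ : ∃ r, autIdx (P : Subgroup G) = r + 2 := ⟨autIdx (P : Subgroup G) - 2, by omega⟩
    rw [hr] at h1 h2 ⊢
    rw [show r + 2 - 1 - 1 = r from rfl] at h1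
    have h5 : (sylOut P).card = p * (r + 1) := by linarith
    rw [h5]
    linarith
  have h7 := (Finset.sum_eq_sum_iff_of_le fun z hz => by
    split_ifs with h
    · rw [H.card_centralizer_invol H.ne_two z.2 (mem_sylOut.1 hz) h,
        H.card_fixedBy_eq z.2 (mem_sylOut.1 hz)]
      linarith
    · simpa using H.le_card_centralizer z.2 (mem_sylOut.1 hz)).1 h6 ⟨y, hy⟩ (mem_sylOut.2 hyP)
  rw [if_neg hy2, mul_zero, add_zero] at h7
  exact H.centralizer_le_of_card hy hyP h7.symm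

theorem smul_eq_of_commute (h0 : O.δ₀ = 1) {z w : G} (hz : ¬ p ∣ orderOf z) (hz2 : z * z ≠ 1)
    (hzw : Commute z w) {γ : G ⧸ sylN P} (h : z • γ = γ) : w • γ = γ := by
  induction γ using QuotientGroup.induction_on with
  | H x =>
    obtain ⟨h1, h2⟩ := H.exists_conj_of_fixed hz (by rintro rfl; simp at hz2) h
    refine smul_mk_eq_iff.2 (H.centralizer_le_of_pos h0 h1 h2 (fun h3 => hz2 ?_) ?_)
    · rw [show x⁻¹ * z * x * (x⁻¹ * z * x) = x⁻¹ * (z * z) * x by group,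
        mul_eq_one_iff_eq_inv, mul_eq_left] at h3
      exact h3
    · rw [Subgroup.mem_centralizer_singleton_iff]
      calc x⁻¹ * w * x * (x⁻¹ * z * x) = x⁻¹ * (w * z) * x := by group
        _ = _ := by rw [← hzw.eq]; group

theorem not_dvd_of_commute {y z : G} (hy : y ∈ sylN P) (hyP : y ∉ (P : Subgroup G))
    (h : Commute z y) : ¬ p ∣ orderOf z := fun h1 =>
  hyP (H.mem_of_pow_eq_one hy (H.pow_eq_one_of_commute h1 h))

theorem mem_of_fixed (h0 : O.δ₀ = 1) {y z : G} (hy : y ∈ sylN P) (hyP : y ∉ (P : Subgroup G))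
    (h : Commute z y) (hz2 : z * z ≠ 1) {γ : G ⧸ sylN P} (hγ : z • γ = γ) : z ∈ sylN P := by
  have h1 := H.not_dvd_of_commute hy hyP h
  have h2 : MulAction.fixedBy (G ⧸ sylN P) z = MulAction.fixedBy (G ⧸ sylN P) y :=
    Set.eq_of_subset_of_ncard_le (fun δ hδ => H.smul_eq_of_commute h0 h1 hz2 h hδ) (by
      rw [← Nat.card_coe_set_eq, ← Nat.card_coe_set_eq, H.card_fixedBy_eq hy hyP,
        H.card_fixedBy_of_fixed h1 (by rintro rfl; simp at hz2) hγ])
  exact smul_basePt_eq_iff.1 (show basePt _ ∈ MulAction.fixedBy (G ⧸ sylN P) z from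
    h2 ▸ smul_basePt_eq_iff.2 hy)

theorem mul_self_of_commute (h0 : O.δ₀ = 1) {y z : G} (hy : y ∈ sylN P)
    (hyP : y ∉ (P : Subgroup G)) (hy2 : y * y = 1) (h : Commute z y) (hz : z ∉ sylN P) :
    z * z = 1 := by
  obtain ⟨ψ, hψ⟩ := O.Y_nonempty
  by_contra hz2
  have hz0 : orderOf z ≠ 0 := (orderOf_pos z).ne'
  have h1 : ∀ {l : ℕ}, l.Prime → l ∣ orderOf z → l = 2 := by
    intro l hl hlz
    by_contra hl2
    have ho : orderOf (z ^ (orderOf z / l)) = l := orderOf_pow_orderOf_div hz0 hlz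
    have hc : Commute z (z ^ (orderOf z / l)) := (Commute.refl z).pow_right _
    have hc' : Commute (z ^ (orderOf z / l)) y := h.pow_left _
    generalize z ^ (orderOf z / l) = w at ho hc hc'
    have hw2 : w * w ≠ 1 := fun h2 => hl2 ((Nat.prime_dvd_prime_iff_eq hl Nat.prime_two).1
      (ho ▸ orderOf_dvd_of_pow_eq_one (by rw [pow_two, h2])))
    have hwl : w ^ l ^ 1 = 1 := by rw [pow_one, ← ho, pow_orderOf_eq_one]
    obtain ⟨γ, hγ⟩ : ∃ γ : G ⧸ sylN P, (w * y) • γ = γ := by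
      by_contra! h2
      have h3 := H.Y_eq_zero h0 hψ h2
      rcases H.Y_val_pos h0 hψ hy hyP with h4 | h4
      · have := ψ.isCharacter.isGeneralizedCharacter.prime_dvd_sub_of_pElement hl hc' hwl
          (a := -1) (by rw [h3, h4]; simp)
        rw [dvd_neg, Int.natCast_dvd, Int.natAbs_one, Nat.dvd_one] at this
        exact hl.ne_one this
      · have := ψ.isCharacter.isGeneralizedCharacter.prime_dvd_sub_of_pElement hl hc' hwl
          (a := 1) (by rw [h3, h4]; simp)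
        rw [Int.natCast_dvd, Int.natAbs_one, Nat.dvd_one] at this
        exact hl.ne_one this
    have hsq : (w * y) * (w * y) = w * w := by
      calc w * y * (w * y) = w * (y * w) * y := by group
        _ = w * w * (y * y) := by rw [← hc'.eq]; group
        _ = _ := by rw [hy2, mul_one]
    have hc2 : Commute (w * y) y := hc'.mul_left (Commute.refl y)
    have h3 := H.mem_of_fixed h0 hy hyP hc2 (hsq ▸ hw2) hγ
    exact hz (smul_basePt_eq_iff.1 (H.smul_eq_of_commute h0 (H.not_dvd_of_commute hy hyP hc2)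
      (hsq ▸ hw2) (hc.mul_right h).symm (smul_basePt_eq_iff.2 h3)))
  have h2 := Nat.eq_prime_pow_of_unique_prime_dvd hz0 h1
  by_cases h3 : ∃ γ : G ⧸ sylN P, z • γ = γ
  · obtain ⟨γ, hγ⟩ := h3
    exact hz (H.mem_of_fixed h0 hy hyP h hz2 hγ)
  · push Not at h3
    have h4 := ψ.isCharacter.modEq_charDegree_of_pElement Nat.prime_two
      (h2 ▸ pow_orderOf_eq_one z) (a := 0) (by rw [H.Y_eq_zero h0 hψ h3]; simp)
    exact H.odd_deg_pos h0 hψ (Int.natCast_dvd_natCast.1 (by simpa using h4.dvd))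

theorem eq_of_invol_commute {y z : G} (hy : y ∈ sylN P) (hyP : y ∉ (P : Subgroup G))
    (hy2 : y * y = 1) (hz : z ∈ sylN P) (hz1 : z ≠ 1) (hz2 : z * z = 1) (h : Commute z y) :
    z = y := by
  have h1 : z ∉ (P : Subgroup G) := fun h1 => hz1 (H.eq_one_of_commute hyP h1 h.symm)
  exact mul_inv_eq_one.1 (H.eq_one_of_commute hyP (H.mul_mem_of_invol hy hyP hy2 hz h1 hz2)
    (h.mul_left (Commute.refl y).inv_left).symm)

theorem eq_one_or_two_of_pos (h0 : O.δ₀ = 1) : n = 1 ∨ autIdx (P : Subgroup G) = 2 := by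
  obtain ⟨y₀, hy₀⟩ : ∃ y₀ : sylN P, orderOf y₀ = 2 :=
    have : Fact (Nat.Prime 2) := ⟨Nat.prime_two⟩
    exists_prime_orderOf_dvd_card' 2 (H.card_N ▸ (H.even_of_pos h0).mul_left p)
  have hy2 : (y₀ : G) * y₀ = 1 := by
    have := pow_orderOf_eq_one y₀
    rw [hy₀, pow_two] at this
    exact congrArg Subtype.val this
  have hyP : (y₀ : G) ∉ (P : Subgroup G) := fun h => by
    have h4 := orderOf_eq_of_card_prime H.card h (fun h5 => by
      rw [show y₀ = 1 from Subtype.ext h5, orderOf_one] at hy₀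
      omega)
    rw [Subgroup.orderOf_coe, hy₀] at h4
    exact H.ne_two h4.symm
  obtain ⟨y, hy⟩ := y₀
  simp only at hy2 hyP
  set M := Subgroup.centralizer ({y} : Set G) with hM
  have hc := H.card_centralizer_inf hy hyP
  have hidx : ((sylN P).subgroupOf M).index = n + 1 := by
    have h1 := H.card_centralizer_invol H.ne_two hy hyP hy2
    rw [H.card_fixedBy_eq hy hyP, ← hM, ← card_mul_relIndex (inf_le_left : M ⊓ sylN P ≤ M), hc,
      Subgroup.inf_relIndex_left] at h1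
    exact Nat.eq_of_mul_eq_mul_left O.autIdx_pos h1
  have hsq : ∀ z ∈ M, z ∉ sylN P → z * z = 1 := fun z hz hzN =>
    H.mul_self_of_commute h0 hy hyP hy2 (Subgroup.mem_centralizer_singleton_iff.1 hz) hzN
  have hinv : ∀ z ∈ M, z ∉ sylN P → ∀ x ∈ M ⊓ sylN P, z * x = x⁻¹ * z := by
    intro z hz hzN x hx
    have h1 := hsq (z * x) (M.mul_mem hz hx.1) fun h => hzN (((sylN P).mul_mem_cancel_right hx.2).1 h)
    have h2 := hsq z hz hzN
    calc z * x = (z * x)⁻¹ := eq_inv_of_mul_eq_one_left h1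
      _ = _ := by rw [mul_inv_rev, inv_eq_of_mul_eq_one_right h2]
  have hn := H.n_pos
  by_cases h1 : ((sylN P).subgroupOf M).index ∣ 2
  · have := Nat.le_of_dvd two_pos h1
    omega
  right
  obtain ⟨a, ha⟩ : ∃ a : M, a ∉ (sylN P).subgroupOf M := by
    by_contra! h2
    rw [Subgroup.index_eq_one.2 ((Subgroup.eq_top_iff' _).2 h2)] at hidx
    omega
  rw [Subgroup.index_dvd_two_iff] at h1
  push Not at h1
  obtain ⟨b, hb1, hb2⟩ := h1 a
  rw [Subgroup.mem_subgroupOf] at ha hb1 hb2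
  have h2 : ∀ x ∈ M ⊓ sylN P, x = 1 ∨ x = y := by
    intro x hx
    have h3 := hinv _ (b * a).2 hb1 x hx
    have h4 := hinv _ a.2 ha x hx
    have h5 := hinv _ b.2 hb2 x⁻¹ (Subgroup.inv_mem _ hx)
    rw [Subgroup.coe_mul, mul_assoc, h4, ← mul_assoc, h5, inv_inv, mul_assoc,
      mul_left_inj] at h3
    refine or_iff_not_imp_left.2 fun h6 => H.eq_of_invol_commute hy hyP hy2 hx.2 h6 ?_
      (Subgroup.mem_centralizer_singleton_iff.1 hx.1)
    nth_rw 2 [h3]
    exact mul_inv_cancel x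
  refine le_antisymm ?_ H.two_le
  rw [← hc]
  calc Nat.card ↥(M ⊓ sylN P) ≤ Nat.card ({1, y} : Set G) :=
        Nat.card_le_card_of_injective (Set.inclusion fun x hx => h2 x hx)
          (Set.inclusion_injective _)
    _ ≤ 2 := by
      rw [Nat.card_coe_set_eq]
      exact (Set.ncard_insert_le _ _).trans (by simp)

end pos

end RepCfg

namespace SCP

variable [Finite G] {p : ℕ} [hp : Fact p.Prime] {P : Sylow p G} (H : SCP p P)
include H

theorem exists_smul_eq (hidx : (sylN P).index = 1 + p) {β γ : G ⧸ sylN P} (hβ : β ≠ basePt _)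
    (hγ : γ ≠ basePt _) : ∃ u ∈ (P : Subgroup G), u • β = γ := by
  let f : ↥(P : Subgroup G) → {γ : G ⧸ sylN P // γ ≠ basePt _} := fun u => ⟨(u : G) • β, fun h => hβ (by
    rw [← inv_smul_smul (u : G) β, h]
    exact smul_basePt_eq_iff.2 (Subgroup.le_normalizer (Subgroup.inv_mem _ u.2)))⟩
  have hf : Function.Injective f := by
    intro u v h
    have h1 : (u : G) • β = (v : G) • β := congrArg Subtype.val h
    have h2 := H.eq_one_of_smul_eq (Subgroup.mul_mem _ (Subgroup.inv_mem _ v.2) u.2) hβ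
      (by rw [mul_smul, h1, inv_smul_smul])
    exact Subtype.ext (inv_mul_eq_one.1 h2).symm
  obtain ⟨u, hu⟩ := (hf.bijective_of_nat_card_le (by
    have := card_subtype_ne_add_one (basePt (sylN P))
    rw [← Subgroup.index_eq_card, hidx] at this
    rw [H.card]
    omega)).2 ⟨γ, hγ⟩
  exact ⟨u, u.2, congrArg Subtype.val hu⟩

theorem card_stabilizer_inf (hidx : (sylN P).index = 1 + p) {β : G ⧸ sylN P} (hβ : β ≠ basePt _) :
    Nat.card ↥(MulAction.stabilizer G (basePt (sylN P)) ⊓ MulAction.stabilizer G β) =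
      autIdx (P : Subgroup G) := by
  rw [← H.relIndex_eq, Subgroup.relIndex, Subgroup.index_eq_card]
  refine Nat.card_eq_of_bijective
    (fun x => ((⟨x, smul_basePt_eq_iff.1 x.2.1⟩ : sylN P) : sylN P ⧸ _)) ⟨?_, ?_⟩
  · rintro ⟨x, hx⟩ ⟨z, hz⟩ h
    have h1 : x⁻¹ * z ∈ (P : Subgroup G) :=
      QuotientGroup.eq (s := (P : Subgroup G).subgroupOf (sylN P)).1 h
    exact Subtype.ext (inv_mul_eq_one.1 (H.eq_one_of_smul_eq h1 hβ
      (Subgroup.mul_mem (MulAction.stabilizer G β) (Subgroup.inv_mem _ hx.2) hz.2)))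
  · intro a
    induction a using QuotientGroup.induction_on with
    | H x =>
      obtain ⟨v, hv, h⟩ := H.exists_smul_eq hidx hβ (γ := (x : G)⁻¹ • β) fun h => hβ (by
        rw [← smul_inv_smul (x : G) β, h]
        exact smul_basePt_eq_iff.2 x.2)
      refine ⟨⟨x * v, smul_basePt_eq_iff.2 (Subgroup.mul_mem _ x.2 (Subgroup.le_normalizer hv)),
        ?_⟩, ?_⟩
      · show (x * v : G) • β = β
        rw [mul_smul, h, smul_inv_smul]
      · refine QuotientGroup.eq.2 ?_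
        simpa [Subgroup.mem_subgroupOf] using hv

theorem faithful_quotient (hO : pPrimeCore p G = ⊥) (hidx : (sylN P).index ≠ 1) :
    FaithfulSMul G (G ⧸ sylN P) := by
  obtain ⟨x, hx⟩ : ∃ x, x ∉ sylN P := by
    by_contra! h
    exact hidx (Subgroup.index_eq_one.2 ((Subgroup.eq_top_iff' _).2 h))
  have h1 : (MulAction.toPermHom G (G ⧸ sylN P)).ker = ⊥ := by
    refine eq_bot_of_normal_of_not_sylow_le P H.card hO fun h => ?_
    obtain ⟨u, hu, hu1⟩ := exists_ne_one_of_card_prime H.card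
    exact hu1 (H.eq_one_of_smul_eq hu (mt mk_eq_basePt_iff.1 hx)
      (DFunLike.congr_fun (MonoidHom.mem_ker.1 (h hu)) (x : G ⧸ sylN P)))
  exact ⟨fun h => (MonoidHom.ker_eq_bot_iff _).1 h1 (Equiv.ext h)⟩

theorem psl2_of_swap (hO : pPrimeCore p G = ⊥) (hidx : (sylN P).index = 1 + p)
    (hq : 2 * autIdx (P : Subgroup G) + 1 = p)
    (hswap : ∀ β : G ⧸ sylN P, β ≠ basePt _ → ∀ w : G, w • basePt _ = β → w • β = basePt _ →
      w * w = 1) : Nonempty (G ≃* Matrix.ProjectiveSpecialLinearGroup (Fin 2) (ZMod p)) := by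
  have hp0 := hp.out.pos
  have := H.faithful_quotient hO (by omega)
  obtain ⟨x, hx⟩ : ∃ x, x ∉ sylN P := by
    by_contra! h
    have := Subgroup.index_eq_one.2 ((Subgroup.eq_top_iff' _).2 h)
    omega
  have hβ : (x : G ⧸ sylN P) ≠ basePt _ := mt mk_eq_basePt_iff.1 hx
  obtain ⟨v, hv, h⟩ := H.exists_smul_eq hidx (β := ((x⁻¹ : G) : G ⧸ sylN P))
    (mt mk_eq_basePt_iff.1 (mt (Subgroup.inv_mem_iff _).1 hx)) hβ
  have hw1 : (v * x⁻¹) • basePt (sylN P) = x := by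
    rw [mul_smul, ← h, MulAction.Quotient.smul_mk, smul_eq_mul, mul_one]
  have hw2 : (v * x⁻¹) • (x : G ⧸ sylN P) = basePt (sylN P) := by
    rw [mul_smul, MulAction.Quotient.smul_mk, smul_eq_mul, inv_mul_cancel]
    exact smul_basePt_eq_iff.2 (Subgroup.le_normalizer hv)
  generalize v * x⁻¹ = w at hw1 hw2
  obtain ⟨u, hu, hu1⟩ := exists_ne_one_of_card_prime H.card
  have hw := hswap _ hβ w hw1 hw2
  refine nonempty_mulEquiv_psl2 (by omega) (Ω := G ⧸ sylN P) (α := basePt _) (β := x) (u := u)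
    (w := w) (by rw [← Subgroup.index_eq_card, hidx, add_comm])
    (orderOf_eq_of_card_prime H.card hu hu1)
    (smul_basePt_eq_iff.2 (Subgroup.le_normalizer hu))
    (fun h => hu1 (H.eq_one_of_smul_eq hu hβ h)) (fun g hg _ => ?_)
    (by rw [H.card_stabilizer_inf hidx hβ, hq]) hw1 hw fun y hy1 hy2 => ?_
  · rw [← eq_zpowers_of_card_prime H.card hu hu1]
    exact (Subgroup.mem_normalizer_iff.1 (smul_basePt_eq_iff.1 hg) u).1 hu
  · have h1 := hswap _ hβ (w * y) (by rw [mul_smul, hy1, hw1]) (by rw [mul_smul, hy2, hw2])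
    rw [← mul_assoc] at h1
    exact eq_inv_of_mul_eq_one_left h1

end SCP

namespace RepCfg

variable [Fintype G] {p : ℕ} [hp : Fact p.Prime] {P : Sylow p G}
  {O : PrinOne p (P : Subgroup G)} {n : ℕ} (H : RepCfg p P O n)
include H

theorem mul_self_of_swap (hn : n = 1) {β : G ⧸ sylN P} (hβ : β ≠ basePt _) {w : G}
    (h1 : w • basePt _ = β) (h2 : w • β = basePt _) : w * w = 1 := by
  have hw : w ∉ sylN P := fun h => hβ (h1.symm.trans (smul_basePt_eq_iff.2 h))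
  have hnP : ∀ {y : G}, y • β = β → y ≠ 1 → y ∉ (P : Subgroup G) := fun hy hy1 h =>
    hy1 (H.eq_one_of_smul_eq h hβ hy)
  rcases O.δ₀_sign with h0 | h0
  · have hidx : (sylN P).index = 1 + p := by rw [H.idx, hn, one_mul]
    obtain ⟨⟨y, hy1, hy2⟩, hy⟩ : ∃ y : ↥(MulAction.stabilizer G (basePt (sylN P)) ⊓
        MulAction.stabilizer G β), orderOf y = 2 :=
      have : Fact (Nat.Prime 2) := ⟨Nat.prime_two⟩
      exists_prime_orderOf_dvd_card' 2 (H.card_stabilizer_inf hidx hβ ▸ H.even_of_pos h0)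
    rw [← Subgroup.orderOf_coe] at hy
    simp only at hy
    replace hy1 : y • basePt (sylN P) = basePt _ := hy1
    replace hy2 : y • β = β := hy2
    have hyy : y * y = 1 := by rw [← pow_two, ← hy, pow_orderOf_eq_one]
    have hy0 : y ≠ 1 := by
      rintro rfl
      simp at hy
    have hyN := smul_basePt_eq_iff.1 hy1
    have h3 : (w * y * w⁻¹) • basePt (sylN P) = basePt _ := by
      rw [mul_smul, mul_smul, inv_smul_eq_iff.2 h2.symm, hy2, h2]
    have h4 : (w * y * w⁻¹) • β = β := by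
      rw [mul_smul, mul_smul, inv_smul_eq_iff.2 h1.symm, hy1, h1]
    have h5 : w * y * w⁻¹ ≠ 1 := by rwa [ne_eq, mul_inv_eq_one, mul_eq_left]
    have h6 := H.mul_mem_of_invol hyN (hnP hy2 hy0) hyy (smul_basePt_eq_iff.1 h3) (hnP h4 h5)
      (by rw [conj_mul, hyy, mul_one, mul_inv_cancel])
    have h7 := H.eq_one_of_smul_eq h6 hβ (by rw [mul_smul, inv_smul_eq_iff.2 hy2.symm, h4])
    rw [mul_inv_eq_one, mul_inv_eq_iff_eq_mul] at h7
    exact H.mul_self_of_commute h0 hyN (hnP hy2 hy0) hyy h7 hw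
  · by_contra h3
    refine hw (H.centralizer_le_of_neg h0 (y := w * w) (smul_basePt_eq_iff.1 ?_) (hnP ?_ h3) ?_)
    · rw [mul_smul, h1, h2]
    · rw [mul_smul, h2, h1]
    · rw [Subgroup.mem_centralizer_singleton_iff, mul_assoc]

theorem main (hO : pPrimeCore p G = ⊥) :
    (n = 1 ∧ 2 * autIdx (P : Subgroup G) + 1 = p ∧
      Nonempty (G ≃* Matrix.ProjectiveSpecialLinearGroup (Fin 2) (ZMod p))) ∨
    (n ≠ 1 ∧ 2 * n + 3 = p ∧ ∃ ζ, QTwo p P O ζ) := by
  have h1 := O.card_Y_mul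
  by_cases hn : n = 1
  · have h2 : O.Y.card = 2 := by
      rcases O.δ₀_sign with h0 | h0
      · rw [H.card_Y_pos_eq h0, hn]
      · exact (H.eq_of_neg h0).2
    rw [h2] at h1
    exact Or.inl ⟨hn, h1, H.psl2_of_swap hO (by rw [H.idx, hn, one_mul]) h1
      fun β hβ w => H.mul_self_of_swap hn hβ⟩
  · have h0 : O.δ₀ = 1 := O.δ₀_sign.resolve_right fun h0 => hn (H.eq_of_neg h0).1
    have h2 := (H.eq_one_or_two_of_pos h0).resolve_left hn
    rw [H.card_Y_pos_eq h0, h2] at h1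
    have h3 := H.n_pos
    obtain ⟨ζ, hζ, h4⟩ := Finset.exists_mem_ne (s := O.X) (by rw [O.card_X, h2]; omega)
      (IrrCharacter.triv G)
    refine Or.inr ⟨hn, by omega, ζ, ⟨H.ne_two, H.card, H.cen, h2⟩, by omega, hO, hζ, ?_⟩
    rcases H.X_deg ζ hζ h4 with h | h
    · exact h.2
    · obtain ⟨ψ, hψ⟩ := O.Y_nonempty
      have h5 := O.degree_rel hψ
      rw [O.sum_X_of_two h2 hζ h4, O.δ_triv, h0, h.1] at h5
      have := ψ.charDegree_pos
      omega

end RepCfg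

end Cfsg
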