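import Cfsg.Agent.Blk.PrinOne
import Cfsg.Agent.CT.PermChar
import Cfsg.Agent.CT.ClassSum
import Cfsg.Agent.CT.Indicator
import Cfsg.Agent.Grp.NormalComplement

/-! Groups with a Sylow `p`-normalizer that is dihedral of order `2p`. -/

set_option autoImplicit false

namespace Cfsg

open scoped ComplexConjugate

universe u v

variable {G : Type u} [Group G]

theorem sylow_le_of_normal_of_dvd_card [Finite G] {p : ℕ} [hp : Fact p.Prime] (P : Sylow p G)
    (hP : Nat.card P = p) {K : Subgroup G} [K.Normal] (h : p ∣ Nat.card K) :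
    (P : Subgroup G) ≤ K := by
  refine sylow_le_of_normal_of_not_dvd_index P fun h1 => P.not_dvd_index ?_
  have h2 := mul_dvd_mul h h1
  rw [K.card_mul_index, ← (P : Subgroup G).card_mul_index] at h2
  exact (Nat.mul_dvd_mul_iff_left hp.out.pos).1 (by rwa [show Nat.card (P : Subgroup G) = p
    from hP] at h2)

theorem eq_bot_of_normal_of_not_sylow_le [Finite G] {p : ℕ} [Fact p.Prime] (P : Sylow p G)
    (hP : Nat.card P = p) (hO : pPrimeCore p G = ⊥) {K : Subgroup G} [hK : K.Normal]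
    (h : ¬ (P : Subgroup G) ≤ K) : K = ⊥ :=
  eq_bot_iff.2 (hO ▸ le_pPrimeCore_of_not_dvd hK fun h1 =>
    h (sylow_le_of_normal_of_dvd_card P hP h1))

theorem PrinOne.charKer_X_eq_bot [Fintype G] {p : ℕ} [Fact p.Prime] {P : Sylow p G}
    (O : PrinOne p (P : Subgroup G)) (hP : Nat.card P = p) (hO : pPrimeCore p G = ⊥)
    {χ : IrrCharacter G} (hχ : χ ∈ O.X) (hd : charDegree χ.1 ≠ 1) : charKer χ.1 = ⊥ := by
  refine eq_bot_of_normal_of_not_sylow_le P hP hO fun h => hd ?_
  obtain ⟨u, hu, hu1⟩ := exists_ne_one_of_card_prime hP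
  have h1 := χ.mem_charKer.1 (h hu)
  rw [O.X_sing χ hχ u (by rw [orderOf_eq_of_card_prime hP hu hu1]), χ.one_eq_charDegree] at h1
  have h2 : O.δ χ = charDegree χ.1 := by exact_mod_cast h1
  rcases O.δ_sign χ hχ with h3 | h3 <;> omega

theorem PrinOne.charKer_Y_eq_bot [Fintype G] {p : ℕ} [hp : Fact p.Prime] {P : Sylow p G}
    (O : PrinOne p (P : Subgroup G)) (hP : Nat.card P = p) (hO : pPrimeCore p G = ⊥)
    {ψ : IrrCharacter G} (hψ : ψ ∈ O.Y) (hd : charDegree ψ.1 ≠ 1) : charKer ψ.1 = ⊥ := by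
  refine eq_bot_of_normal_of_not_sylow_le P hP hO fun h => hd ?_
  have := Fintype.ofFinite (P : Subgroup G)
  have h1 := O.Y_sum ψ hψ
  rw [sum_subgroup_of_const (c := ψ.1 1) fun u hu _ => ψ.mem_charKer.1 (h hu),
    show Nat.card (P : Subgroup G) = p from hP, ψ.one_eq_charDegree, add_right_inj] at h1
  have h2 : ((p : ℤ) - 1) * charDegree ψ.1 = O.δ₀ * autIdx (P : Subgroup G) := by
    exact_mod_cast h1
  have h3 := O.card_Y
  have h4 := O.card_Y_pos
  have h5 := ψ.charDegree_pos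
  have h6 := hp.out.two_le
  have h7 : autIdx (P : Subgroup G) ≤ p - 1 := h3 ▸ Nat.le_mul_of_pos_left _ h4
  obtain ⟨m, rfl⟩ : ∃ m, p = m + 1 := ⟨p - 1, by omega⟩
  simp only [Nat.add_sub_cancel] at h7
  push_cast at h2
  rcases O.δ₀_sign with h | h <;> rw [h] at h2 <;> nlinarith

theorem sum_of_relIndex_two {P N : Subgroup G} [Fintype P] [Fintype N] (hPN : P ≤ N)
    (h : P.relIndex N = 2) {y : G} (hy : y ∈ N) (hyP : y ∉ P) (f : G → ℂ) :
    ∑ n : N, f n = ∑ u : P, f u + ∑ u : P, f (u * y) := by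
  refine Eq.trans ?_ (Fintype.sum_sum_type
    (fun x : P ⊕ P => f (Sum.elim (fun u : P => (u : G)) (fun u : P => u * y) x)))
  symm
  refine Fintype.sum_bijective (Sum.elim (fun u : P => (⟨u, hPN u.2⟩ : N))
    (fun u : P => ⟨u * y, N.mul_mem (hPN u.2) hy⟩)) ?_ _ _ (by rintro (u | u) <;> rfl)
  refine Function.Injective.bijective_of_nat_card_le ?_ ?_
  · rintro (a | a) (b | b) hab <;> simp only [Sum.elim_inl, Sum.elim_inr, Subtype.mk.injEq] at hab
    · rw [Subtype.ext hab]
    · exact (hyP ((P.mul_mem_cancel_left b.2).1 (hab ▸ a.2))).elim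
    · exact (hyP ((P.mul_mem_cancel_left a.2).1 (hab ▸ b.2))).elim
    · rw [Subtype.ext (mul_right_cancel hab)]
  · rw [Nat.card_sum, ← card_mul_relIndex hPN, h]
    omega

theorem permChar_eq_zero_of_dvd [Finite G] {p : ℕ} [hp : Fact p.Prime] (P : Sylow p G)
    (hP : Nat.card P = p) {α : Type v} [MulAction G α] [MulAction.IsPretransitive G α]
    (hα : p ∣ Nat.card α) {g : G} (hg : p ∣ orderOf g) : permChar G α g = 0 := by
  refine permChar_eq_zero fun a ha => ?_
  have h2 := hg.trans (Subgroup.orderOf_dvd_natCard (MulAction.stabilizer G a) ha)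
  have h3 := mul_dvd_mul h2 hα
  rw [← MulAction.index_stabilizer_of_transitive G a, Subgroup.card_mul_index,
    ← (P : Subgroup G).card_mul_index, show Nat.card (P : Subgroup G) = p from hP] at h3
  exact P.not_dvd_index ((Nat.mul_dvd_mul_iff_left hp.out.pos).1 h3)

theorem pPrimeCore_eq_bot_of_isPreprimitive [Finite G] {p : ℕ} [Fact p.Prime] {α : Type v}
    [MulAction G α] [FaithfulSMul G α] [MulAction.IsPreprimitive G α] (h : p ∣ Nat.card α) :
    pPrimeCore p G = ⊥ := by
  by_cases h1 : MulAction.fixedPoints (pPrimeCore p G) α = Set.univ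
  · rw [eq_bot_iff]
    intro g hg
    refine eq_of_smul_eq_smul (α := α) fun a => ?_
    rw [one_smul]
    exact (h1 ▸ Set.mem_univ a : a ∈ MulAction.fixedPoints (pPrimeCore p G) α) ⟨g, hg⟩
  · have := MulAction.IsQuasiPreprimitive.isPretransitive_of_normal h1
    obtain ⟨a, -⟩ := (Set.ne_univ_iff_exists_notMem _).1 h1
    refine (not_dvd_card_pPrimeCore (G := G) p (h.trans ?_)).elim
    rw [← MulAction.index_stabilizer_of_transitive (pPrimeCore p G) a]
    exact Subgroup.index_dvd_card _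

/-- The normalizer of `P` is dihedral of order `2p`. -/
structure DihNorm (p : ℕ) (P : Subgroup G) : Prop where
  ne_two : p ≠ 2
  card : Nat.card P = p
  cen : Subgroup.centralizer (P : Set G) ≤ P
  idx : autIdx P = 2

namespace DihNorm

variable [Finite G] {p : ℕ} [hp : Fact p.Prime] {P : Subgroup G} (H : DihNorm p P)
include H

theorem cen_eq : Subgroup.centralizer (P : Set G) = P :=
  le_antisymm H.cen (le_centralizer_of_card_prime H.card)

theorem relIndex_eq : P.relIndex (Subgroup.normalizer (P : Set G)) = 2 := by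
  have := H.idx
  rwa [autIdx, H.cen_eq] at this

theorem card_normalizer : Nat.card (Subgroup.normalizer (P : Set G)) = 2 * p := by
  rw [← card_mul_relIndex Subgroup.le_normalizer, H.relIndex_eq, H.card, mul_comm]

theorem exists_notMem : ∃ y ∈ Subgroup.normalizer (P : Set G), y ∉ P := by
  by_contra h
  push Not at h
  have := H.relIndex_eq
  rw [Subgroup.relIndex_eq_one.2 h] at this
  omega

theorem eq_one_of_commute {y u : G} (hy : y ∉ P) (hu : u ∈ P) (h : Commute y u) : u = 1 := by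
  by_contra h1
  apply hy
  apply H.cen
  rw [← centralizer_singleton_of_card_prime H.card hu h1, Subgroup.mem_centralizer_singleton_iff]
  exact h.eq

theorem mul_mem {y z : G} (hy : y ∈ Subgroup.normalizer (P : Set G)) (hyP : y ∉ P)
    (hz : z ∈ Subgroup.normalizer (P : Set G)) (hzP : z ∉ P) : y * z ∈ P := by
  have := (Subgroup.mul_mem_iff_of_index_two (H := P.subgroupOf (Subgroup.normalizer (P : Set G)))
    H.relIndex_eq (a := ⟨y, hy⟩) (b := ⟨z, hz⟩)).2 (by simp [Subgroup.mem_subgroupOf, hyP, hzP])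
  exact this

theorem mul_self {y : G} (hy : y ∈ Subgroup.normalizer (P : Set G)) (hyP : y ∉ P) : y * y = 1 :=
  H.eq_one_of_commute hyP (H.mul_mem hy hyP hy hyP) ((Commute.refl y).mul_right (Commute.refl y))

theorem conj_eq_inv {y u : G} (hy : y ∈ Subgroup.normalizer (P : Set G)) (hyP : y ∉ P)
    (hu : u ∈ P) : y * u * y = u⁻¹ := by
  have h1 := H.mul_self (y := u * y) (Subgroup.mul_mem _ (Subgroup.le_normalizer hu) hy)
    fun h => hyP ((P.mul_mem_cancel_left hu).1 h)
  rw [eq_inv_iff_mul_eq_one, ← mul_left_cancel_iff (a := u), mul_one, ← mul_assoc]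
  rw [show u * (y * u * y) = u * y * (u * y) by group, h1, one_mul]

theorem isConj_mul {y u : G} (hy : y ∈ Subgroup.normalizer (P : Set G)) (hyP : y ∉ P)
    (hu : u ∈ P) : IsConj y (u * y) := by
  obtain ⟨k, hk⟩ := hp.out.odd_of_ne_two H.ne_two
  have h1 : u ^ p = 1 := by
    have := pow_card_eq_one' (G := P) (x := ⟨u, hu⟩)
    rw [H.card] at this
    exact congrArg Subtype.val this
  have h2 : u ^ (k + 1) * u ^ (k + 1) = u := by
    rw [← pow_add, show k + 1 + (k + 1) = p + 1 by omega, pow_succ, h1, one_mul]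
  rw [isConj_iff]
  refine ⟨u ^ (k + 1), ?_⟩
  have h3 := H.conj_eq_inv hy hyP (P.pow_mem hu (k + 1))
  rw [← h3]
  have h4 := H.mul_self hy hyP
  calc u ^ (k + 1) * y * (y * u ^ (k + 1) * y)
      = u ^ (k + 1) * (y * y) * u ^ (k + 1) * y := by group
    _ = _ := by rw [h4, mul_one, h2]

theorem isConj {y z : G} (hy : y ∈ Subgroup.normalizer (P : Set G)) (hyP : y ∉ P)
    (hz : z ∈ Subgroup.normalizer (P : Set G)) (hzP : z ∉ P) : IsConj y z := by
  have := H.isConj_mul hy hyP (H.mul_mem hz hzP hy hyP)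
  rwa [mul_assoc, H.mul_self hy hyP, mul_one] at this

theorem mem_of_mul_eq {v w u : G} (hv : v * v = 1) (hv1 : v ≠ 1) (hw : w * w = 1) (hu : u ∈ P)
    (hu1 : u ≠ 1) (h : v * w = u) : v ∈ Subgroup.normalizer (P : Set G) ∧ v ∉ P := by
  constructor
  · refine mem_normalizer_of_conj_mem_of_card_prime H.card hu hu1 ?_
    have : v⁻¹ * u * v = u⁻¹ := by
      rw [← h, mul_inv_rev, inv_eq_of_mul_eq_one_right hw, inv_eq_of_mul_eq_one_right hv,
        ← mul_assoc v v, hv, one_mul]
    rw [this]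
    exact P.inv_mem hu
  · intro h1
    have h2 := orderOf_eq_of_card_prime H.card h1 hv1
    rw [orderOf_eq_prime (p := 2) (by rw [pow_two, hv]) hv1] at h2
    exact H.ne_two h2.symm

theorem card_pairs {y u : G} (hy : y ∈ Subgroup.normalizer (P : Set G)) (hyP : y ∉ P)
    (hu : u ∈ P) (hu1 : u ≠ 1) :
    Nat.card {x : G × G // IsConj y x.1 ∧ IsConj y x.2 ∧ x.1 * x.2 = u} = p := by
  have hsq : ∀ v, IsConj y v → v * v = 1 ∧ v ≠ 1 := by
    intro v hv
    obtain ⟨c, rfl⟩ := isConj_iff.1 hv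
    constructor
    · rw [conj_mul, H.mul_self hy hyP, mul_one, mul_inv_cancel]
    · intro h
      rw [mul_inv_eq_one, mul_eq_left] at h
      exact hyP (h ▸ P.one_mem)
  rw [← H.card]
  symm
  refine Nat.card_congr (Equiv.ofBijective (fun a : P => ⟨(a * y, u⁻¹ * a * y), ?_, ?_, ?_⟩)
    ⟨?_, ?_⟩)
  · exact H.isConj_mul hy hyP a.2
  · exact H.isConj_mul hy hyP (P.mul_mem (P.inv_mem hu) a.2)
  · have := H.conj_eq_inv hy hyP (P.mul_mem (P.inv_mem hu) a.2)
    calc (a : G) * y * (u⁻¹ * a * y) = a * (y * (u⁻¹ * a) * y) := by group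
      _ = u := by rw [this]; group
  · intro a b hab
    simpa using congrArg (fun x => x.1.1) hab
  · rintro ⟨⟨v, w⟩, hv, hw, h⟩
    obtain ⟨h1, h2⟩ := H.mem_of_mul_eq (hsq v hv).1 (hsq v hv).2 (hsq w hw).1 hu hu1 h
    refine ⟨⟨v * y, H.mul_mem h1 h2 hy hyP⟩, Subtype.ext ?_⟩
    simp only [mul_assoc, H.mul_self hy hyP, mul_one, Prod.mk.injEq, true_and]
    simp only at h
    rw [← h, mul_inv_rev, inv_eq_of_mul_eq_one_right (hsq w hw).1, mul_assoc, inv_mul_cancel,
      mul_one]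

end DihNorm

theorem PrinOne.X_eq_pair [Fintype G] [DecidableEq (IrrCharacter G)] {p : ℕ} {P : Subgroup G}
    (O : PrinOne p P) (h : autIdx P = 2) {ζ : IrrCharacter G} (hζ : ζ ∈ O.X)
    (h1 : ζ ≠ IrrCharacter.triv G) : O.X = {IrrCharacter.triv G, ζ} := by
  symm
  refine Finset.eq_of_subset_of_card_le ?_ ?_
  · intro χ hχ
    rcases Finset.mem_insert.1 hχ with rfl | hχ
    · exact O.triv_mem
    · rwa [Finset.mem_singleton.1 hχ]
  · rw [O.card_X, h, Finset.card_pair h1.symm]

theorem PrinOne.sum_X_of_two [Fintype G] {p : ℕ} {P : Subgroup G}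
    (O : PrinOne p P) (h : autIdx P = 2) {ζ : IrrCharacter G} (hζ : ζ ∈ O.X)
    (h1 : ζ ≠ IrrCharacter.triv G) {M : Type*} [AddCommMonoid M] (F : IrrCharacter G → M) :
    ∑ χ ∈ O.X, F χ = F (IrrCharacter.triv G) + F ζ := by
  classical
  rw [O.X_eq_pair h hζ h1, Finset.sum_pair h1.symm]

theorem PrinOne.sum_irr_eq [Fintype G] {p : ℕ} {P : Subgroup G} (O : PrinOne p P)
    {M : Type*} [AddCommMonoid M] (F : IrrCharacter G → M)
    (h : ∀ χ, χ ∉ O.X → χ ∉ O.Y → F χ = 0) :
    ∑ χ, F χ = ∑ χ ∈ O.X, F χ + ∑ χ ∈ O.Y, F χ := by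
  classical
  rw [← Finset.sum_union (Finset.disjoint_right.2 O.notMem)]
  symm
  refine Finset.sum_subset (Finset.subset_univ _) fun χ _ hχ => ?_
  rw [Finset.mem_union, not_or] at hχ
  exact h χ hχ.1 hχ.2

/-- `|N_G(P)| = 2p` and the principal block contains a character of degree `p - 1`. -/
structure QTwo [Fintype G] (p : ℕ) [Fact p.Prime] (P : Sylow p G)
    (O : PrinOne p (P : Subgroup G)) (ζ : IrrCharacter G) : Prop
    extends DihNorm p (P : Subgroup G) where
  five_le : 5 ≤ p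
  core : pPrimeCore p G = ⊥
  mem : ζ ∈ O.X
  deg : charDegree ζ.1 + 1 = p

namespace QTwo

variable [Fintype G] {p : ℕ} [hp : Fact p.Prime] {P : Sylow p G}
  {O : PrinOne p (P : Subgroup G)} {ζ : IrrCharacter G} (H : QTwo p P O ζ)
include H

theorem ne_triv : ζ ≠ IrrCharacter.triv G := by
  intro h
  have h1 := H.deg
  have h2 := H.five_le
  rw [h, IrrCharacter.charDegree_triv] at h1
  omega

theorem apply_one : ζ.1 1 = (p : ℂ) - 1 := by
  rw [ζ.one_eq_charDegree, ← H.deg]; push_cast; ring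

theorem δ_eq : O.δ ζ = -1 := by
  refine (O.δ_sign ζ H.mem).resolve_left fun h => ?_
  have h1 := O.fixDim_X H.card H.mem
  have h2 : (charDegree ζ.1 : ℤ) = p - 1 := by rw [← H.deg]; push_cast; ring
  rw [h, h2] at h1
  have h3 : (p : ℤ) ∣ 2 := ⟨2 - fixDim (P : Subgroup G) ζ.1, by linear_combination h1⟩
  have h4 := Int.le_of_dvd (by norm_num) h3
  have := H.five_le
  omega

theorem fixDim_eq : fixDim (P : Subgroup G) ζ.1 = 0 := by
  have h1 := O.fixDim_X H.card H.mem
  have h2 : (charDegree ζ.1 : ℤ) = p - 1 := by rw [← H.deg]; push_cast; ring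
  rw [H.δ_eq, h2] at h1
  have h3 : (p : ℤ) * fixDim (P : Subgroup G) ζ.1 = 0 := by linear_combination h1
  exact_mod_cast (mul_eq_zero.1 h3).resolve_left (by exact_mod_cast hp.out.ne_zero)

theorem δ₀_eq_and {ψ : IrrCharacter G} (hψ : ψ ∈ O.Y) : O.δ₀ = 1 ∧ charDegree ψ.1 + 2 = p := by
  have h1 := O.degree_rel hψ
  rw [O.sum_X_of_two H.idx H.mem H.ne_triv, O.δ_triv, H.δ_eq, IrrCharacter.charDegree_triv] at h1
  have h2 := H.deg
  have h3 := H.five_le
  rcases O.δ₀_sign with h | h <;> rw [h] at h1 <;> omega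

theorem δ₀_eq : O.δ₀ = 1 := (H.δ₀_eq_and O.Y_nonempty.choose_spec).1

theorem Y_one {ψ : IrrCharacter G} (hψ : ψ ∈ O.Y) : ψ.1 1 = (p : ℂ) - 2 := by
  rw [ψ.one_eq_charDegree, ← (H.δ₀_eq_and hψ).2]; push_cast; ring

theorem Y_reg {ψ : IrrCharacter G} (hψ : ψ ∈ O.Y) {g : G} (hg : ¬ p ∣ orderOf g) :
    ψ.1 g = ζ.1 g - 1 := by
  have h1 := O.reg ψ hψ g hg
  rw [O.sum_X_of_two H.idx H.mem H.ne_triv, O.δ_triv, H.δ_eq, H.δ₀_eq] at h1
  simp only [IrrCharacter.triv_apply] at h1
  push_cast at h1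
  linear_combination h1

theorem apply_sing {g : G} (hg : p ∣ orderOf g) : ζ.1 g = -1 := by
  rw [O.X_sing ζ H.mem g hg, H.δ_eq]; simp

theorem cast_card_Y : 2 * (O.Y.card : ℂ) = p - 1 := by
  have h1 := O.card_Y
  rw [H.idx] at h1
  have h2 : 2 * O.Y.card + 1 = p := by have := H.five_le; omega
  have h3 : ((2 * O.Y.card + 1 : ℕ) : ℂ) = p := by rw [h2]
  push_cast at h3
  linear_combination h3

theorem inner_const {ψ : IrrCharacter G} (hψ : ψ ∈ O.Y) {f : G → ℂ} {c : ℂ}
    (hf : ∀ g, p ∣ orderOf g → f g = c) :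
    classInner f ψ.1 + classInner f (IrrCharacter.triv G).1 = c + classInner f ζ.1 := by
  have h1 := O.inner_const hψ hf
  rw [O.sum_X_of_two H.idx H.mem H.ne_triv, O.δ_triv, H.δ_eq, H.δ₀_eq] at h1
  push_cast at h1
  linear_combination h1

theorem eq_one_of_apply {g : G} (h : ζ.1 g = (p : ℂ) - 1) : g = 1 := by
  have h1 := O.charKer_X_eq_bot H.card H.core H.mem (by have := H.deg; have := H.five_le; omega)
  exact ζ.charKer_eq_bot_iff.1 h1 g (h.trans H.apply_one.symm)

theorem apply_notMem {y : G} (hy : y ∈ Subgroup.normalizer ((P : Subgroup G) : Set G))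
    (hyP : y ∉ (P : Subgroup G)) : ζ.1 y = 0 := by
  have := Fintype.ofFinite (P : Subgroup G)
  have h1 := ζ.isCharacter.sum_mul_eq_zero_of_fixDim H.fixDim_eq y
  rw [Finset.sum_congr rfl (g := fun _ => ζ.1 y) fun (u : (P : Subgroup G)) _ =>
    (ζ.isClassFunction.eq_of_isConj (H.isConj_mul hy hyP u.2)).symm, Finset.sum_const,
    nsmul_eq_mul] at h1
  exact (mul_eq_zero.1 h1).resolve_left (by exact_mod_cast Fintype.card_ne_zero)

omit H [Fintype G] in
theorem dvd_orderOf_mul_self (h2 : p ≠ 2) {g : G} : p ∣ orderOf (g * g) ↔ p ∣ orderOf g := by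
  rw [← pow_two]
  refine ⟨fun h => h.trans (orderOf_pow_dvd 2), fun h => ?_⟩
  have h1 : orderOf g ∣ 2 * orderOf (g ^ 2) := by
    rw [orderOf_dvd_iff_pow_eq_one, pow_mul, pow_orderOf_eq_one]
  exact ((Nat.Prime.dvd_mul hp.out).1 (h.trans h1)).resolve_left
    fun h3 => h2 ((Nat.prime_dvd_prime_iff_eq hp.out Nat.prime_two).1 h3)

theorem altSq_reg {g : G} (hg : ¬ p ∣ orderOf g) :
    ζ.1 g ^ 2 - ζ.1 (g * g) = ((p : ℂ) - 1) * (ζ.1 g - 1) := by
  set Λ : G → ℂ := fun g => (ζ.1 g ^ 2 - ζ.1 (g * g)) / 2 with hΛ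
  have hc : IsCharacter G Λ := ζ.isCharacter.altSq
  have h1 : ∀ g, p ∣ orderOf g → Λ g = 1 := fun g hg => by
    simp only [hΛ]
    rw [H.apply_sing hg, H.apply_sing ((dvd_orderOf_mul_self H.ne_two).2 hg)]
    norm_num
  have hone : Λ 1 = ((p : ℂ) - 1) * (p - 2) / 2 := by
    simp only [hΛ, mul_one, H.apply_one]; ring
  have h2 : classInner Λ (IrrCharacter.triv G).1 = 0 := by
    by_contra h
    set N := Subgroup.normalizer ((P : Subgroup G) : Set G)
    have := Fintype.ofFinite (P : Subgroup G)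
    have := Fintype.ofFinite N
    obtain ⟨y, hy, hyP⟩ := H.exists_notMem
    have h3 := hc.card_mul_fixDim N
    rw [sum_of_relIndex_two Subgroup.le_normalizer H.relIndex_eq hy hyP,
      sum_subgroup_of_const (c := 1) fun u hu hu1 =>
        h1 u (by rw [orderOf_eq_of_card_prime H.card hu hu1]),
      Finset.sum_congr rfl (g := fun _ => -((p : ℂ) - 1) / 2) fun (u : (P : Subgroup G)) _ => by
        have h4 : (u : G) * y ∈ N := N.mul_mem (Subgroup.le_normalizer u.2) hy
        have h5 : (u : G) * y ∉ (P : Subgroup G) := fun h =>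
          hyP (((P : Subgroup G).mul_mem_cancel_left u.2).1 h)
        simp only [hΛ]
        rw [H.apply_notMem h4 h5, H.mul_self h4 h5, H.apply_one]
        ring,
      Finset.sum_const, Finset.card_univ, ← Nat.card_eq_fintype_card, H.card, hone,
      nsmul_eq_mul] at h3
    have h6 : fixDim N Λ = 0 := by
      have h7 : (Nat.card N : ℂ) * fixDim N Λ = 0 := by rw [h3]; ring
      exact_mod_cast (mul_eq_zero.1 h7).resolve_left (by exact_mod_cast Nat.card_pos.ne')
    have h8 := hc.fixDim_eq_zero_of_constituent h6 h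
    rw [← IrrCharacter.ofHom_one, fixDim_ofHom (fun _ _ => rfl)] at h8
    exact one_ne_zero h8
  have h3 : ∀ ψ ∈ O.Y, classInner Λ ψ.1 ≠ 0 := by
    intro ψ hψ
    have h4 := H.inner_const hψ h1
    rw [h2, add_zero, ← hc.cast_cmult ζ.isCharacter] at h4
    rw [h4]
    exact_mod_cast Nat.ne_of_gt (by omega)
  obtain ⟨ψ, hψ⟩ := O.Y_nonempty
  have h4 := hc.eq_sum_of_charDegree_le O.Y h3 (le_of_eq (by
    have : (charDegree Λ : ℂ) = (∑ ξ ∈ O.Y, charDegree ξ.1 : ℕ) := by
      rw [O.sum_Y_deg hψ, ← hc.one_eq_charDegree, hone]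
      push_cast
      rw [← ψ.one_eq_charDegree, H.Y_one hψ, ← H.cast_card_Y]
      ring
    exact_mod_cast this)) g
  rw [O.sum_Y_reg hψ hg, H.Y_reg hψ hg] at h4
  rw [← H.cast_card_Y]
  simp only [hΛ] at h4
  linear_combination 2 * h4

theorem exists_int (g : G) : ∃ a : ℤ, ζ.1 g = a := by
  refine exists_int_of_isIntegral_of_rat (ζ.isIntegral g)
    (ζ.isCharacter.isGeneralizedCharacter.exists_rat_of_forall_pow fun k hk => ?_)
  suffices h : ζ.powConj k hk = ζ by
    rw [← IrrCharacter.powConj_apply ζ k hk, h]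
  obtain ⟨u, hu, hu1⟩ := exists_ne_one_of_card_prime H.card
  have h1 : p ∣ orderOf u := by rw [orderOf_eq_of_card_prime H.card hu hu1]
  have h2 : (ζ.powConj k hk).1 u = -1 := by
    rw [IrrCharacter.powConj_apply, H.apply_sing]
    rwa [(hk.symm.coprime_dvd_left (orderOf_dvd_natCard u)).orderOf_pow]
  have h3 := ζ.charDegree_powConj k hk
  have h4 := H.deg
  have h5 := H.five_le
  by_cases hX : ζ.powConj k hk ∈ O.X
  · classical
    rw [O.X_eq_pair H.idx H.mem H.ne_triv, Finset.mem_insert, Finset.mem_singleton] at hX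
    refine hX.resolve_left fun h => ?_
    rw [h, IrrCharacter.charDegree_triv] at h3
    omega
  · by_cases hY : ζ.powConj k hk ∈ O.Y
    · have := (H.δ₀_eq_and hY).2
      omega
    · rw [O.other H.cen _ hX hY u h1] at h2
      norm_num at h2

omit H in
theorem int_le_charDegree {χ : IrrCharacter G} {g : G} {a : ℤ} (h : χ.1 g = a) :
    a ≤ charDegree χ.1 := by
  have := χ.isCharacter.re_le g
  rw [h, Complex.intCast_re] at this
  exact_mod_cast this

theorem values {g : G} (hg : ¬ p ∣ orderOf g) :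
    ∃ a : ℤ, ζ.1 g = a ∧ 0 ≤ a ∧ (a = 0 → g * g = 1) ∧ (g * g = 1 → g ≠ 1 → a = 0) := by
  obtain ⟨a, ha⟩ := H.exists_int g
  obtain ⟨b, hb⟩ := H.exists_int (g * g)
  have h1 := H.altSq_reg hg
  rw [ha, hb] at h1
  have h2 : a ^ 2 - b = (p - 1) * (a - 1) := by exact_mod_cast h1
  have h3 := int_le_charDegree hb
  have h4 : (charDegree ζ.1 : ℤ) = p - 1 := by rw [← H.deg]; push_cast; ring
  have h5 : (5 : ℤ) ≤ p := by exact_mod_cast H.five_le
  refine ⟨a, ha, by nlinarith, fun h => H.eq_one_of_apply ?_, fun h h1 => ?_⟩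
  · rw [hb, show b = p - 1 by rw [h] at h2; linarith]; push_cast; rfl
  · rw [h, H.apply_one] at hb
    have h6 : b = p - 1 := by exact_mod_cast hb.symm
    have h7 : a * (a - (p - 1)) = 0 := by rw [h6] at h2; linarith
    refine (mul_eq_zero.1 h7).resolve_right fun h8 => h1 (H.eq_one_of_apply ?_)
    rw [ha, sub_eq_zero.1 h8]; push_cast; rfl

theorem not_dvd_of_mul_self {v : G} (hv : v * v = 1) : ¬ p ∣ orderOf v := by
  rw [← dvd_orderOf_mul_self H.ne_two, hv, orderOf_one]
  exact hp.out.not_dvd_one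

theorem apply_invol {v : G} (hv : v * v = 1) (hv1 : v ≠ 1) : ζ.1 v = 0 := by
  obtain ⟨a, ha, -, -, h⟩ := H.values (H.not_dvd_of_mul_self hv)
  rw [ha, h hv hv1, Int.cast_zero]

theorem sum_invol {v w u : G} (hv : v * v = 1) (hv1 : v ≠ 1) (hw : w * w = 1) (hw1 : w ≠ 1)
    (hu : p ∣ orderOf u) : ∑ χ : IrrCharacter G, χ.1 v * χ.1 w * conj (χ.1 u) / χ.1 1 =
      ((p : ℂ) - 1) / (p - 2) := by
  have h0 : (p : ℂ) - 2 ≠ 0 := by
    rw [sub_ne_zero]; exact_mod_cast H.ne_two
  rw [O.sum_irr_eq _ fun χ hX hY => by rw [O.other H.cen χ hX hY u hu]; simp,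
    O.sum_X_of_two H.idx H.mem H.ne_triv, H.apply_invol hv hv1,
    Finset.sum_congr rfl (g := fun ψ : IrrCharacter G => conj (ψ.1 u) / (p - 2))
      fun (ψ : IrrCharacter G) hψ => by
      rw [H.Y_reg hψ (H.not_dvd_of_mul_self hv), H.Y_reg hψ (H.not_dvd_of_mul_self hw),
        H.apply_invol hv hv1, H.apply_invol hw hw1, H.Y_one hψ]
      ring,
    ← Finset.sum_div, ← map_sum, O.Y_sing u hu, H.δ₀_eq]
  simp
  field_simp
  ring

theorem isConj_invol {v w : G} (hv : v * v = 1) (hv1 : v ≠ 1) (hw : w * w = 1) (hw1 : w ≠ 1) :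
    IsConj v w := by
  obtain ⟨u, hu, hu1⟩ := exists_ne_one_of_card_prime H.card
  have h0 : ((p : ℂ) - 1) / (p - 2) ≠ 0 :=
    div_ne_zero (sub_ne_zero.2 (by exact_mod_cast hp.out.ne_one))
      (sub_ne_zero.2 (by exact_mod_cast H.ne_two))
  obtain ⟨x, y, h⟩ := (exists_conj_mul_conj_eq_iff v w u).2 (by
    rwa [H.sum_invol hv hv1 hw hw1 (by rw [orderOf_eq_of_card_prime H.card hu hu1])])
  have h1 : x * v * x⁻¹ * (x * v * x⁻¹) = 1 := by rw [conj_mul, hv]; simp
  have h2 : y * w * y⁻¹ * (y * w * y⁻¹) = 1 := by rw [conj_mul, hw]; simp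
  have h3 : x * v * x⁻¹ ≠ 1 := by simpa using hv1
  have h4 : y * w * y⁻¹ ≠ 1 := by simpa using hw1
  obtain ⟨h5, h6⟩ := H.mem_of_mul_eq h1 h3 h2 hu hu1 h
  obtain ⟨h7, h8⟩ := H.mem_of_mul_eq h2 h4 h1 ((P : Subgroup G).inv_mem hu) (inv_ne_one.2 hu1)
    (by rw [← h, mul_inv_rev, inv_eq_of_mul_eq_one_right h1, inv_eq_of_mul_eq_one_right h2])
  exact (isConj_iff.2 ⟨x, rfl⟩).trans ((H.isConj h5 h6 h7 h8).trans (isConj_iff.2 ⟨y, rfl⟩).symm)

theorem index_sq_mul {v : G} (hv : v * v = 1) (hv1 : v ≠ 1) :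
    (Subgroup.centralizer ({v} : Set G)).index * (p - 1) =
      Nat.card (Subgroup.centralizer ({v} : Set G)) * p * (p - 2) := by
  obtain ⟨u, hu, hu1⟩ := exists_ne_one_of_card_prime H.card
  obtain ⟨y, hy, hyP⟩ := H.exists_notMem
  have hy1 : y ≠ 1 := fun h => hyP (h ▸ Subgroup.one_mem _)
  have hc := H.isConj_invol hv hv1 (H.mul_self hy hyP) hy1
  have h1 := card_isConj_mul_isConj_eq v v u
  have h2 : Nat.card {x : G × G // IsConj v x.1 ∧ IsConj v x.2 ∧ x.1 * x.2 = u} = p := by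
    rw [← H.card_pairs hy hyP hu hu1]
    exact Nat.card_congr (Equiv.subtypeEquivRight fun x =>
      ⟨fun h => ⟨hc.symm.trans h.1, hc.symm.trans h.2.1, h.2.2⟩,
        fun h => ⟨hc.trans h.1, hc.trans h.2.1, h.2.2⟩⟩)
  rw [h2, H.sum_invol hv hv1 hv hv1 (by rw [orderOf_eq_of_card_prime H.card hu hu1]),
    ← (Subgroup.centralizer ({v} : Set G)).card_mul_index] at h1
  have h0 : (p : ℂ) - 2 ≠ 0 := by
    rw [sub_ne_zero]; exact_mod_cast H.ne_two
  have h3 : (Nat.card (Subgroup.centralizer ({v} : Set G)) : ℂ) ≠ 0 := by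
    exact_mod_cast Nat.card_pos.ne'
  have h4 : ((Subgroup.centralizer ({v} : Set G)).index : ℂ) ≠ 0 := by
    exact_mod_cast Subgroup.index_ne_zero_of_finite
  have h5 := H.five_le
  push_cast at h1
  field_simp at h1
  have h6 : (((Subgroup.centralizer ({v} : Set G)).index * (p - 1) : ℕ) : ℂ) =
      (Nat.card (Subgroup.centralizer ({v} : Set G)) * p * (p - 2) : ℕ) := by
    push_cast [show 1 ≤ p by omega, show 2 ≤ p by omega]
    linear_combination -h1
  exact_mod_cast h6

open Classical in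
theorem sum_reg : (p : ℂ) * ∑ g : G with ¬ p ∣ orderOf g, (ζ.1 g - 1) = -Nat.card G := by
  have h0 : (Nat.card G : ℂ) ≠ 0 := by exact_mod_cast Nat.card_pos.ne'
  have hs : ∀ χ : IrrCharacter G, χ ≠ IrrCharacter.triv G → ∑ g, χ.1 g = 0 := by
    intro χ hχ
    have := IrrCharacter.classInner_of_ne hχ
    rw [classInner_def] at this
    simpa using (mul_eq_zero.1 this).resolve_left (inv_ne_zero h0)
  set n := (Finset.univ.filter fun g : G => p ∣ orderOf g).card with hn
  have h1 := hs ζ H.ne_triv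
  rw [← Finset.sum_filter_add_sum_filter_not _ (fun g : G => p ∣ orderOf g),
    Finset.sum_congr rfl (g := fun _ => (-1 : ℂ)) fun g hg =>
      H.apply_sing (Finset.mem_filter.1 hg).2, Finset.sum_const, ← hn] at h1
  have h2 : ∑ g : G, ∑ ψ ∈ O.Y, ψ.1 g = 0 := by
    rw [Finset.sum_comm]
    exact Finset.sum_eq_zero fun ψ hψ => hs ψ fun h => O.notMem ψ hψ (h ▸ O.triv_mem)
  obtain ⟨ψ, hψ⟩ := O.Y_nonempty
  rw [← Finset.sum_filter_add_sum_filter_not _ (fun g : G => p ∣ orderOf g),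
    Finset.sum_congr rfl (g := fun _ => (1 : ℂ)) fun g hg => by
      rw [O.Y_sing g (Finset.mem_filter.1 hg).2, H.δ₀_eq, Int.cast_one],
    Finset.sum_const, ← hn,
    Finset.sum_congr rfl (g := fun g => O.Y.card * (ζ.1 g - 1)) fun g hg => by
      rw [O.sum_Y_reg hψ (Finset.mem_filter.1 hg).2, H.Y_reg hψ (Finset.mem_filter.1 hg).2],
    ← Finset.mul_sum] at h2
  have h3 : (n : ℂ) + (Finset.univ.filter fun g : G => ¬ p ∣ orderOf g).card = Nat.card G := by
    rw [hn, ← Nat.cast_add, Finset.card_filter_add_card_filter_not, Finset.card_univ,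
      Nat.card_eq_fintype_card]
  have h4 := H.cast_card_Y
  rw [Finset.sum_sub_distrib, Finset.sum_const] at h2 ⊢
  simp only [nsmul_eq_mul] at h1 h2 ⊢
  linear_combination 2 * h2 + h1 - h3 - (∑ g : G with ¬ p ∣ orderOf g, ζ.1 g -
    (Finset.univ.filter fun g : G => ¬ p ∣ orderOf g).card) * h4

theorem main {v : G} (hv : v * v = 1) (hv1 : v ≠ 1) :
    Nat.card (Subgroup.centralizer ({v} : Set G)) + 1 = p ∧
      (Subgroup.centralizer ({v} : Set G)).index = p * (p - 2) ∧
      ∀ g : G, ¬ p ∣ orderOf g → g * g ≠ 1 → ζ.1 g = 1 := by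
  classical
  choose a ha using H.exists_int
  have h5 := H.five_le
  set c := Nat.card (Subgroup.centralizer ({v} : Set G)) with hc
  set I := (Subgroup.centralizer ({v} : Set G)).index with hI
  have hG : Nat.card G = c * I := (Subgroup.card_mul_index _).symm
  have h1 : I * (p - 1) = c * p * (p - 2) := H.index_sq_mul hv hv1
  have hIc : (Finset.univ.filter fun g : G => IsConj v g).card = I := by
    rw [hI, ← card_isConj_eq_index_centralizer, Nat.card_eq_fintype_card, Fintype.card_subtype]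
  have hconj : ∀ g, IsConj v g ↔ g * g = 1 ∧ g ≠ 1 := by
    intro g
    refine ⟨fun h => ?_, fun h => H.isConj_invol hv hv1 h.1 h.2⟩
    obtain ⟨x, rfl⟩ := isConj_iff.1 h
    exact ⟨by rw [conj_mul, hv]; simp, by simpa using hv1⟩
  let b : G → ℤ := fun g => a g - 1 + (if IsConj v g then 1 else 0) - if g = 1 then (p : ℤ) - 2 else 0
  have ha1 : a 1 = p - 1 := by
    have := (ha 1).symm.trans H.apply_one
    exact_mod_cast this
  have hb : ∀ g ∈ Finset.univ.filter fun g : G => ¬ p ∣ orderOf g, 0 ≤ b g := by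
    intro g hg
    obtain ⟨a', h1, h2, h3, h4⟩ := H.values (Finset.mem_filter.1 hg).2
    obtain rfl : a g = a' := by exact_mod_cast (ha g).symm.trans h1
    simp only [b, hconj]
    by_cases hg1 : g = 1
    · simp [hg1, ha1]
    · by_cases hg2 : g * g = 1
      · simp [hg1, hg2, h4 hg2 hg1]
      · have : a g ≠ 0 := fun h => hg2 (h3 h)
        simp [hg1, hg2]; omega
  have hsum : p * ∑ g : G with ¬ p ∣ orderOf g, b g = -(c * I) + p * I - p * (p - 2) := by
    have h2 := H.sum_reg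
    simp only [ha, hG] at h2
    have h3 : (p : ℤ) * ∑ g : G with ¬ p ∣ orderOf g, (a g - 1) = -(c * I) := by exact_mod_cast h2
    have h4 : ∑ g : G with ¬ p ∣ orderOf g, (if IsConj v g then (1 : ℤ) else 0) = I := by
      rw [Finset.sum_boole, Finset.filter_filter, ← hIc]
      exact congrArg (fun s : Finset G => (s.card : ℤ)) (Finset.filter_congr fun g _ =>
        ⟨fun h => h.2, fun h => ⟨H.not_dvd_of_mul_self ((hconj g).1 h).1, h⟩⟩)
    have h6 : ∑ g : G with ¬ p ∣ orderOf g, (if g = 1 then (p : ℤ) - 2 else 0) = p - 2 := by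
      rw [Finset.sum_ite_eq' , if_pos]
      simpa using hp.out.ne_one
    simp only [b]
    rw [Finset.sum_sub_distrib, Finset.sum_add_distrib, h4, h6]
    linear_combination h3
  have hnn : 0 ≤ ∑ g : G with ¬ p ∣ orderOf g, b g := Finset.sum_nonneg hb
  obtain ⟨m, rfl⟩ : ∃ m, p = m + 2 := ⟨p - 2, by omega⟩
  simp only [Nat.add_sub_cancel, show m + 2 - 1 = m + 1 by omega] at h1 ⊢
  have hcop : (m + 1).Coprime ((m + 2) * m) :=
    Nat.Coprime.mul_right (by simp [show m + 2 = (m + 1) + 1 from rfl]) (by simp)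
  obtain ⟨k, hk⟩ : m + 1 ∣ c := hcop.dvd_of_dvd_mul_right ⟨I, by rw [← mul_assoc, ← h1, mul_comm]⟩
  have hIk : I = k * (m + 2) * m := by
    rw [hk] at h1
    exact Nat.eq_of_mul_eq_mul_right (show 0 < m + 1 by omega) (by rw [h1]; ring)
  have hk0 : 0 < k := by
    have : 0 < c := Nat.card_pos
    rw [hk] at this
    exact Nat.pos_of_mul_pos_left this
  have hm : (3 : ℤ) ≤ m := by exact_mod_cast (show 3 ≤ m by omega)
  rw [hk, hIk] at hsum
  push_cast at hsum
  have hsum' : ∑ g : G with ¬ (m + 2) ∣ orderOf g, b g =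
      m * (k * (m + 2) - (m + 1) * k * k - 1) :=
    mul_left_cancel₀ (show (m : ℤ) + 2 ≠ 0 by omega) (by rw [hsum]; ring)
  have hk1 : k = 1 := by
    by_contra hne
    have h2 : (2 : ℤ) ≤ k := by exact_mod_cast (show 2 ≤ k by omega)
    rw [hsum'] at hnn
    have h3 : (0 : ℤ) ≤ k * (m + 2) - (m + 1) * k * k - 1 :=
      nonneg_of_mul_nonneg_right hnn (by omega) |> fun h => h
    nlinarith
  subst hk1
  refine ⟨by omega, by rw [hIk]; ring, fun g hg hg2 => ?_⟩
  have h0 : ∑ g : G with ¬ (m + 2) ∣ orderOf g, b g = 0 := by rw [hsum']; ring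
  have h2 := (Finset.sum_eq_zero_iff_of_nonneg hb).1 h0 g (by simpa using hg)
  have hg1 : g ≠ 1 := fun h => hg2 (by simp [h])
  simp only [b, hconj, hg2, false_and, if_false, hg1] at h2
  rw [ha, show a g = 1 by omega, Int.cast_one]

theorem card_eq : Nat.card G = p * (p - 1) * (p - 2) := by
  obtain ⟨y, hy, hyP⟩ := H.exists_notMem
  obtain ⟨h1, h2, -⟩ := H.main (H.mul_self hy hyP) fun h => hyP (h ▸ Subgroup.one_mem _)
  rw [← (Subgroup.centralizer ({y} : Set G)).card_mul_index, h2,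
    show Nat.card (Subgroup.centralizer ({y} : Set G)) = p - 1 by omega]
  ring

theorem mul_self_of_mem {v g : G} (hv : v * v = 1) (hv1 : v ≠ 1)
    (hg : g ∈ Subgroup.centralizer ({v} : Set G)) : g * g = 1 := by
  classical
  obtain ⟨h1, -, h3⟩ := H.main hv hv1
  set C := Subgroup.centralizer ({v} : Set G)
  have := Fintype.ofFinite C
  have h5 := H.five_le
  have h4 := ζ.isCharacter.card_mul_fixDim C
  rw [Finset.sum_congr rfl (g := fun c : C => (if c = 1 then (Nat.card C : ℂ) else 0) +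
      if (c : G) * c ≠ 1 then 1 else 0) fun (c : C) _ => ?_, Finset.sum_add_distrib,
    Finset.sum_ite_eq', if_pos (Finset.mem_univ _), Finset.sum_boole] at h4
  · set j := (Finset.univ.filter fun c : C => (c : G) * c ≠ 1).card with hj
    have h6 : Nat.card C * fixDim C ζ.1 = Nat.card C + j := by exact_mod_cast h4
    have h7 : j < Nat.card C := by
      rw [Nat.card_eq_fintype_card, ← Finset.card_univ]
      exact Finset.card_lt_card (Finset.filter_ssubset.2 ⟨1, Finset.mem_univ _, by simp⟩)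
    have h8 : j = 0 := Nat.eq_zero_of_dvd_of_lt
      ((Nat.dvd_add_right (dvd_refl _)).1 ⟨_, h6.symm⟩) h7
    by_contra h9
    exact Finset.card_ne_zero.2 ⟨⟨g, hg⟩, Finset.mem_filter.2 ⟨Finset.mem_univ _, h9⟩⟩ h8
  · by_cases hc : c = 1
    · have : (Nat.card C : ℂ) = p - 1 := by rw [← h1]; push_cast; ring
      rw [this]
      simp [hc, H.apply_one]
    · by_cases hc2 : (c : G) * c = 1
      · simp [hc, hc2, H.apply_invol hc2 fun h => hc (Subtype.ext h)]
      · have h6 : ¬ p ∣ orderOf (c : G) := fun h => by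
          have h7 := h.trans (Subgroup.orderOf_dvd_natCard C c.2)
          have := Nat.le_of_dvd Nat.card_pos h7
          omega
        simp [hc, hc2, h3 c h6 hc2]

theorem centralizer_eq_of_mem {v w : G} (hv : v * v = 1) (hv1 : v ≠ 1)
    (hw : w ∈ Subgroup.centralizer ({v} : Set G)) (hw1 : w ≠ 1) :
    Subgroup.centralizer ({v} : Set G) = Subgroup.centralizer ({w} : Set G) := by
  refine Subgroup.eq_of_le_of_card_ge (fun g hg => ?_) ?_
  · rw [Subgroup.mem_centralizer_singleton_iff]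
    have h1 := H.mul_self_of_mem hv hv1 (Subgroup.mul_mem _ hg hw)
    rw [← inv_eq_of_mul_eq_one_right h1, mul_inv_rev,
      inv_eq_of_mul_eq_one_right (H.mul_self_of_mem hv hv1 hg),
      inv_eq_of_mul_eq_one_right (H.mul_self_of_mem hv hv1 hw)]
  · have h1 := (H.main hv hv1).1
    have h2 := (H.main (H.mul_self_of_mem hv hv1 hw) hw1).1
    omega

theorem index_normalizer_centralizer {v : G} (hv : v * v = 1) (hv1 : v ≠ 1) :
    (Subgroup.normalizer (Subgroup.centralizer ({v} : Set G) : Set G)).index = p := by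
  obtain ⟨h1, h2, -⟩ := H.main hv hv1
  set C := Subgroup.centralizer ({v} : Set G) with hC
  set N := Subgroup.normalizer (C : Set G) with hN
  have hvC : v ∈ C := Subgroup.mem_centralizer_singleton_iff.2 rfl
  have hCN : C ≤ N := Subgroup.le_normalizer
  have h3 := card_isConj_eq_index_centralizer (⟨v, hCN hvC⟩ : N)
  have h4 : Subgroup.centralizer ({⟨v, hCN hvC⟩} : Set N) = C.subgroupOf N := by
    ext x
    rw [Subgroup.mem_subgroupOf, hC, Subgroup.mem_centralizer_singleton_iff,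
      Subgroup.mem_centralizer_singleton_iff, Subtype.ext_iff]
    rfl
  have h5 : Nat.card {x : N // IsConj ⟨v, hCN hvC⟩ x} = Nat.card {c : C // c ≠ 1} := by
    have hm : ∀ x : {x : N // IsConj ⟨v, hCN hvC⟩ x}, (x.1 : G) ∈ C ∧ (x.1 : G) ≠ 1 := by
      rintro ⟨x, hx⟩
      obtain ⟨n, rfl⟩ := isConj_iff.1 hx
      exact ⟨(Subgroup.mem_normalizer_iff.1 n.2 v).1 hvC, by simpa using hv1⟩
    refine Nat.card_congr (Equiv.ofBijective
      (fun x => ⟨⟨x.1, (hm x).1⟩, fun h => (hm x).2 (congrArg Subtype.val h)⟩) ⟨?_, ?_⟩)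
    · intro x y hxy
      exact Subtype.ext (Subtype.ext (congrArg (fun z => z.1.1) hxy))
    · rintro ⟨c, hc⟩
      have hc1 : (c : G) ≠ 1 := fun h => hc (Subtype.ext h)
      obtain ⟨g, hg⟩ := isConj_iff.1
        (H.isConj_invol hv hv1 (H.mul_self_of_mem hv hv1 c.2) hc1)
      have hgN : g ∈ N := by
        rw [hN, Subgroup.mem_normalizer_iff]
        intro x
        conv_rhs => rw [hC, H.centralizer_eq_of_mem hv hv1 c.2 hc1, ← hg]
        rw [hC, Subgroup.mem_centralizer_singleton_iff, Subgroup.mem_centralizer_singleton_iff,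
          conj_mul, conj_mul]
        simp
      exact ⟨⟨⟨c, hCN c.2⟩, isConj_iff.2 ⟨⟨g, hgN⟩, Subtype.ext hg⟩⟩, rfl⟩
  have h6 : Nat.card {c : C // c ≠ 1} = p - 2 := by
    classical
    have := Fintype.ofFinite C
    rw [Nat.card_eq_fintype_card, Fintype.card_subtype_compl, Fintype.card_subtype_eq,
      ← Nat.card_eq_fintype_card]
    omega
  rw [h4, h5, h6] at h3
  have h7 := Subgroup.relIndex_mul_index hCN
  rw [h2, Subgroup.relIndex, ← h3, mul_comm] at h7
  have := H.five_le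
  exact Nat.eq_of_mul_eq_mul_right (by omega) h7

theorem permChar_eq {α : Type v} [MulAction G α] [MulAction.IsPretransitive G α]
    (hα : Nat.card α = p) (g : G) : permChar G α g = 1 + ζ.1 g := by
  classical
  have : Finite α := Nat.finite_of_card_ne_zero (hα ▸ hp.out.ne_zero)
  have : Nonempty α := (Nat.card_ne_zero.1 (hα ▸ hp.out.ne_zero)).1
  have h1 : ∀ g : G, p ∣ orderOf g → permChar G α g = 0 := fun g hg =>
    permChar_eq_zero_of_dvd P H.card (hα ▸ dvd_refl _) hg
  obtain ⟨ψ, hψ⟩ := O.Y_nonempty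
  have hc : IsCharacter G (permChar G α) := isCharacter_permChar
  have h2 := H.inner_const hψ h1
  rw [classInner_permChar_triv, zero_add, ← hc.cast_cmult ψ.isCharacter] at h2
  have h3 := hc.eq_sum_of_charDegree_le {IrrCharacter.triv G, ζ} (by
    intro ξ hξ
    rcases Finset.mem_insert.1 hξ with rfl | hξ
    · rw [classInner_permChar_triv]; exact one_ne_zero
    · rw [Finset.mem_singleton.1 hξ, ← h2]
      exact Nat.cast_add_one_ne_zero _) (by
    rw [Finset.sum_pair H.ne_triv.symm, charDegree_permChar, hα, IrrCharacter.charDegree_triv]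
    have := H.deg
    omega) g
  rwa [Finset.sum_pair H.ne_triv.symm] at h3

theorem eq_one_of_card_fixedBy {α : Type v} [MulAction G α] [MulAction.IsPretransitive G α]
    (hα : Nat.card α = p) {g : G} (hg : 3 ≤ Nat.card (MulAction.fixedBy α g)) : g = 1 := by
  by_contra h1
  have h2 := H.permChar_eq hα g
  rw [permChar] at h2
  obtain ⟨y, hy, hyP⟩ := H.exists_notMem
  obtain ⟨-, -, h3⟩ := H.main (H.mul_self hy hyP) fun h => hyP (h ▸ Subgroup.one_mem _)
  have h4 : Nat.card (MulAction.fixedBy α g) = 0 ∨ Nat.card (MulAction.fixedBy α g) = 1 ∨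
      Nat.card (MulAction.fixedBy α g) = 2 := by
    by_cases h5 : p ∣ orderOf g
    · rw [H.apply_sing h5] at h2
      exact Or.inl (by exact_mod_cast h2.trans (by ring : _ = (0 : ℂ)))
    · by_cases h6 : g * g = 1
      · rw [H.apply_invol h6 h1] at h2
        exact Or.inr (Or.inl (by exact_mod_cast h2.trans (by ring : _ = (1 : ℂ))))
      · rw [h3 g h5 h6] at h2
        exact Or.inr (Or.inr (by exact_mod_cast h2.trans (by ring : _ = (2 : ℂ))))
  omega

theorem exists_perm : ∃ (α : Type u) (_ : Fintype α) (_ : DecidableEq α)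
    (K : Subgroup (Equiv.Perm α)), Fintype.card α = p ∧ Nonempty (G ≃* K) ∧
      MulAction.IsMultiplyPretransitive K α 3 ∧
      ∀ g : K, 3 ≤ Nat.card (MulAction.fixedBy α g) → g = 1 := by
  classical
  obtain ⟨y, hy, hyP⟩ := H.exists_notMem
  have h1 := H.index_normalizer_centralizer (H.mul_self hy hyP)
    fun h => hyP (h ▸ Subgroup.one_mem _)
  set N := Subgroup.normalizer (Subgroup.centralizer ({y} : Set G) : Set G)
  have hα : Nat.card (G ⧸ N) = p := h1
  have := Fintype.ofFinite (G ⧸ N)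
  have hinj : Function.Injective (MulAction.toPermHom G (G ⧸ N)) := by
    rw [injective_iff_map_eq_one]
    intro g hg
    refine H.eq_one_of_card_fixedBy hα ?_
    have : MulAction.fixedBy (G ⧸ N) g = Set.univ :=
      Set.eq_univ_of_forall fun a => DFunLike.congr_fun hg a
    have := H.five_le
    rw [‹MulAction.fixedBy (G ⧸ N) g = Set.univ›, Nat.card_univ, hα]
    omega
  have h2 : ∀ g : (MulAction.toPermHom G (G ⧸ N)).range,
      3 ≤ Nat.card (MulAction.fixedBy (G ⧸ N) g) → g = 1 := by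
    rintro ⟨_, g, rfl⟩ hg
    have := H.eq_one_of_card_fixedBy hα (g := g) hg
    exact Subtype.ext (by rw [this]; exact map_one _)
  refine ⟨G ⧸ N, this, inferInstance, (MulAction.toPermHom G (G ⧸ N)).range,
    Nat.card_eq_fintype_card.symm.trans hα, ⟨MonoidHom.ofInjective hinj⟩, ?_, h2⟩
  refine isMultiplyPretransitive_three_of_card ?_ h2
  rw [hα, ← H.card_eq]
  exact (Nat.card_congr (MonoidHom.ofInjective hinj).toEquiv).symm

end QTwo

theorem card_sylow_of_card_normalizer [Finite G] {p : ℕ} [hp : Fact p.Prime] (P : Sylow p G)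
    (hp2 : p ≠ 2) (hN : Nat.card (Subgroup.normalizer ((P : Subgroup G) : Set G)) = 2 * p)
    (hnn : ¬ (P : Subgroup G).Normal) : Nat.card P = p := by
  obtain ⟨k, hk⟩ := P.isPGroup'.exists_card_eq
  have h1 : p ^ k ∣ 2 * p := hk ▸ hN ▸ Subgroup.card_dvd_of_le Subgroup.le_normalizer
  have h2 : p ^ k ∣ p := (Nat.Coprime.pow_left k
    ((Nat.coprime_primes hp.out Nat.prime_two).2 hp2)).dvd_of_dvd_mul_left h1
  rcases (Nat.dvd_prime hp.out).1 h2 with h | h
  · rw [h, Subgroup.card_eq_one] at hk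
    exact (hnn (hk ▸ inferInstance)).elim
  · exact hk.trans h

theorem dihNorm_of_card_normalizer [Finite G] {p : ℕ} [hp : Fact p.Prime] (P : Sylow p G)
    (hp2 : p ≠ 2) (hN : Nat.card (Subgroup.normalizer ((P : Subgroup G) : Set G)) = 2 * p)
    (hO : pPrimeCore p G = ⊥) (hnn : ¬ (P : Subgroup G).Normal) : DihNorm p (P : Subgroup G) := by
  have hP : Nat.card (P : Subgroup G) = p := card_sylow_of_card_normalizer P hp2 hN hnn
  have h1 := card_mul_relIndex (Subgroup.centralizer_le_normalizer ((P : Subgroup G) : Set G))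
  obtain ⟨c, hc⟩ := Subgroup.card_dvd_of_le (le_centralizer_of_card_prime hP)
  rw [hN, hc, hP, mul_assoc, mul_comm 2] at h1
  have h2 := Nat.eq_of_mul_eq_mul_left hp.out.pos h1
  have h3 : autIdx (P : Subgroup G) ≠ 1 := by
    intro h
    have h4 := (hasNormalPComplement_iff_sup_sylow P).1
      (hasNormalPComplement_of_normalizer_le_centralizer P (Subgroup.relIndex_eq_one.1 h))
    rw [hO, bot_sup_eq] at h4
    exact hnn (h4 ▸ inferInstance)
  have h4 : autIdx (P : Subgroup G) = 2 :=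
    ((Nat.dvd_prime Nat.prime_two).1 (Dvd.intro_left _ h2)).resolve_left h3
  have h5 : c = 1 := by
    rw [show Subgroup.relIndex _ _ = 2 from h4] at h2
    omega
  refine ⟨hp2, hP, ?_, h4⟩
  exact (Subgroup.eq_of_le_of_card_ge (le_centralizer_of_card_prime hP)
    (by rw [hc, h5, mul_one])).ge

theorem DihNorm.charDegree_ne_one [Fintype G] {p : ℕ} [hp : Fact p.Prime] {P : Sylow p G}
    (H : DihNorm p (P : Subgroup G)) (hO : pPrimeCore p G = ⊥) (hnn : ¬ (P : Subgroup G).Normal)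
    (O : PrinOne p (P : Subgroup G)) {ζ : IrrCharacter G} (hζ : ζ ∈ O.X)
    (h1 : ζ ≠ IrrCharacter.triv G) : charDegree ζ.1 ≠ 1 := by
  intro hd
  obtain ⟨ψ, hψ⟩ := O.Y_nonempty
  have h2 := O.degree_rel hψ
  rw [O.sum_X_of_two H.idx hζ h1, O.δ_triv, hd, IrrCharacter.charDegree_triv] at h2
  have h3 := ψ.charDegree_pos
  have h4 : O.δ ζ = 1 ∧ O.δ₀ = -1 ∧ charDegree ψ.1 = 2 := by
    rcases O.δ₀_sign with h | h <;> rcases O.δ_sign ζ hζ with h' | h' <;>
      rw [h, h'] at h2 <;> omega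
  have h5 := O.charKer_Y_eq_bot H.card hO hψ (by omega)
  have hζ1 : ζ.1 1 = 1 := by rw [ζ.one_eq_charDegree, hd, Nat.cast_one]
  have h6 : IsPGroup p (charKer ζ.1) := by
    rintro ⟨g, hg⟩
    have h7 : pRegPart p g = 1 := by
      refine ψ.charKer_eq_bot_iff.1 h5 _ ?_
      have h8 := O.reg ψ hψ _ (not_dvd_orderOf_pRegPart (p := p) g)
      rw [O.sum_X_of_two H.idx hζ h1, O.δ_triv, h4.1, h4.2.1,
        ζ.mem_charKer.1 (pRegPart_mem p hg), hζ1] at h8
      rw [ψ.one_eq_charDegree, h4.2.2]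
      simp only [IrrCharacter.triv_apply] at h8
      push_cast at h8 ⊢
      linear_combination -h8
    obtain ⟨k, hk⟩ := pRegPart_eq_one_iff.1 h7
    exact ⟨k, Subtype.ext (by simp [← hk])⟩
  have h7 : (P : Subgroup G) = charKer ζ.1 := by
    refine le_antisymm (fun u hu => ζ.mem_charKer.2 ?_)
      ((le_pCore inferInstance h6).trans (pCore_le_sylow P))
    by_cases hu1 : u = 1
    · rw [hu1]
    · rw [O.X_sing ζ hζ u (by rw [orderOf_eq_of_card_prime H.card hu hu1]), h4.1, hζ1,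
        Int.cast_one]
  exact hnn (h7 ▸ inferInstance)

theorem DihNorm.exists_qTwo [Fintype G] {p : ℕ} [hp : Fact p.Prime] {P : Sylow p G}
    (H : DihNorm p (P : Subgroup G)) (h5 : 5 ≤ p) (hO : pPrimeCore p G = ⊥)
    (hnn : ¬ (P : Subgroup G).Normal) {α : Type v} [MulAction G α] [MulAction.IsPretransitive G α]
    (hα : Nat.card α = p ∨ Nat.card α = 2 * p ∧ ¬ MulAction.IsMultiplyPretransitive G α 2) :
    ∃ (O : PrinOne p (P : Subgroup G)) (ζ : IrrCharacter G), QTwo p P O ζ := by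
  classical
  obtain ⟨O⟩ := exists_prinOne P H.card
  obtain ⟨ζ, hζ, h1⟩ : ∃ ζ ∈ O.X, ζ ≠ IrrCharacter.triv G :=
    Finset.exists_mem_ne (by rw [O.card_X, H.idx]; norm_num) _
  have hα0 : Nat.card α ≠ 0 := by omega
  have : Finite α := Nat.finite_of_card_ne_zero hα0
  have : Nonempty α := (Nat.card_ne_zero.1 hα0).1
  have hc : IsCharacter G (permChar G α) := isCharacter_permChar
  have hs : ∀ g : G, p ∣ orderOf g → permChar G α g = 0 := fun g hg =>
    permChar_eq_zero_of_dvd P H.card (by rcases hα with h | ⟨h, -⟩ <;> simp [h]) hg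
  have hd := H.charDegree_ne_one hO hnn O hζ h1
  have hin : ∀ ψ ∈ O.Y, O.δ₀ * cmult (permChar G α) ψ.1 + 1 +
      O.δ ζ * cmult (permChar G α) ζ.1 = 0 := by
    intro ψ hψ
    have h2 := O.inner_const hψ hs
    rw [O.sum_X_of_two H.idx hζ h1, O.δ_triv, classInner_permChar_triv,
      ← hc.cast_cmult ψ.isCharacter, ← hc.cast_cmult ζ.isCharacter, ← add_assoc] at h2
    exact_mod_cast h2
  obtain ⟨ψ, hψ⟩ := O.Y_nonempty
  have h2 := O.degree_rel hψ
  rw [O.sum_X_of_two H.idx hζ h1, O.δ_triv, IrrCharacter.charDegree_triv] at h2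
  have h3 := O.fixDim_X H.card hζ
  have h4 := ψ.charDegree_pos
  have h6 := ζ.charDegree_pos
  have hY := O.card_Y
  rw [H.idx] at hY
  have hδ : O.δ ζ = -1 := by
    refine (O.δ_sign ζ hζ).resolve_left fun h => ?_
    rw [h] at h2 h3 hin
    have h7 : O.δ₀ = -1 := by rcases O.δ₀_sign with h' | h' <;> rw [h'] at h2 <;> omega
    rw [h7] at h2 hin
    have h8 := hc.sum_charDegree_le O.Y fun ξ hξ =>
      (hc.cmult_ne_zero_iff ξ.isCharacter).1 (by have := hin ξ hξ; omega)
    rw [O.sum_Y_deg hψ, charDegree_permChar] at h8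
    have h9 : 2 ≤ fixDim (P : Subgroup G) ζ.1 := by
      by_contra h10
      have : fixDim (P : Subgroup G) ζ.1 = 0 ∨ fixDim (P : Subgroup G) ζ.1 = 1 := by omega
      rcases this with h11 | h11 <;> rw [h11] at h3 <;> omega
    have h10 : p + 2 ≤ charDegree ψ.1 := by
      have : (p : ℤ) * 2 ≤ p * fixDim (P : Subgroup G) ζ.1 :=
        mul_le_mul_of_nonneg_left (by omega) (by omega)
      omega
    have h11 : 2 * (p + 2) ≤ O.Y.card * charDegree ψ.1 := Nat.mul_le_mul (by omega) h10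
    omega
  rw [hδ] at h2 h3 hin
  have h7 : O.δ₀ = 1 := by rcases O.δ₀_sign with h' | h' <;> rw [h'] at h2 <;> omega
  have h8 : ∀ ξ ∈ ({IrrCharacter.triv G, ζ} : Finset _), classInner (permChar G α) ξ.1 ≠ 0 := by
    intro ξ hξ
    rcases Finset.mem_insert.1 hξ with rfl | hξ
    · rw [classInner_permChar_triv]; exact one_ne_zero
    · rw [Finset.mem_singleton.1 hξ]
      exact (hc.cmult_ne_zero_iff ζ.isCharacter).1 (by have := hin ψ hψ; rw [h7] at this; omega)
  have h9 := hc.sum_charDegree_le _ h8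
  have h10 := hc.eq_sum_of_charDegree_le _ h8
  rw [Finset.sum_pair h1.symm, charDegree_permChar, IrrCharacter.charDegree_triv] at h9 h10
  refine ⟨O, ζ, H, h5, hO, hζ, ?_⟩
  have h11 : fixDim (P : Subgroup G) ζ.1 < 2 := by
    by_contra h12
    have : (p : ℤ) * 2 ≤ p * fixDim (P : Subgroup G) ζ.1 :=
      mul_le_mul_of_nonneg_left (by omega) (by omega)
    omega
  have h12 : fixDim (P : Subgroup G) ζ.1 = 0 := by
    by_contra h13
    rw [show fixDim (P : Subgroup G) ζ.1 = 1 by omega] at h3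
    rcases hα with h | ⟨h, h'⟩
    · omega
    · refine h' (isMultiplyPretransitive_two_of_classInner ?_)
      have h14 : permChar G α = (IrrCharacter.triv G).1 + ζ.1 := by
        funext g
        rw [h10 (by omega) g, Finset.sum_pair h1.symm, Pi.add_apply]
      rw [h14, classInner_add_left, classInner_add_right, classInner_add_right,
        IrrCharacter.classInner_self, IrrCharacter.classInner_self,
        IrrCharacter.classInner_of_ne h1, IrrCharacter.classInner_of_ne h1.symm]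
      norm_num
  rw [h12] at h3
  omega

theorem QTwo.eq_five [Fintype G] {p : ℕ} [hp : Fact p.Prime] {P : Sylow p G}
    {O : PrinOne p (P : Subgroup G)} {ζ : IrrCharacter G} (H : QTwo p P O ζ) {α : Type v}
    [MulAction G α] [MulAction.IsPretransitive G α] (hα : Nat.card α = 2 * p) : p = 5 := by
  classical
  have h5 := H.five_le
  have hα0 : Nat.card α ≠ 0 := by omega
  have : Finite α := Nat.finite_of_card_ne_zero hα0
  have hc : IsCharacter G (permChar G α) := isCharacter_permChar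
  obtain ⟨y, hy, hyP⟩ := H.exists_notMem
  have hy1 : y ≠ 1 := fun h => hyP (h ▸ Subgroup.one_mem _)
  have hy2 := H.mul_self hy hyP
  set r := Nat.card (MulAction.fixedBy α y) with hr
  have hrv : ∀ v : G, v * v = 1 → v ≠ 1 → Nat.card (MulAction.fixedBy α v) = r := by
    intro v hv hv1
    have := hc.isClassFunction.eq_of_isConj (H.isConj_invol hv hv1 hy2 hy1)
    rw [permChar, permChar] at this
    exact_mod_cast this
  have hr2 : r ≤ 2 := by
    set N := Subgroup.normalizer ((P : Subgroup G) : Set G)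
    have := Fintype.ofFinite (P : Subgroup G)
    have := Fintype.ofFinite N
    have hs : ∑ u : (P : Subgroup G), permChar G α u = 2 * p := by
      rw [sum_subgroup_of_const (f := permChar G α) (c := 0) fun u hu hu1 =>
        permChar_eq_zero_of_dvd P H.card (by simp [hα]) (by rw [orderOf_eq_of_card_prime H.card hu hu1]), permChar_one, hα]
      simp
    have h1 := hc.card_mul_fixDim (P : Subgroup G)
    have h2 := hc.card_mul_fixDim N
    rw [sum_of_relIndex_two Subgroup.le_normalizer H.relIndex_eq hy hyP, hs,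
      Finset.sum_congr rfl (g := fun _ => (r : ℂ)) fun (u : (P : Subgroup G)) _ =>
        (hc.isClassFunction.eq_of_isConj (H.isConj_mul hy hyP u.2)).symm,
      Finset.sum_const, Finset.card_univ, ← Nat.card_eq_fintype_card, H.card, H.card_normalizer,
      nsmul_eq_mul] at h2
    rw [hs, H.card] at h1
    have h3 : p * fixDim (P : Subgroup G) (permChar G α) = 2 * p := by exact_mod_cast h1
    have h4 : 2 * p * fixDim N (permChar G α) = 2 * p + p * r := by exact_mod_cast h2
    have h6 := hc.fixDim_anti (Subgroup.le_normalizer (H := (P : Subgroup G)))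
    nlinarith
  set S := Subgroup.centralizer ({y} : Set G) with hS
  have hS1 : Nat.card S + 1 = p := (H.main hy2 hy1).1
  have hSi : ∀ s : S, s ≠ 1 → Nat.card (MulAction.fixedBy α (s : G)) = r := fun s hs =>
    hrv s (H.mul_self_of_mem hy2 hy1 s.2) fun h => hs (Subtype.ext h)
  have hr0 : r ≠ 0 := by
    intro h0
    have := Fintype.ofFinite S
    have h1 := hc.card_mul_fixDim S
    rw [sum_subgroup_of_const (c := 0) fun u hu hu1 => by
      rw [permChar, hSi ⟨u, hu⟩ fun h => hu1 (congrArg Subtype.val h), h0, Nat.cast_zero],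
      permChar_one, hα, mul_zero, add_zero] at h1
    have h2 : Nat.card S * fixDim S (permChar G α) = 2 * p := by exact_mod_cast h1
    rw [← hS1, mul_add] at h2
    have h3 : Nat.card S ∣ 2 * 1 :=
      (Nat.dvd_add_right (dvd_mul_left _ _)).1 ⟨_, h2.symm⟩
    have := Nat.le_of_dvd (by norm_num) h3
    omega
  have hcomm : ∀ s t : S, (s : G) * t = t * s := by
    intro s t
    by_cases ht : (t : G) = 1
    · simp [ht]
    · exact Subgroup.mem_centralizer_singleton_iff.1
        ((H.centralizer_eq_of_mem hy2 hy1 t.2 ht).le s.2)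
  have hfix : ∀ s : S, s ≠ 1 → ∃ a : α, (s : G) • a = a := by
    intro s hs
    obtain ⟨⟨a, ha⟩⟩ := (Nat.card_ne_zero.1 (hSi s hs ▸ hr0)).1
    exact ⟨a, ha⟩
  have horb : ∀ (s : S) (a : α), (s : G) • a = a →
      MulAction.orbit S a ⊆ MulAction.fixedBy α (s : G) := by
    rintro s a ha _ ⟨t, rfl⟩
    change (s : G) • (t : G) • a = (t : G) • a
    rw [← mul_smul, hcomm, mul_smul, ha]
  have hidx : ∀ s : S, s ≠ 1 → ∀ a : α, (s : G) • a = a →
      (MulAction.stabilizer S a).index ≤ 2 := by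
    intro s hs a ha
    rw [MulAction.index_stabilizer]
    exact (Set.ncard_le_ncard (horb s a ha)).trans ((hSi s hs).le.trans hr2)
  have hmove : ∀ a : α, ∃ t : S, (t : G) • a ≠ a := by
    intro a
    by_contra h
    push Not at h
    have h1 : Nat.card S ∣ Nat.card (MulAction.stabilizer G a) :=
      Subgroup.card_dvd_of_le fun t ht => h ⟨t, ht⟩
    have h2 := (MulAction.stabilizer G a).card_mul_index
    obtain ⟨k, hk⟩ := h1
    rw [MulAction.index_stabilizer_of_transitive, hα, H.card_eq, hk,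
      show p - 1 = Nat.card S by omega] at h2
    have h3 : k * 2 = p - 2 := Nat.eq_of_mul_eq_mul_left
      (Nat.mul_pos hp.out.pos (Nat.card_pos (α := S))) (by rw [← h2]; ring)
    obtain ⟨m, hm⟩ := hp.out.odd_of_ne_two H.ne_two
    omega
  by_contra hne
  have hyS : y ∈ S := Subgroup.mem_centralizer_singleton_iff.2 rfl
  have hy1' : (⟨y, hyS⟩ : S) ≠ 1 := fun h => hy1 (congrArg Subtype.val h)
  obtain ⟨a, ha⟩ := hfix _ hy1'
  obtain ⟨t, ht⟩ := hmove a
  have ht1 : t ≠ 1 := fun h => ht (by simp [h])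
  obtain ⟨b, hb⟩ := hfix t ht1
  have h1 : (MulAction.stabilizer S a ⊓ MulAction.stabilizer S b).index ≤ 4 :=
    Subgroup.index_inf_le.trans (Nat.mul_le_mul (hidx _ hy1' a ha) (hidx t ht1 b hb))
  have h2 : MulAction.stabilizer S a ⊓ MulAction.stabilizer S b ≠ ⊥ := by
    intro h
    rw [h, Subgroup.index_bot] at h1
    omega
  obtain ⟨⟨w, hwa, hwb⟩, hw1⟩ := Subgroup.ne_bot_iff_exists_ne_one.1 h2
  have hw1' : w ≠ 1 := fun h => hw1 (Subtype.ext h)
  have h3 : ({a, (t : G) • a, b} : Set α) ⊆ MulAction.fixedBy α (w : G) := by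
    rintro x (rfl | rfl | rfl)
    · exact hwa
    · exact horb w a hwa ⟨t, rfl⟩
    · exact hwb
  have h4 := (Set.ncard_le_ncard h3).trans ((hSi w hw1').le.trans hr2)
  have hab : a ≠ b := fun h => ht (h ▸ hb)
  have htb : (t : G) • a ≠ b := fun h => hab (MulAction.injective (t : G) (h.trans hb.symm))
  rw [Set.ncard_eq_three.2 ⟨a, (t : G) • a, b, ht.symm, hab, htb, rfl⟩] at h4
  omega

end Cfsg
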