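import Cfsg.Agent.Blk.Watanabe
import Cfsg.Agent.Blk.NilpAb
import Cfsg.Agent.Blk.SecCentral
import Cfsg.Agent.Blk.StarSec

/-! The contribution matrices of the subsections below a maximal Brauer pair. -/

set_option autoImplicit false

namespace Cfsg

open scoped ComplexConjugate MonoidAlgebra

universe u v w

variable {p : ℕ} {M : Ideal AlgInt} {G : Type u} [Group G] [Fintype G] {B : Set (IrrCharacter G)}
  {P : Subgroup G} {e : (resK M)[G]} {θ φ : G → ℂ}

namespace StarSetup
variable (S : StarSetup p M B P e)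

/-- the contribution of the subsection below `v` to the inner product -/
noncomputable def mm (v : P) (θ φ : G → ℂ) : ℂ := classInner (secProj p (v : G) (S.below v) θ) φ

include S

theorem conj_mm (hθ : IsClassFunction G θ) (hφ : IsClassFunction G φ) (v : P) :
    conj (S.mm v θ φ) = S.mm v φ θ := by
  rw [mm, conj_classInner, ← (S.isBlockUnion_below v).classInner_secProj_comm S.hM hφ hθ, mm]

theorem mm_eq_inner (hφ : IsClassFunction G φ) (v : P) : S.mm v θ φ =
    classInner (secProj p (v : G) (S.below v) θ) (secProj p (v : G) (S.below v) φ) :=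
  (S.isBlockUnion_below v).classInner_secProj_eq_secProj S.hM (S.orderOf_eq v) rfl θ hφ

theorem mm_congr (hθ : IsClassFunction G θ) {v w : P} (h : PairFuse p P e (v : G) w) :
    S.mm v θ φ = S.mm w θ φ := by rw [mm, S.secProj_below_congr hθ h, mm]

theorem ofReal_re_mm_self (hθ : IsClassFunction G θ) (v : P) :
    ((S.mm v θ θ).re : ℂ) = S.mm v θ θ := by
  rw [S.mm_eq_inner hθ, ofReal_re_classInner_self]

theorem re_mm_self_nonneg (hθ : IsClassFunction G θ) (v : P) : 0 ≤ (S.mm v θ θ).re := by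
  rw [S.mm_eq_inner hθ]; exact re_classInner_self_nonneg _

theorem re_mm_self_pos (hθ : IsClassFunction G θ) {v : P}
    (h : secProj p (v : G) (S.below v) θ ≠ 0) : 0 < (S.mm v θ θ).re := by
  rw [S.mm_eq_inner hθ]; exact re_classInner_self_pos h

theorem mm_self_ne_zero_of_height_zero {χ : IrrCharacter G} (hχ : χ ∈ B)
    (h0 : blockHeight p B χ.1 = 0) (v : P) : S.mm v χ.1 χ.1 ≠ 0 := fun h => by
  have := S.re_mm_self_pos χ.isClassFunction (v := v) (by
    rw [← S.bstar_fuseInd_eq χ.isClassFunction]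
    exact S.bstar_fuseInd_ne_zero_of_height_zero hχ h0 v)
  rw [h] at this
  exact lt_irrefl _ this

theorem re_mm_self_pos_of_central {χ : IrrCharacter G} (hχ : χ ∈ B) {v : P}
    (hv : (v : G) ∈ Subgroup.centralizer (P : Set G)) : 0 < (S.mm v χ.1 χ.1).re :=
  S.re_mm_self_pos χ.isClassFunction (by
    rw [← S.bstar_fuseInd_eq χ.isClassFunction]
    exact S.bstar_fuseInd_ne_zero_of_central hχ v hv)

theorem mm_one (hθ : blockPart B θ = θ) : S.mm 1 θ φ = classInner (pRegularPart p θ) φ := by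
  rw [mm, S.secProj_below_one hθ]

theorem pow_mul_mm_one {χ : IrrCharacter G} (hχ : χ ∈ B) (ψ : IrrCharacter G) :
    (Nat.card P : ℂ) * S.mm 1 χ.1 ψ.1 = contrib p B χ ψ := by
  have := S.hM.fact_prime
  rw [S.mm_one (blockPart_irr_of_mem hχ), cast_contrib hχ, S.card_eq]
  push_cast; rfl

theorem secCon_below (v : P) : secCon p (v : G) (S.below v) θ φ =
    (p : ℂ) ^ blockDefect p (S.below v) * S.mm v θ φ := secCon_eq _ _ _

theorem sum_mm_smul (v : P) (θ : G → ℂ) :
    ∑ ψ ∈ irrFinset B, S.mm v θ ψ.1 • ψ.1 = secProj p (v : G) (S.below v) θ := by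
  rw [← S.hB.blockPart_secProj S.hM (S.orderOf_eq v) rfl (S.below_subset v),
    blockPart_eq_sum_smul]
  rfl

theorem sum_mm_mul_one {v : P} (hv : v ≠ 1) (θ : G → ℂ) :
    ∑ ψ ∈ irrFinset B, S.mm v θ ψ.1 * ψ.1 1 = 0 := by
  have := S.hM.fact_prime
  have h := congrFun (S.sum_mm_smul v θ) 1
  rw [Finset.sum_apply, secProj_of_not_isConj (S.orderOf_eq v) rfl θ fun h => hv (by
    rw [pPart_one] at h
    exact Subtype.ext (isConj_one_left.1 h))] at h
  exact h

theorem mm_sum_smul_left {ι : Type*} (s : Finset ι) (c : ι → ℂ) (θ : ι → G → ℂ) (v : P) :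
    S.mm v (∑ i ∈ s, c i • θ i) φ = ∑ i ∈ s, c i * S.mm v (θ i) φ := by
  simp only [mm, ← secProjL_apply, map_sum, map_smul, classInner_sum_left, classInner_smul_left]

theorem mm_bstar_left {η : P → ℂ} (hη : IsPairStable p P e η) (hθ : IsClassFunction G θ)
    (v : P) : S.mm v (bstar M p P e η θ) φ = η v * S.mm v θ φ := by
  rw [mm, S.secProj_below_bstar hη hθ, classInner_smul_left, mm]

theorem sum_mm_mul_mm (hθ : IsClassFunction G θ) (v w : P) :
    ∑ ψ ∈ irrFinset B, S.mm v θ ψ.1 * S.mm w ψ.1 φ = fuseInd p P e v w * S.mm w θ φ := by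
  have := S.hM.fact_prime
  have := S.hM.charP
  rw [← S.mm_sum_smul_left, S.sum_mm_smul, ← S.bstar_fuseInd_eq hθ,
    S.mm_bstar_left (isPairStable_fuseInd S.isPair v) hθ]

theorem sum_mm_mul_mm_self (hθ : IsClassFunction G θ) (v : P) :
    ∑ ψ ∈ irrFinset B, S.mm v θ ψ.1 * S.mm v ψ.1 φ = S.mm v θ φ := by
  have := S.hM.fact_prime
  have := S.hM.charP
  rw [S.sum_mm_mul_mm hθ, fuseInd, if_pos (pairFuse_refl S.isPair v.2), one_mul]

theorem sum_mm_mul_mm_of_not (hθ : IsClassFunction G θ) {v w : P}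
    (h : ¬ PairFuse p P e (v : G) w) :
    ∑ ψ ∈ irrFinset B, S.mm v θ ψ.1 * S.mm w ψ.1 φ = 0 := by
  rw [S.sum_mm_mul_mm hθ, fuseInd, if_neg h, zero_mul]

theorem sum_normSq_mm (hθ : IsClassFunction G θ) (v : P) :
    ∑ ψ ∈ irrFinset B, ‖S.mm v θ ψ.1‖ ^ 2 = (S.mm v θ θ).re := by
  have h := S.sum_mm_mul_mm_self (φ := θ) hθ v
  rw [← h, Complex.re_sum]
  refine Finset.sum_congr rfl fun ψ _ => ?_
  rw [← S.conj_mm hθ ψ.isClassFunction, Complex.mul_conj']
  norm_cast

theorem sum_mm_self (v : P) :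
    ∑ χ ∈ irrFinset B, S.mm v χ.1 χ.1 = blockRank p (S.below v) :=
  S.sum_classInner_secProj_below v

theorem exists_int_classInner_bstar {η : P → ℂ} (hη : IsPairStable p P e η)
    (hη' : IsGeneralizedCharacter P η) (χ ψ : IrrCharacter G) :
    ∃ n : ℤ, classInner (bstar M p P e η χ.1) ψ.1 = n :=
  (S.isGeneralizedCharacter_bstar hη hη'
    χ.isCharacter.isGeneralizedCharacter).exists_classInner_eq_int
    ψ.isCharacter.isGeneralizedCharacter

/-- an orthogonal family of rows bounds the rank from below -/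
theorem card_le_blockRank_below (v : P) (Y : Finset (IrrCharacter G))
    (h1 : ∀ χ ∈ Y, S.mm v χ.1 χ.1 ≠ 0) (h2 : ∀ χ ∈ Y, ∀ ψ ∈ Y, χ ≠ ψ → S.mm v χ.1 ψ.1 = 0) :
    Y.card ≤ blockRank p (S.below v) := by
  classical
  let W := (regSpan p (S.below v)).map (secIndL p (v : G) _)
  have hW : ∀ χ : Y, secProj p (v : G) (S.below v) χ.1.1 ∈ W := fun χ =>
    ⟨_, pRegularPart_blockPart_mem _ _, secInd_pRegularPart _ _ _ _⟩
  have hli : LinearIndependent ℂ fun χ : Y => (⟨_, hW χ⟩ : W) := by
    rw [Fintype.linearIndependent_iff]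
    intro c hc χ
    have h3 := congrArg (fun x : W => classInner x.1 χ.1.1) hc
    simp only [Submodule.coe_sum, Submodule.coe_smul, classInner_sum_left, classInner_smul_left,
      Submodule.coe_zero, classInner_zero_left] at h3
    change ∑ x : Y, c x * S.mm v x.1.1 χ.1.1 = 0 at h3
    rw [Finset.sum_eq_single χ (fun ψ _ h => mul_eq_zero_of_right _
      (h2 _ ψ.2 _ χ.2 fun h' => h (Subtype.ext h'))) (by simp)] at h3
    exact (mul_eq_zero.1 h3).resolve_right (h1 _ χ.2)
  have := hli.fintype_card_le_finrank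
  rw [Fintype.card_coe] at this
  exact this.trans (Submodule.finrank_map_le _ _)

/-- summation over the fusion classes with weights -/
theorem sum_div_fuseCard [Fintype P] (wt : P → ℂ)
    (hw : ∀ v : P, ∑ u, wt u * fuseInd p P e u v = 1) {F : P → ℂ} (hF : IsPairStable p P e F) :
    ∑ v, F v / fuseCard p P e v = ∑ u, wt u * F u := by
  classical
  have := S.hM.fact_prime
  have := S.hM.charP
  have h1 : ∀ u : P, F u = ∑ v, fuseInd p P e u v * (F v / fuseCard p P e v) := fun u => by
    have h2 : (fuseCard p P e u : ℂ) ≠ 0 := Nat.cast_ne_zero.2 (fuseCard_pos S.isPair u).ne'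
    have h3 : ∀ v, fuseInd p P e u v * (F v / fuseCard p P e v) =
        if PairFuse p P e (u : G) v then F u / fuseCard p P e u else 0 := fun v => by
      rw [fuseInd]
      split_ifs with h
      · rw [one_mul, hF u v h, fuseCard_congr S.isPair h]
      · exact zero_mul _
    rw [Finset.sum_congr rfl fun v _ => h3 v, ← Finset.sum_filter, Finset.sum_const,
      nsmul_eq_mul, ← Fintype.card_subtype, ← Nat.card_eq_fintype_card]
    exact (mul_div_cancel₀ _ h2).symm
  conv_rhs => simp only [fun u => congrArg (wt u * ·) (h1 u), Finset.mul_sum]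
  rw [Finset.sum_comm]
  refine Finset.sum_congr rfl fun v _ => ?_
  simp only [← mul_assoc, ← Finset.sum_mul, hw v, one_mul]

theorem classInner_bstar_eq_sum_mm [Fintype P] (wt : P → ℂ)
    (hw : ∀ v : P, ∑ u, wt u * fuseInd p P e u v = 1) {η : P → ℂ} (hη : IsPairStable p P e η)
    (hθ : IsClassFunction G θ) :
    classInner (bstar M p P e η θ) φ = ∑ u, wt u * (η u * S.mm u θ φ) := by
  rw [← S.sum_div_fuseCard wt hw (F := fun u => η u * S.mm u θ φ) fun u v h => by
    simp only [hη u v h, S.mm_congr hθ h], S.bstar_eq_sum_secProj hη hθ, classInner_sum_left]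
  refine Finset.sum_congr rfl fun v _ => ?_
  rw [classInner_smul_left, mm]
  ring

/-- the defect group of a fully centralised subsection -/
theorem isDefGrp_below {v : P} (h : ∀ w : P, PairFuse p P e (v : G) w →
    Nat.card (P ⊓ Subgroup.centralizer {(w : G)} : Subgroup G) ≤
      Nat.card (P ⊓ Subgroup.centralizer {(v : G)} : Subgroup G)) :
    IsDefGrp p (Subgroup.centralizer {(v : G)}) (subIdem M _ (S.below v))
      (P ⊓ Subgroup.centralizer {(v : G)}) := by
  have := S.hM.fact_prime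
  have := S.hM.charP
  have h1 : cenIn ⊤ (Subgroup.zpowers (v : G)) = Subgroup.centralizer ({(v : G)} : Set G) := by
    rw [cenIn_top, centralizer_zpowers_eq_singleton]
  refine (S.hmax.isDefGrp_iff_card le_rfl top_le_normalizer_top S.isBlk (S.below_le v) h1.le
    (h1 ▸ cenIn_le_norIn le_rfl _) (subIdem_mem _).2).2 fun x _ hx => ?_
  rw [conjSub_zpowers] at hx
  rw [← centralizer_singleton_conj]
  exact h ⟨_, Subgroup.zpowers_le.1 hx.le⟩ ⟨x, _, rfl, S.below_le v, hx⟩

theorem pow_blockDefect_below {v : P} (h : ∀ w : P, PairFuse p P e (v : G) w →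
    Nat.card (P ⊓ Subgroup.centralizer {(w : G)} : Subgroup G) ≤
      Nat.card (P ⊓ Subgroup.centralizer {(v : G)} : Subgroup G)) :
    p ^ blockDefect p (S.below v) = Nat.card (P ⊓ Subgroup.centralizer {(v : G)} : Subgroup G) :=
  ((S.isDefGrp_below h).card_eq_blockDefect_sub S.hM (S.isPBlock_below v)).symm

theorem blockRank_below_eq_one {v : P} (h : ∀ w : P, PairFuse p P e (v : G) w →
    Nat.card (P ⊓ Subgroup.centralizer {(w : G)} : Subgroup G) ≤
      Nat.card (P ⊓ Subgroup.centralizer {(v : G)} : Subgroup G))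
    (hnil : ∀ R ≤ P ⊓ Subgroup.centralizer {(v : G)}, ∀ x ∈ Subgroup.centralizer {(v : G)},
      x ∈ Subgroup.normalizer (R : Set G) → IsPRegular p x →
      x ∈ Subgroup.centralizer (R : Set G)) : blockRank p (S.below v) = 1 := by
  have := S.hM.fact_prime
  have := S.hM.charP
  have hb := (S.isPBlock_below v).isBlk_subIdem S.hM
  obtain ⟨g, hm⟩ := (S.isDefGrp_below h).exists_isMaxPair le_rfl Subgroup.le_normalizer hb.mem
    hb.idem
  exact (((S.isPBlock_below v).isNilpotentBlock_iff_sub S.hM).2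
    (hm.isNilpGA_of_forall le_rfl Subgroup.le_normalizer hb fun R _ h x hx =>
      hnil R h.le x (mem_pairStab.1 hx).1 (mem_pairStab.1 hx).2.1)).blockRank_eq_one S.hM

/-- fusion inside a normal cyclic subgroup without regular automorphisms -/
theorem isConj_of_pairFuse {v w : P} (h : PairFuse p P e (v : G) w)
    (hz : Subgroup.zpowers (w : G) = Subgroup.zpowers (v : G))
    (hn : P ≤ Subgroup.normalizer (Subgroup.zpowers (v : G) : Set G))
    (hr : ∀ x ∈ Subgroup.normalizer (Subgroup.zpowers (v : G) : Set G), IsPRegular p x →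
      x ∈ Subgroup.centralizer (Subgroup.zpowers (v : G) : Set G)) : IsConj v w := by
  have := S.hM.fact_prime
  have := S.hM.charP
  obtain ⟨x, f, h1, h2, h3⟩ := h
  have hf := h2.isPair_left S.isPair
  have hx : x ∈ pairStab ⊤ (Subgroup.zpowers (v : G)) f := mem_pairStab.2 ⟨trivial, by
    rw [← conjSub_eq_self_iff, conjSub_zpowers, ← h1, hz], (hz ▸ h3).unique S.isPair h2⟩
  have hP : P ≤ pairStab ⊤ (Subgroup.zpowers (v : G)) f := fun y hy =>
    mem_pairStab.2 ⟨trivial, hn hy, (h2.nsub S.isPair hn).fixed y hy⟩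
  have hD := S.hmax.isDefGrp_of_le le_rfl top_le_normalizer_top S.isBlk h2
    (hf.cenIn_le_pairStab le_rfl) (pairStab_le_norIn _ _ _) (isFixedGA_pairStab _ _ _) hP
  have h4 := hf.not_dvd_relIndex (hf.cenIn_le_pairStab le_rfl)
    (pairStab_le_normalizer_cenIn top_le_normalizer_top _ _) (isFixedGA_pairStab _ _ _) hD
  rw [cenIn_top] at h4
  have hn' := (pairStab_le_normalizer ⊤ _ f).trans
    (normalizer_le_normalizer_centralizer (Subgroup.zpowers (v : G)))
  obtain ⟨d, hd, z, hz, rfl⟩ := (mem_sup_of_le_normalizer' (hP.trans hn')).1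
    (le_of_regular_of_not_dvd hn' (fun y hy => hr y (pairStab_le_normalizer _ _ _ hy))
      (inf_le_left.trans le_sup_left) h4 hx)
  refine isConj_iff.2 ⟨⟨d, hd⟩, Subtype.ext ?_⟩
  rw [h1, mul_assoc d z, ← Subgroup.mem_centralizer_iff.1 hz v (Subgroup.mem_zpowers _)]
  push_cast
  group

section central
variable {z : P} (hz : (z : G) ∈ Subgroup.center G)
include hz

theorem pairLE_zpowers_mul_iff {u : G} {f : (resK M)[G]} :
    PairLE p ⊤ (Subgroup.zpowers (z * u)) f P e ↔ PairLE p ⊤ (Subgroup.zpowers u) f P e := by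
  have := S.hM.fact_prime
  have := S.hM.charP
  have hc : cenIn ⊤ (Subgroup.zpowers (z : G)) = ⊤ := by
    rw [cenIn_top, centralizer_zpowers_eq_singleton, eq_top_iff]
    exact fun x _ => Subgroup.mem_centralizer_singleton_iff.2 (Subgroup.mem_center_iff.1 hz x)
  have hP : Subgroup.zpowers (z : G) ⊔ P = P := sup_eq_right.2 (Subgroup.zpowers_le.2 z.2)
  have hn : P ≤ Subgroup.normalizer (Subgroup.zpowers (z : G) : Set G) :=
    (le_top.trans hc.ge).trans (cenIn_le_normalizer _ _)
  have key : ∀ R : Subgroup G, PairLE p ⊤ R f P e ↔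
      R ≤ P ∧ PairLE p ⊤ (Subgroup.zpowers (z : G) ⊔ R) f P e := fun R =>
    ⟨fun h => ⟨h.le, by
      simpa only [hP] using PairLE.sup_of_cenIn (N := ⊤) (by rwa [hc])
        (isPGroup_zpowers_of_orderOf S.hM.prime (S.orderOf_eq z)) (le_normalizer_top _)
        (le_normalizer_top _) hn⟩, fun h => by
      simpa only [hc] using PairLE.cenIn_of_sup (N := ⊤) (Q := Subgroup.zpowers (z : G))
        (by rw [hP]; exact h.2) (by rw [hP]; exact S.isPair) h.1 hn⟩
  have h1 : Subgroup.zpowers (z : G) ⊔ Subgroup.zpowers (z * u) =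
      Subgroup.zpowers (z : G) ⊔ Subgroup.zpowers u := by
    refine le_antisymm (sup_le le_sup_left (Subgroup.zpowers_le.2 (mul_mem
      (Subgroup.mem_sup_left (Subgroup.mem_zpowers _))
      (Subgroup.mem_sup_right (Subgroup.mem_zpowers _))))) (sup_le le_sup_left ?_)
    rw [Subgroup.zpowers_le, ← mul_mem_cancel_left
      (Subgroup.mem_sup_left (Subgroup.mem_zpowers (z : G)))]
    exact Subgroup.mem_sup_right (Subgroup.mem_zpowers _)
  rw [key, key (Subgroup.zpowers u), h1, Subgroup.zpowers_le, Subgroup.zpowers_le,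
    mul_mem_cancel_left z.2]

theorem pairFuse_mul_iff {u v : G} :
    PairFuse p P e (z * u) (z * v) ↔ PairFuse p P e u v := by
  refine exists_congr fun x => exists_congr fun f => ?_
  rw [S.pairLE_zpowers_mul_iff hz, S.pairLE_zpowers_mul_iff hz, ← mul_assoc x,
    Subgroup.mem_center_iff.1 hz x, mul_assoc (z : G), mul_assoc (z : G), mul_right_inj]

/-- translation by a central element -/
theorem mm_mul_of_central (hφ : IsClassFunction G φ) (hθ : IsClassFunction G θ) {c c' : ℂ}
    (hc : ∀ g, θ (z * g) = c * θ g) (hc' : ∀ g, φ (z * g) = c' * φ g) (v : P) :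
    S.mm (z * v) θ φ = c * conj c' * S.mm v θ φ := by
  have hC : Subgroup.centralizer ({((z * v : P) : G)} : Set G) =
      Subgroup.centralizer ({(v : G)} : Set G) := by
    ext x
    rw [Subgroup.mem_centralizer_singleton_iff, Subgroup.mem_centralizer_singleton_iff,
      Subgroup.coe_mul, ← mul_assoc x, Subgroup.mem_center_iff.1 hz x, mul_assoc (z : G),
      mul_assoc (z : G), mul_right_inj]
  have := Fintype.ofFinite (Subgroup.centralizer ({(v : G)} : Set G))
  have h1 := S.bstar_fuseInd (v := z * v) hθ hC.symm (S.isPBlock_below v)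
    ((S.pairLE_zpowers_mul_iff hz).2 (S.below_le v))
  rw [mm, ← S.bstar_fuseInd_eq hθ, h1, mm, classInner_secProj θ hφ, classInner_secProj θ hφ]
  simp only [Subgroup.coe_mul, mul_assoc (z : G), hc, hc']
  rw [show (fun x : Subgroup.centralizer ({(v : G)} : Set G) => c * θ (v * x)) =
    c • fun x : Subgroup.centralizer ({(v : G)} : Set G) => θ (v * x) from rfl,
    show (fun x : Subgroup.centralizer ({(v : G)} : Set G) => c' * φ (v * x)) =
    c' • fun x : Subgroup.centralizer ({(v : G)} : Set G) => φ (v * x) from rfl, blockPart_smul,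
    pRegularPart_smul, classInner_smul_left, classInner_smul_right, mul_assoc]

end central

section nilp
variable (hfus : ∀ u v : P, PairFuse p P e (u : G) v → IsConj u v) {χ : IrrCharacter G}
  (hχ : χ ∈ B) (h0 : blockHeight p B χ.1 = 0)
include hfus hχ h0

theorem starMu_mul_starMu (hθ : IsClassFunction G θ) (hφ : IsClassFunction G φ) (v : P) :
    starMu M p P e θ χ.1 v * conj (starMu M p P e φ χ.1 v) = starMu M p P e θ φ v := by
  have := S.hM.fact_prime
  have := S.hM.charP
  obtain ⟨Φ, hΦ⟩ := S.exists_equiv_irr hfus hχ h0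
  have h1 : ∀ {θ : G → ℂ}, IsClassFunction G θ → ∃ c : ℂ, ∀ ψ,
      S.mm v θ ψ = c * S.mm v χ.1 ψ := fun {θ} hθ => by
    refine ⟨∑ η : IrrCharacter P, classInner θ (Φ η).1.1 * η.1 v, fun ψ => ?_⟩
    rw [mm, ← S.hB.secProj_blockPart S.hM (S.orderOf_eq v) rfl (S.isBlockUnion_below v)
      (S.below_subset v) hθ, blockPart_eq_sum_smul, ← mm, S.mm_sum_smul_left, Finset.sum_mul]
    symm
    refine Finset.sum_bij (fun η _ => (Φ η).1) (fun η _ => mem_irrFinset.2 (Φ η).2)
      (fun η _ η' _ h => Φ.injective (Subtype.ext h))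
      (fun ξ hξ => ⟨Φ.symm ⟨ξ, mem_irrFinset.1 hξ⟩, Finset.mem_univ _, by simp⟩) fun η _ => ?_
    conv_rhs => rw [(hΦ η).1, S.mm_bstar_left
      (isPairStable_of_isClassFunction hfus η.isClassFunction) χ.isClassFunction, ← (hΦ η).1]
    ring
  have h2 := congrFun (S.starMu_self_eq_one hfus hχ h0) v
  obtain ⟨a, ha⟩ := h1 hθ
  simp only [starMu, S.bstar_fuseInd_eq, hθ, hφ, χ.isClassFunction, ← mm.eq_1] at h2 ⊢
  rw [map_mul, S.conj_mm hφ χ.isClassFunction, ha, ha, map_div₀, Complex.conj_natCast,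
    Complex.conj_natCast]
  rw [Pi.one_apply] at h2
  linear_combination a * (Nat.card P / fuseCard p P e v * S.mm v χ.1 φ) * h2

end nilp

section sub
variable {K : Subgroup G} {b : Set (IrrCharacter K)} (hb : IsPBlock M b)
  (hm : IsMaxPair p K K (subIdem M K b) P e)
include hb hm

theorem pairLE_sub_iff {v : K} (hv : Subgroup.centralizer {(v : G)} ≤ K)
    {ε : (resK M)[K]} : PairLE p ⊤ (Subgroup.zpowers (v : G)) (gaIncl (resK M) K ε) P e ↔
      PairLE p ⊤ (Subgroup.zpowers v) ε (P.subgroupOf K) (gaTrunc (resK M) K e) := by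
  have := S.hM.fact_prime
  have := S.hM.charP
  rw [← pairLE_gaPush_iff (φ := K.subtype) K.subtype_injective
    (hm.starSetup_sub S.hM hb).isPair, map_subtype_top, Subgroup.subgroupOf_map_subtype,
    inf_eq_left.2 hm.pairOf.le, hm.gaIncl_gaTrunc, MonoidHom.map_zpowers,
    pairLE_iff_of_cenIn_le le_top (by rwa [cenIn_top, centralizer_zpowers_eq_singleton])
      hm.pairOf.le]
  rfl

theorem pairFuse_of_sub {u v : K} (hu : Subgroup.centralizer {(u : G)} ≤ K)
    (hv : Subgroup.centralizer {(v : G)} ≤ K)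
    (h : PairFuse p (P.subgroupOf K) (gaTrunc (resK M) K e) u v) : PairFuse p P e (u : G) v := by
  obtain ⟨x, f, h1, h2, h3⟩ := h
  refine ⟨x, _, congrArg Subtype.val h1, (S.pairLE_sub_iff hb hm hu).2 h2, ?_⟩
  have := (S.pairLE_sub_iff hb hm hv).2 h3
  rwa [gaIncl_eq_gaPush, gaPush_gaConj] at this

theorem pairFuse_sub {u v : K} (hu : Subgroup.centralizer {(u : G)} ≤ K)
    (hv : Subgroup.centralizer {(v : G)} ≤ K) (h : PairFuse p P e (u : G) v)
    (hx : ∀ x : G, (v : G) = x * u * x⁻¹ → x ∈ K) :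
    PairFuse p (P.subgroupOf K) (gaTrunc (resK M) K e) u v := by
  obtain ⟨x, f, h1, h2, h3⟩ := h
  obtain ⟨ε, rfl⟩ : f ∈ suppGA (resK M) K := suppGA_mono
    (by rwa [centralizer_zpowers_eq_singleton]) (h2.isPair_left S.isPair).supp
  refine ⟨⟨x, hx x h1⟩, ε, Subtype.ext h1, (S.pairLE_sub_iff hb hm hu).1 h2,
    (S.pairLE_sub_iff hb hm hv).1 ?_⟩
  rwa [gaIncl_eq_gaPush, gaPush_gaConj]

/-- the contributions only depend on a subgroup containing the centraliser -/
theorem mm_sub [Fintype K] (hθ : IsClassFunction G θ) (hφ : IsClassFunction G φ) {v : P}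
    {v' : P.subgroupOf K} (h : ((v' : K) : G) = v) (hv : Subgroup.centralizer {(v : G)} ≤ K) :
    S.mm v θ φ = (hm.starSetup_sub S.hM hb).mm v' (fun x => θ x) (fun x => φ x) := by
  have := S.hM.fact_prime
  set S' := hm.starSetup_sub S.hM hb
  have hC : ∀ x : K, x ∈ Subgroup.centralizer {(v' : K)} ↔
      (x : G) ∈ Subgroup.centralizer {(v : G)} := fun x => by
    rw [Subgroup.mem_centralizer_singleton_iff, Subgroup.mem_centralizer_singleton_iff, ← h,
      Subtype.ext_iff]; rfl
  let α : Subgroup.centralizer {(v' : K)} ≃* Subgroup.centralizer {(v : G)} :=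
    { toFun := fun x => ⟨x.1, (hC _).1 x.2⟩
      invFun := fun x => ⟨⟨x, hv x.2⟩, (hC _).2 x.2⟩
      left_inv := fun _ => rfl
      right_inv := fun _ => rfl
      map_mul' := fun _ _ => rfl }
  have := Fintype.ofFinite (Subgroup.centralizer ({(v : G)} : Set G))
  have := Fintype.ofFinite (Subgroup.centralizer ({(v' : K)} : Set K))
  have hθK : IsClassFunction K fun x => θ x := hθ.comp K.subtype
  have h1 : gaIncl (resK M) K (subIdem M _ (S'.below v')) = subIdem M _ (S.below v) := by
    have := S.hM.charP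
    refine PairLE.unique S.isPair ?_ (S.below_le v)
    rw [← h]
    exact (S.pairLE_sub_iff hb hm (h ▸ hv)).2 (S'.below_le v')
  have hφK : IsClassFunction K fun x => φ x := hφ.comp K.subtype
  rw [mm, mm, classInner_secProj θ hφ, classInner_secProj _ hφK,
    ← classInner_comp_mulEquiv α]
  congr 1
  · funext s
    rw [pRegularPart_apply, pRegularPart_apply, α.orderOf_eq]
    split_ifs
    · rfl
    have hp := (S'.below_le v').isPair_left S'.isPair
    rw [← (S.isBlockUnion_below v).tau_inclIdem S.hM hθ rfl,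
      ← (S'.isBlockUnion_below v').tau_inclIdem S.hM hθK rfl]
    exact (congrArg₂ (tau M θ) (congrArg (· * (s.1 : G)) h.symm) h1.symm).trans
      (tau_gaPush K.subtype hθ (h := v' * s) (hp.fixed_cenIn.mono (by
          rw [cenIn_top, Subgroup.zpowers_le]
          exact mem_cenZ.2 ((Commute.refl _).mul_right (commute_of_mem_centralizer_eq rfl s))))
        hp.blk.idem)
  · funext s
    exact congrArg (fun x => φ (x * (s.1 : G))) h.symm

end sub

theorem exists_isMaxPair_sub {Q K : Subgroup G} {f : (resK M)[G]} (hle : PairLE p ⊤ Q f P e)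
    (hCK : Subgroup.centralizer (Q : Set G) ≤ K) (hK : K ≤ pairStab ⊤ Q f) (hPK : P ≤ K) :
    ∃ b : Set (IrrCharacter K), IsPBlock M b ∧ subIdem M K b = f ∧
      IsMaxPair p K K (subIdem M K b) P e := by
  have := S.hM.fact_prime
  have := S.hM.charP
  have hf := hle.isPair_left S.isPair
  have hn := hK.trans (pairStab_le_normalizer _ _ _)
  have hfix := (isFixedGA_pairStab ⊤ Q f).mono hK
  obtain ⟨b, hb, rfl⟩ := ((isPair_top_iff.1 hf).2.isBlk_of_normal hf.pgrp (hle.le.trans hPK) hCK
    hn hfix).exists_eq_subIdem S.hM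
  refine ⟨b, hb, rfl, IsPairOf.isMaxPair_of_isDefGrp ⟨⟨S.isPGroup, hPK.trans Subgroup.le_normalizer,
    ?_⟩, hPK, (hle.nsub S.isPair (hPK.trans hn)).br⟩ (S.hmax.isDefGrp_of_le le_rfl
      top_le_normalizer_top S.isBlk hle (by rwa [cenIn_top])
      (hK.trans (pairStab_le_norIn _ _ _)) hfix hPK)⟩
  have h1 := S.isPair.blk
  rw [cenIn_top] at h1
  rwa [cenIn, inf_eq_right.2 ((Subgroup.centralizer_le hle.le).trans hCK)]

theorem fuseCard_mul_card_inf (hfus : ∀ u v : P, PairFuse p P e (u : G) v → IsConj u v) (v : P) :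
    fuseCard p P e v * Nat.card (P ⊓ Subgroup.centralizer {(v : G)} : Subgroup G) =
      Nat.card P := by
  have := S.hM.fact_prime
  have := S.hM.charP
  rw [inf_comm, mul_comm, ← card_inf_mul_relIndex (Subgroup.centralizer {(v : G)}) P,
    ← card_conjOrbit_eq_relIndex, fuseCard]
  congr 1
  exact Nat.card_congr
    { toFun := fun w => ⟨w.1, by
        obtain ⟨t, ht⟩ := isConj_iff.1 (hfus _ _ w.2)
        exact ⟨t, t.2, congrArg Subtype.val ht.symm⟩⟩
      invFun := fun w => ⟨⟨w.1, by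
        obtain ⟨t, ht, h⟩ := w.2
        exact h ▸ mul_mem (mul_mem ht v.2) (inv_mem ht)⟩, by
        obtain ⟨t, ht, h⟩ := w.2
        change PairFuse p P e (v : G) w.1
        exact h ▸ pairFuse_conj S.isPair v.2 ht⟩
      left_inv := fun _ => rfl
      right_inv := fun _ => rfl }

/-- generalized decomposition numbers coming from a nilpotent local block -/
theorem exists_local_dec {Q K : Subgroup G} {f : (resK M)[G]} (hle : PairLE p ⊤ Q f P e)
    (hCK : Subgroup.centralizer (Q : Set G) ≤ K) (hK : K ≤ pairStab ⊤ Q f) (hPK : P ≤ K)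
    (hnil : ∀ R ≤ P, ∀ x ∈ K, x ∈ Subgroup.normalizer (R : Set G) → IsPRegular p x →
      x ∈ Subgroup.centralizer (R : Set G)) :
    ∃ r : (G → ℂ) → P → ℂ, (∀ θ, IsGeneralizedCharacter G θ → IsGeneralizedCharacter P (r θ)) ∧
      (∀ θ φ, IsClassFunction G θ → IsClassFunction G φ → ∀ v : P,
        Subgroup.centralizer {(v : G)} ≤ K → r θ v * conj (r φ v) =
          Nat.card (P ⊓ Subgroup.centralizer {(v : G)} : Subgroup G) * S.mm v θ φ) ∧
      ∀ z : P, (z : G) ∈ Subgroup.center G → ∃ c₀ : ℂ, c₀ ^ orderOf (z : G) = 1 ∧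
        ∀ θ, IsClassFunction G θ → ∀ c, (∀ g, θ (z * g) = c * θ g) →
          ∀ v, r θ (z * v) = c * c₀ * r θ v := by
  have := S.hM.fact_prime
  have := S.hM.charP
  have := Fintype.ofFinite K
  obtain ⟨b, hb, -, hm⟩ := S.exists_isMaxPair_sub hle hCK hK hPK
  set S' := hm.starSetup_sub S.hM hb
  have hfus := S'.isConj_of_nilpotent ((hb.isNilpotentBlock_iff_sub S.hM).2
    (hm.isNilpGA_of_forall le_rfl Subgroup.le_normalizer (hb.isBlk_subIdem S.hM)
      fun R g h x hx => hnil R h.le x (mem_pairStab.1 hx).1 (mem_pairStab.1 hx).2.1))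
  obtain ⟨χ, hχ, h0⟩ := exists_blockHeight_eq_zero (hb.nonempty S.hM) p
  let ι := (Subgroup.subgroupOfEquivOfLe hPK).symm
  have hcl : ∀ {θ : G → ℂ}, IsClassFunction G θ → IsClassFunction K fun x => θ x :=
    fun h => h.comp K.subtype
  refine ⟨fun θ v => starMu M p _ (gaTrunc (resK M) K e) (fun x => θ x) χ.1 (ι v),
    fun θ hθ => (S'.isGeneralizedCharacter_starMu hfus (hθ.comp K.subtype)
      χ.isCharacter.isGeneralizedCharacter).comp ι.toMonoidHom, fun θ φ hθ hφ v hv => ?_,
    fun z hz => ?_⟩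
  · have h1 := S'.fuseCard_mul_card_inf hfus (ι v)
    have h2 : Nat.card (P.subgroupOf K ⊓ Subgroup.centralizer {((ι v).1 : K)} : Subgroup K) =
        Nat.card (P ⊓ Subgroup.centralizer {(v : G)} : Subgroup G) := by
      rw [← card_subgroupOf_of_le (inf_le_left.trans hPK)]
      congr 2
      ext x
      simp only [Subgroup.mem_inf, Subgroup.mem_subgroupOf, Subgroup.mem_centralizer_singleton_iff,
        Subtype.ext_iff]
      rfl
    have h3 : (fuseCard p _ (gaTrunc (resK M) K e) (ι v) : ℂ) ≠ 0 :=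
      Nat.cast_ne_zero.2 (fuseCard_pos S'.isPair _).ne'
    rw [S'.starMu_mul_starMu hfus hχ h0 (hcl hθ) (hcl hφ), starMu, S'.bstar_fuseInd_eq (hcl hθ),
      S.mm_sub hb hm hθ hφ (v' := ι v) rfl hv, ← h1, h2, Nat.cast_mul, mul_div_cancel_left₀ _ h3]
    rfl
  · have hz' : ((ι z).1 : K) ∈ Subgroup.center K :=
      Subgroup.mem_center_iff.2 fun x => Subtype.ext (Subgroup.mem_center_iff.1 hz x)
    refine ⟨conj (χ.1 (ι z).1 / χ.1 1), ?_, fun θ hθ c hc v => ?_⟩
    · rw [← map_pow, show orderOf (z : G) = orderOf ((ι z).1 : K) from Subgroup.orderOf_coe ((ι z).1 : K),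
        χ.div_pow_orderOf_of_mem_center hz', map_one]
    have h1 : fuseCard p _ (gaTrunc (resK M) K e) (ι z * ι v) =
        fuseCard p _ (gaTrunc (resK M) K e) (ι v) :=
      (Nat.card_congr ((Equiv.mulLeft (ι z)).subtypeEquiv fun w =>
        (S'.pairFuse_mul_iff hz').symm)).symm
    simp only [map_mul, starMu, S'.bstar_fuseInd_eq (hcl hθ), h1, ← mm.eq_1]
    rw [S'.mm_mul_of_central hz' χ.isClassFunction (hcl hθ) (fun g => hc g)
      (χ.apply_mul_of_mem_center hz')]
    ring

end StarSetup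

end Cfsg
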