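import Cfsg.Agent.Blk.Eight7
import Cfsg.Agent.Blk.FiveComb

/-! `2`-blocks with elementary abelian defect group of order `16` and inertial index five. -/

set_option autoImplicit false

namespace Cfsg

open scoped MonoidAlgebra ComplexConjugate

universe u v

theorem four_dvd_sum_sign {ι : Type*} (s : Finset ι) {ε : ι → ℤ} (h : ∀ i, ε i ^ 2 = 1) :
    4 ∣ ∑ i ∈ s, ε i - s.card + 1 - ∏ i ∈ s, ε i := by
  classical
  induction s using Finset.induction_on with
  | empty => simp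
  | insert a s ha ih =>
    have h1 : (∏ i ∈ s, ε i) ^ 2 = 1 := by rw [← Finset.prod_pow]; simp [h]
    rw [Finset.sum_insert ha, Finset.prod_insert ha, Finset.card_insert_of_notMem ha]
    rcases sq_eq_one_iff.1 (h a) with h2 | h2 <;> rcases sq_eq_one_iff.1 h1 with h3 | h3 <;>
      rw [h2, h3] <;> rw [h3] at ih <;> push_cast <;> omega

variable {M : Ideal AlgInt} {G : Type u} [Group G] [Fintype G] {B : Set (IrrCharacter G)}
  {P : Subgroup G} {e : (resK M)[G]}

namespace StarSetup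
variable (S : StarSetup 2 M B P e)
include S

theorem odd_iff_of_column {v : P} (hv : P ≤ Subgroup.centralizer {(v : G)}) {χ : IrrCharacter G}
    (hχ : χ ∈ B) {n : ℤ} (h : Nat.card P * S.mm v χ.1 χ.1 = n * n) :
    Odd n ↔ blockHeight 2 B χ.1 = 0 := by
  have h1 := (S.isInducedBlock_below v).valM_secCon_eq_one_iff S.hM (S.orderOf_eq v) rfl hχ hχ
  rw [S.secCon_below, ← Nat.cast_pow, ← S.card_eq_pow_below hv, h, and_self, ← Int.cast_mul,
    ← not_iff_not, ← Ne, ← (mem_valO_iff.1 (intCast_mem_valO _)).lt_iff_ne,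
    S.hM.valM_intCast_lt_one_iff] at h1
  rw [← not_iff_not, ← h1, Int.not_odd_iff_even, Nat.cast_ofNat, ← even_iff_two_dvd, Int.even_mul,
    or_self]

theorem valM_sum_mm_invOm {v : P} (hv : P ≤ Subgroup.centralizer {(v : G)})
    (h2 : orderOf (v : G) = 2) {χ : IrrCharacter G} (hχ : χ ∈ B) (h0 : blockHeight 2 B χ.1 = 0) :
    valM M (∑ ψ ∈ irrFinset B, S.mm v χ.1 ψ.1 * (redDeg 2 B ψ.1 * invOm ψ)) = 1 := by
  classical
  have hM := S.hM
  have := Fact.mk Nat.prime_two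
  set C := Subgroup.centralizer ({(v : G)} : Set G) with hC
  have := Fintype.ofFinite C
  have hu := S.orderOf_eq v
  set Ψ := secProj 2 (v : G) (S.below v) χ.1 with hΨ
  have h1 : (2 : ℂ) ^ ((Nat.card G).factorization 2 - blockDefect 2 B) *
      ∑ ψ ∈ irrFinset B, S.mm v χ.1 ψ.1 * (redDeg 2 B ψ.1 * invOm ψ) = C.index * Ψ v := by
    rw [← card_isConj_eq_index_centralizer, Nat.card_eq_fintype_card (α := Subtype _),
      Fintype.card_subtype, ← nsmul_eq_mul, ← Finset.sum_const, Finset.sum_congr rfl (g := Ψ) fun s hs =>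
        (isClassFunction_secProj _).eq_of_isConj (Finset.mem_filter.1 hs).2,
      Finset.sum_subset (s₂ := Finset.univ.filter fun s : G => orderOf s = 2)
        (fun s hs => by simpa [← orderOf_eq_of_isConj (Finset.mem_filter.1 hs).2] using h2)
        fun s hs hs' => secProj_of_not_isConj hu hC _ (by
          rw [pPart_eq_self_iff.2 ⟨1, (Finset.mem_filter.1 hs).2⟩]; simpa using hs'),
      ← S.sum_mm_smul, Finset.mul_sum]
    simp only [Finset.sum_apply, Pi.smul_apply, smul_eq_mul]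
    rw [Finset.sum_comm]
    refine Finset.sum_congr rfl fun ψ hψ => ?_
    rw [← Finset.mul_sum, ← invOm_mul_one, one_eq_pow_mul_redDeg (p := 2) (mem_irrFinset.1 hψ)]
    push_cast; ring
  have hb := S.isInducedBlock_below v
  obtain ⟨γ, -, h3⟩ := hb.1.exists_gamma_span hM
  obtain ⟨ψ, hψ⟩ := hb.1.nonempty hM
  have h4 := (h3 _ (inIrrSpan_secRes hC χ.isCharacter.isGeneralizedCharacter) ψ hψ).2
  rw [hM.red_kappa_secRes hu hC χ.isCharacter.isGeneralizedCharacter] at h4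
  have h5 := red_ne_zero_iff.1 (right_ne_zero_of_mul
    (h4 ▸ (hb.red_kappa_res_ne_zero_iff hM hχ hψ).2 h0))
  rw [← secProj_mul_regular hu hC _ (by simp), OneMemClass.coe_one, mul_one, ← hΨ, map_div₀,
    div_eq_one_iff_eq (by simp), map_pow] at h5
  have h6 := congrArg (valM M) h1
  have h7 := congrArg (·.factorization 2) C.card_mul_index
  simp only [Nat.factorization_mul Nat.card_pos.ne' Subgroup.index_ne_zero_of_finite,
    Finsupp.add_apply] at h7
  have h8 : blockDefect 2 (S.below v) = blockDefect 2 B :=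
    Nat.pow_right_injective le_rfl ((S.card_eq_pow_below hv).symm.trans S.card_eq)
  have h9 : _ ≤ (Nat.card C).factorization 2 := blockDefect_le (p := 2) (B := S.below v)
  rw [map_mul, map_mul, h5, hM.valM_natCast Subgroup.index_ne_zero_of_finite, ← pow_add, map_pow,
    show C.index.factorization 2 + ((Nat.card C).factorization 2 - blockDefect 2 (S.below v)) =
      (Nat.card G).factorization 2 - blockDefect 2 B by omega] at h6
  exact (mul_eq_left₀ (pow_pos hM.valM_p_pos _).ne').1 h6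

variable (hab : P ≤ Subgroup.centralizer (P : Set G))
include hab

theorem isGeneralizedCharacter_fuseInd_sub (hP : Nat.card P = 16) (hel : ∀ x : P, x ^ 2 = 1)
    (hfix : ∀ z : P, (∀ σ ∈ inAut P e, σ z = z) → z = 1) {u v : P}
    (h : fuseCard 2 P e u = fuseCard 2 P e v) :
    IsGeneralizedCharacter P ((4 : ℂ) • fuseInd 2 P e u - (4 : ℂ) • fuseInd 2 P e v) := by
  classical
  have := Fintype.ofFinite P
  have := isMulCommutative_of_le_centralizer hab
  letI : CommGroup P := { (inferInstance : Group P) with mul_comm := fun a b => mul_comm' a b }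
  refine isGeneralizedCharacter_of_classInner (fun g h => by rw [mul_comm h, mul_inv_cancel_right])
    fun ψ => ?_
  obtain ⟨l, rfl⟩ := ψ.exists_eq_ofHom ψ.charDegree_eq_one_of_comm
  have h1 : ∀ x, ∃ n : ℤ, n ^ 2 = 1 ∧ (l x : ℂ) = n := fun x => by
    have : (l x : ℂ) ^ 2 = 1 := by rw [← Units.val_pow_eq_pow_val, ← map_pow, hel, map_one]; rfl
    rcases sq_eq_one_iff.1 this with h | h
    exacts [⟨1, rfl, by simpa using h⟩, ⟨-1, rfl, by simpa using h⟩]
  choose ε hε hl using h1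
  have h2 : ∀ u : P, ∃ n : ℤ, classInner (fuseInd 2 P e u) (IrrCharacter.ofHom l).1 =
      (fuseCard 2 P e u + 4 * n) / 16 := fun u => by
    set O := Finset.univ.filter fun w : P => PairFuse 2 P e (u : G) w with hO
    have h2 : ∏ w ∈ O, w = 1 := hfix _ fun σ hσ => by
      rw [map_prod]
      refine Finset.prod_equiv σ.toEquiv (fun w => ?_) fun _ _ => rfl
      simp only [hO, Finset.mem_filter, Finset.mem_univ, true_and, S.pairFuse_iff_aut hab]
      exact ⟨fun ⟨τ, hτ, h⟩ => ⟨σ * τ, mul_mem hσ hτ, congrArg σ h⟩,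
        fun ⟨τ, hτ, h⟩ => ⟨σ⁻¹ * τ, mul_mem (inv_mem hσ) hτ, σ.symm_apply_eq.2 h⟩⟩
    have h3 : ∏ w ∈ O, ε w = 1 := by
      apply Int.cast_injective (α := ℂ)
      simp only [Int.cast_prod, ← hl]
      rw [← Units.coe_prod, ← map_prod, h2]; simp
    obtain ⟨n, hn⟩ := four_dvd_sum_sign O hε
    refine ⟨n, ?_⟩
    rw [h3, add_sub_cancel_right, sub_eq_iff_eq_add'] at hn
    rw [classInner_def, hP, fuseCard, Nat.card_eq_fintype_card, Fintype.card_subtype, ← hO]
    simp only [fuseInd, IrrCharacter.ofHom_apply, hl, map_intCast, ite_mul, one_mul, zero_mul]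
    rw [← Finset.sum_filter, ← hO, ← Int.cast_sum, hn]
    push_cast; ring
  obtain ⟨m, hm⟩ := h2 u
  obtain ⟨n, hn⟩ := h2 v
  exact ⟨m - n, by
    rw [classInner_sub_left, classInner_smul_left, classInner_smul_left, hm, hn, h]
    push_cast; ring⟩

omit hab in
theorem exists_reps_of_five (hP : Nat.card P = 16) (h : ∀ v : P, v ≠ 1 → fuseCard 2 P e v = 5) :
    ∃ u v w : P, u ≠ 1 ∧ v ≠ 1 ∧ w ≠ 1 ∧ ¬ PairFuse 2 P e (u : G) v ∧ ¬ PairFuse 2 P e (u : G) w ∧
      ¬ PairFuse 2 P e (v : G) w ∧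
      1 = fuseInd 2 P e 1 + fuseInd 2 P e u + fuseInd 2 P e v + fuseInd 2 P e w := by
  classical
  have := Fintype.ofFinite P
  have := S.hM.fact_prime
  have := S.hM.charP
  set O := fun u : P => Finset.univ.filter fun w : P => PairFuse 2 P e (u : G) w with hO
  have h1 : ∀ u, (O u).card = fuseCard 2 P e u := fun u => by
    rw [fuseCard, Nat.card_eq_fintype_card, Fintype.card_subtype]
  have h2 : ∀ {u v : P}, v ∈ O u ↔ PairFuse 2 P e (u : G) v := by simp [hO]
  have h3 : ∀ {u v : P}, v ∉ O u → Disjoint (O u) (O v) := fun h =>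
    Finset.disjoint_left.2 fun w h' h'' => h (h2.2 ((h2.1 h').trans S.isPair (h2.1 h'').symm))
  have h4 : ∀ {u : P}, u ∉ O 1 → u ≠ 1 := fun h h' =>
    h (h2.2 (by rw [h']; exact pairFuse_refl S.isPair (1 : P).2))
  have h5 : ∀ s : Finset P, s.card < 16 → ∃ u, u ∉ s := fun s hs => by
    by_contra! h
    rw [Finset.eq_univ_of_forall h, Finset.card_univ, ← Nat.card_eq_fintype_card] at hs
    omega
  have h6 := (h1 1).trans S.fuseCard_one
  obtain ⟨u, hu⟩ := h5 (O 1) (by omega)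
  have u1 := (h1 u).trans (h u (h4 hu))
  obtain ⟨v, hv⟩ := h5 (O 1 ∪ O u) ((Finset.card_union_le _ _).trans_lt (by omega))
  rw [Finset.notMem_union] at hv
  have v1 := (h1 v).trans (h v (h4 hv.1))
  have c2 : (O 1 ∪ O u ∪ O v).card = 11 := by
    rw [Finset.card_union_of_disjoint (Finset.disjoint_union_left.2 ⟨h3 hv.1, h3 hv.2⟩),
      Finset.card_union_of_disjoint (h3 hu)]
    omega
  obtain ⟨w, hw⟩ := h5 (O 1 ∪ O u ∪ O v) (by omega)
  rw [Finset.notMem_union, Finset.notMem_union] at hw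
  have c3 : O 1 ∪ O u ∪ O v ∪ O w = Finset.univ := Finset.eq_univ_of_card _ (by
    rw [Finset.card_union_of_disjoint (Finset.disjoint_union_left.2
      ⟨Finset.disjoint_union_left.2 ⟨h3 hw.1.1, h3 hw.1.2⟩, h3 hw.2⟩), c2, h1, h w (h4 hw.1.1),
      ← Nat.card_eq_fintype_card, hP])
  refine ⟨u, v, w, h4 hu, h4 hv.1, h4 hw.1.1, mt h2.2 hv.2, mt h2.2 hw.1.2, mt h2.2 hw.2,
    funext fun x => ?_⟩
  have c4 : x ∈ O 1 ∪ O u ∪ O v ∪ O w := c3 ▸ Finset.mem_univ x
  have h7 : ∀ {u v : P}, v ∉ O u → x ∈ O u → x ∉ O v := fun h h' => Finset.disjoint_left.1 (h3 h) h'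
  have d1 := h7 hu
  have d2 := h7 hv.1
  have d3 := h7 hv.2
  have d4 := h7 hw.1.1
  have d5 := h7 hw.1.2
  have d6 := h7 hw.2
  simp only [Finset.mem_union] at c4
  simp only [Pi.add_apply, Pi.one_apply, fuseInd, ← h2]
  rcases c4 with ((c | c) | c) | c
  · simp [c, d1 c, d2 c, d4 c]
  · simp [c, d3 c, d5 c, mt d1 (not_not.2 c)]
  · simp [c, d6 c, mt d2 (not_not.2 c), mt d3 (not_not.2 c)]
  · simp [c, mt d4 (not_not.2 c), mt d5 (not_not.2 c), mt d6 (not_not.2 c)]

theorem height_zero_of_five (hP : Nat.card P = 16) (hel : ∀ x : P, x ^ 2 = 1)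
    (hfree : ∀ σ ∈ inAut P e, ∀ a : P, a ≠ 1 → σ a = a → σ = 1) (hE : Nat.card (inAut P e) = 5)
    {χ : IrrCharacter G} (hχ : χ ∈ B) : blockHeight 2 B χ.1 = 0 := by
  classical
  have hM := S.hM
  have := hM.fact_prime
  have := hM.charP
  have hd : blockDefect 2 B = 4 := Nat.pow_right_injective le_rfl (S.card_eq.symm.trans hP)
  have hc := le_centralizer_of_comm hab
  have hfc : ∀ v : P, v ≠ 1 → fuseCard 2 P e v = 5 := fun v hv => by
    have h1 := S.fuseCard_mul_card hab v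
    rwa [(Subgroup.eq_bot_iff_forall (_ ⊓ MulAction.stabilizer (MulAut P) v)).2
      fun σ hσ => hfree σ hσ.1 v hv hσ.2, hE, Subgroup.card_bot, mul_one] at h1
  have hfix : ∀ z : P, (∀ σ ∈ inAut P e, σ z = z) → z = 1 := fun z hz => by_contra fun h => by
    rw [(Subgroup.eq_bot_iff_forall _).2 fun σ hσ => hfree σ hσ z h (hz σ hσ),
      Subgroup.card_bot] at hE
    omega
  obtain ⟨ξ, hξ, h0⟩ := exists_blockHeight_eq_zero (S.hB.nonempty hM) 2
  have hcol : ∀ v : P, v ≠ 1 → ∃ d : IrrCharacter G → ℤ, d ξ % 4 = 1 ∧ (∀ χ ∈ B, d χ ≠ 0) ∧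
      ∑ χ ∈ irrFinset B, d χ ^ 2 = 16 ∧
      ∀ χ ψ : IrrCharacter G, S.mm v χ.1 ψ.1 = d χ * d ψ / 16 := fun v hv => by
    obtain ⟨d, h1, h2, h3⟩ := S.exists_int_column hab (congrArg Subtype.val (hel v))
      ((S.isNilpotentBlock_below_iff_aut hab v).2 fun σ hσ => hfree σ hσ v hv)
    have h4 := Int.odd_iff.1 ((S.odd_iff_of_column (hc v) hξ (h3 ξ ξ)).2 h0)
    rw [hP] at h2 h3
    have h5 : ∀ χ ψ : IrrCharacter G, S.mm v χ.1 ψ.1 = d χ * d ψ / 16 := fun χ ψ => by
      rw [← h3, mm]; push_cast; ring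
    by_cases h6 : d ξ % 4 = 1
    · exact ⟨d, h6, h1, h2, h5⟩
    · exact ⟨-d, by rw [Pi.neg_apply]; omega, fun χ hχ => neg_ne_zero.2 (h1 χ hχ), by simpa using h2,
        by simpa using h5⟩
  choose! d d1 d2 d3 d4 using hcol
  have hcong : ∀ u v : P, u ≠ 1 → v ≠ 1 → ∀ ψ, ∃ f, d v ψ = d u ψ - 4 * f := fun u v hu hv ψ => by
    obtain ⟨n, hn⟩ := S.exists_int_classInner_bstar
      (((isPairStable_fuseInd S.isPair u).smul 4).sub ((isPairStable_fuseInd S.isPair v).smul 4))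
      (S.isGeneralizedCharacter_fuseInd_sub hab hP hel hfix ((hfc u hu).trans (hfc v hv).symm)) ξ ψ
    rw [bstar_sub_left, bstar_smul_left, bstar_smul_left, classInner_sub_left, classInner_smul_left,
      classInner_smul_left, S.bstar_fuseInd_eq ξ.isClassFunction,
      S.bstar_fuseInd_eq ξ.isClassFunction, ← mm, ← mm, d4 u hu, d4 v hv] at hn
    have h1 : d u ξ * d u ψ - d v ξ * d v ψ = 4 * n := by
      apply Int.cast_injective (α := ℂ)
      push_cast; linear_combination 4 * hn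
    rw [← Int.mul_ediv_add_emod (d u ξ) 4, ← Int.mul_ediv_add_emod (d v ξ) 4, d1 u hu, d1 v hv] at h1
    exact ⟨n - d u ξ / 4 * d u ψ + d v ξ / 4 * d v ψ, by linear_combination -h1⟩
  have horth : ∀ u v : P, u ≠ 1 → v ≠ 1 → ¬ PairFuse 2 P e (u : G) v →
      ∑ ψ ∈ irrFinset B, d u ψ * d v ψ = 0 := fun u v hu hv h => by
    have h1 := S.sum_mm_mul_mm_of_not (φ := ξ.1) ξ.isClassFunction h
    refine mul_left_cancel₀ (mul_ne_zero (d2 u hu ξ hξ) (d2 v hv ξ hξ)) (Int.cast_injective (α := ℂ) ?_)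
    rw [Finset.mul_sum]
    push_cast
    rw [mul_zero, ← mul_zero (256 : ℂ), ← h1, Finset.mul_sum]
    exact Finset.sum_congr rfl fun ψ _ => by rw [d4 u hu, d4 v hv]; ring
  have hdeg : ∀ v : P, v ≠ 1 → ∑ ψ ∈ irrFinset B, d v ψ * redDeg 2 B ψ.1 = 0 := fun v hv => by
    have h1 := S.sum_mm_mul_one hv ξ.1
    refine mul_left_cancel₀ (mul_ne_zero (d2 v hv ξ hξ) (pow_ne_zero
      ((Nat.card G).factorization 2 - blockDefect 2 B) two_ne_zero)) (Int.cast_injective (α := ℂ) ?_)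
    rw [Finset.mul_sum]
    push_cast
    rw [mul_zero, ← mul_zero (16 : ℂ), ← h1, Finset.mul_sum]
    exact Finset.sum_congr rfl fun ψ hψ => by
      rw [d4 v hv, one_eq_pow_mul_redDeg (p := 2) (mem_irrFinset.1 hψ)]; push_cast; ring
  have hγ : ∀ v : P, v ≠ 1 → ∃ γ, Odd γ ∧
      ∑ ψ ∈ irrFinset B, d v ψ * (redDeg 2 B ψ.1 * invOm ψ) = 16 * γ := fun v hv => by
    have h1 := S.valM_sum_mm_invOm (hc v) (orderOf_eq_prime (congrArg Subtype.val (hel v))
      fun h => hv (Subtype.ext h)) hξ h0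
    set N : ℤ := ∑ ψ ∈ irrFinset B, d v ψ * (redDeg 2 B ψ.1 * invOm ψ) with hN
    have h2 : ∑ ψ ∈ irrFinset B, S.mm v ξ.1 ψ.1 * (redDeg 2 B ψ.1 * invOm ψ) =
        (d v ξ * N : ℤ) / 2 ^ 4 := by
      rw [hN, Finset.mul_sum]
      push_cast
      rw [Finset.sum_div]
      exact Finset.sum_congr rfl fun ψ _ => by rw [d4 v hv]; ring
    have h3 : IsCoprime (2 ^ 4) (d v ξ) :=
      (Int.isCoprime_two_left.2 (Int.odd_iff.2 (by have := d1 v hv; omega))).pow_left
    rw [h2, map_div₀, div_eq_one_iff_eq (by simp), map_pow] at h1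
    obtain ⟨γ, hγ⟩ := h3.dvd_of_dvd_mul_left (hM.valM_intCast_le_pow_iff.1 h1.le)
    refine ⟨γ, Int.not_even_iff_odd.1 fun ⟨c, hc⟩ => ?_, hγ⟩
    have h4 := (hM.valM_intCast_le_pow_iff (n := d v ξ * N) (a := 5)).2
      ⟨d v ξ * c, by rw [hγ, hc]; push_cast; ring⟩
    rw [h1] at h4
    exact absurd (hM.valM_p_pow_le_iff.1 h4) (by norm_num)
  choose! γ γ1 γ2 using hγ
  obtain ⟨u, v, w, hu, hv, hw, huv, huw, hvw, hone⟩ := S.exists_reps_of_five hP hfc
  have hcon : ∀ χ ∈ irrFinset B, ∀ ψ, contrib 2 B χ ψ = (if χ = ψ then 16 else 0) -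
      d u χ * d u ψ - d v χ * d v ψ - d w χ * d w ψ := fun χ hχ ψ => by
    have h1 := congrArg (fun η => classInner (bstar M 2 P e η χ.1) ψ.1) hone
    simp only [bstar_add_left, classInner_add_left, S.bstar_fuseInd_eq χ.isClassFunction,
      S.bstar_one_irr (mem_irrFinset.1 hχ), χ.classInner_eq] at h1
    rw [← mm, ← mm, ← mm, ← mm, d4 u hu, d4 v hv, d4 w hw] at h1
    apply Int.cast_injective (α := ℂ)
    rw [← S.pow_mul_mm_one (mem_irrFinset.1 hχ), hP]
    split_ifs at h1 ⊢ <;> push_cast <;> linear_combination -16 * h1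
  have hlin : ∀ t ⊆ irrFinset B, ∀ χ ∈ t, ∀ x : IrrCharacter G → ℤ,
      ∑ ψ ∈ t, contrib 2 B χ ψ * x ψ = 16 * x χ - d u χ * ∑ ψ ∈ t, d u ψ * x ψ -
        d v χ * ∑ ψ ∈ t, d v ψ * x ψ - d w χ * ∑ ψ ∈ t, d w ψ * x ψ := fun t ht χ hχ x => by
    simp only [hcon χ (ht hχ), sub_mul, Finset.sum_sub_distrib, ite_mul, zero_mul,
      Finset.sum_ite_eq, if_pos hχ, Finset.mul_sum, mul_assoc]
  choose f hf using hcong u v hu hv
  choose g hg using hcong u w hu hw
  have e1 := d3 u hu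
  have e2 := d3 v hv
  have e3 := d3 w hw
  have e4 := horth u v hu hv huv
  have e5 := horth u w hu hw huw
  have e6 := horth v w hv hw hvw
  have e7 := hdeg u hu
  have e8 := hdeg v hv
  have e9 := hdeg w hw
  simp only [hf, hg, sq, mul_sub, sub_mul, Finset.sum_sub_distrib, mul_assoc, mul_left_comm _ (4 : ℤ),
    ← Finset.mul_sum, mul_comm (f _) (d u _), mul_comm (g _) (d u _)] at e1 e2 e3 e4 e5 e6 e8 e9
  refine (S.odd_iff_of_column (hc u) hχ (by rw [d4 u hu, hP]; push_cast; ring)).1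
    (five_comb (s := irrFinset B) (a := d u) (f := f) (g := g) (u := fun χ => redDeg 2 B χ.1)
      (w := invOm) (fun χ hχ => d2 u hu χ (mem_irrFinset.1 hχ)) (fun χ hχ => ?_) (d3 u hu) (by omega)
      (by omega) ?_ ?_ (by omega) (by omega) (by omega)
      (fun χ hχ => S.hB.odd_invOm hM (by omega) (mem_irrFinset.1 hχ)) (γ1 u hu) (γ1 v hv) (γ1 w hw)
      (fun χ hχ => ?_) (fun t ht x x1 x2 x3 => ?_) (fun χ hχ ψ hψ h f1 g1 f2 g2 => ?_)
      (mem_irrFinset.2 hξ) (Int.odd_iff.2 (by have := d1 u hu; omega)) (mem_irrFinset.2 hχ))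
  · have := contrib_self_pos (p := 2) (mem_irrFinset.1 hχ)
    rw [hcon χ hχ, if_pos rfl] at this
    rw [← hf, ← hg]; linarith
  · simp only [mul_sub, Finset.sum_sub_distrib]; omega
  · simp only [mul_sub, Finset.sum_sub_distrib, mul_comm (g _) (f _)]; omega
  · have h1 := (hM.proj_congr (B := B) (x := contrib 2 B χ) (by
      rw [Finset.mul_sum]
      refine Finset.sum_congr rfl fun ψ hψ => ?_
      simp only [mul_assoc, ← Finset.mul_sum]
      rw [S.hB.sum_contrib_mul hM (mem_irrFinset.1 hψ) (mem_irrFinset.1 hχ), contrib_comm B ψ]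
      push_cast; ring)).1
    simp only [mul_assoc] at h1
    rw [hlin _ subset_rfl χ hχ, γ2 u hu, γ2 v hv, γ2 w hw] at h1
    rw [← hf, ← hg]; linarith
  · have h1 := (hM.proj_congr_sub ht (x := x) (by
      rw [Finset.mul_sum]
      refine Finset.sum_congr rfl fun ψ hψ => ?_
      simp only [mul_assoc, ← Finset.mul_sum]
      rw [hlin t ht ψ hψ, hd]
      simp only [mul_comm (x _)] at x1 x2 x3
      simp only [hf, hg, sub_mul, Finset.sum_sub_distrib, mul_assoc, ← Finset.mul_sum, x1, x2, x3]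
      ring)).2
    rwa [hd] at h1
  · have := S.hB.even_of_proj_pair hM (by omega) (mem_irrFinset.1 hχ) (mem_irrFinset.1 hψ) h
      (a := d u ψ) (b := -d u χ) (by
        rw [hcon χ hχ, hcon χ hχ, hcon ψ hψ, if_pos rfl, if_pos rfl, if_neg h, hd, hf, hg, hf, hg,
          f1, g1, f2, g2]
        ring)
    rwa [neg_sq] at this

end StarSetup

end Cfsg
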