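import Cfsg.Agent.Blk.Sixteen5
import Cfsg.Agent.Blk.SixteenNine

/-! Heights in `2`-blocks with abelian defect group of order `16`. -/

set_option autoImplicit false

namespace Cfsg

open scoped MonoidAlgebra

universe u v

theorem nine_le_card_of_even {ι : Type*} {s : Finset ι} {d : ι → ℤ} (h0 : ∀ i ∈ s, d i ≠ 0)
    (h : ∑ i ∈ s, d i ^ 2 = 16) {j : ι} (hj : j ∈ s) (he : Even (d j)) :
    s.card ≠ 8 ∧ s.card ≠ 16 := by
  classical
  obtain ⟨c, hc⟩ := he
  have h1 : ∀ i ∈ s, 1 ≤ d i ^ 2 := fun i hi =>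
    (one_le_sq_iff_one_le_abs _).2 (Int.one_le_abs (h0 i hi))
  have h2 : d j ^ 2 = 4 * c ^ 2 := by rw [hc]; ring
  have h3 : ∑ i ∈ s.erase j, (d i ^ 2 - 1) = 16 - d j ^ 2 - (s.card - 1) := by
    rw [Finset.sum_sub_distrib, Finset.sum_erase_eq_sub hj, h, Finset.sum_const,
      ← Finset.card_erase_add_one hj]
    simp
  have h4 := fun i (hi : i ∈ s.erase j) => sub_nonneg.2 (h1 i (Finset.mem_of_mem_erase hi))
  have h5 := Finset.sum_nonneg h4
  have h6 := h1 j hj
  refine ⟨fun h7 => ?_, by omega⟩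
  have h8 : (3 : ℤ) ∣ ∑ i ∈ s.erase j, (d i ^ 2 - 1) := Finset.dvd_sum fun i hi => by
    have h8 := Finset.single_le_sum h4 hi
    have h9 := h0 i (Finset.mem_of_mem_erase hi)
    obtain ⟨h4, h5⟩ : -2 ≤ d i ∧ d i ≤ 2 := by constructor <;> nlinarith [show d i ^ 2 ≤ 6 by omega]
    generalize d i = x at h4 h5 h9 ⊢
    interval_cases x <;> simp at h9 ⊢
  have h9 : c ^ 2 ≤ 2 := by omega
  obtain ⟨h10, h11⟩ : -1 ≤ c ∧ c ≤ 1 := by constructor <;> nlinarith
  interval_cases c <;> omega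

theorem exists_fixed_of_seven {A : Type u} [CommGroup A] [Finite A] (hA : IsPGroup 2 A)
    (hc : Nat.card A = 16) {E : Subgroup (MulAut A)} (hE : ¬ 2 ∣ Nat.card E)
    (h7 : 7 ∣ Nat.card E) : ∃ z : A, (∀ σ ∈ E, σ z = z) ∧ (Subgroup.zpowers z).index = 8 := by
  classical
  have : Fact (Nat.Prime 7) := ⟨by norm_num⟩
  have := Fact.mk Nat.prime_two
  have := Fintype.ofFinite A
  obtain ⟨g, hg⟩ := exists_prime_orderOf_dvd_card' 7 h7
  have hg7 : g ^ 7 ^ 1 = 1 := by rw [pow_one, ← hg, pow_orderOf_eq_one]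
  have h1 := card_modEq_card_fixed (congrArg Subtype.val hg7)
  set K := g.1.toMonoidHom.eqLocus (MonoidHom.id A)
  have h2 : Nat.card K = 2 := by
    have h2 := K.card_subgroup_dvd_card
    have h3 : Nat.card K ≠ 16 := fun h => by
      have : g = 1 := Subtype.ext (MulEquiv.ext fun y =>
        ((Subgroup.card_eq_iff_eq_top K).1 (h.trans hc.symm) ▸ Subgroup.mem_top y : y ∈ K))
      rw [this, orderOf_one] at hg
      omega
    rw [hc] at h1 h2
    have := Nat.le_of_dvd (by norm_num) h2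
    unfold Nat.ModEq at h1
    generalize Nat.card K = x at *
    interval_cases x <;> omega
  obtain ⟨z, hz, hz'⟩ := (Nat.card_eq_two_iff' 1).1 h2
  have hz1 : (z : A) ≠ 1 := fun h => hz (Subtype.ext h)
  have h3 : orderOf (z : A) = 2 :=
    orderOf_eq_prime (congrArg Subtype.val (h2 ▸ pow_card_eq_one' (x := z))) hz1
  have h4 := (Subgroup.zpowers (z : A)).index_mul_card
  rw [Nat.card_zpowers, h3, hc] at h4
  refine ⟨z, ?_, by omega⟩
  have h5 : ∀ x : MulAction.orbit E (z : A), x.1 ≠ 1 := by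
    rintro ⟨_, σ, rfl⟩ h
    exact hz1 ((map_eq_one_iff _ σ.1.injective).1 h)
  have h6 := Equiv.Perm.card_fixedPoints_modEq
    (f := MulAction.toEndHom (α := MulAction.orbit E (z : A)) g) (p := 7) (n := 1)
    (by rw [← map_pow, hg7, map_one])
  have h8 : Nat.card (MulAction.toEndHom (α := MulAction.orbit E (z : A)) g).fixedPoints = 1 :=
    Nat.card_eq_one_iff_exists.2 ⟨⟨⟨z, MulAction.mem_orbit_self _⟩, Subtype.ext z.2⟩, fun y =>
      Subtype.ext (Subtype.ext (congrArg (fun k : K => (k : A)) (hz' ⟨y.1.1,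
        congrArg Subtype.val y.2⟩ fun h => h5 y.1 (congrArg Subtype.val h))))⟩
  simp only [Fintype.card_eq_nat_card, h8] at h6
  have h9 := Nat.card_congr (MulAction.orbitProdStabilizerEquivGroup E (z : A))
  rw [Nat.card_prod] at h9
  have h10 : Function.Injective fun x : MulAction.orbit E (z : A) =>
      (⟨x.1, h5 x⟩ : {x : A // x ≠ 1}) :=
    fun a b h => Subtype.ext (by simpa using h)
  have h11 := Nat.card_congr (Equiv.optionSubtypeNe (1 : A))
  rw [Finite.card_option, hc] at h11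
  have h12 := Nat.card_le_card_of_injective _ h10
  have h13 : ¬ 2 ∣ Nat.card (MulAction.orbit E (z : A)) := fun h => hE (h9 ▸ h.mul_right _)
  unfold Nat.ModEq at h6
  by_cases h14 : Nat.card (MulAction.orbit E (z : A)) = 1
  · intro σ hσ
    exact congrArg Subtype.val ((Nat.card_eq_one_iff_unique.1 h14).1.elim
      ⟨_, MulAction.mem_orbit _ (⟨σ, hσ⟩ : E)⟩ ⟨_, MulAction.mem_orbit_self _⟩)
  obtain ⟨v, hv, hv'⟩ := exists_not_seven hA (z := z) (by omega) hE
  obtain ⟨⟨_, σ, rfl⟩, h15⟩ := (h10.bijective_of_nat_card_le (by omega)).2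
    ⟨v, fun h => by rw [h, orderOf_one] at hv; omega⟩
  obtain rfl : σ • (z : A) = v := congrArg Subtype.val h15
  refine absurd ?_ hv'
  have h16 := orderOf_dvd_natCard (⟨σ * g * σ⁻¹, (σ * g * σ⁻¹).2, by
    change (σ * g * σ⁻¹) • σ • (z : A) = _
    rw [mul_smul, inv_smul_smul, mul_smul]
    exact congrArg _ z.2⟩ : (E ⊓ MulAction.stabilizer (MulAut A) (σ • (z : A)) : Subgroup (MulAut A)))
  rw [← Subgroup.orderOf_coe] at h16
  rw [← hg, ← (MulAut.conj σ).orderOf_eq g, ← Subgroup.orderOf_coe]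
  exact h16

open Cfsg.Agent.S4569 in
theorem StarSetup.height_zero_of_nine {M : Ideal AlgInt} {G : Type u} [Group G] [Fintype G]
    {B : Set (IrrCharacter G)} {P : Subgroup G} {e : (resK M)[G]} (S : StarSetup 2 M B P e)
    (hab : P ≤ Subgroup.centralizer (P : Set G)) (hP : Nat.card P = 16)
    (hel : ∀ x : P, x ^ 2 = 1) (hE : Nat.card (inAut P e) = 9) {ξ : IrrCharacter G} (hξ : ξ ∈ B) :
    blockHeight 2 B ξ.1 = 0 := by
  classical
  have := Fintype.ofFinite P
  have := S.hM.fact_prime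
  have := S.hM.charP
  obtain ⟨V, W, hV, hW, hVW, hfree⟩ := exists_good hP hE
  have hrk : ∀ {U : Subgroup P}, Good (inAut P e) U → ∀ v ∈ U, v ≠ 1 →
      blockRank 2 (S.below v) = 3 ∧ fuseCard 2 P e v = 3 := fun hU v hv hv1 => by
    have h1 := S.blockRank_below_eq_card hab v (hU.stab v hv hv1).le
    have h2 := S.fuseCard_mul_card hab v
    rw [hU.stab v hv hv1] at h1 h2
    exact ⟨h1, by rw [hE] at h2; omega⟩
  have hcnt := sum_four hP hV.card hW.card hVW (g := fun v => if v ∉ V ∧ v ∉ W then 1 else 0)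
    (a := 0) (b := 0) (c := 0) (d := 1) (by simp) (fun v hv _ => by simp [hv])
    (fun v hv _ => by simp [hv]) (fun v hv hv' => by simp [hv, hv'])
  rw [Finset.sum_boole] at hcnt
  have hcnt' : (Finset.univ.filter fun v => v ∉ V ∧ v ∉ W).card = 9 := by
    have : ((Finset.univ.filter fun v => v ∉ V ∧ v ∉ W).card : ℂ) = (9 : ℕ) := by
      rw [hcnt]; norm_num
    exact_mod_cast this
  obtain ⟨z, hz⟩ := Finset.card_pos.1 (by omega : 0 < (Finset.univ.filter fun v =>
    v ∉ V ∧ v ∉ W).card)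
  obtain ⟨hzV, hzW⟩ := (Finset.mem_filter.1 hz).2
  have hz2 : (z : G) ^ 2 = 1 := congrArg Subtype.val (hel z)
  have hout : ∀ v, v ∉ V → v ∉ W → blockRank 2 (S.below v) = 1 ∧ fuseCard 2 P e v = 9 := by
    intro v hv hv'
    have h1 := S.fuseCard_mul_card hab v
    rw [(Subgroup.eq_bot_iff_forall (_ ⊓ MulAction.stabilizer (MulAut P) v)).2
      fun σ hσ => hfree v hv hv' σ hσ.1 hσ.2, hE] at h1
    exact ⟨((S.isNilpotentBlock_below_iff_aut hab v).2 (hfree v hv hv')).blockRank_eq_one S.hM,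
      by simpa using h1⟩
  have hsV := hV.stable S hab
  have hsW := hW.stable S hab
  have hfuse : cpl V * cpl W = (16 : ℂ) • fuseInd 2 P e z := by
    have h1 : Finset.univ.filter (fun v : P => PairFuse 2 P e (z : G) v) =
        Finset.univ.filter fun v => v ∉ V ∧ v ∉ W := by
      refine Finset.eq_of_subset_of_card_le (fun v hv => Finset.mem_filter.2
        ⟨Finset.mem_univ _, ?_⟩) ?_
      · obtain ⟨σ, hσ, rfl⟩ := (S.pairFuse_iff_aut hab).1 (Finset.mem_filter.1 hv).2
        exact ⟨fun h => hzV (by simpa using hV.inv σ⁻¹ (inv_mem hσ) _ h),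
          fun h => hzW (by simpa using hW.inv σ⁻¹ (inv_mem hσ) _ h)⟩
      · rw [hcnt', ← (hout z hzV hzW).2, fuseCard, Nat.card_eq_fintype_card, Fintype.card_subtype]
    ext v
    have h2 : PairFuse 2 P e (z : G) v ↔ v ∉ V ∧ v ∉ W := by
      simpa using Finset.ext_iff.1 h1 v
    simp only [cpl, fuseInd, Pi.mul_apply, Pi.smul_apply, h2]
    by_cases h : v ∈ V <;> by_cases h' : v ∈ W <;> simp [h, h']
    norm_num
  obtain ⟨d, hd0, hsum, hd⟩ := S.exists_int_column hab hz2
    ((S.isNilpotentBlock_below_iff_aut hab z).2 (hfree z hzV hzW))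
  refine (S.odd_iff_of_column (le_centralizer_of_comm hab z) hξ (hd ξ ξ)).1
    (Int.not_even_iff_odd.1 fun hc => ?_)
  rw [hP] at hsum hd
  have hm : ∀ χ ψ, mat M P e (cpl V * cpl W) χ ψ = (d χ * d ψ : ℤ) := fun χ ψ => by
    rw [hfuse, mat_smul, mat, S.bstar_fuseInd_eq χ.isClassFunction]
    exact_mod_cast hd χ ψ
  have hint : ∀ U : Subgroup P, Good (inAut P e) U → ∀ χ ψ, ∃ n : ℤ,
      mat M P e (cpl U) χ ψ = n := fun U hU χ ψ =>
    (S.isGeneralizedCharacter_bstar (hU.stable S hab) (isGeneralizedCharacter_cpl hab hP hU.card)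
      χ.isCharacter.isGeneralizedCharacter).exists_classInner_eq_int
      ψ.isCharacter.isGeneralizedCharacter
  have key : ∀ U U' : Subgroup P, Good (inAut P e) U → Good (inAut P e) U' → U ⊓ U' = ⊥ →
      (∀ v, v ∉ U → v ∉ U' → blockRank 2 (S.below v) = 1 ∧ fuseCard 2 P e v = 9) →
      (∀ χ ψ, mat M P e (cpl U * cpl U') χ ψ = (d χ * d ψ : ℤ)) →
      ∀ A : IrrCharacter G → IrrCharacter G → ℤ, (∀ χ ψ, mat M P e (cpl U) χ ψ = A χ ψ) →
      (∀ χ ψ, A χ ψ = A ψ χ) ∧ (∀ χ ψ, ∑ ξ ∈ irrFinset B, A χ ξ * A ψ ξ = 4 * A χ ψ) ∧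
      (∀ χ ∈ irrFinset B, ∑ ξ ∈ irrFinset B, A χ ξ * d ξ = 4 * d χ) ∧
      (∀ χ ∈ irrFinset B, d χ ^ 2 < 4 * A χ χ) ∧ ∑ χ ∈ irrFinset B, A χ χ = 16 := by
    intro U U' hU hU' hUU hout hm A hA
    have hs := hU.stable S hab
    have hs' := hU'.stable S hab
    have hsq : cpl U * cpl U = (4 : ℂ) • cpl U := by
      ext v; simp only [cpl, Pi.mul_apply, Pi.smul_apply]; split_ifs <;> simp
    refine ⟨fun χ ψ => ?_, fun χ ψ => ?_, fun χ hχ => ?_, fun χ hχ => ?_, ?_⟩
    · have := conj_mat S hs (star_cpl U) χ ψ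
      rw [hA, hA, map_intCast] at this
      exact_mod_cast this
    · have := sum_mat S hs hs (star_cpl U) χ ψ
      simp only [hA, map_intCast, hsq, mat_smul] at this
      exact_mod_cast this
    · have := sum_mat S hs (hs.mul hs') (by rw [star_mul', star_cpl, star_cpl]) χ χ
      rw [← mul_assoc, hsq, smul_mul_assoc, mat_smul] at this
      simp only [hA, hm, map_intCast] at this
      have h1 : ∑ ξ ∈ irrFinset B, A χ ξ * (d χ * d ξ) = 4 * (d χ * d χ) := by
        exact_mod_cast this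
      refine mul_left_cancel₀ (hd0 χ (mem_irrFinset.1 hχ)) ?_
      rw [Finset.mul_sum, show d χ * (4 * d χ) = 4 * (d χ * d χ) by ring, ← h1]
      exact Finset.sum_congr rfl fun ξ _ => by ring
    · have : Nontrivial U' := Finite.one_lt_card_iff_nontrivial.1 (by rw [hU'.card]; norm_num)
      obtain ⟨w, hw⟩ := exists_ne (1 : U')
      have hwU : (w : P) ∉ U := fun h => hw (Subtype.ext (Subgroup.mem_bot.1
        (hUU ▸ Subgroup.mem_inf.2 ⟨h, w.2⟩)))
      have := mat_pos S hab ((hs.smul 4).sub (hs.mul hs')) (fun v => by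
        simp only [cpl, Pi.sub_apply, Pi.smul_apply, Pi.mul_apply]
        split_ifs <;> norm_num) (v₀ := w) (by
        simp only [cpl, Pi.sub_apply, Pi.smul_apply, Pi.mul_apply, if_neg hwU, if_pos w.2]
        norm_num) (mem_irrFinset.1 hχ) (n := 4 * A χ χ - d χ * d χ) (by
        rw [mat_sub, mat_smul, hA, hm]; push_cast; ring)
      rw [sq]; omega
    · have h1 := S.sum_classInner_bstar hs
      rw [sum_four hP hU.card hU'.card hUU (a := 0) (b := 0) (c := 4) (d := 4 / 9)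
        (by simp [cpl]) (fun v hv _ => by simp [cpl, hv]) (fun v hv hv1 => by
          have hvU : v ∉ U := fun h => hv1 (Subgroup.mem_bot.1 (hUU ▸ Subgroup.mem_inf.2 ⟨h, hv⟩))
          obtain ⟨h2, h3⟩ := hrk hU' v hv hv1
          simp [cpl, hvU, h2, h3]) (fun v hv hv' => by
          obtain ⟨h2, h3⟩ := hout v hv hv'
          simp [cpl, hv, h2, h3])] at h1
      have h2 : ∑ χ ∈ irrFinset B, (A χ χ : ℂ) = (16 : ℤ) := by
        rw [← Finset.sum_congr rfl fun χ _ => hA χ χ]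
        exact h1.trans (by norm_num)
      exact_mod_cast h2
  choose A hA using hint V hV
  choose A' hA' using hint W hW
  obtain ⟨a1, a2, a3, a4, a5⟩ := key V W hV hW hVW hout hm A hA
  obtain ⟨b1, b2, b3, b4, b5⟩ := key W V hW hV (inf_comm V W ▸ hVW)
    (fun v h h' => hout v h' h) (mul_comm (cpl V) (cpl W) ▸ hm) A' hA'
  have hk : Nat.card B = blockRank 2 B + 7 := by
    have h1 := S.card_eq_sum_below
    rw [sum_four hP hV.card hW.card hVW (a := blockRank 2 B) (b := 1) (c := 1)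
      (d := 1 / 9) (by simp [S.fuseCard_one, S.blockRank_below_one]) (fun v hv hv1 => by
        obtain ⟨h2, h3⟩ := hrk hV v hv hv1
        simp [h2, h3]) (fun v hv hv1 => by
        obtain ⟨h2, h3⟩ := hrk hW v hv hv1
        simp [h2, h3]) (fun v hv hv' => by
        obtain ⟨h2, h3⟩ := hout v hv hv'
        simp [h2, h3])] at h1
    have : (Nat.card B : ℂ) = (blockRank 2 B + 7 : ℕ) := by
      rw [h1]; push_cast; ring
    exact_mod_cast this
  have h9 := nine_le_card_of_even (fun χ hχ => hd0 χ (mem_irrFinset.1 hχ)) hsum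
    (mem_irrFinset.2 hξ) hc
  have hl := S.hB.blockRank_pos S.hM
  rw [card_irrFinset] at h9
  have hAB : ∀ χ ψ, ∑ ξ ∈ irrFinset B, A χ ξ * A' ψ ξ = d χ * d ψ := fun χ ψ => by
    have := sum_mat S hsV hsW (star_cpl W) χ ψ
    simp only [hA, hA', hm, map_intCast] at this
    exact_mod_cast this
  have hcon : ∀ χ ∈ irrFinset B, ∀ ψ, contrib 2 B χ ψ =
      (if χ = ψ then 16 else 0) - 4 * A χ ψ - 4 * A' χ ψ + d χ * d ψ := fun χ hχ ψ => by
    have h1 : (fun v => if v = 1 then (Nat.card P : ℂ) else 0) =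
        (16 : ℂ) • 1 - (4 : ℂ) • cpl V - (4 : ℂ) • cpl W - (-1 : ℂ) • (cpl V * cpl W) := by
      ext v
      have : v = 1 ↔ v ∈ V ∧ v ∈ W := by rw [← Subgroup.mem_inf, hVW, Subgroup.mem_bot]
      simp only [cpl, Pi.sub_apply, Pi.smul_apply, Pi.mul_apply, Pi.one_apply, this, hP]
      by_cases h : v ∈ V <;> by_cases h' : v ∈ W <;> simp [h, h'] <;> norm_num
    have h2 := congrArg (fun η => mat M P e η χ ψ) h1
    simp only [mat_sub, mat_smul, hA, hA', hm] at h2
    rw [mat, mat, S.bstar_regular (blockPart_irr_of_mem (mem_irrFinset.1 hχ)),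
      S.bstar_one_irr (mem_irrFinset.1 hχ), classInner_smul_left, S.card_eq, Nat.cast_pow,
      ← cast_contrib (mem_irrFinset.1 hχ), χ.classInner_eq] at h2
    refine Int.cast_injective (α := ℂ) ?_
    rw [h2]; split_ifs <;> push_cast <;> ring
  have h16 := card_eq_sixteen (s := irrFinset B) (A := A) (B := A')
    (fun χ hχ => hd0 χ (mem_irrFinset.1 hχ)) hsum (by rw [card_irrFinset]; omega)
    (fun χ _ ψ _ => a1 χ ψ) (fun χ _ ψ _ => b1 χ ψ) (fun χ _ ψ _ => a2 χ ψ)
    (fun χ _ ψ _ => b2 χ ψ) (fun χ _ => by rw [hAB, sq]) a3 b3 a4 b4 (fun χ hχ => by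
      have := contrib_self_pos (p := 2) (mem_irrFinset.1 hχ)
      rw [hcon χ hχ, if_pos rfl] at this
      rw [sq]; omega) a5 b5
  rw [card_irrFinset] at h16
  omega

theorem StarSetup.height_zero_of_sixteen {M : Ideal AlgInt} {G : Type u} [Group G] [Fintype G]
    {B : Set (IrrCharacter G)} {P : Subgroup G} {e : (resK M)[G]} (S : StarSetup 2 M B P e)
    (hab : P ≤ Subgroup.centralizer (P : Set G)) (hP : Nat.card P = 16) {χ : IrrCharacter G}
    (hχ : χ ∈ B) : blockHeight 2 B χ.1 = 0 := by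
  have := isMulCommutative_of_le_centralizer hab
  let : CommGroup P := { (inferInstance : Group P) with mul_comm := fun a b => mul_comm' a b }
  have hE := S.not_dvd_card_inAut hab
  by_cases h7 : 7 ∣ Nat.card (inAut P e)
  · obtain ⟨z, h1, h2⟩ := exists_fixed_of_seven S.isPGroup hP hE h7
    exact (S.of_index_eight hab h1 h2).2.1 χ hχ
  rcases aut_sixteen S.isPGroup hP.le hE h7 with h | ⟨-, hel, h | h⟩
  · exact S.height_zero_of_le_three hab h hχ
  · exact S.height_zero_of_nine hab hP hel h hχ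
  have h1 := S.card_mul_of_semifree_aut hab {1} (fun v hv σ _ => by rw [hv, map_one])
    fun v hv σ hσ => h σ hσ v hv
  rw [hP, Nat.card_unique (α := ({1} : Set P)), one_mul] at h1
  have h2 : Nat.card (inAut P e) ∣ 15 :=
    (Nat.dvd_add_right (dvd_mul_left _ (blockRank 2 B))).1
      (Nat.succ_injective h1 ▸ dvd_mul_left _ (Nat.card B))
  have h3 := Nat.le_of_dvd (by norm_num) h2
  have h4 : Nat.card (inAut P e) ≤ 3 ∨ Nat.card (inAut P e) = 5 ∨ Nat.card (inAut P e) = 15 := by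
    generalize Nat.card (inAut P e) = x at h2 h3
    interval_cases x <;> omega
  rcases h4 with h4 | h4 | h4
  · exact S.height_zero_of_le_three hab h4 hχ
  · exact S.height_zero_of_five hab hP hel h h4 hχ
  have : Nontrivial P := Finite.one_lt_card_iff_nontrivial.1 (by omega)
  obtain ⟨u, hu⟩ := exists_ne (1 : P)
  obtain ⟨d, h5, -⟩ := S.exists_column_of_fuse hab hu (congrArg Subtype.val (hel u))
    (fun v hv => S.fuse_of_fuseCard hab (fun v hv => by
      have h1 := S.fuseCard_mul_card hab v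
      rw [(Subgroup.eq_bot_iff_forall (_ ⊓ MulAction.stabilizer (MulAut P) v)).2
        fun σ hσ => h σ hσ.1 v hv hσ.2, h4, Subgroup.card_bot, mul_one] at h1
      omega) hu hv) ((S.isNilpotentBlock_below_iff_aut hab u).2 fun σ hσ => h σ hσ u hu)
  exact (h5 χ hχ).2

end Cfsg
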