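import Cfsg.Agent.Blk.PrinTwo
import Cfsg.Agent.Blk.SylowSC
import Cfsg.Agent.Blk.Klein
import Cfsg.Agent.Lin.ExcFam
import Cfsg.Agent.Grp.DoubleCover
import Cfsg.Agent.S4479
import Cfsg.Agent.S4504

/-! Simple groups of order `3 p^a q^b` and `4 p^a q^b` (Brauer). -/

set_option autoImplicit false

namespace Cfsg

open scoped ComplexConjugate commutatorElement

universe u v

variable {G : Type u} [Group G]

theorem commutator_eq_top_of_simple [IsSimpleGroup G] (hna : ∃ x y : G, x * y ≠ y * x) :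
    commutator G = ⊤ := by
  rcases (inferInstance : (commutator G).Normal).eq_bot_or_eq_top with h | h
  · obtain ⟨x, y, hxy⟩ := hna
    have : ⁅x, y⁆ ∈ commutator G :=
      Subgroup.commutator_mem_commutator (Subgroup.mem_top x) (Subgroup.mem_top y)
    rw [h, Subgroup.mem_bot, commutatorElement_eq_one_iff_mul_comm] at this
    exact absurd this hxy
  · exact h

theorem center_eq_bot_of_simple [IsSimpleGroup G] (hna : ∃ x y : G, x * y ≠ y * x) :
    Subgroup.center G = ⊥ := by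
  rcases (inferInstance : (Subgroup.center G).Normal).eq_bot_or_eq_top with h | h
  · exact h
  · obtain ⟨x, y, hxy⟩ := hna
    have : y ∈ Subgroup.center G := h ▸ Subgroup.mem_top y
    exact absurd (Subgroup.mem_center_iff.1 this x) hxy

theorem not_isSolvable_of_simple [IsSimpleGroup G] (hna : ∃ x y : G, x * y ≠ y * x) :
    ¬ Group.IsSolvable G := fun h => by
  obtain ⟨x, y, hxy⟩ := hna
  exact hxy (IsSimpleGroup.comm_iff_isSolvable.2 h x y)

theorem IrrCharacter.charDegree_ne_one_of_simple [Finite G] [IsSimpleGroup G]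
    (hna : ∃ x y : G, x * y ≠ y * x) {χ : IrrCharacter G} (h : χ ≠ IrrCharacter.triv G) :
    charDegree χ.1 ≠ 1 := fun h1 => by
  rw [χ.charDegree_eq_one_iff_commutator_le, commutator_eq_top_of_simple hna, top_le_iff,
    χ.charKer_eq_top_iff] at h1
  exact h h1

/-- a faithful irreducible character of prime degree `p` of a group with trivial centre -/
theorem IrrCharacter.scp_of_charDegree_eq [Finite G] {p : ℕ} [hp : Fact p.Prime]
    (χ : IrrCharacter G) (hZ : charCenter χ.1 = ⊥) (hd : charDegree χ.1 = p) (P : Sylow p G) :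
    SCP p P := by
  classical
  have := Fintype.ofFinite G
  have := Fintype.ofFinite (P : Subgroup G)
  have hk : charKer χ.1 = ⊥ := le_bot_iff.1 (hZ ▸ charKer_le_charCenter χ.1)
  have hdiv : p ∣ Nat.card (P : Subgroup G) :=
    P.dvd_card_of_dvd_card (hd ▸ χ.charDegree_dvd_card)
  have hnt : Nontrivial (P : Subgroup G) := Finite.one_lt_card_iff_nontrivial.1
    (lt_of_lt_of_le hp.out.one_lt (Nat.le_of_dvd Nat.card_pos hdiv))
  have hres := χ.isCharacter.res (P : Subgroup G)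
  have hlin : ∀ ψ : IrrCharacter (P : Subgroup G),
      classInner (fun x : (P : Subgroup G) => χ.1 x) ψ.1 ≠ 0 → charDegree ψ.1 = 1 := by
    intro ψ hψ
    by_contra h1
    obtain ⟨k, hk'⟩ := ψ.exists_charDegree_eq_pow P.isPGroup'
    have h2 : p ≤ charDegree ψ.1 := by
      rw [hk'] at h1 ⊢
      exact Nat.le_self_pow (by rintro rfl; simp at h1) p
    have h3 : charDegree (fun x : (P : Subgroup G) => χ.1 x) = p := hd
    have h4 := hres.eq_of_constituent_of_charDegree_eq ψ hψ (h3.le.trans h2)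
    have := P.isPGroup'.center_nontrivial
    obtain ⟨z, hz⟩ := exists_ne (1 : Subgroup.center (P : Subgroup G))
    have h5 := ψ.center_le_charCenter z.2
    rw [← h4, hres.mem_charCenter, h3.trans hd.symm, ← χ.mem_charCenter, hZ,
      Subgroup.mem_bot] at h5
    exact hz (Subtype.ext (Subtype.ext h5))
  have hcomm : (P : Subgroup G) ≤ Subgroup.centralizer ((P : Subgroup G) : Set G) := by
    intro a ha b hb
    have h1 : ⁅(⟨b, hb⟩ : (P : Subgroup G)), ⟨a, ha⟩⁆ ∈
        charKer (fun x : (P : Subgroup G) => χ.1 x) :=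
      hres.mem_charKer_iff_constituents.2 fun ψ hψ =>
        (ψ.charDegree_eq_one_iff_commutator_le.1 (hlin ψ hψ))
          (Subgroup.commutator_mem_commutator (Subgroup.mem_top _) (Subgroup.mem_top _))
    rw [χ.isCharacter.charKer_res, hk, Subgroup.mem_subgroupOf, Subgroup.mem_bot] at h1
    exact commutatorElement_eq_one_iff_mul_comm.1 h1
  set C := Subgroup.centralizer ((P : Subgroup G) : Set G) with hC
  have := Fintype.ofFinite C
  have h0 : ∀ x ∈ C, x ≠ 1 → χ.1 x = 0 := fun x hx hx1 => by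
    have hle : (P : Subgroup G) ≤ Subgroup.centralizer {x} := fun y hy =>
      Subgroup.mem_centralizer_singleton_iff.2 (hx y hy)
    refine (χ.eq_zero_or_mem_charCenter_of_coprime ?_).resolve_right (by rwa [hZ, Subgroup.mem_bot])
    rw [hd, hp.out.coprime_iff_not_dvd]
    exact fun h => P.not_dvd_index (h.trans (Subgroup.index_dvd_of_le hle))
  have h1 := χ.isCharacter.card_mul_fixDim C
  rw [sum_subgroup_of_const h0, mul_zero, add_zero, χ.one_eq_charDegree, hd] at h1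
  have h2 : Nat.card C ∣ p := ⟨_, by exact_mod_cast h1.symm⟩
  have h3 := Subgroup.card_dvd_of_le hcomm
  have h4 : Nat.card (P : Subgroup G) = p := Nat.dvd_antisymm (h3.trans h2) hdiv
  refine ⟨h4, (Subgroup.eq_of_le_of_card_ge hcomm ?_).ge⟩
  rw [h4]
  exact Nat.le_of_dvd hp.out.pos h2

theorem IrrCharacter.scp_of_simple [Finite G] [IsSimpleGroup G]
    (hna : ∃ x y : G, x * y ≠ y * x) {p : ℕ} [hp : Fact p.Prime]
    (χ : IrrCharacter G) (hd : charDegree χ.1 = p) (P : Sylow p G) : SCP p P := by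
  refine χ.scp_of_charDegree_eq ?_ hd P
  rw [χ.charCenter_eq_center_of_faithful, center_eq_bot_of_simple hna]
  refine χ.charKer_eq_bot_of_isSimpleGroup ?_
  rintro rfl
  rw [IrrCharacter.charDegree_triv] at hd
  exact hp.out.one_lt.ne hd

theorem IrrCharacter.not_sq_dvd_of_simple [Finite G] [IsSimpleGroup G]
    (hna : ∃ x y : G, x * y ≠ y * x) {p : ℕ} (hp : p.Prime)
    (χ : IrrCharacter G) (hd : charDegree χ.1 = p) : ¬ p ^ 2 ∣ Nat.card G := by
  have := Fact.mk hp
  obtain ⟨P⟩ : Nonempty (Sylow p G) := inferInstance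
  have h := (χ.scp_of_simple hna hd P).card
  intro h2
  rw [← (P : Subgroup G).card_mul_index, h, sq] at h2
  exact P.not_dvd_index (Nat.dvd_of_mul_dvd_mul_left hp.pos h2)

theorem nonempty_alt_five_of_card [Finite G] [IsSimpleGroup G] (hna : ∃ x y : G, x * y ≠ y * x)
    (h : Nat.card G = 60) : Nonempty (G ≃* alternatingGroup (Fin 5)) := by
  obtain ⟨e⟩ := psl25_of_simple_card_sixty (commutator_eq_top_of_simple hna) h
  have hc : Nat.card (alternatingGroup (Fin 5)) = 60 := by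
    have := two_mul_nat_card_alternatingGroup (α := Fin 5)
    rw [Nat.card_perm, Nat.card_eq_fintype_card (α := Fin 5), Fintype.card_fin] at this
    norm_num [Nat.factorial] at this ⊢
    omega
  have hs : IsSimpleGroup (alternatingGroup (Fin 5)) := alternatingGroup.isSimpleGroup (by simp)
  obtain ⟨e'⟩ := psl25_of_simple_card_sixty (L := alternatingGroup (Fin 5))
    (commutator_eq_top_of_simple (by
      by_contra h1
      push Not at h1
      obtain ⟨x, y, hxy⟩ := hna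
      let : CommGroup (alternatingGroup (Fin 5)) := { mul_comm := h1 }
      have := (IsSimpleGroup.prime_card (α := alternatingGroup (Fin 5)))
      rw [hc] at this
      norm_num at this)) hc
  exact ⟨e.trans e'.symm⟩


theorem eq_pow_of_dvd_of_not_dvd {p q a b n : ℕ} (hp : p.Prime) (hq : q.Prime)
    (h : n ∣ p ^ a * q ^ b) (hn : ¬ q ∣ n) : ∃ i ≤ a, n = p ^ i :=
  (Nat.dvd_prime_pow hp).1 (Nat.Coprime.dvd_of_dvd_mul_right
    (Nat.Coprime.pow_right b ((hq.coprime_iff_not_dvd.2 hn).symm)) h)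

theorem pow_pair_of_coprime {p q a b m n : ℕ} (hp : p.Prime) (hq : q.Prime)
    (hm : m ∣ p ^ a * q ^ b) (hn : n ∣ p ^ a * q ^ b) (hm1 : m ≠ 1) (hn1 : n ≠ 1)
    (h : m.Coprime n) : ∃ i j, 0 < i ∧ i ≤ a ∧ 0 < j ∧ j ≤ b ∧
      (m = p ^ i ∧ n = q ^ j ∨ n = p ^ i ∧ m = q ^ j) := by
  have key : ∀ {r : ℕ}, r.Prime → r ∣ m → ¬ r ∣ n := fun hr h1 h2 =>
    hr.one_lt.ne' (Nat.dvd_one.1 (h ▸ Nat.dvd_gcd h1 h2))
  have pos : ∀ {r i x : ℕ}, x ≠ 1 → x = r ^ i → 0 < i := fun h1 h2 =>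
    Nat.pos_of_ne_zero (by rintro rfl; simp at h2; exact h1 h2)
  by_cases hqm : q ∣ m
  · obtain ⟨i, hi, rfl⟩ := eq_pow_of_dvd_of_not_dvd hp hq hn (key hq hqm)
    have h1 := pos hn1 rfl
    obtain ⟨j, hj, rfl⟩ := eq_pow_of_dvd_of_not_dvd hq hp (mul_comm (p ^ a) _ ▸ hm)
      fun h2 => key hp h2 (dvd_pow_self p h1.ne')
    exact ⟨i, j, h1, hi, pos hm1 rfl, hj, Or.inr ⟨rfl, rfl⟩⟩
  · obtain ⟨i, hi, rfl⟩ := eq_pow_of_dvd_of_not_dvd hp hq hm hqm
    have h1 := pos hm1 rfl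
    obtain ⟨j, hj, rfl⟩ := eq_pow_of_dvd_of_not_dvd hq hp (mul_comm (p ^ a) _ ▸ hn)
      (key hp (dvd_pow_self p h1.ne'))
    exact ⟨i, j, h1, hi, pos hn1 rfl, hj, Or.inl ⟨rfl, rfl⟩⟩

/-- two consecutive degrees in the principal `3`-block -/
theorem exists_consecutive_of_three [Finite G] [IsSimpleGroup G]
    (hna : ∃ x y : G, x * y ≠ y * x) {m : ℕ} (hG : Nat.card G = 3 * m) (hm : ¬ 3 ∣ m) :
    ∃ χ ψ : IrrCharacter G, charDegree χ.1 ≠ 1 ∧ charDegree ψ.1 = charDegree χ.1 + 1 ∧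
      charDegree χ.1 ∣ m ∧ charDegree ψ.1 ∣ m := by
  classical
  have := Fintype.ofFinite G
  have := Fact.mk Nat.prime_three
  obtain ⟨P⟩ : Nonempty (Sylow 3 G) := inferInstance
  have hm0 : m ≠ 0 := by rintro rfl; simp at hm
  have hP : Nat.card (P : Subgroup G) = 3 := by
    rw [Sylow.card_eq_multiplicity, hG, Nat.factorization_mul (by norm_num) hm0,
      Finsupp.add_apply, Nat.factorization_eq_zero_of_not_dvd hm,
      Nat.prime_three.factorization_self]
    simp
  have hi : (Subgroup.centralizer ((P : Subgroup G) : Set G)).index ∣ m := by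
    refine (Subgroup.index_dvd_of_le (le_centralizer_of_card_prime hP)).trans (dvd_of_eq ?_)
    have := (P : Subgroup G).card_mul_index
    rw [hP, hG] at this
    omega
  obtain ⟨O⟩ := exists_prinOne P hP
  obtain ⟨ψ, hψ⟩ := O.Y_nonempty
  have hψ1 : charDegree ψ.1 ≠ 1 :=
    IrrCharacter.charDegree_ne_one_of_simple hna fun e => O.notMem ψ hψ (e ▸ O.triv_mem)
  have hrel := O.degree_rel hψ
  have he : autIdx (P : Subgroup G) ∣ 2 := Dvd.intro_left _ O.card_Y
  rcases (Nat.dvd_prime Nat.prime_two).1 he with he | he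
  · have hX : O.X = {IrrCharacter.triv G} := by
      obtain ⟨x, hx⟩ := Finset.card_eq_one.1 (O.card_X.trans he)
      have := O.triv_mem
      rw [hx, Finset.mem_singleton] at this
      rw [hx, this]
    rw [hX, Finset.sum_singleton, O.δ_triv, IrrCharacter.charDegree_triv] at hrel
    rcases O.δ₀_sign with h | h <;> rw [h] at hrel <;> omega
  · obtain ⟨ζ, hζ, hζ1⟩ := Finset.exists_mem_ne (s := O.X) (by rw [O.card_X, he]; norm_num)
      (IrrCharacter.triv G)
    have hζ1' := IrrCharacter.charDegree_ne_one_of_simple hna hζ1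
    rw [O.sum_X_of_two he hζ hζ1 (fun χ => O.δ χ * (charDegree χ.1 : ℤ)), O.δ_triv,
      IrrCharacter.charDegree_triv] at hrel
    have h1 := (O.X_dvd hP hζ).trans hi
    have h2 := (O.Y_dvd hP hψ).trans hi
    have h3 := ζ.charDegree_pos
    have h4 := ψ.charDegree_pos
    rcases O.δ₀_sign with h | h <;> rcases O.δ_sign ζ hζ with h' | h' <;> rw [h, h'] at hrel
    · omega
    · exact ⟨ψ, ζ, hψ1, by omega, h2, h1⟩
    · exact ⟨ζ, ψ, hζ1', by omega, h1, h2⟩
    · omega

/-- simple groups of order `3 p 2^b` with a self-centralizing Sylow `p`-subgroup -/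
theorem simple_three_mul_prime_mul_two_pow [Finite G] [IsSimpleGroup G]
    (hna : ∃ x y : G, x * y ≠ y * x) {p b : ℕ} [hp : Fact p.Prime] (h5 : 5 ≤ p)
    (hG : Nat.card G = 3 * p * 2 ^ b) (P : Sylow p G) (H : SCP p P) :
    Nat.card G = 60 ∨
      Nonempty (G ≃* Matrix.ProjectiveSpecialLinearGroup (Fin 2) (ZMod 7)) := by
  classical
  have := Fintype.ofFinite G
  have hi : (Subgroup.centralizer ((P : Subgroup G) : Set G)).index ∣ 3 ^ 1 * 2 ^ b := by
    rw [H.cen_eq]
    refine dvd_of_eq (Nat.eq_of_mul_eq_mul_left hp.out.pos ?_)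
    have := (P : Subgroup G).card_mul_index
    rw [H.card, hG] at this
    rw [this]
    ring
  have hodd : ∀ n : ℕ, n ∣ 3 ^ 1 * 2 ^ b → n ≠ 1 → 2 ∣ n ∨ n = 3 := fun n hn h1 => by
    refine or_iff_not_imp_left.2 fun h2 => ?_
    obtain ⟨i, hi, rfl⟩ := eq_pow_of_dvd_of_not_dvd Nat.prime_three Nat.prime_two hn h2
    interval_cases i <;> simp_all
  obtain ⟨O⟩ := exists_prinOne P H.card
  obtain ⟨ψ, hψ⟩ := O.Y_nonempty
  have hψt : ψ ≠ IrrCharacter.triv G := fun e => O.notMem ψ hψ (e ▸ O.triv_mem)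
  have hψ1 : charDegree ψ.1 ≠ 1 := IrrCharacter.charDegree_ne_one_of_simple hna hψt
  have hrel := O.degree_rel hψ
  have hX : ∀ χ ∈ O.X.erase (IrrCharacter.triv G), (2 : ℤ) ∣ O.δ χ * charDegree χ.1 := by
    intro χ hχ
    obtain ⟨h1, h2⟩ := Finset.mem_erase.1 hχ
    rcases hodd _ ((O.X_dvd H.card h2).trans hi)
      (IrrCharacter.charDegree_ne_one_of_simple hna h1) with h | h
    · exact Dvd.dvd.mul_left (by exact_mod_cast h) _
    · have h3 := O.fixDim_X H.card h2
      rw [h] at h3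
      generalize fixDim (P : Subgroup G) χ.1 = f at h3
      rcases O.δ_sign χ h2 with h' | h' <;> rw [h'] at h3
      · have : (p : ℤ) ∣ 2 := ⟨f - 1, by push_cast at h3; linear_combination -h3⟩
        have := Int.le_of_dvd (by norm_num) this
        omega
      · have : (p : ℤ) ∣ 4 := ⟨f + 1, by push_cast at h3; linear_combination -h3⟩
        have := Int.le_of_dvd (by norm_num) this
        omega
  have h3 : charDegree ψ.1 = 3 := by
    refine (hodd _ ((O.Y_dvd H.card hψ).trans hi) hψ1).resolve_left fun h2 => ?_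
    rw [← Finset.add_sum_erase _ _ O.triv_mem, O.δ_triv, IrrCharacter.charDegree_triv] at hrel
    have h4 := Finset.dvd_sum hX
    have h5 : (2 : ℤ) ∣ O.δ₀ * charDegree ψ.1 := Dvd.dvd.mul_left (by exact_mod_cast h2) _
    omega
  have hnn : ∀ K : Subgroup G, K.Normal → Nat.card K ≠ p := fun K hK h => by
    rcases hK.eq_bot_or_eq_top with rfl | rfl
    · rw [Subgroup.card_bot] at h; omega
    · rw [Subgroup.card_top, hG] at h
      have := Nat.two_pow_pos b
      nlinarith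
  have hf := ψ.charKer_eq_bot_iff.1 (ψ.charKer_eq_bot_of_isSimpleGroup hψt)
  obtain ⟨F⟩ := nonempty_autFrame H.card
  rcases F.small_faithful (fun h => hnn _ h H.card) ψ hf (by omega) with ⟨h, -⟩ | ⟨h, h', -⟩
  · obtain rfl : p = 7 := by omega
    obtain ⟨e⟩ := Agent.S4504.result 7 hp.out ⟨3 * 2 ^ b, by rw [hG]; ring⟩ (by
      intro h2
      rw [← (P : Subgroup G).card_mul_index, H.card, sq] at h2
      exact P.not_dvd_index (Nat.dvd_of_mul_dvd_mul_left hp.out.pos h2)) hnn ψ.1 ψ.isCharacter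
      hf h
    exact Or.inr ⟨((QuotientGroup.quotientMulEquivOfEq (center_eq_bot_of_simple hna)).trans
      QuotientGroup.quotientBot).symm.trans e⟩
  · obtain rfl : p = 5 := by omega
    left
    have h4 := O.fixDim_Y H.card hψ
    have he : autIdx (P : Subgroup G) ∣ 4 := Dvd.intro_left _ O.card_Y
    have he' := Nat.le_of_dvd (by norm_num) he
    rw [h3] at h4 hrel
    have he2 : autIdx (P : Subgroup G) = 2 ∧ O.δ₀ = 1 := by
      generalize autIdx (P : Subgroup G) = e at *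
      rcases O.δ₀_sign with h | h <;> rw [h] at h4 ⊢ <;> interval_cases e <;> simp_all <;> omega
    obtain ⟨ζ, hζ, hζ1⟩ := Finset.exists_mem_ne (s := O.X) (by rw [O.card_X, he2.1]; norm_num)
      (IrrCharacter.triv G)
    rw [O.sum_X_of_two he2.1 hζ hζ1 (fun χ => O.δ χ * (charDegree χ.1 : ℤ)), O.δ_triv,
      IrrCharacter.charDegree_triv, he2.2] at hrel
    have hO : pPrimeCore 5 G = ⊥ := by
      rcases (inferInstance : (pPrimeCore 5 G).Normal).eq_bot_or_eq_top with h | h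
      · exact h
      · rw [pPrimeCore_eq_top_iff, hG] at h
        exact absurd ⟨3 * 2 ^ b, by ring⟩ (hp.out.coprime_iff_not_dvd.1 h.symm)
    have Q : QTwo 5 P O ζ := ⟨⟨by norm_num, H.card, H.cen, he2.1⟩, le_rfl, hO, hζ, by
      rcases O.δ_sign ζ hζ with h | h <;> rw [h] at hrel <;> omega⟩
    exact Q.card_eq

theorem simple_three_mul_pow_mul_pow [Finite G] [IsSimpleGroup G]
    (hna : ∃ x y : G, x * y ≠ y * x) {p q a b : ℕ} (hp : p.Prime) (hq : q.Prime) (ha : a ≤ 2)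
    (hG : Nat.card G = 3 * p ^ a * q ^ b) : Nat.card G = 60 ∨
      Nonempty (G ≃* Matrix.ProjectiveSpecialLinearGroup (Fin 2) (ZMod 7)) := by
  have hp3 : p ≠ 3 := by
    rintro rfl
    exact not_isSolvable_of_simple hna (isSolvable_of_card_eq_pow_mul_pow (a := a + 1) (b := b)
      hp hq (by rw [hG]; ring))
  have hq3 : q ≠ 3 := by
    rintro rfl
    exact not_isSolvable_of_simple hna (isSolvable_of_card_eq_pow_mul_pow (a := a) (b := b + 1)
      hp hq (by rw [hG]; ring))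
  have hm : ¬ 3 ∣ p ^ a * q ^ b := fun h => by
    rcases (Nat.Prime.dvd_mul Nat.prime_three).1 h with h | h
    · exact hp3 ((Nat.prime_dvd_prime_iff_eq Nat.prime_three hp).1
        (Nat.prime_three.dvd_of_dvd_pow h)).symm
    · exact hq3 ((Nat.prime_dvd_prime_iff_eq Nat.prime_three hq).1
        (Nat.prime_three.dvd_of_dvd_pow h)).symm
  obtain ⟨χ, ψ, h1, h2, h3, h4⟩ := exists_consecutive_of_three hna (hG.trans (mul_assoc ..)) hm
  have h0 := χ.charDegree_pos
  obtain ⟨i, j, hi, hia, hj, hjb, h⟩ := pow_pair_of_coprime hp hq h3 h4 h1 (by omega)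
    (by rw [h2]; simp)
  obtain ⟨α, β, hα, hβ, hαβ⟩ : ∃ α β : IrrCharacter G, charDegree α.1 = p ^ i ∧
      charDegree β.1 = q ^ j ∧ (p ^ i + 1 = q ^ j ∨ q ^ j + 1 = p ^ i) := by
    rcases h with ⟨h, h'⟩ | ⟨h, h'⟩
    · exact ⟨χ, ψ, h, h', Or.inl (by omega)⟩
    · exact ⟨ψ, χ, h, h', Or.inr (by omega)⟩
  have hq1 : ¬ 3 ∣ q ^ j := fun h => hm (h.trans ((pow_dvd_pow q hjb).mul_left _))
  have hq2 : 1 < q ^ j := Nat.one_lt_pow hj.ne' hq.one_lt
  rcases hp.eq_two_or_odd' with rfl | hpo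
  · have hi2 : i ≤ 2 := hia.trans ha
    have h5 : q ^ j = 5 ∧ i = 2 := by interval_cases i <;> omega
    obtain ⟨rfl, rfl⟩ := (Nat.Prime.pow_eq_iff (by norm_num : Nat.Prime 5)).1 h5.1
    have h6 := β.not_sq_dvd_of_simple hna hq (by simpa using hβ)
    obtain rfl : a = 2 := by omega
    obtain rfl : b = 1 := by
      by_contra hb
      exact h6 (hG ▸ (pow_dvd_pow 5 (by omega)).mul_left _)
    exact Or.inl hG
  · obtain rfl : q = 2 := by
      refine hq.eq_two_or_odd'.resolve_right fun hqo => ?_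
      obtain ⟨x, hx⟩ := hpo.pow (n := i)
      obtain ⟨y, hy⟩ := hqo.pow (n := j)
      omega
    have h5 : 5 ≤ p := by
      have := hp.two_le
      have : p ≠ 4 := by rintro rfl; norm_num at hp
      have : p ≠ 2 := by rintro rfl; norm_num at hpo
      omega
    obtain rfl : i = 1 := by
      by_contra hi1
      obtain rfl : i = 2 := by omega
      obtain ⟨k, rfl⟩ := hpo
      rcases hαβ with h | h
      · obtain ⟨j, rfl⟩ : ∃ l, j = l + 2 := ⟨j - 2, by
          by_contra hj2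
          obtain rfl : j = 1 := by omega
          nlinarith⟩
        have : (2 * k + 1) ^ 2 + 1 = 4 * (k ^ 2 + k) + 2 := by ring
        rw [this, pow_add] at h
        omega
      · have h6 : (2 : ℕ) ^ j = 4 * (k * (k + 1)) := by nlinarith
        have h7 : ∀ x : ℕ, x ∣ 2 ^ j → ¬ 2 ∣ x → x = 1 := fun x hx hx2 => by
          obtain ⟨l, -, rfl⟩ := (Nat.dvd_prime_pow Nat.prime_two).1 hx
          rcases l with _ | l
          · rfl
          · exact absurd (dvd_pow_self 2 (by omega)) hx2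
        by_cases hk : 2 ∣ k
        · have := h7 (k + 1) ⟨4 * k, by rw [h6]; ring⟩ (by omega)
          omega
        · have := h7 k ⟨4 * (k + 1), by rw [h6]; ring⟩ hk
          omega
    rw [pow_one] at hα
    have h6 := α.not_sq_dvd_of_simple hna hp hα
    obtain rfl : a = 1 := by
      by_contra hb
      exact h6 (hG ▸ ((pow_dvd_pow p (by omega)).mul_left _).mul_right _)
    have := Fact.mk hp
    obtain ⟨P⟩ : Nonempty (Sylow p G) := inferInstance
    exact simple_three_mul_prime_mul_two_pow hna h5 (by rw [hG, pow_one]) P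
      (α.scp_of_simple hna hα P)


theorem klein_arith {p q i j : ℕ} (hp : p.Prime) (hq : q.Prime) (hpq : p ≠ q) (hi : 0 < i)
    (hj : 0 < j) {x y z : ℕ} {α β γ : ℤ} (hx : x = p ^ i) (hy : y = q ^ j) (hz : z ≠ 1)
    (hα : α = 1 ∨ α = -1) (hβ : β = 1 ∨ β = -1) (hγ : γ = 1 ∨ γ = -1)
    (hrel : 1 + α * x + β * y + γ * z = 0) {m : ℕ} (hm : (z : ℤ) + γ = 2 * m)
    (hm' : ∀ r : ℕ, r.Prime → r ∣ m → r = p ∨ r = q) :
    z = 3 ∧ α * x + β * y = 2 := by
  have h1 : m = 1 := by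
    by_contra h
    obtain ⟨r, hr, hrm⟩ := Nat.exists_prime_and_dvd h
    have h2 : (r : ℤ) ∣ α * x + β * y := by
      have h3 : (r : ℤ) ∣ γ * (z + γ) := by
        rw [hm]
        exact ((Int.natCast_dvd_natCast.2 hrm).mul_left _).mul_left _
      have h4 : α * x + β * y = -(γ * (z + γ)) := by
        rcases hγ with rfl | rfl <;> linarith
      rw [h4]
      exact h3.neg_right
    have key : ∀ {s t k l : ℕ} {a b : ℤ}, s.Prime → t.Prime → s ≠ t → 0 < k → (b = 1 ∨ b = -1) →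
        ¬ (s : ℤ) ∣ a * (s ^ k : ℕ) + b * (t ^ l : ℕ) := by
      intro s t k l a b hs ht hst hk hb h
      rw [dvd_add_right ((Int.natCast_dvd_natCast.2 (dvd_pow_self s hk.ne')).mul_left _)] at h
      have h5 : (s : ℤ) ∣ (t ^ l : ℕ) := by
        rcases hb with rfl | rfl
        · simpa using h
        · simpa using h
      exact hst ((Nat.prime_dvd_prime_iff_eq hs ht).1
        (hs.dvd_of_dvd_pow (Int.natCast_dvd_natCast.1 h5)))
    subst hx hy
    rcases hm' r hr hrm with rfl | rfl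
    · exact key hp hq hpq hi hβ h2
    · exact key hq hp hpq.symm hj hα (add_comm (α * _) _ ▸ h2)
  subst h1
  rcases hγ with rfl | rfl
  · omega
  · constructor <;> omega

theorem simple_four_mul_pow_mul_pow [Finite G] [IsSimpleGroup G]
    (hna : ∃ x y : G, x * y ≠ y * x) {p q a b : ℕ} (hp : p.Prime) (hq : q.Prime) (hpq : p ≠ q)
    (hG : Nat.card G = 4 * p ^ a * q ^ b) : Nat.card G = 60 := by
  classical
  have := Fintype.ofFinite G
  have hp2 : p ≠ 2 := by
    rintro rfl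
    exact not_isSolvable_of_simple hna (isSolvable_of_card_eq_pow_mul_pow (a := a + 2) (b := b)
      hp hq (by rw [hG]; ring))
  have hq2 : q ≠ 2 := by
    rintro rfl
    exact not_isSolvable_of_simple hna (isSolvable_of_card_eq_pow_mul_pow (a := a) (b := b + 2)
      hp hq (by rw [hG]; ring))
  have hodd : Odd (p ^ a * q ^ b) :=
    (hp.odd_of_ne_two hp2).pow.mul (hq.odd_of_ne_two hq2).pow
  set g := p ^ a * q ^ b with hg
  have hG' : Nat.card G = 4 * g := hG.trans (mul_assoc ..)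
  have hnc : ¬ ∃ N : Subgroup G, N.Normal ∧ Nat.card N = g := by
    rintro ⟨N, hN, hc⟩
    rcases hN.eq_bot_or_eq_top with rfl | rfl
    · rw [Subgroup.card_bot] at hc
      exact not_isSolvable_of_simple hna (isSolvable_of_card_eq_pow_mul_pow (a := 2) (b := 0)
        Nat.prime_two hq (by rw [hG', ← hc]; norm_num))
    · rw [Subgroup.card_top] at hc
      have := hodd.pos
      omega
  obtain ⟨M, hM⟩ := exists_isPModular Nat.prime_two
  obtain ⟨P⟩ : Nonempty (Sylow 2 G) := inferInstance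
  obtain ⟨⟨J, hJ⟩, hJ2⟩ := exists_prime_orderOf_dvd_card' (G := (P : Subgroup G)) 2
    (P.dvd_card_of_dvd_card (hG' ▸ ⟨2 * g, by ring⟩))
  rw [Subgroup.orderOf_mk] at hJ2
  obtain ⟨τ, h, -⟩ := Agent.S4479.setup hodd hG' hnc P hJ hJ2
  have hJ1 : J ≠ 1 := fun e => by rw [e, orderOf_one] at hJ2; omega
  have hJJ := mul_self_eq_one_of_orderOf_two hJ2
  have := Fintype.ofFinite (Subgroup.zpowers J)
  choose d hd hd2 using fun χ : IrrCharacter G => χ.exists_int_apply_of_mul_self hJJ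
  have hsum : ∑ χ ∈ irrFinset (principalBlock M G), d χ ^ 2 = 4 := by
    have h1 := h.sum_mul_conj hM ⟨J, Subgroup.mem_zpowers J⟩ ⟨J, Subgroup.mem_zpowers J⟩
      fun e => hJ1 (congrArg Subtype.val e)
    rw [if_pos rfl, if_pos (Subtype.ext (eq_inv_of_mul_eq_one_left hJJ)), Nat.card_zpowers,
      hJ2] at h1
    simp only [hd, map_intCast, ← sq] at h1
    norm_num at h1
    exact_mod_cast h1
  have htriv : IrrCharacter.triv G ∈ irrFinset (principalBlock M G) :=
    mem_irrFinset.2 hM.triv_mem_principalBlock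
  have hd1 : d (IrrCharacter.triv G) = 1 := by
    have := hd (IrrCharacter.triv G)
    rw [IrrCharacter.triv_apply] at this
    exact_mod_cast this.symm
  obtain ⟨h4, hε⟩ := card_eq_four_of_sum_sq _ d (fun χ hχ e => by
    have := h.apply_J_ne_zero hM (mem_irrFinset.1 hχ)
    rw [pow_one, hd, e] at this
    simp at this) hsum (by
      by_contra h2
      have h3 := Finset.card_le_one_iff_subset_singleton.1 (Nat.lt_succ_iff.1 (not_le.1 h2))
      obtain ⟨x, hx⟩ := h3
      have h4 := Finset.mem_singleton.1 (hx htriv)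
      rw [Finset.Subset.antisymm hx (Finset.singleton_subset_iff.2 (h4 ▸ htriv)),
        Finset.sum_singleton, ← h4, hd1] at hsum
      omega)
  obtain ⟨χ₁, χ₂, χ₃, h12, h13, h23, hE⟩ := Finset.card_eq_three.1
    (show ((irrFinset (principalBlock M G)).erase (IrrCharacter.triv G)).card = 3 by
      rw [Finset.card_erase_of_mem htriv, h4])
  have hm : ∀ χ, χ = χ₁ ∨ χ = χ₂ ∨ χ = χ₃ →
      χ ≠ IrrCharacter.triv G ∧ χ ∈ irrFinset (principalBlock M G) := fun χ hχ =>
    Finset.mem_erase.1 (by rw [hE]; simpa using hχ)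
  have ht : ∀ χ : IrrCharacter G, (χ : G → ℂ) = (fun _ => 1) ↔ χ = IrrCharacter.triv G :=
    fun χ => ⟨fun h => Subtype.ext h, fun h => h ▸ rfl⟩
  have hB : principalBlock M G =
      {χ : IrrCharacter G | (χ : G → ℂ) = (fun _ => 1) ∨ χ = χ₁ ∨ χ = χ₂ ∨ χ = χ₃} := by
    ext χ
    rw [Set.mem_ofPred_eq, ht, ← mem_irrFinset]
    refine ⟨fun hχ => or_iff_not_imp_left.2 fun h1 => ?_, ?_⟩
    · have := Finset.mem_erase.2 ⟨h1, hχ⟩
      rw [hE] at this
      simpa using this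
    · rintro (rfl | h1)
      · exact htriv
      · exact (hm χ h1).2
  have m1 := hm χ₁ (by simp)
  have m2 := hm χ₂ (by simp)
  have m3 := hm χ₃ (by simp)
  have hdist : (χ₁ : G → ℂ) ≠ (fun _ => 1) ∧ (χ₂ : G → ℂ) ≠ (fun _ => 1) ∧
      (χ₃ : G → ℂ) ≠ (fun _ => 1) ∧ χ₁ ≠ χ₂ ∧ χ₁ ≠ χ₃ ∧ χ₂ ≠ χ₃ :=
    ⟨fun e => m1.1 ((ht _).1 e), fun e => m2.1 ((ht _).1 e), fun e => m3.1 ((ht _).1 e),
      h12, h13, h23⟩
  have hform := Agent.S4479.result M hM g hodd hG' hnc P J hJ hJ2 χ₁ χ₂ χ₃ _ _ _ hB hdist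
    ⟨hε _ m1.2, hε _ m2.2, hε _ m3.2⟩ ⟨hd _, hd _, hd _⟩
  have hrel : 1 + d χ₁ * charDegree χ₁.1 + d χ₂ * charDegree χ₂.1 +
      d χ₃ * charDegree χ₃.1 = 0 := by
    have := isPBlock_principalBlock.sum_mul_conj_eq_zero hM
      (not_isConj_pPart_of_regular_singular (p := 2) (g := (1 : G)) (by simp) hJ2.symm.dvd)
    rw [Agent.S4479.sum_eq hB hdist] at this
    simp only [hd, hd1, IrrCharacter.one_eq_charDegree, map_intCast,
      IrrCharacter.charDegree_triv] at this
    have h2 : ((1 + d χ₁ * charDegree χ₁.1 + d χ₂ * charDegree χ₂.1 +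
      d χ₃ * charDegree χ₃.1 : ℤ) : ℂ) = 0 := by
      push_cast at this ⊢
      linear_combination this
    exact_mod_cast h2
  -- the degrees
  have hdeg : ∀ χ, χ ≠ IrrCharacter.triv G ∧ χ ∈ irrFinset (principalBlock M G) →
      charDegree χ.1 ≠ 1 ∧ charDegree χ.1 ∣ g ∧
        ∃ m : ℕ, 0 < m ∧ (charDegree χ.1 : ℤ) + d χ = 2 * m := fun χ hχ => by
    have h1 := IrrCharacter.charDegree_ne_one_of_simple hna hχ.1
    have h2 := hd2 χ
    have h3 := χ.charDegree_pos
    have h4 := hε χ hχ.2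
    unfold Int.ModEq at h2
    refine ⟨h1, Nat.Coprime.dvd_of_dvd_mul_left ?_ (hG' ▸ χ.charDegree_dvd_card), ?_⟩
    · exact Nat.Coprime.pow_right 2
        ((Nat.prime_two.coprime_iff_not_dvd.2 (by omega)).symm)
    · exact ⟨((charDegree χ.1 + d χ) / 2).toNat, by omega, by omega⟩
  obtain ⟨n1, k1, m₁, p1, e1⟩ := hdeg _ m1
  obtain ⟨n2, k2, m₂, p2, e2⟩ := hdeg _ m2
  obtain ⟨n3, k3, m₃, p3, e3⟩ := hdeg _ m3
  have hP : Nat.card (P : Subgroup G) = 4 := by simpa using h.card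
  have hPC : (P : Subgroup G) ≤ Subgroup.centralizer ((P : Subgroup G) : Set G) := by
    have := IsPGroup.isMulCommutative_of_card_eq_prime_sq (p := 2) hP
    exact Subgroup.le_centralizer _
  have hfour : ∀ C : Subgroup G, (P : Subgroup G) ≤ C → ∃ x, x ∣ g ∧ Nat.card C = 4 * x := by
    intro C hC
    obtain ⟨x, hx⟩ := hP ▸ Subgroup.card_dvd_of_le hC
    exact ⟨x, Nat.dvd_of_mul_dvd_mul_left (by norm_num)
      (hx ▸ hG' ▸ C.card_subgroup_dvd_card), hx⟩
  obtain ⟨x, hx, hx'⟩ := hfour _ (hPC.trans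
    (Subgroup.centralizer_le (Set.singleton_subset_iff.2 hJ)))
  obtain ⟨y, hy, hy'⟩ := hfour _ hPC
  have hy0 : 0 < y := Nat.pos_of_dvd_of_pos hy hodd.pos
  have hkey : m₁ * m₂ * m₃ * (g * y ^ 2) =
      charDegree χ₁.1 * charDegree χ₂.1 * charDegree χ₃.1 * x ^ 3 := by
    have f1 : (charDegree χ₁.1 : ℚ) + d χ₁ = 2 * m₁ := by exact_mod_cast e1
    have f2 : (charDegree χ₂.1 : ℚ) + d χ₂ = 2 * m₂ := by exact_mod_cast e2
    have f3 : (charDegree χ₃.1 : ℚ) + d χ₃ = 2 * m₃ := by exact_mod_cast e3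
    rw [f1, f2, f3, hx', hy', hG'] at hform
    push_cast at hform
    field_simp at hform
    exact_mod_cast (show (m₁ * m₂ * m₃ * (g * y ^ 2) : ℚ) =
      charDegree χ₁.1 * charDegree χ₂.1 * charDegree χ₃.1 * x ^ 3 by
        linear_combination hform / 8)
  have hprime : ∀ r : ℕ, r.Prime → r ∣ m₁ * m₂ * m₃ → r = p ∨ r = q := fun r hr hrm => by
    have h1 : r ∣ g * g * g * g ^ 3 := (hkey ▸ hrm.mul_right _).trans
      (mul_dvd_mul (mul_dvd_mul (mul_dvd_mul k1 k2) k3) (pow_dvd_pow_of_dvd hx 3))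
    have h2 : r ∣ g := hr.dvd_of_dvd_pow (n := 6) (by convert h1 using 1; ring)
    exact ((Nat.Prime.dvd_mul hr).1 h2).imp
      (fun h => (Nat.prime_dvd_prime_iff_eq hr hp).1 (hr.dvd_of_dvd_pow h))
      (fun h => (Nat.prime_dvd_prime_iff_eq hr hq).1 (hr.dvd_of_dvd_pow h))
  -- the symmetric core
  have core : ∀ {α β γ : IrrCharacter G} {m : ℕ}, (d α = 1 ∨ d α = -1) → (d β = 1 ∨ d β = -1) →
      (d γ = 1 ∨ d γ = -1) → charDegree α.1 ≠ 1 → charDegree β.1 ≠ 1 → charDegree γ.1 ≠ 1 →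
      charDegree α.1 ∣ g → charDegree β.1 ∣ g →
      1 + d α * charDegree α.1 + d β * charDegree β.1 + d γ * charDegree γ.1 = 0 →
      (charDegree γ.1 : ℤ) + d γ = 2 * m → m ∣ m₁ * m₂ * m₃ →
      ¬ q ∣ charDegree α.1 → ¬ p ∣ charDegree β.1 → Nat.card G = 60 := by
    intro α β γ m hα hβ hγ a1 b1 c1 a2 b2 hr hm hm' a3 b3
    obtain ⟨i, hi, a4⟩ := eq_pow_of_dvd_of_not_dvd hp hq a2 a3
    obtain ⟨j, hj, b4⟩ := eq_pow_of_dvd_of_not_dvd hq hp (b2.trans (dvd_of_eq (mul_comm (p ^ a) _))) b3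
    have i0 : 0 < i := Nat.pos_of_ne_zero (by rintro rfl; exact a1 a4)
    have j0 : 0 < j := Nat.pos_of_ne_zero (by rintro rfl; exact b1 b4)
    obtain ⟨h3, h5⟩ := klein_arith hp hq hpq i0 j0 a4 b4 c1 hα hβ hγ hr hm
      fun r hr h => hprime r hr (h.trans hm')
    have h9 := γ.not_sq_dvd_of_simple hna Nat.prime_three h3
    have h6 : 3 ∣ g := Nat.Coprime.dvd_of_dvd_mul_left (by norm_num)
      (hG' ▸ h3 ▸ γ.charDegree_dvd_card)
    have fin : ∀ {s t k l u v : ℕ} {μ ν : IrrCharacter G}, t.Prime → Nat.card G = 4 * s ^ u * t ^ v →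
        0 < k → k ≤ u → 0 < l → l ≤ v → charDegree μ.1 = s ^ k → charDegree ν.1 = t ^ l →
        (d μ = 1 ∨ d μ = -1) → (d ν = 1 ∨ d ν = -1) → charDegree ν.1 ≠ 1 →
        d μ * charDegree μ.1 + d ν * charDegree ν.1 = 2 → s = 3 → Nat.card G = 60 := by
      intro s t k l u v μ ν ht hc k0 hk l0 hl hμ hν sμ sν n1 hsum hs
      subst hs
      obtain rfl : u = 1 := by
        by_contra hu
        exact h9 (hc ▸ ((pow_dvd_pow 3 (by omega)).mul_left _).mul_right _)
      obtain rfl : k = 1 := by omega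
      have h7 : charDegree ν.1 = 5 := by
        rw [hμ] at hsum
        rcases sμ with e | e <;> rcases sν with e' | e' <;> rw [e, e'] at hsum <;> omega
      obtain ⟨rfl, rfl⟩ := (Nat.Prime.pow_eq_iff (by norm_num : Nat.Prime 5)).1 (hν ▸ h7)
      have h8 := ν.not_sq_dvd_of_simple hna ht h7
      obtain rfl : v = 1 := by
        by_contra hv
        exact h8 (hc ▸ (pow_dvd_pow 5 (by omega)).mul_left _)
      exact hc
    rcases (Nat.Prime.dvd_mul Nat.prime_three).1 h6 with h | h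
    · exact fin hq hG i0 hi j0 hj a4 b4 hα hβ b1 h5 ((Nat.prime_dvd_prime_iff_eq Nat.prime_three
        hp).1 (Nat.prime_three.dvd_of_dvd_pow h)).symm
    · exact fin hp (hG.trans (mul_right_comm ..)) j0 hj i0 hi b4 a4 hβ hα a1 (by linarith)
        ((Nat.prime_dvd_prime_iff_eq Nat.prime_three hq).1
          (Nat.prime_three.dvd_of_dvd_pow h)).symm
  have hnd : ∀ {r : ℕ}, r.Prime → ¬ r ∣ charDegree χ₁.1 ∨ ¬ r ∣ charDegree χ₂.1 ∨
      ¬ r ∣ charDegree χ₃.1 := fun {r} hr => by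
    by_contra h
    push Not at h
    have h1 : (r : ℤ) ∣ d χ₁ * charDegree χ₁.1 + d χ₂ * charDegree χ₂.1 +
        d χ₃ * charDegree χ₃.1 :=
      (((Int.natCast_dvd_natCast.2 h.1).mul_left _).add
        ((Int.natCast_dvd_natCast.2 h.2.1).mul_left _)).add
        ((Int.natCast_dvd_natCast.2 h.2.2).mul_left _)
    rw [show d χ₁ * charDegree χ₁.1 + d χ₂ * charDegree χ₂.1 + d χ₃ * charDegree χ₃.1 = -1 by
      linarith, Int.dvd_neg, Int.natCast_dvd_ofNat, Nat.dvd_one] at h1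
    exact hr.one_lt.ne' h1
  have hboth : ∀ {n : ℕ}, n ≠ 1 → n ∣ g → ¬ q ∣ n → ¬ p ∣ n → False := fun h1 h2 h3 h4 => by
    obtain ⟨i, -, rfl⟩ := eq_pow_of_dvd_of_not_dvd hp hq h2 h3
    exact h4 (dvd_pow_self p (by rintro rfl; simp at h1))
  have s1 := hε _ m1.2
  have s2 := hε _ m2.2
  have s3 := hε _ m3.2
  have d1 : m₁ ∣ m₁ * m₂ * m₃ := ⟨m₂ * m₃, by ring⟩
  have d2 : m₂ ∣ m₁ * m₂ * m₃ := ⟨m₁ * m₃, by ring⟩
  have d3 : m₃ ∣ m₁ * m₂ * m₃ := ⟨m₁ * m₂, by ring⟩
  rcases hnd hq with u | u | u <;> rcases hnd hp with v | v | v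
  · exact (hboth n1 k1 u v).elim
  · exact core s1 s2 s3 n1 n2 n3 k1 k2 hrel e3 d3 u v
  · exact core s1 s3 s2 n1 n3 n2 k1 k3 (by linarith) e2 d2 u v
  · exact core s2 s1 s3 n2 n1 n3 k2 k1 (by linarith) e3 d3 u v
  · exact (hboth n2 k2 u v).elim
  · exact core s2 s3 s1 n2 n3 n1 k2 k3 (by linarith) e1 d1 u v
  · exact core s3 s1 s2 n3 n1 n2 k3 k1 (by linarith) e2 d2 u v
  · exact core s3 s2 s1 n3 n2 n1 k3 k2 (by linarith) e1 d1 u v
  · exact (hboth n3 k3 u v).elim

end Cfsg
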