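import Cfsg.Agent.Blk.PrincDeg
import Cfsg.Agent.Blk.PairReg

open scoped ComplexConjugate MonoidAlgebra

namespace Cfsg

universe u v
variable {G : Type u} [Group G] [Finite G] {p : ℕ} {M : Ideal AlgInt}

theorem IsBlk.isDefGrp_inf_of_fixed [Fact p.Prime] {k : Type v} [Field k] [CharP k p]
    {N K D : Subgroup G} {c : k[G]} (hc : IsBlk k N c) (hNK : N ≤ K)
    (hK : K ≤ Subgroup.normalizer (N : Set G)) (hc' : IsBlk k K c) (hD : IsDefGrp p K c D) :
    IsDefGrp p N c (D ⊓ N) := by
  obtain ⟨g, hg, h⟩ := IsBlk.exists_isDefGrp_inf hNK hK hc' hc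
    (by rw [hc.idem.eq]; exact hc.ne_zero) hD
  rwa [hc'.fixed g hg] at h

theorem IsBlk.factorization_card_of_fixed [Fact p.Prime] {k : Type v} [Field k] [CharP k p]
    [IsAlgClosed k] {N K D : Subgroup G} {c : k[G]} (hc : IsBlk k N c) (hNK : N ≤ K)
    (hK : K ≤ Subgroup.normalizer (N : Set G)) (hfix : IsFixedGA K c) (hD : IsDefGrp p K c D) :
    (Nat.card K).factorization p + (Nat.card ↥(D ⊓ N)).factorization p =
      (Nat.card N).factorization p + (Nat.card D).factorization p := by
  have h1 := hc.not_dvd_relIndex hNK hK hfix hD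
  have h2 := card_sup_mul_card_inf (hD.le.trans hK)
  have h3 := card_mul_relIndex_of_le (sup_le hNK hD.le)
  have h0 : ∀ X : Subgroup G, Nat.card X ≠ 0 := fun X => Nat.card_pos.ne'
  have h4 : (N ⊔ D).relIndex K ≠ 0 := fun h => h1 (h ▸ dvd_zero p)
  rw [← h3, Nat.factorization_mul (h0 _) h4, inf_comm, Finsupp.add_apply,
    Nat.factorization_eq_zero_of_not_dvd h1, add_zero, ← Finsupp.add_apply,
    ← Nat.factorization_mul (h0 _) (h0 _), h2, Nat.factorization_mul (h0 _) (h0 _), Finsupp.add_apply]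

/-- If `b` is a block of the normal subgroup `N` and `T` its stabiliser, some height-zero
character of `b` has inertia group of `p'`-index in `T`. -/
theorem IsPBlock.exists_height_zero_not_dvd_relIndex (hM : IsPModular p M) {N : Subgroup G}
    [N.Normal] {b : Set (IrrCharacter N)} (hb : IsPBlock M b) :
    ∃ θ ∈ b, blockHeight p b θ.1 = 0 ∧ ¬ p ∣ (charInertia θ.1).relIndex (blockStab b) := by
  classical
  have : Fact p.Prime := ⟨hM.1⟩
  have := hM.charP
  have := Fintype.ofFinite N
  set T := blockStab b with hT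
  obtain ⟨S⟩ : Nonempty (Sylow p T) := inferInstance
  set S' : Subgroup G := (S : Subgroup T).map T.subtype with hS'
  have hS'p : IsPGroup p S' := S.isPGroup'.map _
  have hS'T : S' ≤ T := Subgroup.map_subtype_le _
  set K := N ⊔ S' with hK
  have := Fintype.ofFinite K
  have hNK : N ≤ K := le_sup_left
  have hKT : K ≤ T := sup_le (le_blockStab b) hS'T
  have hKn : K ≤ Subgroup.normalizer (N : Set G) := le_normalizer_of_normal' K
  have hc := hb.isBlk_subIdem hM
  have hfix : IsFixedGA K (subIdem M N b) := fun g hg =>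
    (hb.mem_blockStab_iff_gaConj hM).1 (hKT hg)
  have hc' : IsBlk (resK M) K (subIdem M N b) := hc.isBlk_of_regular hM hNK hfix fun x hx hp =>
    mem_of_not_dvd_orderOf_of_mem_sup hS'p hx hp
  obtain ⟨F, hF, hFe, -⟩ := hb.exists_block_of_isBlk hM hNK hc'
  obtain ⟨D, hD⟩ := hc'.exists_isDefGrp (p := p)
  have hDN := hc.isDefGrp_inf_of_fixed hNK hKn hc' hD
  have hcard := hc.factorization_card_of_fixed hNK hKn hfix hD
  have hDF : IsDefGrp p K (subIdem M K F) D := by rwa [hFe]
  rw [hDN.card_eq_blockDefect_sub hM hb, hDF.card_eq_blockDefect_sub hM hF,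
    hM.1.factorization_pow, hM.1.factorization_pow, Finsupp.single_eq_same,
    Finsupp.single_eq_same] at hcard
  obtain ⟨χ, hχ, hχ0⟩ := exists_blockHeight_eq_zero (hF.nonempty hM) p
  have hcov : ∃ χ ∈ F, ∃ θ ∈ b, classInner (fun n : N => χ.1 ⟨n, hNK n.2⟩) θ.1 ≠ 0 := by
    rw [hF.covers_sub_iff hM hNK hb, hFe, hc.idem.eq]
    exact hc.ne_zero
  obtain ⟨θ, hθ, hχθ⟩ := hF.exists_under_of_covers_sub hM hNK hKn hb hcov hχ
  have := Fintype.ofFinite (N.subgroupOf K)
  have hχθ' : classInner (fun n : N.subgroupOf K => χ.1 n) (θ.subgroupOf hNK).1 ≠ 0 := by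
    rw [← classInner_res_subgroupOf hNK] at hχθ
    exact hχθ
  obtain ⟨e, he, -, -, hdeg, -⟩ := clifford χ hχθ'
  have hI : charInertia (θ.subgroupOf hNK).1 = (charInertia θ.1).subgroupOf K :=
    charInertia_subgroupOf K hNK θ.1
  have hd' : charDegree (θ.subgroupOf hNK).1 = charDegree θ.1 := rfl
  rw [hI, hd'] at hdeg
  have h1 := factorization_charDegree_eq (p := p) hχ
  have h2 := factorization_charDegree_eq (p := p) hθ
  have ht : ((charInertia θ.1).subgroupOf K).index ≠ 0 := Subgroup.index_ne_zero_of_finite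
  rw [hdeg, Nat.factorization_mul (mul_ne_zero he.ne' ht) θ.charDegree_pos.ne',
    Nat.factorization_mul he.ne' ht, Finsupp.add_apply, Finsupp.add_apply, hχ0] at h1
  refine ⟨θ, hθ, by omega, ?_⟩
  have h3 : ((charInertia θ.1).subgroupOf K).index.factorization p = 0 := by omega
  have h4 : ¬ p ∣ (charInertia θ.1).relIndex K := by
    intro h
    exact (hM.1.dvd_iff_one_le_factorization ht).1 h |>.not_gt (by omega)
  have h5 : ¬ p ∣ K.relIndex T := by
    intro h
    have h6 : K.relIndex T ∣ S'.relIndex T := Subgroup.relIndex_dvd_of_le_left T le_sup_right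
    have h7 : S'.relIndex T = (S : Subgroup T).index := by
      rw [Subgroup.relIndex, hS', Subgroup.subgroupOf, Subgroup.comap_map_eq_self_of_injective
        T.subtype_injective]
    exact S.not_dvd_index (h7 ▸ h.trans h6)
  intro h
  have h8 : (charInertia θ.1).relIndex T ∣ (charInertia θ.1 ⊓ K).relIndex T :=
    Subgroup.relIndex_dvd_of_le_left T inf_le_left
  rw [← Subgroup.relIndex_mul_relIndex _ K T inf_le_right hKT, Subgroup.inf_relIndex_right] at h8
  exact (hM.1.dvd_mul.1 (h.trans h8)).elim h4 h5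

end Cfsg
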