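import Cfsg.Agent.Blk.Contrib
import Cfsg.Agent.Blk.AlgBlock2
import Mathlib.LinearAlgebra.Matrix.SpecialLinearGroup

/-! The Steinberg character of a group generated by a unipotent subgroup and rank one subgroups
`SL(2, F)`: existence, and uniqueness of the block of defect zero in the defining
characteristic. -/

set_option autoImplicit false
set_option linter.style.haveILetI false

namespace Cfsg

open scoped MonoidAlgebra MatrixGroups

universe u v

section SLTwo

variable {F : Type v} [Field F]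

/-- upper unitriangular element of `SL(2, F)` -/
def slX (t : F) : SL(2, F) := ⟨!![1, t; 0, 1], by simp⟩
/-- lower unitriangular element of `SL(2, F)` -/
def slY (t : F) : SL(2, F) := ⟨!![1, 0; t, 1], by simp⟩
/-- Weyl element of `SL(2, F)` -/
def slN (F : Type v) [Field F] : SL(2, F) := ⟨!![0, 1; -1, 0], by simp⟩
/-- diagonal element of `SL(2, F)` -/
def slH (b : Fˣ) : SL(2, F) := ⟨!![(b : F), 0; 0, ((b⁻¹ : Fˣ) : F)], by simp⟩

theorem coe_slX (t : F) : (slX t : Matrix (Fin 2) (Fin 2) F) = !![1, t; 0, 1] := rfl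
theorem coe_slY (t : F) : (slY t : Matrix (Fin 2) (Fin 2) F) = !![1, 0; t, 1] := rfl
theorem coe_slN : (slN F : Matrix (Fin 2) (Fin 2) F) = !![0, 1; -1, 0] := rfl
theorem coe_slH (b : Fˣ) :
    (slH b : Matrix (Fin 2) (Fin 2) F) = !![(b : F), 0; 0, ((b⁻¹ : Fˣ) : F)] := rfl

theorem sl2_ext {a b : SL(2, F)} (h : (a : Matrix (Fin 2) (Fin 2) F) = b) : a = b := Subtype.ext h

theorem slX_add (s t : F) : slX (s + t) = slX s * slX t :=
  sl2_ext (by simp [coe_slX, add_comm])

theorem slX_zero : slX (0 : F) = 1 := sl2_ext (by simp [coe_slX, Matrix.one_fin_two])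

theorem slY_add (s t : F) : slY (s + t) = slY s * slY t :=
  sl2_ext (by simp [coe_slY])

theorem slY_zero : slY (0 : F) = 1 := sl2_ext (by simp [coe_slY, Matrix.one_fin_two])

theorem slH_mul (a b : Fˣ) : slH (a * b) = slH a * slH b :=
  sl2_ext (by simp [coe_slH, mul_comm])

theorem slN_mul_slX (t : F) : slN F * slX t = slY (-t) * slN F :=
  sl2_ext (by simp [coe_slX, coe_slY, coe_slN])

theorem slX_mul_slN_inv (t : F) : slX t * (slN F)⁻¹ = (slN F)⁻¹ * slY (-t) := by
  rw [eq_inv_mul_iff_mul_eq, ← mul_assoc, slN_mul_slX, mul_inv_cancel_right]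

theorem slN_mul_slN : slN F * slN F = slH (-1) :=
  sl2_ext (by simp [coe_slN, coe_slH])

theorem slH_mul_slX (b : Fˣ) (t : F) : slH b * slX t = slX ((b : F) ^ 2 * t) * slH b :=
  sl2_ext (by simp [coe_slX, coe_slH]; field_simp)

theorem slN_mul_slX_unit (b : Fˣ) :
    slN F * slX (-((b⁻¹ : Fˣ) : F)) = slX (b : F) * slH b * slY (-(b : F)) :=
  sl2_ext (by simp [coe_slX, coe_slH, coe_slY, coe_slN])

theorem slH_mul_slN (b : Fˣ) : slH b * slN F = slN F * slH b⁻¹ :=
  sl2_ext (by simp [coe_slH, coe_slN])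

theorem slY_mul_slN (t : F) : slY t * slN F = slN F * slX (-t) := by
  rw [slN_mul_slX, neg_neg]

theorem sum_field_eq_add_sum_units [Fintype F] [DecidableEq F] {A : Type*} [AddCommMonoid A]
    (f : F → A) : ∑ t, f t = f 0 + ∑ b : Fˣ, f (-((b⁻¹ : Fˣ) : F)) := by
  rw [Fintype.sum_eq_add_sum_subtype_ne f 0]
  congr 1
  exact (Fintype.sum_equiv (((Equiv.inv Fˣ).trans (Equiv.neg Fˣ)).trans unitsEquivNeZero) _ _
    fun b => by simp).symm

end SLTwo

/-- a unipotent subgroup `U`, its opposite `Um`, and rank one subgroups -/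
structure StData (G : Type u) [Group G] (F : Type v) [Field F] (ι : Type) where
  U : Subgroup G
  Um : Subgroup G
  V : ι → Subgroup G
  Vm : ι → Subgroup G
  φ : ι → SL(2, F) →* G
  V_le : ∀ i, V i ≤ U
  Vm_le : ∀ i, Vm i ≤ Um
  norm_V : ∀ i A, φ i A ∈ Subgroup.normalizer (V i : Set G)
  norm_Vm : ∀ i A, φ i A ∈ Subgroup.normalizer (Vm i : Set G)
  norm_U : ∀ i b, φ i (slH b) ∈ Subgroup.normalizer (U : Set G)
  norm_Um : ∀ i b, φ i (slH b) ∈ Subgroup.normalizer (Um : Set G)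
  x_mem : ∀ i t, φ i (slX t) ∈ U
  y_mem : ∀ i t, φ i (slY t) ∈ Um
  dec : ∀ i, ∀ u ∈ U, ∃ t, ∃ v ∈ V i, u = v * φ i (slX t)
  decm : ∀ i, ∀ u ∈ Um, ∃ t, ∃ v ∈ Vm i, u = v * φ i (slY t)
  uniq : ∀ i t, φ i (slX t) ∈ V i → t = 0
  gen : Subgroup.closure ((U : Set G) ∪ Set.range fun i => φ i (slN F)) = ⊤
  conj : ∃ g : G, ∀ u ∈ Um, g * u * g⁻¹ ∈ U
  conj' : ∃ g : G, ∀ u ∈ U, g⁻¹ * u * g ∈ Um

section Sums

variable {G : Type u} [Group G] [Finite G] {A : Type*} [Ring A] (r : G →* A)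

/-- the sum of the elements of a subgroup -/
noncomputable def subSum (H : Subgroup G) : A :=
  haveI := Fintype.ofFinite H
  ∑ h : H, r h

/-- fixed by a subgroup -/
def FixBy (H : Subgroup G) (m : A) : Prop := ∀ h ∈ H, r h * m = m

variable {r}

theorem subSum_eq (H : Subgroup G) [Fintype H] : subSum r H = ∑ h : H, r h := by
  unfold subSum
  congr!

theorem mul_subSum {H : Subgroup G} {h : G} (hh : h ∈ H) : r h * subSum r H = subSum r H := by
  haveI := Fintype.ofFinite H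
  rw [subSum_eq, Finset.mul_sum]
  exact Fintype.sum_equiv (Equiv.mulLeft (⟨h, hh⟩ : H)) _ _ fun x => by simp

theorem subSum_mul {H : Subgroup G} {h : G} (hh : h ∈ H) : subSum r H * r h = subSum r H := by
  haveI := Fintype.ofFinite H
  rw [subSum_eq, Finset.sum_mul]
  exact Fintype.sum_equiv (Equiv.mulRight (⟨h, hh⟩ : H)) _ _ fun x => by simp

theorem mul_subSum_of_normalizer {H : Subgroup G} {g : G}
    (hg : g ∈ Subgroup.normalizer (H : Set G)) : r g * subSum r H = subSum r H * r g := by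
  haveI := Fintype.ofFinite H
  rw [subSum_eq, Finset.sum_mul, Finset.mul_sum]
  exact Fintype.sum_equiv (H.normalizerMonoidHom ⟨g, hg⟩).toEquiv _ _ fun x => by
    rw [← map_mul, ← map_mul]
    congr 1
    change _ = g * x * g⁻¹ * g
    group

omit [Finite G] in
theorem FixBy.mul {H : Subgroup G} {m : A} (hm : FixBy r H m) {g : G}
    (hg : g ∈ Subgroup.normalizer (H : Set G)) : FixBy r H (r g * m) := fun h hh => by
  have h1 := hm _ ((Subgroup.mem_normalizer_iff''.1 hg h).1 hh)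
  conv_rhs => rw [← h1]
  rw [← mul_assoc, ← mul_assoc, ← map_mul, ← map_mul]
  congr 2
  group

omit [Finite G] in
theorem FixBy.mono {H K : Subgroup G} {m : A} (hm : FixBy r H m) (h : K ≤ H) : FixBy r K m :=
  fun x hx => hm x (h hx)

theorem fixBy_subSum_mul (H : Subgroup G) (m : A) : FixBy r H (subSum r H * m) := fun h hh => by
  rw [← mul_assoc, mul_subSum hh]

end Sums

namespace StData

variable {G : Type u} [Group G] [Finite G] {F : Type v} [Field F] [Fintype F] {ι : Type}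
  (D : StData G F ι) {k : Type*} [Field k] {A : Type*} [Ring A] [Algebra k A] (r : G →* A)

/-- root elements -/
def x (i : ι) (t : F) : A := r (D.φ i (slX t))
/-- Weyl elements -/
def n (i : ι) : A := r (D.φ i (slN F))
/-- torus elements -/
def h (i : ι) (b : Fˣ) : A := r (D.φ i (slH b))
/-- sum over a root subgroup -/
noncomputable def ξ (i : ι) : A := ∑ t, D.x r i t

variable {D r}

omit [Finite G] [Fintype F] in
theorem x_add (i : ι) (s t : F) : D.x r i (s + t) = D.x r i s * D.x r i t := by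
  simp only [x, slX_add, map_mul]

omit [Finite G] [Fintype F] in
theorem x_zero (i : ι) : D.x r i 0 = 1 := by simp only [x, slX_zero, map_one]

omit [Finite G] in
theorem x_mul_ξ (i : ι) (s : F) : D.x r i s * D.ξ r i = D.ξ r i := by
  rw [ξ, Finset.mul_sum]
  exact Fintype.sum_equiv (Equiv.addLeft s) _ _ fun t => by simp [x_add]

omit [Finite G] in
theorem ξ_mul_x (i : ι) (s : F) : D.ξ r i * D.x r i s = D.ξ r i := by
  rw [ξ, Finset.sum_mul]
  exact Fintype.sum_equiv (Equiv.addRight s) _ _ fun t => by simp [x_add]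

omit [Finite G] in
theorem h_mul_ξ (i : ι) (b : Fˣ) : D.h r i b * D.ξ r i = D.ξ r i * D.h r i b := by
  rw [ξ, Finset.sum_mul, Finset.mul_sum]
  exact Fintype.sum_equiv (Equiv.mulLeft₀ ((b : F) ^ 2) (pow_ne_zero 2 b.ne_zero)) _ _ fun t => by
    simp only [x, h, ← map_mul, slH_mul_slX]; rfl

theorem ξ_mul_subSum (i : ι) : D.ξ r i * subSum r (D.V i) = subSum r (D.V i) * D.ξ r i := by
  rw [ξ, Finset.sum_mul, Finset.mul_sum]
  exact Finset.sum_congr rfl fun t _ => mul_subSum_of_normalizer (D.norm_V i _)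

theorem subSum_U (i : ι) : subSum r D.U = subSum r (D.V i) * D.ξ r i := by
  haveI := Fintype.ofFinite D.U
  haveI := Fintype.ofFinite (D.V i)
  rw [subSum_eq, subSum_eq, ξ, Finset.sum_mul_sum, ← Fintype.sum_prod_type']
  symm
  refine Fintype.sum_bijective (fun a : D.V i × F => (⟨a.1 * D.φ i (slX a.2),
    D.U.mul_mem (D.V_le i a.1.2) (D.x_mem i _)⟩ : D.U)) ⟨?_, ?_⟩ _ _ fun a => by simp [x]
  · rintro ⟨v, s⟩ ⟨w, t⟩ h1
    have h2 : (v : G) * D.φ i (slX s) = w * D.φ i (slX t) := congrArg Subtype.val h1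
    have h3 : D.φ i (slX (s - t)) = (v : G)⁻¹ * w := by
      rw [eq_inv_mul_iff_mul_eq, ← mul_left_inj (D.φ i (slX t)), mul_assoc, ← map_mul, ← slX_add,
        sub_add_cancel, h2]
    have h4 := sub_eq_zero.1 (D.uniq i _ (h3 ▸ (D.V i).mul_mem ((D.V i).inv_mem v.2) w.2))
    subst h4
    exact Prod.ext (Subtype.ext (mul_right_cancel h2)) rfl
  · intro u
    obtain ⟨t, v, hv, h1⟩ := D.dec i u u.2
    exact ⟨(⟨v, hv⟩, t), Subtype.ext h1.symm⟩

theorem subSum_U_mul (i : ι) :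
    subSum r D.U * (D.n r i * D.ξ r i) = D.ξ r i * D.n r i * subSum r D.U := by
  have h1 : D.n r i * subSum r (D.V i) = subSum r (D.V i) * D.n r i :=
    mul_subSum_of_normalizer (D.norm_V i _)
  rw [subSum_U i, ← ξ_mul_subSum, mul_assoc, ← mul_assoc (subSum r (D.V i)), ← h1, mul_assoc,
    mul_assoc, ξ_mul_subSum]

omit [Finite G] [Fintype F] in
theorem fixBy_U (i : ι) {m : A} (h1 : FixBy r (D.V i) m) (h2 : ∀ t, D.x r i t * m = m) :
    FixBy r D.U m := fun u hu => by
  obtain ⟨t, v, hv, rfl⟩ := D.dec i u hu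
  rw [map_mul, mul_assoc, show r (D.φ i (slX t)) * m = m from h2 t, h1 v hv]

omit [Finite G] in
theorem fixBy_Um_mul (i : ι) {y : A} (hy : FixBy r D.Um y) :
    FixBy r D.Um (D.n r i * D.ξ r i * y) := fun u hu => by
  obtain ⟨t, v, hv, rfl⟩ := D.decm i u hu
  have h1 : FixBy r (D.Vm i) (D.ξ r i * y) := fun w hw => by
    rw [ξ, Finset.sum_mul, Finset.mul_sum]
    exact Finset.sum_congr rfl fun s _ => ((hy.mono (D.Vm_le i)).mul (D.norm_Vm i _)) w hw
  have h2 : r (D.φ i (slY t)) * D.n r i = D.n r i * D.x r i (-t) := by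
    simp only [n, x, ← map_mul, slY_mul_slN]
  rw [map_mul, mul_assoc, ← mul_assoc (r (D.φ i (slY t))), ← mul_assoc (r (D.φ i (slY t))), h2,
    mul_assoc (D.n r i), x_mul_ξ, mul_assoc]
  exact h1.mul (D.norm_Vm i _) v hv

omit [Finite G] [Fintype F] in
theorem n_mul_x (i : ι) (b : Fˣ) : D.n r i * D.x r i (-((b⁻¹ : Fˣ) : F)) =
    D.x r i b * D.h r i b * r (D.φ i (slY (-(b : F)))) := by
  simp only [n, x, h, ← map_mul, slN_mul_slX_unit]

omit [Finite G] [Fintype F] in
theorem n_mul_x_mul_n (i : ι) (b : Fˣ) : D.n r i * D.x r i (-((b⁻¹ : Fˣ) : F)) * D.n r i =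
    D.x r i b * D.h r i b * D.n r i * D.x r i b := by
  rw [n_mul_x, mul_assoc, mul_assoc _ (D.n r i)]
  congr 1
  simp only [n, x, ← map_mul, slY_mul_slN, neg_neg]

omit [Finite G] [Fintype F] in
theorem n_mul_n (i : ι) : D.n r i * D.n r i = D.h r i (-1) := by
  simp only [n, h, ← map_mul, slN_mul_slN]

omit [Fintype F] in
/-- the span of the `U`-translates of a set is a left ideal -/
theorem mul_mem_span (hr : ∀ a : A, a ∈ Submodule.span k (Set.range r)) (M : Set A)
    (hM : ∀ i t, ∀ y ∈ M, D.n r i * D.x r i t * y ∈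
      Submodule.span k {v | ∃ u ∈ D.U, ∃ y ∈ M, v = r u * y}) (a : A) {v : A}
    (hv : v ∈ Submodule.span k {v | ∃ u ∈ D.U, ∃ y ∈ M, v = r u * y}) :
    a * v ∈ Submodule.span k {v | ∃ u ∈ D.U, ∃ y ∈ M, v = r u * y} := by
  set N := Submodule.span k {v | ∃ u ∈ D.U, ∃ y ∈ M, v = r u * y} with hN
  have key : ∀ b : A, (∀ u ∈ D.U, ∀ y ∈ M, b * (r u * y) ∈ N) → ∀ v ∈ N, b * v ∈ N := by
    intro b hb v hv
    induction hv using Submodule.span_induction with
    | mem v hv => obtain ⟨u, hu, y, hy, rfl⟩ := hv; exact hb u hu y hy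
    | zero => simp
    | add v w _ _ h1 h2 => rw [mul_add]; exact N.add_mem h1 h2
    | smul c v _ h1 => rw [mul_smul_comm]; exact N.smul_mem c h1
  have hU : ∀ u ∈ D.U, ∀ v ∈ N, r u * v ∈ N := fun u hu => key _ fun w hw y hy =>
    Submodule.subset_span ⟨u * w, D.U.mul_mem hu hw, y, hy, by rw [map_mul, mul_assoc]⟩
  have hmul : ∀ g g' : G, (∀ v ∈ N, r g * v ∈ N) → (∀ v ∈ N, r g' * v ∈ N) →
      ∀ v ∈ N, r (g * g') * v ∈ N := fun g g' h1 h2 v hv => by
    rw [map_mul, mul_assoc]; exact h1 _ (h2 v hv)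
  have hG : ∀ g : G, ∀ v ∈ N, r g * v ∈ N := by
    intro g
    have hg : g ∈ Subgroup.closure ((D.U : Set G) ∪ Set.range fun i => D.φ i (slN F)) :=
      D.gen ▸ Subgroup.mem_top g
    induction hg using Subgroup.closure_induction with
    | mem g hg =>
      rcases hg with hg | ⟨i, rfl⟩
      · exact hU g hg
      · refine key _ fun u hu y hy => ?_
        obtain ⟨t, w, hw, rfl⟩ := D.dec i u hu
        have h1 := hU _ (D.V_le i ((Subgroup.mem_normalizer_iff.1 (D.norm_V i (slN F)) w).1 hw)) _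
          (hM i t y hy)
        convert h1 using 1
        simp only [n, x, ← mul_assoc, ← map_mul r]
        congr 2
        group
    | one => simp
    | mul g g' _ _ h1 h2 => exact hmul g g' h1 h2
    | inv g _ h1 =>
      have h2 : ∀ j : ℕ, ∀ v ∈ N, r (g ^ j) * v ∈ N := fun j => by
        induction j with
        | zero => simp
        | succ j ih => rw [pow_succ]; exact hmul _ _ ih h1
      rw [show g⁻¹ = g ^ (orderOf g - 1) from inv_eq_of_mul_eq_one_left (by
        rw [← pow_succ, Nat.sub_add_cancel (orderOf_pos g), pow_orderOf_eq_one])]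
      exact h2 _
  induction hr a using Submodule.span_induction with
  | mem a ha => obtain ⟨g, rfl⟩ := ha; exact hG g v hv
  | zero => simp
  | add a b _ _ h1 h2 => rw [add_mul]; exact N.add_mem h1 h2
  | smul c a _ h1 => rw [smul_mul_assoc]; exact N.smul_mem c h1

omit [Fintype F] in
theorem exists_subSum_mul_eq (M : Submodule k A) {v : A}
    (hv : v ∈ Submodule.span k {v | ∃ u ∈ D.U, ∃ y ∈ (M : Set A), v = r u * y}) :
    ∃ y ∈ M, subSum r D.U * v = subSum r D.U * y := by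
  induction hv using Submodule.span_induction with
  | mem v hv =>
    obtain ⟨u, hu, y, hy, rfl⟩ := hv
    exact ⟨y, hy, by rw [← mul_assoc, subSum_mul hu]⟩
  | zero => exact ⟨0, M.zero_mem, rfl⟩
  | add v w _ _ h1 h2 =>
    obtain ⟨y, hy, h1⟩ := h1
    obtain ⟨y', hy', h2⟩ := h2
    exact ⟨y + y', M.add_mem hy hy', by rw [mul_add, mul_add, h1, h2]⟩
  | smul c v _ h1 =>
    obtain ⟨y, hy, h1⟩ := h1
    exact ⟨c • y, M.smul_mem c hy, by rw [mul_smul_comm, mul_smul_comm, h1]⟩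

theorem exists_subSum_mul_mul (hr : ∀ a : A, a ∈ Submodule.span k (Set.range r))
    (M : Submodule k A) (h1 : ∀ y ∈ M, FixBy r D.Um y) (h2 : ∀ i b, ∀ y ∈ M, D.h r i b * y ∈ M)
    (h3 : ∀ i, ∀ y ∈ M, D.n r i * D.ξ r i * y ∈ M) (a : A) {y : A} (hy : y ∈ M) :
    ∃ y' ∈ M, subSum r D.U * (a * y) = subSum r D.U * y' := by
  classical
  have h0 : ∀ y ∈ M, y ∈ Submodule.span k {v | ∃ u ∈ D.U, ∃ y ∈ (M : Set A), v = r u * y} :=
    fun y hy => Submodule.subset_span ⟨1, D.U.one_mem, y, hy, by rw [map_one, one_mul]⟩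
  refine exists_subSum_mul_eq M (mul_mem_span hr M (fun i t y hy => ?_) a (h0 y hy))
  have h4 : ∀ b : Fˣ, D.n r i * D.x r i (-((b⁻¹ : Fˣ) : F)) * y ∈
      Submodule.span k {v | ∃ u ∈ D.U, ∃ y ∈ (M : Set A), v = r u * y} := fun b => by
    rw [n_mul_x, mul_assoc, h1 y hy _ (D.y_mem i _), mul_assoc]
    exact Submodule.subset_span ⟨_, D.x_mem i b, _, h2 i b y hy, rfl⟩
  by_cases ht : t = 0
  · have h5 := h0 _ (h3 i y hy)
    rw [ξ, Finset.mul_sum, Finset.sum_mul, sum_field_eq_add_sum_units] at h5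
    rw [ht]
    exact (Submodule.add_mem_iff_left _ (Submodule.sum_mem _ fun b _ => h4 b)).1 h5
  · simpa using h4 (-(Units.mk0 t ht)⁻¹)

variable {e : A}

theorem exists_fixBy_Um (hr : ∀ a : A, a ∈ Submodule.span k (Set.range r))
    (he : ∀ a, e * a = a * e) {c : A} [Fintype D.U] (hc : e = ∑ u : D.U, r u * c * r (u : G)⁻¹)
    {m : A} (hm : FixBy r D.U m) (hem : e * m = m) :
    ∃ y, FixBy r D.Um y ∧ e * y = y ∧ subSum r D.U * y = m := by
  let M : Submodule k A :=
    { carrier := {y | FixBy r D.Um y ∧ e * y = y}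
      zero_mem' := ⟨fun _ _ => mul_zero _, mul_zero _⟩
      add_mem' := fun ha hb => ⟨fun u hu => by rw [mul_add, ha.1 u hu, hb.1 u hu],
        by rw [mul_add, ha.2, hb.2]⟩
      smul_mem' := fun a y hy => ⟨fun u hu => by rw [mul_smul_comm, hy.1 u hu],
        by rw [mul_smul_comm, hy.2]⟩ }
  have he' : ∀ a y, e * y = y → e * (a * y) = a * y := fun a y hy => by
    rw [← mul_assoc, he, mul_assoc, hy]
  obtain ⟨g, hg⟩ := D.conj
  have h1 : r g⁻¹ * m ∈ M := ⟨fun u hu => by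
    conv_rhs => rw [← hm _ (hg u hu)]
    simp only [← mul_assoc, ← map_mul]
    congr 2
    group, he' _ _ hem⟩
  obtain ⟨y, hy, h2⟩ := exists_subSum_mul_mul hr M (fun y hy => hy.1)
    (fun i b y hy => ⟨hy.1.mul (D.norm_Um i b), he' _ _ hy.2⟩)
    (fun i y hy => ⟨fixBy_Um_mul i hy.1, he' _ _ hy.2⟩) (c * r g) h1
  refine ⟨y, hy.1, hy.2, ?_⟩
  rw [← h2, mul_assoc, ← mul_assoc (r g), ← map_mul, mul_inv_cancel, map_one, one_mul, subSum_eq,
    Finset.sum_mul]
  conv_rhs => rw [← hem, hc, Finset.sum_mul]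
  exact Finset.sum_congr rfl fun u _ => by
    rw [mul_assoc, hm _ (D.U.inv_mem u.2), mul_assoc]

theorem exists_eq_ξ_mul (hr : ∀ a : A, a ∈ Submodule.span k (Set.range r))
    (he : ∀ a, e * a = a * e) {c : A} [Fintype D.U] (hc : e = ∑ u : D.U, r u * c * r (u : G)⁻¹)
    {m : A} (hm : FixBy r D.U m) (hem : e * m = m) (i : ι) :
    ∃ m', FixBy r D.U m' ∧ e * m' = m' ∧ D.ξ r i * D.n r i * m' = m := by
  obtain ⟨y, h1, h2, h3⟩ := exists_fixBy_Um hr he hc hm hem
  refine ⟨r (D.φ i (slN F)⁻¹) * (subSum r (D.V i) * y), fixBy_U i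
    ((fixBy_subSum_mul _ y).mul (D.norm_V i _)) fun t => ?_, ?_, ?_⟩
  · rw [x, ← mul_assoc, ← map_mul, ← map_mul, slX_mul_slN_inv, map_mul, map_mul, mul_assoc,
      ← mul_assoc (r (D.φ i (slY (-t)))), mul_subSum_of_normalizer (D.norm_V i _), mul_assoc,
      h1 _ (D.y_mem i _)]
  · rw [← mul_assoc (r _), ← mul_assoc, he, mul_assoc, h2]
  · rw [mul_assoc, n, ← mul_assoc (r _), ← map_mul, ← map_mul, mul_inv_cancel, map_one, map_one,
      one_mul, ← mul_assoc, ξ_mul_subSum, ← subSum_U, h3]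

omit [Finite G] in
theorem ξ_mul_n_mul_self [DecidableEq F] (hq : (Fintype.card F : k) = 0) (i : ι) {m : A}
    (hm : FixBy r D.U m) : D.ξ r i * D.n r i * (D.ξ r i * D.n r i * m) =
      (∑ b : Fˣ, D.h r i b) * (D.ξ r i * D.n r i * m) := by
  have hx : ∀ t, D.x r i t * m = m := fun t => hm _ (D.x_mem i t)
  have h1 : D.ξ r i * m = 0 := by
    rw [ξ, Finset.sum_mul, Finset.sum_congr rfl fun t _ => hx t, Finset.sum_const,
      ← Nat.cast_smul_eq_nsmul k, Finset.card_univ, hq, zero_smul]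
  have h2 : D.ξ r i * D.n r i * (D.ξ r i * D.n r i * m) =
      ∑ t, D.ξ r i * (D.n r i * D.x r i t * D.n r i) * m := by
    conv_lhs => arg 2; rw [ξ, Finset.sum_mul, Finset.sum_mul]
    rw [Finset.mul_sum]
    exact Finset.sum_congr rfl fun t _ => by simp only [mul_assoc]
  rw [h2, sum_field_eq_add_sum_units, x_zero, mul_one, n_mul_n, ← h_mul_ξ, mul_assoc, h1, mul_zero,
    zero_add, Finset.sum_mul]
  refine Finset.sum_congr rfl fun b _ => ?_
  rw [n_mul_x_mul_n, ← mul_assoc, ← mul_assoc, ← mul_assoc, ξ_mul_x, mul_assoc _ _ m, hx,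
    ← h_mul_ξ]
  simp only [mul_assoc]

theorem steinberg_vector (hq : (Fintype.card F : k) = 0)
    (hr : ∀ a : A, a ∈ Submodule.span k (Set.range r))
    (he : ∀ a, e * a = a * e) {c : A} [Fintype D.U] (hc : e = ∑ u : D.U, r u * c * r (u : G)⁻¹)
    {m : A} (hm : FixBy r D.U m) (hem : e * m = m) (i : ι) :
    (∀ b, D.h r i b * m = m) ∧ D.ξ r i * D.n r i * m = -m := by
  classical
  have h0 : ∀ m, FixBy r D.U m → e * m = m → ∃ m', FixBy r D.U m' ∧ e * m' = m' ∧
      D.ξ r i * D.n r i * m' = m ∧ (∑ b : Fˣ, D.h r i b) * m' = m := fun m hm hem => by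
    obtain ⟨m', h1, h2, h3⟩ := exists_eq_ξ_mul hr he hc hm hem i
    obtain ⟨m'', h4, h5, h6⟩ := exists_eq_ξ_mul hr he hc h1 h2 i
    exact ⟨m', h1, h2, h3, by rw [← h3, ← h6, ξ_mul_n_mul_self hq i h4]⟩
  have h1 : ∀ m, FixBy r D.U m → e * m = m → ∀ b, D.h r i b * m = m := fun m hm hem b => by
    obtain ⟨m', -, -, -, h2⟩ := h0 m hm hem
    rw [← h2, ← mul_assoc, Finset.mul_sum]
    congr 1
    exact Fintype.sum_equiv (Equiv.mulLeft b) _ _ fun a => by
      simp only [h, ← map_mul, ← slH_mul]; rfl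
  refine ⟨h1 m hm hem, ?_⟩
  obtain ⟨m', h2, h3, h4, h5⟩ := h0 m hm hem
  rw [Finset.sum_mul, Finset.sum_congr rfl fun b _ => h1 m' h2 h3 b, Finset.sum_const,
    ← Nat.cast_smul_eq_nsmul k, Finset.card_univ, Fintype.card_units,
    Nat.cast_pred Fintype.card_pos, hq, zero_sub, neg_smul, one_smul] at h5
  conv_lhs => rw [← h5, mul_neg, h4]

theorem eq_zero_of_orthogonal (hq : (Fintype.card F : k) = 0)
    (hr : ∀ a : A, a ∈ Submodule.span k (Set.range r)) [Fintype D.U]
    (he : ∀ a, e * a = a * e) {c : A} (hc : e = ∑ u : D.U, r u * c * r (u : G)⁻¹)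
    {e' : A} (he' : ∀ a, e' * a = a * e') {c' : A} (hc' : e' = ∑ u : D.U, r u * c' * r (u : G)⁻¹)
    (hee : e * e' = 0) {m m' : A} (hm : FixBy r D.U m) (hem : e * m = m)
    (hm' : FixBy r D.U m') (hem' : e' * m' = m') : m = 0 ∨ m' = 0 := by
  let M : Submodule k A :=
    { carrier := {y | FixBy r D.Um y ∧ ∃ a : k, subSum r D.U * y = a • (m + m')}
      zero_mem' := ⟨fun _ _ => mul_zero _, 0, by simp⟩
      add_mem' := fun ha hb => ⟨fun u hu => by rw [mul_add, ha.1 u hu, hb.1 u hu], by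
        obtain ⟨a, h1⟩ := ha.2
        obtain ⟨b, h2⟩ := hb.2
        exact ⟨a + b, by rw [mul_add, h1, h2, add_smul]⟩⟩
      smul_mem' := fun a y hy => ⟨fun u hu => by rw [mul_smul_comm, hy.1 u hu], by
        obtain ⟨b, h1⟩ := hy.2
        exact ⟨a * b, by rw [mul_smul_comm, h1, mul_smul]⟩⟩ }
  obtain ⟨y, h1, -, h2⟩ := exists_fixBy_Um hr he hc hm hem
  obtain ⟨y', h1', -, h2'⟩ := exists_fixBy_Um hr he' hc' hm' hem'
  have h3 : y + y' ∈ M := ⟨fun u hu => by rw [mul_add, h1 u hu, h1' u hu], 1, by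
    rw [mul_add, h2, h2', one_smul]⟩
  obtain ⟨z, ⟨-, a, h4⟩, h5⟩ := exists_subSum_mul_mul hr M (fun y hy => hy.1)
    (fun i b y hy => ⟨hy.1.mul (D.norm_Um i b), by
      obtain ⟨a, h1⟩ := hy.2
      refine ⟨a, ?_⟩
      rw [← mul_assoc, h, ← mul_subSum_of_normalizer (D.norm_U i b), mul_assoc, h1, mul_smul_comm,
        mul_add, ← h, (steinberg_vector hq hr he hc hm hem i).1,
        (steinberg_vector hq hr he' hc' hm' hem' i).1]⟩)
    (fun i y hy => ⟨fixBy_Um_mul i hy.1, by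
      obtain ⟨a, h1⟩ := hy.2
      refine ⟨-a, ?_⟩
      rw [← mul_assoc, subSum_U_mul, mul_assoc, h1, mul_smul_comm, mul_add,
        (steinberg_vector hq hr he hc hm hem i).2, (steinberg_vector hq hr he' hc' hm' hem' i).2,
        ← neg_add, smul_neg, neg_smul]⟩) e h3
  have h6 : e * m' = 0 := by rw [← hem', ← mul_assoc, hee, zero_mul]
  have h7 : e' * m = 0 := by rw [← hem, ← mul_assoc, he', hee, zero_mul]
  rw [h4, ← mul_assoc, ← he, mul_assoc, mul_add, h2, h2', mul_add, hem, h6, add_zero] at h5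
  have h8 := congrArg (e' * ·) h5
  simp only [h7, mul_smul_comm, mul_add, hem', zero_add] at h8
  rcases smul_eq_zero.1 h8.symm with h9 | h9
  · left; rw [h5, h9, zero_smul]
  · exact Or.inr h9

omit [Fintype F] in
theorem mem_span_range_of (a : k[G]) :
    a ∈ Submodule.span k (Set.range (MonoidAlgebra.of k G)) := by
  haveI := Fintype.ofFinite G
  rw [ga_eq_sum_single a]
  refine Submodule.sum_mem _ fun g _ => ?_
  rw [show MonoidAlgebra.single g (a.coeff g) = a.coeff g • MonoidAlgebra.of k G g by simp]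
  exact Submodule.smul_mem _ _ (Submodule.subset_span ⟨g, rfl⟩)

theorem eq_of_blockDefect_eq_zero {p : ℕ} {M : Ideal AlgInt} (hM : IsPModular p M) [CharP F p]
    (hU : IsPGroup p D.U) {B B' : Set (IrrCharacter G)} (hB : IsPBlock M B) (hB' : IsPBlock M B')
    (h0 : blockDefect p B = 0) (h0' : blockDefect p B' = 0) : B = B' := by
  haveI := hM.charP
  haveI := Fact.mk hM.prime
  haveI := Fintype.ofFinite D.U
  have key : ∀ B : Set (IrrCharacter G), IsPBlock M B → blockDefect p B = 0 →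
      (∃ c, idemK M B = ∑ u : D.U, MonoidAlgebra.of (resK M) G u * c *
        MonoidAlgebra.of (resK M) G (u : G)⁻¹) ∧
      ∃ m, m ≠ 0 ∧ FixBy (MonoidAlgebra.of (resK M) G) D.U m ∧ idemK M B * m = m := by
    intro B hB h0
    constructor
    · obtain ⟨Q, hQ⟩ := hB.exists_isDefectGroup hM
      have hQ1 : Q = ⊥ := Subgroup.eq_bot_of_card_eq _ (by rw [hQ.card_eq hM hB, h0, pow_zero])
      obtain ⟨c, h1, -, h2⟩ := exists_trGA_eq (p := p) (bot_le (a := D.U))
        ((mem_center_iff_isFixedGA_top.1 (idemK_mem_center (M := M) B)).mono le_top)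
        fun P hP _ h => by
          have h3 := (hQ.exists_coeff_ne_zero_iff hM hB hP).1 (by
            by_contra hc
            push Not at hc
            exact h (ga_ext fun g => by
              by_cases hg : g ∈ Subgroup.centralizer (P : Set G)
              · rw [coeff_brGA_of_mem _ hg, hc g hg]; rfl
              · rw [coeff_brGA_of_notMem _ hg]; rfl))
          rw [hQ1] at h3
          exact ⟨1, D.U.one_mem, h3.le_of_normal_right.trans bot_le⟩
      refine ⟨c, ?_⟩
      rw [← h2, trGA_eq_sum bot_le h1 Finset.univ (fun u : D.U => (u : G)) (fun u _ => u.2)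
        (fun u _ v _ h => Subtype.ext (inv_mul_eq_one.1 (Subgroup.mem_bot.1 h)))
        fun u hu => ⟨⟨u, hu⟩, Finset.mem_univ _, by simp⟩]
      exact Finset.sum_congr rfl fun u _ => gaConj_eq _ _
    · letI : DistribMulAction D.U (resK M)[G] :=
        { smul := fun u a => MonoidAlgebra.of (resK M) G u * a
          one_smul := fun a => one_mul a
          mul_smul := fun u v a => by
            change MonoidAlgebra.of (resK M) G (u * v) * a = MonoidAlgebra.of (resK M) G u *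
              (MonoidAlgebra.of (resK M) G v * a)
            rw [map_mul, mul_assoc]
          smul_zero := fun _ => mul_zero _
          smul_add := fun _ _ _ => mul_add _ _ _ }
      have hc := Subalgebra.mem_center_iff.1 (idemK_mem_center (M := M) B)
      obtain ⟨w, h1, h2, h3⟩ := exists_fixed_ne_zero_of_isPGroup hU
        (charP_nsmul_eq_zero (R := resK M) p) (AddMonoidHom.mulLeft (idemK M B - 1)).ker
        (v := idemK M B) (fun q w hw => by
          rw [AddMonoidHom.mem_ker, AddMonoidHom.coe_mulLeft, sub_mul, one_mul, sub_eq_zero]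
            at hw ⊢
          change _ * (MonoidAlgebra.of (resK M) G q * w) = MonoidAlgebra.of (resK M) G q * w
          rw [← mul_assoc, ← hc, mul_assoc, hw])
        (by rw [AddMonoidHom.mem_ker, AddMonoidHom.coe_mulLeft, sub_mul, one_mul,
          (hB.isIdempotentElem_idemK hM).eq, sub_self]) (hB.idemK_ne_zero hM)
      rw [AddMonoidHom.mem_ker, AddMonoidHom.coe_mulLeft, sub_mul, one_mul, sub_eq_zero] at h1
      exact ⟨w, h2, fun u hu => h3 ⟨u, hu⟩, h1⟩
  by_contra hne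
  obtain ⟨⟨c, h1⟩, m, h2, h3, h4⟩ := key B hB h0
  obtain ⟨⟨c', h1'⟩, m', h2', h3', h4'⟩ := key B' hB' h0'
  have hq : (Fintype.card F : resK M) = 0 := by
    obtain ⟨n, -, hn⟩ := FiniteField.card F p
    rw [hn, Nat.cast_pow, CharP.cast_eq_zero, zero_pow n.ne_zero]
  exact (eq_zero_of_orthogonal (k := resK M) (D := D) (r := MonoidAlgebra.of (resK M) G)
    (e := idemK M B) (e' := idemK M B') hq (mem_span_range_of (k := resK M))
    (fun a => (Subalgebra.mem_center_iff.1 (idemK_mem_center B) a).symm) h1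
    (fun a => (Subalgebra.mem_center_iff.1 (idemK_mem_center B') a).symm) h1'
    (by rw [(hB.isBlockUnion hM).idemK_mul hM (hB'.isBlockUnion hM),
      (hB.disjoint hM hB' hne).inter_eq, idemK_empty]) h3 h4 h3' h4').elim h2 h2'

omit [Fintype F] in
/-- the Steinberg character -/
theorem exists_irr_charDegree_eq (x0 : ℂ[G])
    (h1 : ∀ i, ∃ z, x0 = z - D.n (MonoidAlgebra.of ℂ G) i * z ∧
      (∀ t, D.x (MonoidAlgebra.of ℂ G) i t * z = z) ∧ ∀ b, D.h (MonoidAlgebra.of ℂ G) i b * z = z)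
    (h2 : ∀ u ∈ D.Um, ∀ g, x0.coeff (g * u) = x0.coeff g)
    (h3 : ∀ u ∈ D.U, x0.coeff u ≠ 0 ↔ u = 1) :
    ∃ χ : IrrCharacter G, charDegree χ.1 = Nat.card D.U := by
  classical
  haveI := Fintype.ofFinite D.U
  set r := MonoidAlgebra.of ℂ G with hr
  have hco : ∀ (g : G) (a : ℂ[G]) (y : G), (r g * a).coeff y = a.coeff (g⁻¹ * y) := fun g a y => by
    simp [hr]
  set N := Submodule.span ℂ {v | ∃ u ∈ D.U, ∃ y ∈ ({x0} : Set ℂ[G]), v = r u * y} with hN
  have hx0 : ∀ u ∈ D.U, r u * x0 ∈ N := fun u hu => Submodule.subset_span ⟨u, hu, x0, rfl, rfl⟩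
  have hx1 : x0 ∈ N := by simpa using hx0 1 D.U.one_mem
  have hmul : ∀ a, ∀ v ∈ N, a * v ∈ N := fun a v hv => by
    refine mul_mem_span (k := ℂ) (D := D) (r := r) (mem_span_range_of (k := ℂ)) {x0}
      (fun i t y hy => ?_) a hv
    obtain rfl : y = x0 := hy
    obtain ⟨z, hz, hxz, hhz⟩ := h1 i
    by_cases ht : t = 0
    · rw [ht, x_zero, mul_one, show D.n r i * y = -y by
        rw [hz, mul_sub, ← mul_assoc, n_mul_n, hhz, neg_sub]]
      exact N.neg_mem hx1
    · obtain ⟨b, rfl⟩ : ∃ b : Fˣ, t = -((b⁻¹ : Fˣ) : F) := ⟨-(Units.mk0 t ht)⁻¹, by simp⟩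
      have hc : D.h r i b * D.n r i = D.n r i * D.h r i b⁻¹ := by
        simp only [h, n, ← map_mul, slH_mul_slN]
      rw [show D.n r i * D.x r i (-((b⁻¹ : Fˣ) : F)) * y = D.x r i b * y - y by
        rw [hz, mul_sub, mul_sub, ← mul_assoc _ _ z, n_mul_x_mul_n, mul_assoc _ _ z, hxz,
          mul_assoc _ _ z, hxz, mul_assoc (D.x r i b), hc, mul_assoc, mul_assoc, hhz]
        abel]
      exact N.sub_mem (hx0 _ (D.x_mem i b)) hx1
  have hinv : ∀ v ∈ N, ∀ u ∈ D.Um, ∀ g, v.coeff (g * u) = v.coeff g := by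
    intro v hv u hu g
    induction hv using Submodule.span_induction with
    | mem v hv =>
      obtain ⟨w, -, y, rfl, rfl⟩ := hv
      rw [hco, hco, ← mul_assoc, h2 u hu]
    | zero => rfl
    | add v w _ _ h4 h5 => simp [h4, h5]
    | smul c v _ h4 => simp [h4]
  have hN' : N = Submodule.span ℂ (Set.range fun u : D.U => r u * x0) := by
    rw [hN]
    congr 1
    ext v
    exact ⟨fun ⟨u, hu, y, hy, h⟩ => ⟨⟨u, hu⟩, by rw [h, hy]⟩,
      fun ⟨u, h⟩ => ⟨u, u.2, x0, rfl, h.symm⟩⟩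
  have hx00 : x0.coeff 1 ≠ 0 := (h3 1 D.U.one_mem).2 rfl
  have hli : LinearIndependent ℂ fun u : D.U => r u * x0 := by
    rw [Fintype.linearIndependent_iff]
    intro c hc u
    have h4 := congrArg (fun a : ℂ[G] => a.coeff u) hc
    simp only [MonoidAlgebra.coeff_sum, Finsupp.coe_finsetSum, Finset.sum_apply,
      MonoidAlgebra.coeff_smul, Finsupp.coe_smul, Pi.smul_apply, hco, smul_eq_mul] at h4
    rw [Finset.sum_eq_single u (fun w _ hw => by
      rw [not_not.1 (mt (h3 _ (D.U.mul_mem (D.U.inv_mem w.2) u.2)).1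
        fun h => hw (Subtype.ext (inv_mul_eq_one.1 h))), mul_zero]) (by simp),
      inv_mul_cancel] at h4
    exact (mul_eq_zero.1 h4).resolve_right hx00
  have hsoc : ∀ W : Submodule ℂ ℂ[G], (∀ g, ∀ w ∈ W, r g * w ∈ W) → W ≤ N → W ≠ ⊥ →
      subSum r D.U * x0 ∈ W ∧ subSum r D.U * x0 ≠ 0 := by
    intro W hW hWN h0
    obtain ⟨w, hw, hw0⟩ := (Submodule.ne_bot_iff W).1 h0
    obtain ⟨g, hg⟩ : ∃ g, w.coeff g ≠ 0 := by
      by_contra hc
      push Not at hc
      exact hw0 (ga_ext hc)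
    obtain ⟨g1, hg1⟩ := D.conj'
    have h4 := hW (g1 * g⁻¹) w hw
    have h5 : (subSum r D.U * (r (g1 * g⁻¹) * w)).coeff g1 ≠ 0 := by
      rw [subSum_eq, Finset.sum_mul, MonoidAlgebra.coeff_sum, Finsupp.coe_finsetSum,
        Finset.sum_apply, Finset.sum_congr rfl fun u _ => show _ = w.coeff g by
          rw [hco, show (u : G)⁻¹ * g1 = g1 * (g1⁻¹ * (u : G)⁻¹ * g1) by group,
            hinv _ (hWN h4) _ (hg1 _ (D.U.inv_mem u.2)), hco]
          congr 1
          group, Finset.sum_const, nsmul_eq_mul]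
      exact mul_ne_zero (by simp) hg
    obtain ⟨y, hy, h6⟩ := exists_subSum_mul_eq (D := D) (r := r) (Submodule.span ℂ {x0})
      (v := r (g1 * g⁻¹) * w) (Submodule.span_mono (by
        rintro v ⟨u, hu, y, hy, h⟩
        exact ⟨u, hu, y, Submodule.subset_span hy, h⟩) (hWN h4))
    obtain ⟨c, rfl⟩ := Submodule.mem_span_singleton.1 hy
    have h7 : subSum r D.U * (r (g1 * g⁻¹) * w) ∈ W := by
      rw [subSum_eq, Finset.sum_mul]
      exact W.sum_mem fun u _ => hW _ _ h4
    rw [h6, mul_smul_comm] at h5 h7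
    have hc : c ≠ 0 := by rintro rfl; simp at h5
    exact ⟨(W.smul_mem_iff hc).1 h7, fun h => by simp [h] at h5⟩
  let ρ : Representation ℂ G ℂ[G] := (Algebra.lmul ℂ ℂ[G]).toMonoidHom.comp r
  let S : Subrepresentation ρ := ⟨N, fun g v hv => hmul _ v hv⟩
  have hirr : S.toRepresentation.IsIrreducible := by
    rw [rep_isIrreducible_iff]
    refine ⟨⟨⟨x0, hx1⟩, 0, fun h => hx00 (by rw [show x0 = 0 from congrArg Subtype.val h]; rfl)⟩,
      fun W hW => ?_⟩
    by_contra hc
    push Not at hc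
    have hW' : ∀ g, ∀ w ∈ W.map N.subtype, r g * w ∈ W.map N.subtype := by
      rintro g _ ⟨w, hw, rfl⟩
      exact ⟨_, hW g w hw, rfl⟩
    obtain ⟨S', hS'⟩ := exists_isCompl (⟨W.map N.subtype, fun g v hv => hW' g v hv⟩ :
      Subrepresentation ρ)
    have h4 : IsCompl (W.map N.subtype) S'.toSubmodule := subrep_isCompl_toSubmodule hS'
    have h5 := hsoc _ hW' (Submodule.map_subtype_le N W)
      fun h => hc.1 (Submodule.map_injective_of_injective N.subtype_injective
        (h.trans (Submodule.map_bot _).symm))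
    have h6 := hsoc (S'.toSubmodule ⊓ N)
      (fun g w hw => ⟨S'.apply_mem_toSubmodule g hw.1, hmul _ w hw.2⟩) inf_le_right fun h => by
        have h7 := sup_inf_assoc_of_le S'.toSubmodule (Submodule.map_subtype_le N W)
        rw [h4.sup_eq_top, h, top_inf_eq, sup_bot_eq] at h7
        exact hc.2 (Submodule.map_injective_of_injective N.subtype_injective
          (by rw [Submodule.map_subtype_top]; exact h7.symm))
    exact h5.2 ((Submodule.disjoint_def.1 h4.disjoint) _ h5.1 h6.1.1)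
  refine ⟨⟨_, isIrrCharacter_of_rep _ hirr⟩, charDegree_eq_of_one_eq ?_⟩
  rw [Nat.card_eq_fintype_card, ← finrank_span_eq_card hli, ← hN']
  exact Representation.char_one _

end StData

end Cfsg
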