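import Cfsg.Agent.Blk.PairMor

/-! The block dominated by a subsection, with its fusion. -/

set_option autoImplicit false

namespace Cfsg

open scoped MonoidAlgebra

universe u v w

variable {p : ℕ} {M : Ideal AlgInt}

/-- the minimum of the form `p ^ d [η°, η°]` is at least `l(B)` -/
def MinOK (p : ℕ) {G : Type u} [Group G] [Fintype G] (B : Set (IrrCharacter G)) : Prop :=
  ∀ η : G → ℂ, IsGeneralizedCharacter G η → blockPart B η = η → pRegularPart p η ≠ 0 →
    (blockRank p B : ℝ) ≤ (p : ℝ) ^ blockDefect p B *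
      (classInner (pRegularPart p η) (pRegularPart p η)).re

theorem MinOK.of_quot {G : Type u} [Group G] [Fintype G] {H : Type v} [Group H] [Fintype H]
    (hM : IsPModular p M) {π : G →* H} (hπ : Function.Surjective π)
    (hc : π.ker ≤ Subgroup.center G) (hk : IsPGroup p π.ker) {b : Set (IrrCharacter G)}
    (hb : IsPBlock M b) (h : MinOK p (IrrCharacter.comap π hπ ⁻¹' b)) : MinOK p b := by
  intro η hη hbη h0
  have hreg : ∀ g : G, ¬ p ∣ orderOf g → g ∈ Subgroup.centralizer (π.ker : Set G) :=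
    fun g _ z hz => (Subgroup.mem_center_iff.1 (hc hz) g).symm
  obtain ⟨η', h1, h2, h3⟩ := (hb.isBlockUnion hM).exists_regComapL_eq_of_central hM π hπ hk hc hη hbη
  obtain ⟨E, hE⟩ := hb.exists_isDefectGroup hM
  have hb' := hb.preimage_comap_of_regular hM π hπ hk hreg
  have hE' := (hb.isDefectGroup_preimage_iff_of_regular hM π hπ hk hreg _).2 ⟨E, hE, rfl⟩
  have h4 := h η' h1 h2 (fun h => h0 (by
    rw [← h3, regComapL_apply, ← regComapL_pRegularPart, h, map_zero]))
  have : π.ker.Normal := inferInstance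
  have h5 : Nat.card (E.map π) * Nat.card π.ker = Nat.card E := by
    rw [← card_mul_relIndex (hE.le_of_normal hM hb hk), mul_comm, Subgroup.relIndex_ker]
  rw [(hb.isBlockUnion hM).blockRank_preimage_comap_of_isPGroup hM π hπ hk,
    ← card_mul_classInner_regComapL hM.1 π hπ hk hreg, h3, ← Complex.ofReal_natCast,
    Complex.re_ofReal_mul, ← mul_assoc, ← Nat.cast_pow, ← hE'.card_eq hM hb', ← Nat.cast_mul,
    h5, hE.card_eq hM hb, Nat.cast_pow] at h4
  exact h4

variable {G : Type u} [Group G] [Fintype G] {B : Set (IrrCharacter G)} {P : Subgroup G}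
  {e : (resK M)[G]}

/-- Brauer's bound for a subsection -/
theorem StarSetup.card_le_of_minOK (S : StarSetup p M B P e) (v : P)
    [Fintype (Subgroup.centralizer ({(v : G)} : Set G))] (h : MinOK p (S.below v))
    (T : Finset (IrrCharacter G)) (hT : T ⊆ irrFinset B)
    (hrow : ∀ χ ∈ T, secProj p (v : G) (S.below v) χ.1 ≠ 0) :
    T.card ≤ p ^ blockDefect p (S.below v) := by
  have hp : (0 : ℝ) < (p : ℝ) ^ blockDefect p (S.below v) := by
    have := S.hM.1.pos
    positivity
  have hl : (0 : ℝ) < blockRank p (S.below v) := by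
    exact_mod_cast (S.isPBlock_below v).blockRank_pos S.hM
  have h1 := S.hB.card_mul_le_blockRank S.hM (S.orderOf_eq v) rfl (S.isBlockUnion_below v)
    (S.below_subset v) (μ := blockRank p (S.below v) / (p : ℝ) ^ blockDefect p (S.below v))
    (by positivity) (fun η hη hbη h0 => by
      rw [div_le_iff₀' hp]
      exact h η hη hbη h0) T hT hrow
  rw [← mul_div_assoc, div_le_iff₀ hp, mul_comm] at h1
  exact_mod_cast le_of_mul_le_mul_left h1 hl

/-- `v` is fully centralized -/
def FullCen (p : ℕ) (P : Subgroup G) (e : (resK M)[G]) (v : P) : Prop :=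
  ∀ w : P, PairFuse p P e (v : G) w → Nat.card (P ⊓ Subgroup.centralizer {(w : G)} : Subgroup G) ≤
    Nat.card (P ⊓ Subgroup.centralizer {(v : G)} : Subgroup G)

theorem fullCen_of_central {v : P} (hv : P ≤ Subgroup.centralizer {(v : G)}) : FullCen p P e v :=
  fun _ _ => by rw [inf_eq_left.2 hv]; exact Subgroup.card_le_of_le inf_le_left

/-- a morphism onto a fully centralized element extends to the centralizer -/
theorem StarSetup.exists_ext_of_fullCen (S : StarSetup p M B P e) {u v : P} (hv : FullCen p P e v)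
    (h : PairFuse p P e (u : G) v) : ∃ x, (v : G) = x * u * x⁻¹ ∧
      PairMor p P e (P ⊓ Subgroup.centralizer {(u : G)}) x := by
  have := S.hM.fact_prime
  have := S.hM.charP
  obtain ⟨x, hx, h⟩ := pairFuse_iff_pairMor.1 h
  have h1 : conjSub (Subgroup.zpowers (u : G)) x = Subgroup.zpowers (v : G) := by
    rw [conjSub_zpowers, hx]
  have h2 := S.below_le v
  obtain ⟨y, hy, h3⟩ := h.exists_ext S.isPair (h1 ▸ h2) (K := Subgroup.centralizer {(v : G)})
    (by rw [h1, centralizer_zpowers]) (by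
      rw [h1]
      exact (centralizer_zpowers _).ge.trans (h2.isPair_left S.isPair).centralizer_le_pairStab)
    (S.isDefGrp_below hv) (R := P ⊓ Subgroup.centralizer {(u : G)}) inf_le_left (by
      rw [hx, centralizer_singleton_conj]; exact conjSub_mono inf_le_right x)
  refine ⟨y * x, ?_, h3.mono S.isPair le_sup_right⟩
  have h4 := Subgroup.mem_centralizer_singleton_iff.1 hy
  rw [mul_inv_rev, mul_assoc y x, mul_assoc, ← mul_assoc (x * u), ← hx, ← mul_assoc, h4,
    mul_inv_cancel_right]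

/-- the dominated block of a subsection -/
structure SubQuot (S : StarSetup p M B P e) (v : P) (R : Subgroup G) {H : Type u} [Group H]
    [Fintype H] {B' : Set (IrrCharacter H)} {P' : Subgroup H} {e' : (resK M)[H]}
    (S' : StarSetup p M B' P' e') (ρ : R →* P') : Prop where
  eq : R = P ⊓ Subgroup.centralizer {(v : G)}
  surj : Function.Surjective ρ
  ker : ∀ r : R, ρ r = 1 ↔ (r : G) ∈ Subgroup.zpowers (v : G)
  rank : blockRank p B' = blockRank p (S.below v)
  card : p ^ blockDefect p (S.below v) = Nat.card R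
  lift : ∀ (Q : Subgroup R) (y : H), PairMor p P' e' ((Q.map ρ).map P'.subtype) y →
    ∃ x ∈ Subgroup.centralizer {(v : G)}, PairMor p P e (Q.map R.subtype) x ∧
      ∀ q ∈ Q, ∀ w : R, (w : G) = x * q * x⁻¹ → (ρ w : H) = y * ρ q * y⁻¹
  push : ∀ x ∈ Subgroup.centralizer {(v : G)}, PairMor p P e R x → ∃ y ∈ pairStab ⊤ P' e',
      ∀ q w : R, (w : G) = x * q * x⁻¹ → (ρ w : H) = y * ρ q * y⁻¹
  minOK : MinOK p B' → ∀ T ⊆ irrFinset B,
    (∀ χ ∈ T, secProj p (v : G) (S.below v) χ.1 ≠ 0) → T.card ≤ Nat.card R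

theorem StarSetup.exists_subQuot (S : StarSetup p M B P e) {v : P} (hv : FullCen p P e v)
    {R : Subgroup G} (hR : R = P ⊓ Subgroup.centralizer {(v : G)}) :
    ∃ (H : Type u) (_ : Group H) (_ : Fintype H) (B' : Set (IrrCharacter H)) (P' : Subgroup H)
      (e' : (resK M)[H]) (S' : StarSetup p M B' P' e') (ρ : R →* P'), SubQuot S v R S' ρ := by
  classical
  have := S.hM.fact_prime
  have := S.hM.charP
  set K := Subgroup.centralizer ({(v : G)} : Set G) with hKdef
  have hK : K = Subgroup.centralizer (Subgroup.zpowers (v : G) : Set G) :=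
    (centralizer_zpowers _).symm
  have hvK : (v : G) ∈ K := Subgroup.mem_centralizer_singleton_iff.2 rfl
  have hRK : R ≤ K := hR ▸ inf_le_right
  have hRP : R ≤ P := hR ▸ inf_le_left
  have hVR : Subgroup.zpowers (v : G) ≤ R := Subgroup.zpowers_le.2 (hR ▸ ⟨v.2, hvK⟩)
  obtain ⟨f, hf⟩ := exists_pairLE S.isPair hRP
  have h1 : cenIn ⊤ (Subgroup.zpowers (v : G)) = K := by rw [cenIn_top, ← hK]
  have hm : IsMaxPair p K K (subIdem M K (S.below v)) R f := by
    have h2 := (S.below_le v).isPairOf_cenIn S.isPair (K := K) (le_top.trans top_le_normalizer_top)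
      (hK ▸ centralizer_le_normalizer' _) (subIdem_mem _).2 hRK (by rwa [sup_eq_right.2 hVR])
    rw [h1] at h2
    exact h2.isMaxPair_of_isDefGrp (hR ▸ S.isDefGrp_below hv)
  have S₁ := hm.starSetup_sub S.hM (S.isPBlock_below v)
  set Z : Subgroup K := Subgroup.zpowers ⟨v, hvK⟩ with hZ
  have hc : Z ≤ Subgroup.center K := by
    rw [hZ, Subgroup.zpowers_le, Subgroup.mem_center_iff]
    exact fun g => Subtype.ext (Subgroup.mem_centralizer_singleton_iff.1 g.2)
  have hn : Z.Normal := ⟨fun z hz g => by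
    rw [Subgroup.mem_center_iff.1 (hc hz) g]; simpa using hz⟩
  have := Fintype.ofFinite (K ⧸ Z)
  set π := QuotientGroup.mk' Z with hπdef
  have hπ : Function.Surjective π := QuotientGroup.mk'_surjective Z
  have hker : π.ker = Z := QuotientGroup.ker_mk' Z
  have hZm : Z.map K.subtype = Subgroup.zpowers (v : G) := MonoidHom.map_zpowers _ _
  have hZR : Z ≤ R.subgroupOf K := fun z hz => hVR (hZm ▸ ⟨z, hz, rfl⟩)
  have hk : IsPGroup p π.ker := S₁.isPGroup.to_le (hker.le.trans hZR)
  have hc' : π.ker ≤ Subgroup.center K := hker.le.trans hc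
  set ι : R →* K := Subgroup.inclusion hRK
  refine ⟨K ⧸ Z, inferInstance, inferInstance, _, _, _, S₁.quot hc' hk S.hM hπ,
    (π.comp ι).codRestrict _ fun r => ⟨ι r, r.2, rfl⟩, hR, ?_, fun r => ?_,
    (S.isBlockUnion_below v).blockRank_preimage_comap_of_isPGroup S.hM π hπ hk,
    hR ▸ S.pow_blockDefect_below hv, fun Q y hy => ?_, fun x hx h => ?_, fun h T hT hrow => ?_⟩
  · rintro ⟨_, r, hr, rfl⟩
    exact ⟨⟨r, hr⟩, rfl⟩
  · rw [Subtype.ext_iff, ← hZm]
    change π (ι r) = 1 ↔ _
    rw [← MonoidHom.mem_ker, hker]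
    exact ⟨fun h => ⟨_, h, rfl⟩, fun ⟨z, h, h'⟩ => (Subtype.ext h' : z = ι r) ▸ h⟩
  · have h2 : (Z ⊔ Q.map ι).map π = Q.map (π.comp ι) := by
      rw [Subgroup.map_sup, (Subgroup.map_eq_bot_iff _).2 hker.ge, bot_sup_eq, Subgroup.map_map]
    rw [Subgroup.map_map] at hy
    replace hy : PairMor p _ _ (Q.map (π.comp ι)) y := hy
    rw [← h2] at hy
    obtain ⟨x, h3, h4⟩ := hy.exists_lift hc' hk S.hM hπ S₁.isPair (hker.le.trans hZR)
      (hker.le.trans le_sup_left) (sup_le hZR (by rintro _ ⟨r, -, rfl⟩; exact r.2))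
    refine ⟨x, x.2, ((pairMor_centralizer_iff S.isPair hK hf hVR hR).1 h3).mono S.isPair ?_,
      fun q hq w hw => ?_⟩
    · rintro _ ⟨r, hr, rfl⟩
      exact Subgroup.mem_sup_right ⟨ι r, Subgroup.mem_sup_right ⟨r, hr, rfl⟩, rfl⟩
    · have h5 : ι w = x * ι q * x⁻¹ := Subtype.ext hw
      change π (ι w) = y * π (ι q) * y⁻¹
      rw [h5]
      exact h4 _ (Subgroup.mem_sup_right ⟨q, hq, rfl⟩)
  · have h2 : PairMor p (R.subgroupOf K) (gaTrunc (resK M) K f) (R.subgroupOf K) ⟨x, hx⟩ := by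
      rw [pairMor_centralizer_iff S.isPair hK hf hVR hR, Subgroup.map_subgroupOf_eq_of_le hRK,
        sup_eq_right.2 hVR]
      exact h
    refine ⟨_, (pairMor_self_iff (S₁.quot hc' hk S.hM hπ).isPair).1 (h2.quot hc' hk S.hM hπ),
      fun q w hw => ?_⟩
    have h5 : ι w = ⟨x, hx⟩ * ι q * ⟨x, hx⟩⁻¹ := Subtype.ext hw
    change π (ι w) = _ * π (ι q) * _
    rw [h5, map_mul, map_mul, map_inv]
  · rw [hR, ← S.pow_blockDefect_below hv]
    exact S.card_le_of_minOK v (h.of_quot S.hM hπ hc' hk (S.isPBlock_below v)) T hT hrow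

end Cfsg
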