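import Cfsg.Agent.Blk.SylowSC
import Cfsg.Agent.Blk.NilpAb

/-! Characters induced from linear characters of `N_G(P)/P`. -/

set_option autoImplicit false
set_option linter.unusedSectionVars false

namespace Cfsg

open scoped ComplexConjugate

universe u v

variable {G : Type u} [Group G]

theorem cmult_indFun_one [Fintype G] (K : Subgroup G) {χ : G → ℂ} (h : IsCharacter G χ) :
    cmult (indFun K fun _ => 1) χ = fixDim K χ := by
  have := Fintype.ofFinite K
  refine cmult_eq_of ?_
  rw [IsCharacter.one.classInner_indFun_eq_res h, h.cast_fixDim]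

theorem charDegree_indFun_one [Fintype G] (K : Subgroup G) :
    charDegree (indFun K fun _ => 1) = K.index := by
  rw [IsCharacter.one.charDegree_indFun, charDegree_eq_of_one_eq (n := 1) (by simp), mul_one]

theorem sum_fixDim_mul_charDegree [Fintype G] (K : Subgroup G) :
    ∑ χ : IrrCharacter G, fixDim K χ.1 * charDegree χ.1 = K.index := by
  rw [← charDegree_indFun_one, IsCharacter.one.indFun.charDegree_eq_sum_cmult]
  exact Finset.sum_congr rfl fun χ _ => by rw [cmult_indFun_one K χ.isCharacter]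

theorem fixDim_triv [Finite G] (K : Subgroup G) : fixDim K (IrrCharacter.triv G).1 = 1 := by
  rw [← IrrCharacter.ofHom_one]
  exact fixDim_ofHom fun _ _ => rfl

theorem exists_sign_hom {A : Type v} [Group A] [Finite A] [IsCyclic A] {k : ℕ}
    (h : Nat.card A = 2 * k) : ∃ μ : A →* ℂˣ, μ ≠ 1 ∧
      ∀ a, (a ^ k = 1 → (μ a : ℂ) = 1) ∧ (a ^ k ≠ 1 → (μ a : ℂ) = -1) := by
  obtain ⟨g, hg⟩ := IsCyclic.exists_generator (α := A)
  have hk : 0 < k := by
    have := Nat.card_pos (α := A)
    omega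
  have ho : orderOf g = 2 * k := by rw [orderOf_eq_card_of_forall_mem_zpowers hg, h]
  have h1 : orderOf (-1 : ℂˣ) ∣ orderOf g :=
    (orderOf_dvd_of_pow_eq_one (n := 2) (by simp)).trans (ho ▸ dvd_mul_right 2 k)
  have h2 := monoidHomOfForallMemZpowers_apply_gen hg h1
  refine ⟨monoidHomOfForallMemZpowers hg h1, fun h3 => ?_, fun a => ?_⟩
  · rw [h3, MonoidHom.one_apply] at h2
    have := congrArg Units.val h2
    norm_num at this
  · obtain ⟨i, rfl⟩ := (Submonoid.mem_powers_iff _ _).1 (mem_powers_iff_mem_zpowers.2 (hg a))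
    rw [map_pow, h2, ← pow_mul, ← orderOf_dvd_iff_pow_eq_one, ne_eq, ← orderOf_dvd_iff_pow_eq_one,
      ho, Nat.mul_dvd_mul_iff_right hk, ← even_iff_two_dvd, Nat.not_even_iff_odd]
    exact ⟨fun h => by simp [h.neg_one_pow], fun h => by simp [h.neg_one_pow]⟩

/-- `N_G(P)/P` -/
abbrev sylA {p : ℕ} (P : Sylow p G) : Type u := sylN P ⧸ (P : Subgroup G).subgroupOf (sylN P)

/-- the character induced from a linear character of `N_G(P)/P` -/
noncomputable def sylTheta [Fintype G] {p : ℕ} (P : Sylow p G) (μ : sylA P →* ℂˣ) : G → ℂ :=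
  indFun (sylN P) fun y => (μ (y : sylA P) : ℂ)

/-- `N_G(P) - P` -/
noncomputable def sylOut [Finite G] {p : ℕ} (P : Sylow p G) : Finset (sylN P) :=
  (Set.toFinite {y : sylN P | (y : G) ∉ (P : Subgroup G)}).toFinset

theorem mem_sylOut [Finite G] {p : ℕ} {P : Sylow p G} {y : sylN P} :
    y ∈ sylOut P ↔ (y : G) ∉ (P : Subgroup G) := by simp [sylOut]

theorem sylA_mk_eq_one {p : ℕ} {P : Sylow p G} {y : sylN P} :
    (y : sylA P) = 1 ↔ (y : G) ∈ (P : Subgroup G) := by
  rw [QuotientGroup.eq_one_iff, Subgroup.mem_subgroupOf]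

theorem sylA_mk_eq {p : ℕ} {P : Sylow p G} {y z : sylN P} :
    (y : sylA P) = z ↔ (y : G) * (z : G)⁻¹ ∈ (P : Subgroup G) := by
  rw [← mul_inv_eq_one, ← QuotientGroup.mk_inv, ← QuotientGroup.mk_mul, sylA_mk_eq_one]
  rfl

theorem isCharacter_sylLin {p : ℕ} {P : Sylow p G} (μ : sylA P →* ℂˣ) :
    IsCharacter (sylN P) fun y => (μ (y : sylA P) : ℂ) :=
  isCharacter_unitsHom (μ.comp (QuotientGroup.mk' _))

section
variable [Fintype G] {p : ℕ} {P : Sylow p G}

theorem isCharacter_sylTheta (μ : sylA P →* ℂˣ) : IsCharacter G (sylTheta P μ) :=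
  (isCharacter_sylLin μ).indFun

theorem charDegree_sylTheta (μ : sylA P →* ℂˣ) : charDegree (sylTheta P μ) = (sylN P).index := by
  rw [sylTheta, (isCharacter_sylLin μ).charDegree_indFun,
    charDegree_eq_of_one_eq (n := 1) (by simp), mul_one]

theorem sylTheta_apply_one (μ : sylA P →* ℂˣ) : sylTheta P μ 1 = (sylN P).index := by
  rw [(isCharacter_sylTheta μ).one_eq_charDegree, charDegree_sylTheta]

theorem sylTheta_one : sylTheta P 1 = indFun (sylN P) fun _ => 1 := by
  simp [sylTheta]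

theorem sylTheta_one_apply (g : G) :
    sylTheta P 1 g = Nat.card (MulAction.fixedBy (G ⧸ sylN P) g) := by
  rw [sylTheta_one, indFun_one_eq_card_fixedBy]

theorem sylTheta_eq_zero (μ : sylA P →* ℂˣ) {g : G} (hg : ∀ γ : G ⧸ sylN P, g • γ ≠ γ) :
    sylTheta P μ g = 0 :=
  indFun_eq_zero_of_forall_not_mem _ _ fun x hx => hg (x⁻¹ : G)
    (smul_mk_eq_iff.2 (by rwa [inv_inv]))

theorem cmult_sylTheta_triv {μ : sylA P →* ℂˣ} (hμ : μ ≠ 1) :
    cmult (sylTheta P μ) (IrrCharacter.triv G).1 = 0 := by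
  have := Fintype.ofFinite (sylN P)
  refine cmult_eq_of ?_
  rw [sylTheta, classInner_indFun_left _ _ (IrrCharacter.triv G).isCharacter.isClassFunction,
    Nat.cast_zero]
  refine IrrCharacter.classInner_of_ne (χ := IrrCharacter.ofHom (μ.comp (QuotientGroup.mk' _)))
    (ψ := IrrCharacter.triv _) fun h => hμ ?_
  rw [← IrrCharacter.ofHom_one] at h
  have h1 := IrrCharacter.ofHom_injective h
  ext1
  exact h1

end

namespace SCP

variable [Fintype G] {p : ℕ} [hp : Fact p.Prime] {P : Sylow p G} (H : SCP p P)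
include H

theorem card_A : Nat.card (sylA P) = autIdx (P : Subgroup G) := H.relIndex_eq

theorem isCyclic_A : IsCyclic (sylA P) := by
  obtain ⟨φ, hφ⟩ := H.exists_hom
  refine isCyclic_of_injective (QuotientGroup.lift _ φ fun y hy => (hφ y).2 hy) ?_
  rw [injective_iff_map_eq_one]
  intro a ha
  induction a using QuotientGroup.induction_on with
  | H y => exact sylA_mk_eq_one.2 ((hφ y).1 ha)

theorem comm_A : IsMulCommutative (sylA P) :=
  have := H.isCyclic_A
  inferInstance

theorem card_dual [Fintype (sylA P →* ℂˣ)] :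
    Fintype.card (sylA P →* ℂˣ) = autIdx (P : Subgroup G) := by
  have := H.comm_A
  rw [← Nat.card_eq_fintype_card, card_unitsHom_of_comm, H.card_A]

theorem sylTheta_sing (μ : sylA P →* ℂˣ) {g : G} (hg : p ∣ orderOf g) : sylTheta P μ g = 1 :=
  H.indFun_sing (fun u hu _ => by rw [sylA_mk_eq_one.2 hu, map_one, Units.val_one]) hg

theorem sum_sylTheta [Fintype (sylA P →* ℂˣ)] :
    ∑ μ, sylTheta P μ = indFun (P : Subgroup G) fun _ => 1 := by
  have := H.comm_A
  have := Fintype.ofFinite (sylN P)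
  rw [← indFun_indFun_subgroupOf (Subgroup.le_normalizer (H := (P : Subgroup G)))]
  simp only [sylTheta]
  rw [← indFun_sum]
  congr 1
  funext y
  rw [Finset.sum_apply, sum_unitsHom_apply, indFun_one_normal]
  by_cases hy : (y : sylA P) = 1
  · rw [if_pos hy, if_pos ((QuotientGroup.eq_one_iff _).1 hy)]
    rfl
  · rw [if_neg hy, if_neg (mt (QuotientGroup.eq_one_iff _).2 hy)]

theorem sum_cmult_sylTheta [Fintype (sylA P →* ℂˣ)] {χ : G → ℂ} (h : IsCharacter G χ) :
    ∑ μ, cmult (sylTheta P μ) χ = fixDim (P : Subgroup G) χ := by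
  have : ((∑ μ, cmult (sylTheta P μ) χ : ℕ) : ℂ) = fixDim (P : Subgroup G) χ := by
    rw [← cmult_indFun_one _ h, IsCharacter.one.indFun.cast_cmult h, ← H.sum_sylTheta,
      classInner_sum_left, Nat.cast_sum]
    exact Finset.sum_congr rfl fun μ _ => (isCharacter_sylTheta μ).cast_cmult h
  exact_mod_cast this

theorem cmult_sylTheta_le (μ : sylA P →* ℂˣ) {χ : G → ℂ} (h : IsCharacter G χ) :
    cmult (sylTheta P μ) χ ≤ fixDim (P : Subgroup G) χ := by
  have := Fintype.ofFinite (sylA P →* ℂˣ)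
  rw [← H.sum_cmult_sylTheta h]
  exact Finset.single_le_sum (f := fun μ => cmult (sylTheta P μ) χ) (fun _ _ => Nat.zero_le _)
    (Finset.mem_univ μ)

theorem sum_ite_mk_eq [Fintype (sylN P)] [DecidableEq (sylA P)] (a : sylA P) (c : ℂ) :
    ∑ h : sylN P, (if (h : sylA P) = a then c else 0) = p * c := by
  have := Fintype.ofFinite (sylA P)
  have h1 := sum_comp_monoidHom_surjective (QuotientGroup.mk' ((P : Subgroup G).subgroupOf (sylN P)))
    (QuotientGroup.mk'_surjective _) (fun b => if b = a then c else 0)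
  rw [QuotientGroup.ker_mk', Nat.card_congr (Subgroup.subgroupOfEquivOfLe
    Subgroup.le_normalizer).toEquiv, H.card] at h1
  simp only [QuotientGroup.mk'_apply, Finset.sum_ite_eq', Finset.mem_univ, if_true,
    nsmul_eq_mul] at h1
  exact h1

theorem isConj_of_mk_eq {y h : sylN P} (hy : (y : G) ∉ (P : Subgroup G))
    (h1 : (h : sylA P) = y) : IsConj (y : G) h := by
  have := H.isConj_mul y.2 hy (sylA_mk_eq.1 h1)
  rwa [inv_mul_cancel_right] at this

theorem sum_sylTheta_mul_conj [Fintype (sylA P →* ℂˣ)] {y : sylN P}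
    (hy : (y : G) ∉ (P : Subgroup G)) :
    ∑ μ, sylTheta P μ y * conj (μ (y : sylA P) : ℂ) =
      Nat.card (Subgroup.centralizer ({(y : G)} : Set G)) := by
  classical
  have := H.comm_A
  have := Fintype.ofFinite (sylN P)
  simp only [sylTheta, indFun_eq_card_centralizer_mul, mul_assoc, Finset.sum_mul]
  rw [← Finset.mul_sum, Finset.sum_comm]
  have h1 : ∀ h : sylN P, ∑ μ : sylA P →* ℂˣ, (μ (h : sylA P) : ℂ) * conj (μ (y : sylA P) : ℂ) =
      if (h : sylA P) = y then (autIdx (P : Subgroup G) : ℂ) else 0 := by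
    intro h
    rw [← H.card_A]
    refine Eq.trans (Finset.sum_congr rfl fun μ _ => ?_)
      ((sum_unitsHom_apply ((h : sylA P) * (y : sylA P)⁻¹)).trans (by
        by_cases h2 : (h : sylA P) = y
        · rw [if_pos h2, if_pos (mul_inv_eq_one.2 h2)]
        · rw [if_neg h2, if_neg (mt mul_inv_eq_one.1 h2)]))
    rw [← (isCharacter_unitsHom μ).apply_inv, map_mul, Units.val_mul]
  simp only [h1]
  rw [Finset.sum_filter_of_ne fun h _ h2 => H.isConj_of_mk_eq hy (by_contra fun h3 => h2 (if_neg h3)),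
    H.sum_ite_mk_eq, ← Nat.cast_mul, ← H.card_N,
    div_mul_cancel₀ _ (by exact_mod_cast Nat.card_pos.ne')]

theorem sum_N_split [Fintype (sylN P)]
    {F : sylN P → ℂ} {c : ℂ} (h : ∀ u : sylN P, (u : G) ∈ (P : Subgroup G) → u ≠ 1 → F u = c) :
    ∑ y, F y = F 1 + (p - 1) * c + ∑ y ∈ sylOut P, F y := by
  classical
  rw [← Finset.sum_filter_add_sum_filter_not _ (fun y : sylN P => (y : G) ∈ (P : Subgroup G))]
  congr 1
  swap
  · exact Finset.sum_congr (by ext y; simp [mem_sylOut]) fun _ _ => rfl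
  have := Fintype.ofFinite ((P : Subgroup G).subgroupOf (sylN P))
  have h1 := sum_subgroup_of_const (P := (P : Subgroup G).subgroupOf (sylN P)) (f := F) (c := c) h
  rw [Nat.card_congr (Subgroup.subgroupOfEquivOfLe Subgroup.le_normalizer).toEquiv, H.card] at h1
  rw [← h1]
  exact Finset.sum_subtype _ (by simp [Subgroup.mem_subgroupOf]) _

theorem card_sylOut : (sylOut P).card + p = p * autIdx (P : Subgroup G) := by
  have := Fintype.ofFinite (sylN P)
  have h1 := H.sum_N_split (F := fun _ => 1) (c := 1) fun _ _ _ => rfl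
  simp only [Finset.sum_const, Finset.card_univ, nsmul_eq_mul, mul_one] at h1
  rw [← Nat.card_eq_fintype_card, H.card_N] at h1
  have : (((sylOut P).card + p : ℕ) : ℂ) =
      (p * autIdx (P : Subgroup G) : ℕ) := by
    rw [h1]; push_cast; ring
  exact_mod_cast this

theorem card_mul_cmult_sylTheta (μ : sylA P →* ℂˣ) :
    (p : ℂ) * autIdx (P : Subgroup G) * cmult (sylTheta P μ) (sylTheta P μ) =
      (sylN P).index + (p - 1) + ∑ y ∈ sylOut P,
        sylTheta P μ y * conj (μ (y : sylA P) : ℂ) := by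
  have := Fintype.ofFinite (sylN P)
  rw [(isCharacter_sylTheta μ).cast_cmult (isCharacter_sylTheta μ)]
  nth_rw 2 [sylTheta]
  rw [classInner_indFun_right _ _ (isCharacter_sylTheta μ).isClassFunction, classInner_def,
    H.card_N, ← Nat.cast_mul, mul_inv_cancel_left₀ (by
      rw [← H.card_N]; exact_mod_cast Nat.card_pos.ne'),
    H.sum_N_split (c := 1) fun u hu hu1 => by
      rw [H.sylTheta_sing μ (H.dvd_of_mem hu fun h => hu1 (Subtype.ext h)), sylA_mk_eq_one.2 hu]
      simp]
  simp [sylTheta_apply_one]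

theorem sum_card_centralizer [Fintype (sylA P →* ℂˣ)] :
    ∑ y ∈ sylOut P,
        Nat.card (Subgroup.centralizer ({(y : G)} : Set G)) +
      autIdx (P : Subgroup G) * ((sylN P).index + p) =
    p * autIdx (P : Subgroup G) * ∑ μ, cmult (sylTheta P μ) (sylTheta P μ) +
      autIdx (P : Subgroup G) := by
  have : ((∑ y ∈ sylOut P,
        Nat.card (Subgroup.centralizer ({(y : G)} : Set G)) +
      autIdx (P : Subgroup G) * ((sylN P).index + p) : ℕ) : ℂ) =
      (p * autIdx (P : Subgroup G) * ∑ μ, cmult (sylTheta P μ) (sylTheta P μ) +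
      autIdx (P : Subgroup G) : ℕ) := by
    push_cast
    rw [Finset.mul_sum]
    simp only [H.card_mul_cmult_sylTheta]
    rw [Finset.sum_add_distrib, Finset.sum_comm, Finset.sum_const, Finset.card_univ, H.card_dual,
      Finset.sum_congr rfl fun y hy => H.sum_sylTheta_mul_conj (mem_sylOut.1 hy),
      nsmul_eq_mul]
    ring
  exact_mod_cast this

theorem sum_card_fixedBy_sylOut :
    ∑ y ∈ sylOut P,
        Nat.card (MulAction.fixedBy (G ⧸ sylN P) (y : G)) + ((sylN P).index + p) =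
    p * autIdx (P : Subgroup G) * cmult (sylTheta P 1) (sylTheta P 1) + 1 := by
  have : ((∑ y ∈ sylOut P,
        Nat.card (MulAction.fixedBy (G ⧸ sylN P) (y : G)) + ((sylN P).index + p) : ℕ) : ℂ) =
      (p * autIdx (P : Subgroup G) * cmult (sylTheta P 1) (sylTheta P 1) + 1 : ℕ) := by
    push_cast
    rw [H.card_mul_cmult_sylTheta]
    simp only [MonoidHom.one_apply, Units.val_one, map_one, mul_one, sylTheta_one_apply]
    ring
  exact_mod_cast this

theorem card_centralizer_invol (h2 : p ≠ 2) {y : G} (hy : y ∈ sylN P)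
    (hyP : y ∉ (P : Subgroup G)) (hy2 : y * y = 1) :
    Nat.card (Subgroup.centralizer ({y} : Set G)) =
      autIdx (P : Subgroup G) * Nat.card (MulAction.fixedBy (G ⧸ sylN P) y) := by
  classical
  have := Fintype.ofFinite (sylN P)
  have h1 := indFun_eq_card_centralizer_mul (sylN P) (fun _ => 1) y
  rw [indFun_one_eq_card_fixedBy, Finset.sum_filter] at h1
  have h3 : ∀ h : sylN P, IsConj y (h : G) ↔ (h : sylA P) = (⟨y, hy⟩ : sylN P) := by
    refine fun h => ⟨fun h4 => ?_, H.isConj_of_mk_eq (y := ⟨y, hy⟩) hyP⟩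
    obtain ⟨c, hc⟩ := isConj_iff.1 h4
    have h5 : (h : G) * h = 1 := by rw [← hc, conj_mul, hy2, mul_one, mul_inv_cancel]
    refine sylA_mk_eq.2 (H.mul_mem_of_invol hy hyP hy2 h.2 (fun h6 => ?_) h5)
    have h7 : (h : G) ≠ 1 := by
      intro h7
      rw [h7, mul_inv_eq_one, mul_eq_left] at hc
      exact hyP (hc ▸ Subgroup.one_mem _)
    have h8 := orderOf_eq_of_card_prime H.card h6 h7
    rw [orderOf_eq_prime (p := 2) (by rw [pow_two, h5]) h7] at h8
    exact h2 h8.symm
  simp only [h3] at h1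
  rw [H.sum_ite_mk_eq, H.card_N] at h1
  have h4 : (autIdx (P : Subgroup G) : ℂ) ≠ 0 := by
    have := Nat.card_pos (α := sylA P)
    rw [H.card_A] at this
    exact_mod_cast this.ne'
  have h5 : (p : ℂ) ≠ 0 := by exact_mod_cast hp.out.ne_zero
  have : (Nat.card (Subgroup.centralizer ({y} : Set G)) : ℂ) =
      (autIdx (P : Subgroup G) * Nat.card (MulAction.fixedBy (G ⧸ sylN P) y) : ℕ) := by
    push_cast
    rw [h1]
    push_cast
    field_simp
  exact_mod_cast this

theorem exists_sign_theta (h : 2 ∣ autIdx (P : Subgroup G)) :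
    ∃ μ : sylA P →* ℂˣ, μ ≠ 1 ∧ ∀ g, sylTheta P μ g = sylTheta P 1 g ∨
      sylTheta P μ g = -sylTheta P 1 g := by
  classical
  obtain ⟨k, hk⟩ := h
  have := H.isCyclic_A
  obtain ⟨μ, h1, h2⟩ := exists_sign_hom (A := sylA P) (H.card_A.trans hk)
  refine ⟨μ, h1, fun g => ?_⟩
  let σ : G → ℂ := fun g => if (g ^ k) ^ p = 1 then 1 else -1
  have hσ : IsClassFunction G σ := fun g x => by
    simp only [σ, conj_pow, mul_inv_eq_one, mul_eq_left]
  have h3 : sylTheta P μ = σ * sylTheta P 1 := by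
    rw [sylTheta_one, ← indFun_res _ hσ, sylTheta]
    congr 1
    funext y
    have h4 : (y : sylA P) ^ k = 1 ↔ ((y : G) ^ k) ^ p = 1 := by
      rw [← QuotientGroup.mk_pow, sylA_mk_eq_one, H.mem_iff_pow_eq_one (y ^ k).2]
      rfl
    simp only [σ]
    split_ifs with h5
    · exact (h2 _).1 (h4.2 h5)
    · exact (h2 _).2 (mt h4.1 h5)
  rw [h3, Pi.mul_apply]
  simp only [σ]
  split_ifs <;> simp

end SCP

end Cfsg
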