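import Cfsg.Agent.Blk.DihGrp
import Cfsg.Agent.Blk.NilpAb
import Cfsg.Agent.Grp.Misc
import Mathlib.GroupTheory.SpecificGroups.Quaternion

/-! Dihedral, semidihedral and generalized quaternion `2`-groups. -/

set_option autoImplicit false

namespace Cfsg

open scoped ComplexConjugate

universe u v w

/-- a dihedral, generalized quaternion or semidihedral group of order `4 m` -/
structure IsTame {T : Type u} [Group T] (σ τ : T) (m : ℕ) (k : ℤ) : Prop where
  pow : ∃ a, m = 2 ^ (a + 1)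
  ord : orderOf σ = 2 * m
  index : (Subgroup.zpowers σ).index = 2
  notMem : τ ∉ Subgroup.zpowers σ
  rel : τ * σ * τ⁻¹ = σ ^ k
  kind : (k = -1 ∧ τ * τ = 1) ∨ (k = -1 ∧ τ * τ = σ ^ m) ∨ (k = m - 1 ∧ 4 ∣ m ∧ τ * τ = 1)

variable {T : Type u} [Group T] {σ τ : T} {m : ℕ} {k : ℤ}

theorem index_zpowers_eq_two [Finite T] (hm : m ≠ 0) (ord : orderOf σ = 2 * m)
    (hc : Nat.card T = 4 * m) : (Subgroup.zpowers σ).index = 2 := by
  have h := (Subgroup.zpowers σ).card_mul_index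
  rw [Nat.card_zpowers, ord, hc] at h
  exact Nat.eq_of_mul_eq_mul_left (by omega : 0 < 2 * m) (by rw [h]; ring)

theorem IsTame.congr (h : IsTame σ τ m k) {T' : Type v} [Group T'] (e : T ≃* T') :
    IsTame (e σ) (e τ) m k := by
  have h1 : Subgroup.zpowers (e σ) = (Subgroup.zpowers σ).map e.toMonoidHom :=
    (MonoidHom.map_zpowers e.toMonoidHom σ).symm
  refine ⟨h.pow, by rw [e.orderOf_eq, h.ord], by
    rw [h1, ← h.index]; exact Subgroup.index_map_equiv _ e, fun h2 => h.notMem ?_,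
    by rw [← map_inv, ← map_mul, ← map_mul, h.rel, map_zpow], ?_⟩
  · rwa [h1, ← MulEquiv.coe_toMonoidHom, Subgroup.mem_map_iff_mem e.injective] at h2
  · simpa only [← map_mul, ← map_pow, e.apply_eq_iff_eq, map_eq_one_iff e e.injective]
      using h.kind

theorem exists_isTame_of_dihedral {n : ℕ} (hn : 3 ≤ n) (e : T ≃* DihedralGroup (2 ^ (n - 1))) :
    ∃ σ τ : T, IsTame σ τ (2 ^ (n - 2)) (-1) ∧ τ * τ = 1 := by
  have h2 : 2 ^ (n - 1) = 2 * 2 ^ (n - 2) := by rw [← pow_succ']; congr 1; omega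
  have h : IsTame (DihedralGroup.r 1 : DihedralGroup (2 ^ (n - 1))) (DihedralGroup.sr 0)
      (2 ^ (n - 2)) (-1) := by
    refine ⟨⟨n - 3, by congr 1; omega⟩, by rw [DihedralGroup.orderOf_r_one, h2],
      index_zpowers_eq_two (m := 2 ^ (n - 2)) (by positivity)
        (by rw [DihedralGroup.orderOf_r_one, h2]) (by rw [DihedralGroup.nat_card, h2]; ring), ?_,
      by simp, Or.inl ⟨rfl, DihedralGroup.sr_mul_self 0⟩⟩
    rintro ⟨j, hj⟩
    simp at hj
  exact ⟨_, _, h.congr e.symm, by rw [← map_mul, DihedralGroup.sr_mul_self, map_one]⟩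

theorem exists_isTame_of_quaternion {n : ℕ} (hn : 3 ≤ n)
    (e : T ≃* QuaternionGroup (2 ^ (n - 2))) :
    ∃ σ τ : T, IsTame σ τ (2 ^ (n - 2)) (-1) ∧ τ * τ = σ ^ 2 ^ (n - 2) := by
  have h1 : (QuaternionGroup.xa 0 * QuaternionGroup.xa 0 : QuaternionGroup (2 ^ (n - 2))) =
      QuaternionGroup.a 1 ^ 2 ^ (n - 2) := by simp
  have h : IsTame (QuaternionGroup.a 1 : QuaternionGroup (2 ^ (n - 2))) (QuaternionGroup.xa 0)
      (2 ^ (n - 2)) (-1) := by
    refine ⟨⟨n - 3, by congr 1; omega⟩, QuaternionGroup.orderOf_a_one,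
      index_zpowers_eq_two (m := 2 ^ (n - 2)) (by positivity) QuaternionGroup.orderOf_a_one
        (by rw [Nat.card_eq_fintype_card, QuaternionGroup.card]), ?_,
      by rw [mul_inv_eq_iff_eq_mul, zpow_neg_one, eq_inv_mul_iff_mul_eq]; simp,
      Or.inr (Or.inl ⟨rfl, h1⟩)⟩
    rw [mem_zpowers_iff_mem_range_orderOf, Finset.mem_image]
    rintro ⟨j, -, hj⟩
    simp at hj
  exact ⟨_, _, h.congr e.symm, by rw [← map_mul, h1, map_pow]⟩

theorem exists_isTame_of_quasiDihedral [Finite T] (h : IsQuasiDihedral T) :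
    ∃ (σ τ : T) (m : ℕ), IsTame σ τ m (m - 1) ∧ 4 ∣ m ∧ τ * τ = 1 := by
  obtain ⟨n, hn, hc, σ, τ, h1, h2, h3⟩ := h
  have h4 : 2 ^ n = 2 * 2 ^ (n - 1) := by rw [← pow_succ']; congr 1; omega
  have h5 : 4 ∣ 2 ^ (n - 1) := (pow_dvd_pow 2 (by omega : 2 ≤ n - 1))
  have h6 : τ * τ = 1 := mul_self_eq_one_of_orderOf_two h2
  have h7 : τ * σ * τ⁻¹ = σ ^ (((2 ^ (n - 1) : ℕ) : ℤ) - 1) := by
    rw [h3, ← zpow_natCast, Nat.cast_sub Nat.one_le_two_pow, Nat.cast_one]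
  refine ⟨σ, τ, 2 ^ (n - 1), ⟨⟨n - 2, by congr 1; omega⟩, h1.trans h4,
    index_zpowers_eq_two (m := 2 ^ (n - 1)) (by positivity) (h1.trans h4)
      (by rw [hc, pow_succ, h4]; ring), fun h => ?_, h7, Or.inr (Or.inr ⟨rfl, h5, h6⟩)⟩, h5, h6⟩
  rw [setLike_mul_comm h (Subgroup.mem_zpowers σ), mul_inv_cancel_right] at h3
  have h8 := (pow_eq_pow_iff_modEq.1 ((pow_one σ).trans h3))
  rw [h1, h4] at h8
  have := Nat.le_of_dvd (by positivity) h5
  have := h8.eq_of_lt_of_lt (by omega) (by omega)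
  omega

namespace IsTame
variable (h : IsTame σ τ m k)
include h

theorem two_dvd : 2 ∣ m := h.pow.elim fun a ha => ha ▸ dvd_pow_self 2 (by omega)

theorem two_le : 2 ≤ m := h.pow.elim fun a ha => ha ▸ Nat.le_self_pow (by omega) 2

theorem eq_two_or : m = 2 ∨ 4 ∣ m := by
  obtain ⟨_ | a, rfl⟩ := h.pow
  exacts [Or.inl rfl, Or.inr (pow_dvd_pow 2 (by omega : 2 ≤ a + 1 + 1))]

theorem k_eq : k = -1 ∨ (k = m - 1 ∧ 4 ∣ m) := by
  rcases h.kind with h | h | h
  exacts [Or.inl h.1, Or.inl h.1, Or.inr ⟨h.1, h.2.1⟩]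

theorem zpow_k_of_pow_four {H : Type v} [Group H] {a : H} (ha : a ^ 4 = 1) : a ^ k = a⁻¹ := by
  rcases h.k_eq with rfl | ⟨rfl, j, rfl⟩
  · exact zpow_neg_one a
  · rw [zpow_sub_one, zpow_natCast, pow_mul, ha, one_pow, one_mul]

theorem zpow_k_eq_iff {H : Type v} [Group H] {a : H} (ha : a ^ (2 * m) = 1) :
    a ^ k = a ↔ a * a = 1 := by
  refine ⟨fun h1 => ?_, fun h1 => ?_⟩
  · rw [← eq_inv_iff_mul_eq_one, ← h.zpow_k_of_pow_four, h1]
    rcases h.k_eq with rfl | ⟨rfl, -⟩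
    · rw [zpow_neg_one, inv_eq_iff_mul_eq_one] at h1
      rw [show 4 = 2 * 2 from rfl, pow_mul, sq a, h1, one_pow]
    · rw [zpow_sub_one, zpow_natCast, mul_inv_eq_iff_eq_mul, ← sq] at h1
      rw [show 4 = 2 * 2 from rfl, pow_mul, ← h1, ← pow_mul, mul_comm, ha]
  · rw [h.zpow_k_of_pow_four (by rw [show 4 = 2 * 2 from rfl, pow_mul, sq a, h1, one_pow]),
      inv_eq_iff_mul_eq_one, h1]

theorem zpow_k_zpow_k {H : Type v} [Group H] {a : H} (ha : a ^ (2 * m) = 1) :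
    (a ^ k) ^ k = a := by
  rcases h.k_eq with rfl | ⟨rfl, j, rfl⟩
  · simp
  · rw [← zpow_mul, show (((4 * j : ℕ) : ℤ) - 1) * ((4 * j : ℕ) - 1) =
      (2 * (4 * j) : ℕ) * (2 * j - 1) + 1 by push_cast; ring, zpow_add_one, zpow_mul,
      zpow_natCast, ha, one_zpow, one_mul]

theorem pow_two_mul {a : T} (ha : a ∈ Subgroup.zpowers σ) : a ^ (2 * m) = 1 :=
  orderOf_dvd_iff_pow_eq_one.1 (h.ord ▸ orderOf_dvd_of_mem_zpowers ha)

theorem card_zpowers : Nat.card (Subgroup.zpowers σ) = 2 * m := by rw [Nat.card_zpowers, h.ord]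

theorem card : Nat.card T = 4 * m := by
  rw [← (Subgroup.zpowers σ).card_mul_index, h.index, h.card_zpowers]; ring

theorem normal : (Subgroup.zpowers σ).Normal := Subgroup.normal_of_index_eq_two h.index

theorem mul_mem_iff {x y : T} :
    x * y ∈ Subgroup.zpowers σ ↔ (x ∈ Subgroup.zpowers σ ↔ y ∈ Subgroup.zpowers σ) :=
  Subgroup.mul_mem_iff_of_index_two h.index

theorem exists_eq_mul {x : T} (hx : x ∉ Subgroup.zpowers σ) :
    ∃ a ∈ Subgroup.zpowers σ, x = a * τ :=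
  ⟨x * τ⁻¹, h.mul_mem_iff.2 (iff_of_false hx (by rw [inv_mem_iff]; exact h.notMem)), by simp⟩

theorem mul_τ_notMem {a : T} (ha : a ∈ Subgroup.zpowers σ) : a * τ ∉ Subgroup.zpowers σ :=
  fun h' => h.notMem ((Subgroup.mul_mem_cancel_left _ ha).1 h')

theorem στ_notMem : σ * τ ∉ Subgroup.zpowers σ := h.mul_τ_notMem (Subgroup.mem_zpowers σ)

theorem τ_conj {a : T} (ha : a ∈ Subgroup.zpowers σ) : τ * a * τ⁻¹ = a ^ k := by
  obtain ⟨j, rfl⟩ := ha
  rw [← conj_zpow, h.rel, ← zpow_mul, ← zpow_mul, mul_comm]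

theorem conj_of_notMem {x a : T} (hx : x ∉ Subgroup.zpowers σ) (ha : a ∈ Subgroup.zpowers σ) :
    x * a * x⁻¹ = a ^ k := by
  obtain ⟨t, ht, rfl⟩ := h.exists_eq_mul hx
  rw [mul_inv_rev, ← mul_assoc, mul_assoc t, mul_assoc t, h.τ_conj ha,
    setLike_mul_comm ht (zpow_mem ha k), mul_inv_cancel_right]

omit h in
theorem conj_of_mem {x a : T} (hx : x ∈ Subgroup.zpowers σ) (ha : a ∈ Subgroup.zpowers σ) :
    x * a * x⁻¹ = a := by rw [setLike_mul_comm hx ha, mul_inv_cancel_right]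

theorem isConj_iff_of_mem {a b : T} (ha : a ∈ Subgroup.zpowers σ) :
    IsConj a b ↔ b = a ∨ b = a ^ k := by
  refine ⟨fun h1 => ?_, fun h1 => h1.elim (fun h1 => h1 ▸ IsConj.refl _) fun h1 =>
    isConj_iff.2 ⟨τ, h1 ▸ h.τ_conj ha⟩⟩
  obtain ⟨x, rfl⟩ := isConj_iff.1 h1
  by_cases hx : x ∈ Subgroup.zpowers σ
  exacts [Or.inl (conj_of_mem hx ha), Or.inr (h.conj_of_notMem hx ha)]

theorem orderOf_z : orderOf (σ ^ m) = 2 := by
  have := h.two_le
  rw [orderOf_pow_of_dvd (by omega) (h.ord ▸ dvd_mul_left _ _), h.ord,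
    Nat.mul_div_cancel _ (by omega)]

theorem z_mul_z : σ ^ m * σ ^ m = 1 := mul_self_eq_one_of_orderOf_two h.orderOf_z

theorem z_ne_one : σ ^ m ≠ 1 := fun h1 => by simpa [h1] using h.orderOf_z

omit h in
theorem z_mem : σ ^ m ∈ Subgroup.zpowers σ := Subgroup.pow_mem _ (Subgroup.mem_zpowers σ) m

theorem z_zpow_k : (σ ^ m) ^ k = σ ^ m := (h.zpow_k_eq_iff (h.pow_two_mul z_mem)).2 h.z_mul_z

theorem z_mem_center : σ ^ m ∈ Subgroup.center T := Subgroup.mem_center_iff.2 fun x => by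
  rw [← mul_inv_eq_iff_eq_mul]
  exact ((h.isConj_iff_of_mem z_mem).1 (isConj_iff.2 ⟨x, rfl⟩)).elim id (·.trans h.z_zpow_k)

theorem σ_mul_σ_ne_one : σ * σ ≠ 1 := fun h1 => by
  have := Nat.le_of_dvd two_pos (orderOf_dvd_of_pow_eq_one ((sq σ).trans h1))
  have := h.two_le
  have := h.ord
  omega

theorem στ_mul_self : (σ * τ) * (σ * τ) = σ * σ ^ k * (τ * τ) := by
  rw [← h.rel]; group

theorem exists_conj_τ : ∃ c ∈ Subgroup.zpowers σ, c * (c ^ k)⁻¹ = σ ^ 2 := by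
  rcases h.k_eq with rfl | ⟨rfl, j, rfl⟩
  · exact ⟨σ, Subgroup.mem_zpowers σ, by simp [sq]⟩
  · refine ⟨σ ^ (1 + 2 * j : ℤ), zpow_mem (Subgroup.mem_zpowers σ) _, ?_⟩
    rw [← zpow_mul, ← zpow_sub, show (1 + 2 * j : ℤ) - (1 + 2 * j) * ((4 * j : ℕ) - 1) =
      (2 * (4 * j) : ℕ) * (-j) + (2 : ℕ) by push_cast; ring, zpow_add, zpow_mul, zpow_natCast,
      h.pow_two_mul (Subgroup.mem_zpowers σ), one_zpow, one_mul, zpow_natCast]

theorem isConj_or {t : T} (ht : t ∉ Subgroup.zpowers σ) : IsConj τ t ∨ IsConj (σ * τ) t := by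
  obtain ⟨c, hc, h1⟩ := h.exists_conj_τ
  have key : ∀ (i : ℤ) (x : T), x ∉ Subgroup.zpowers σ → IsConj x (σ ^ (2 * i) * x) :=
    fun i x hx => isConj_iff.2 ⟨c ^ i, by
      have h2 : Commute c (c ^ k)⁻¹ := ((Commute.refl c).zpow_right k).inv_right
      rw [zpow_mul, zpow_ofNat, ← h1, h2.mul_zpow, inv_zpow, ← zpow_mul, mul_comm k, zpow_mul,
        ← h.conj_of_notMem hx (zpow_mem hc i)]
      group⟩
  obtain ⟨_, ⟨i, rfl⟩, rfl⟩ := h.exists_eq_mul ht
  obtain ⟨j, rfl | rfl⟩ := Int.even_or_odd' i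
  · exact Or.inl (key j τ h.notMem)
  · exact Or.inr (by simpa only [zpow_add_one, mul_assoc] using key j _ h.στ_notMem)

theorem exists_hom_zpowers {ζ : ℂˣ} (hζ : ζ ^ (2 * m) = 1) :
    ∃ l : Subgroup.zpowers σ →* ℂˣ, l ⟨σ, Subgroup.mem_zpowers σ⟩ = ζ :=
  ⟨monoidHomOfForallMemZpowers (g := ⟨σ, Subgroup.mem_zpowers σ⟩)
    (fun ⟨_, j, rfl⟩ => ⟨j, rfl⟩) (by
      rw [Subgroup.orderOf_mk, h.ord]; exact orderOf_dvd_of_pow_eq_one hζ),
    monoidHomOfForallMemZpowers_apply_gen _ _⟩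

omit h in
theorem hom_ext {l l' : Subgroup.zpowers σ →* ℂˣ}
    (h : l ⟨σ, Subgroup.mem_zpowers σ⟩ = l' ⟨σ, Subgroup.mem_zpowers σ⟩) : l = l' :=
  (MonoidHom.eq_iff_eq_on_generator (g := ⟨σ, Subgroup.mem_zpowers σ⟩)
    (fun ⟨_, j, rfl⟩ => ⟨j, rfl⟩) l l').2 h

theorem hom_pow_two_mul (l : Subgroup.zpowers σ →* ℂˣ) : l ^ (2 * m) = 1 :=
  MonoidHom.ext fun a => by
    rw [MonoidHom.pow_apply, ← map_pow, show a ^ (2 * m) = 1 from Subtype.ext (h.pow_two_mul a.2),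
      map_one, MonoidHom.one_apply]

theorem exists_hom {a b : ℂˣ} (ha : a * a = 1) (hb : b * b = 1) :
    ∃ γ : T →* ℂˣ, γ σ = a ∧ γ τ = b := by
  classical
  have ha2 : a ^ 2 = 1 := (sq a).trans ha
  obtain ⟨μ, hμ⟩ := h.exists_hom_zpowers (ζ := a) (by rw [pow_mul, ha2, one_pow])
  have h1 : ∀ x, μ (x ^ k) = μ x := fun x => by
    rw [map_zpow, h.zpow_k_eq_iff (by rw [← MonoidHom.pow_apply, h.hom_pow_two_mul]; rfl)]
    obtain ⟨_, j, rfl⟩ := x
    rw [show (⟨σ ^ j, j, rfl⟩ : Subgroup.zpowers σ) = ⟨σ, Subgroup.mem_zpowers σ⟩ ^ j from rfl,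
      map_zpow, hμ, ← mul_zpow, ha, one_zpow]
  have hτ : τ * τ ∈ Subgroup.zpowers σ := h.mul_mem_iff.2 Iff.rfl
  have h2 : μ ⟨τ * τ, hτ⟩ = 1 := by
    obtain ⟨j, hj⟩ := h.two_dvd
    rcases h.kind with ⟨-, h3⟩ | ⟨-, h3⟩ | ⟨-, -, h3⟩
    · exact (congrArg μ (Subtype.ext h3)).trans (map_one μ)
    · rw [show (⟨τ * τ, hτ⟩ : Subgroup.zpowers σ) = ⟨σ, Subgroup.mem_zpowers σ⟩ ^ m from
        Subtype.ext h3, map_pow, hμ, hj, pow_mul, ha2, one_pow]
    · exact (congrArg μ (Subtype.ext h3)).trans (map_one μ)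
  have h3 : ∀ {x}, x ∉ Subgroup.zpowers σ → x * τ⁻¹ ∈ Subgroup.zpowers σ := fun hx =>
    h.mul_mem_iff.2 (iff_of_false hx (by rw [inv_mem_iff]; exact h.notMem))
  refine ⟨MonoidHom.mk' (fun x => if hx : x ∈ Subgroup.zpowers σ then μ ⟨x, hx⟩ else
    μ ⟨_, h3 hx⟩ * b) fun x y => ?_, (dif_pos (Subgroup.mem_zpowers σ)).trans hμ,
    (dif_neg h.notMem).trans ?_⟩
  · by_cases hx : x ∈ Subgroup.zpowers σ <;> by_cases hy : y ∈ Subgroup.zpowers σ
    · rw [dif_pos hx, dif_pos hy, dif_pos (mul_mem hx hy), ← map_mul]; rfl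
    · rw [dif_pos hx, dif_neg hy, dif_neg fun h' => hy ((mul_mem_cancel_left hx).1 h'),
        ← mul_assoc, ← map_mul]
      exact congrArg (μ · * b) (Subtype.ext (mul_assoc _ _ _))
    · rw [dif_neg hx, dif_pos hy, dif_neg fun h' => hx ((mul_mem_cancel_right hy).1 h'),
        mul_right_comm, ← h1 ⟨y, hy⟩, ← map_mul]
      refine congrArg (μ · * b) (Subtype.ext ?_)
      change _ = x * τ⁻¹ * y ^ k
      rw [← h.τ_conj hy]
      group
    · rw [dif_neg hx, dif_neg hy, dif_pos (h.mul_mem_iff.2 (iff_of_false hx hy)), mul_mul_mul_comm,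
        hb, ← h2, ← h1 ⟨_, h3 hy⟩, ← map_mul, ← map_mul]
      refine congrArg μ (Subtype.ext ?_)
      change _ = x * τ⁻¹ * (y * τ⁻¹) ^ k * (τ * τ)
      rw [← h.τ_conj (h3 hy)]
      group
  · rw [show (⟨τ * τ⁻¹, h3 h.notMem⟩ : Subgroup.zpowers σ) = 1 from Subtype.ext (mul_inv_cancel τ),
      map_one, one_mul]

theorem isPGroup : IsPGroup 2 T := h.pow.elim fun a ha =>
  IsPGroup.of_card (n := a + 3) (by rw [h.card, ha]; ring)

variable [Finite T]

theorem mul_self_eq_one_iff {a : T} (ha : a ∈ Subgroup.zpowers σ) :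
    a * a = 1 ↔ a = 1 ∨ a = σ ^ m := by
  refine ⟨fun h1 => or_iff_not_imp_left.2 fun h2 => eq_of_mem_zpowers_of_orderOf_two ha z_mem
    (orderOf_eq_prime ((sq a).trans h1) h2) h.orderOf_z, ?_⟩
  rintro (rfl | rfl)
  exacts [one_mul 1, h.z_mul_z]

omit [Finite T] in
theorem mem_of_commute {a x : T} (ha : a ∈ Subgroup.zpowers σ) (ha2 : a * a ≠ 1)
    (hx : x * a = a * x) : x ∈ Subgroup.zpowers σ := by_contra fun h1 => ha2
  ((h.zpow_k_eq_iff (h.pow_two_mul ha)).1 (by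
    rw [← h.conj_of_notMem h1 ha, hx, mul_inv_cancel_right]))

omit [Finite T] in
theorem centralizer_eq {a : T} (ha : a ∈ Subgroup.zpowers σ) (ha2 : a * a ≠ 1) :
    Subgroup.centralizer {a} = Subgroup.zpowers σ := Subgroup.ext fun _ => by
  rw [Subgroup.mem_centralizer_singleton_iff]
  exact ⟨h.mem_of_commute ha ha2, fun hx => setLike_mul_comm hx ha⟩

theorem eq_of_commute {a x : T} (ha : a ∈ Subgroup.zpowers σ) (hx : x ∉ Subgroup.zpowers σ)
    (hc : x * a = a * x) : a = 1 ∨ a = σ ^ m :=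
  (h.mul_self_eq_one_iff ha).1 (by_contra fun h1 => hx (h.mem_of_commute ha h1 hc))

theorem eq_of_mem_center {a : T} (ha : a ∈ Subgroup.center T) : a = 1 ∨ a = σ ^ m :=
  h.eq_of_commute (h.mem_of_commute (Subgroup.mem_zpowers σ) h.σ_mul_σ_ne_one
    (Subgroup.mem_center_iff.1 ha σ).symm) h.notMem (Subgroup.mem_center_iff.1 ha τ)

theorem mul_self_of_notMem {t : T} (ht : t ∉ Subgroup.zpowers σ) : t * t = 1 ∨ t * t = σ ^ m :=
  h.eq_of_commute (h.mul_mem_iff.2 Iff.rfl) ht (mul_assoc _ _ _).symm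

theorem card_centralizer_of_notMem {t : T} (ht : t ∉ Subgroup.zpowers σ) :
    Nat.card (Subgroup.centralizer {t}) = 4 := by
  have h1 : Subgroup.zpowers σ ⊓ Subgroup.centralizer {t} = Subgroup.zpowers (σ ^ m) := by
    refine le_antisymm (fun a ha => ?_) (Subgroup.zpowers_le.2 ⟨z_mem,
      Subgroup.mem_centralizer_singleton_iff.2 (Subgroup.mem_center_iff.1 h.z_mem_center t).symm⟩)
    rcases h.eq_of_commute ha.1 ht (Subgroup.mem_centralizer_singleton_iff.1 ha.2).symm with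
      rfl | rfl
    exacts [one_mem _, Subgroup.mem_zpowers _]
  have h2 := card_inf_mul_relIndex (Subgroup.zpowers σ) (Subgroup.centralizer {t})
  have h3 : (Subgroup.zpowers σ).relIndex (Subgroup.centralizer {t}) ∣ 2 :=
    h.index ▸ @Subgroup.relIndex_dvd_index_of_normal _ _ _ _ h.normal
  rcases (Nat.dvd_prime Nat.prime_two).1 h3 with h4 | h4
  · exact absurd (Subgroup.relIndex_eq_one.1 h4 (self_mem_centralizer_eq rfl)) ht
  · rw [← h2, h1, h4, Nat.card_zpowers, h.orderOf_z]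

theorem card_centralizer_le {a : T} (h1 : a ≠ 1) (h2 : a ≠ σ ^ m) :
    Nat.card (Subgroup.centralizer {a}) ≤ 2 * m := by
  by_cases ha : a ∈ Subgroup.zpowers σ
  · rw [h.centralizer_eq ha fun h3 => ((h.mul_self_eq_one_iff ha).1 h3).elim h1 h2,
      h.card_zpowers]
  · have := h.two_le
    rw [h.card_centralizer_of_notMem ha]
    omega

omit h in
theorem mem_zpowers_of_dvd {a b : T} (ha : a ∈ Subgroup.zpowers σ) (hb : b ∈ Subgroup.zpowers σ)
    (hab : orderOf a ∣ orderOf b) : a ∈ Subgroup.zpowers b := by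
  have h1 := eq_of_card_eq_of_isCyclic inferInstance (Subgroup.zpowers_le.2 ha)
    (Subgroup.zpowers_le.2 (pow_mem hb (orderOf b / orderOf a))) (by
      rw [Nat.card_zpowers, Nat.card_zpowers, orderOf_pow_orderOf_div (orderOf_pos b).ne' hab])
  exact Subgroup.zpowers_le.2 (pow_mem (Subgroup.mem_zpowers b) _) (h1 ▸ Subgroup.mem_zpowers a)

theorem z_mem_zpowers {a : T} (ha : a ∈ Subgroup.zpowers σ) (h1 : a ≠ 1) :
    σ ^ m ∈ Subgroup.zpowers a := by
  have := Fact.mk Nat.prime_two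
  obtain ⟨_ | i, hi⟩ := IsPGroup.iff_orderOf.1 h.isPGroup a
  · exact absurd (orderOf_eq_one_iff.1 hi) h1
  · exact mem_zpowers_of_dvd z_mem ha (by rw [h.orderOf_z, hi]; exact dvd_pow_self 2 (by omega))

omit [Finite T] in
theorem four_dvd_orderOf {a : T} (ha : a * a ≠ 1) : 4 ∣ orderOf a := by
  have := Fact.mk Nat.prime_two
  obtain ⟨i, hi⟩ := IsPGroup.iff_orderOf.1 h.isPGroup a
  rw [hi]
  by_contra h1
  refine ha ((sq a).symm.trans (orderOf_dvd_iff_pow_eq_one.1 ?_))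
  rw [hi]
  exact pow_dvd_pow 2 (by_contra fun h2 => h1 (pow_dvd_pow 2 (by omega : 2 ≤ i)) : i ≤ 1)

omit [Finite T] in
theorem exists_orderOf_four : ∃ w ∈ Subgroup.zpowers σ, orderOf w = 4 := by
  obtain ⟨a, ha⟩ := h.pow
  refine ⟨σ ^ 2 ^ a, pow_mem (Subgroup.mem_zpowers σ) _, ?_⟩
  have h1 : orderOf σ = 4 * 2 ^ a := by rw [h.ord, ha]; ring
  rw [orderOf_pow_of_dvd (by positivity) (h1 ▸ dvd_mul_left _ _), h1,
    Nat.mul_div_cancel _ (by positivity)]

omit [Finite T] in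
theorem isGeneralizedCharacter_four_mul {F : T → ℂ} (hF : IsClassFunction T F)
    (h0 : ∀ a ∈ Subgroup.zpowers σ, F a = 0) {a b : ℤ} (ha : F τ = a) (hb : F (σ * τ) = b) :
    IsGeneralizedCharacter T fun x => 4 * F x := by
  obtain ⟨α, α1, α2⟩ := h.exists_hom (a := 1) (b := -1) (by simp) (by simp)
  obtain ⟨β, β1, β2⟩ := h.exists_hom (a := -1) (b := -1) (by simp) (by simp)
  have h1 := (IsCharacter.one (G := T)).isGeneralizedCharacter
  have h2 := h1.sub (isCharacter_unitsHom α).isGeneralizedCharacter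
  have h3 := (isCharacter_unitsHom β).isGeneralizedCharacter
  convert ((h2.mul (h1.sub h3)).zsmul a).add ((h2.mul (h1.add h3)).zsmul b) using 2 with x
  simp only [Pi.add_apply, Pi.mul_apply, Pi.sub_apply]
  by_cases hx : x ∈ Subgroup.zpowers σ
  · obtain ⟨j, rfl⟩ := id hx
    simp [h0 _ hx, α1]
  · rcases h.isConj_or hx with h4 | h4 <;> obtain ⟨y, rfl⟩ := isConj_iff.1 h4
    · simp [hF τ y, ha, α2, β2]
      ring
    · simp [hF _ y, hb, α1, α2, β1, β2]
      ring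

omit [Finite T] in
theorem indFun_coe [Fintype T] (l : Subgroup.zpowers σ →* ℂˣ) (a : Subgroup.zpowers σ) :
    indFun (Subgroup.zpowers σ) (fun x => l x) a = l a + (l a ^ k : ℂˣ) := by
  classical
  have h1 : ∀ x : T, extendByZero (Subgroup.zpowers σ) (fun x => l x) (x * a * x⁻¹) =
      (l a ^ k : ℂˣ) + if x ∈ Subgroup.zpowers σ then ((l a : ℂ) - (l a ^ k : ℂˣ)) else 0 :=
    fun x => by
      split_ifs with hx
      · rw [conj_of_mem hx a.2, extendByZero_coe, add_sub_cancel]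
      · rw [h.conj_of_notMem hx a.2, ← Subgroup.coe_zpow, extendByZero_coe, map_zpow, add_zero]
  have h2 : ((2 * m : ℕ) : ℂ) ≠ 0 := Nat.cast_ne_zero.2 (by have := h.two_le; omega)
  rw [indFun_apply', Finset.sum_congr rfl fun x _ => h1 x, Finset.sum_add_distrib,
    ← sum_subgroup_eq_sum_ite (Subgroup.zpowers σ) fun _ => ((l a : ℂ) - (l a ^ k : ℂˣ))]
  simp only [Finset.sum_const, Finset.card_univ, ← Nat.card_eq_fintype_card, h.card,
    h.card_zpowers, nsmul_eq_mul]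
  field_simp
  push_cast
  ring

omit [Finite T] in
theorem exists_hom_z : ∃ l : Subgroup.zpowers σ →* ℂˣ, l ⟨σ ^ m, z_mem⟩ = -1 := by
  have := h.two_le
  have h1 := Complex.isPrimitiveRoot_exp (2 * m) (by omega)
  have h2 := h1.isUnit_unit (by omega)
  obtain ⟨l, hl⟩ := h.exists_hom_zpowers h2.pow_eq_one
  refine ⟨l, ?_⟩
  rw [show (⟨σ ^ m, z_mem⟩ : Subgroup.zpowers σ) = ⟨σ, Subgroup.mem_zpowers σ⟩ ^ m from rfl,
    map_pow, hl]
  exact Units.ext (by simpa using (h1.pow (by omega) (mul_comm _ _)).eq_neg_one_of_two_right)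

/-- a generalized character which is stable in any fusion system on `T` -/
theorem exists_theta (hq : (σ * τ) * (σ * τ) = σ ^ m) : ∃ θ : T → ℂ, IsGeneralizedCharacter T θ ∧
    (∃ n : ℤ, θ 1 = n) ∧ θ (σ ^ m) = θ 1 - 4 ∧
    ∀ t ∉ Subgroup.zpowers σ, ∀ u, orderOf u = orderOf t → θ u = θ t := by
  have := Fintype.ofFinite T
  have := h.normal
  obtain ⟨l, hl⟩ := h.exists_hom_z
  set η := indFun (Subgroup.zpowers σ) (fun x => (l x : ℂ))
  have hη : IsGeneralizedCharacter T η := (isCharacter_unitsHom l).isGeneralizedCharacter.indFun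
  have h0 : ∀ t ∉ Subgroup.zpowers σ, η t = 0 := fun t => indFun_eq_zero_of_normal _ _
  have h1 : η 1 = 2 := (h.indFun_coe l 1).trans (by simp [one_add_one_eq_two])
  have hz : η (σ ^ m) = -2 := (h.indFun_coe l ⟨_, z_mem⟩).trans (by
    rw [hl, (h.zpow_k_eq_iff (by simp)).2 (by simp)]; norm_num)
  have h4 : ∀ u, u * u = σ ^ m → η u = 0 := fun u hu => by
    by_cases hu' : u ∈ Subgroup.zpowers σ
    · have h5 : l ⟨u, hu'⟩ * l ⟨u, hu'⟩ = -1 := by
        rw [← map_mul, ← hl]; exact congrArg l (Subtype.ext hu)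
      refine (h.indFun_coe l ⟨u, hu'⟩).trans ?_
      rw [h.zpow_k_of_pow_four (by rw [show 4 = 2 * 2 from rfl, pow_mul, sq (l _), h5]; simp),
        inv_eq_of_mul_eq_one_right (b := -l ⟨u, hu'⟩) (by rw [mul_neg, h5, neg_neg])]
      simp
    · exact h0 u hu'
  have h5 : ∀ {u t : T}, orderOf u = orderOf t → t * t = 1 → u * u = 1 := fun {u t} h6 h7 => by
    rw [← sq, ← orderOf_dvd_iff_pow_eq_one] at h7 ⊢
    exact h6 ▸ h7
  have h6 : ∀ {u t : T}, orderOf u = orderOf t → t * t = σ ^ m → u * u = σ ^ m :=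
    fun {u t} h6 h7 => by
      have h8 : u * u ≠ 1 := fun h8 => h.z_ne_one (h7.symm.trans (h5 h6.symm h8))
      by_cases hu : u ∈ Subgroup.zpowers σ
      · refine ((h.mul_self_eq_one_iff (mul_mem hu hu)).1 ?_).resolve_left h8
        have : t ^ 4 = 1 := by rw [show 4 = 2 * 2 from rfl, pow_mul, sq t, h7, sq, h.z_mul_z]
        rw [← orderOf_dvd_iff_pow_eq_one, ← h6, orderOf_dvd_iff_pow_eq_one] at this
        rwa [show 4 = 2 * 2 from rfl, pow_mul, sq u, sq] at this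
      · exact (h.mul_self_of_notMem hu).resolve_left h8
  have h7 : ∀ {x t : T}, IsConj x t → x * x = σ ^ m → t * t = σ ^ m := fun h7 =>
    h6 (orderOf_eq_of_isConj h7)
  rcases h.kind with ⟨rfl, h8⟩ | ⟨-, h8⟩ | ⟨-, ⟨j, hj⟩, h8⟩
  · exact absurd (by rw [← hq, h.στ_mul_self, h8]; simp) h.z_ne_one
  · exact ⟨η, hη, ⟨2, h1⟩, by rw [hz, h1]; norm_num, fun t ht u hu => by
      rw [h0 t ht, h4 u (h6 hu ((h.isConj_or ht).elim (h7 · h8) (h7 · hq)))]⟩
  obtain ⟨β, β1, β2⟩ := h.exists_hom (a := -1) (b := -1) (by simp) (by simp)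
  have βz : β (σ ^ m) = 1 := by rw [map_pow, β1, hj, pow_mul, Even.neg_one_pow (by decide), one_pow]
  have h9 : ∀ u, u * u = σ ^ m → β u = 1 := fun u hu => by
    by_cases hu' : u ∈ Subgroup.zpowers σ
    · obtain ⟨i, rfl⟩ := hu'
      have h9 : ((2 * m : ℕ) : ℤ) ∣ m - (i + i) := by
        rw [← h.ord, orderOf_dvd_sub_iff_zpow_eq_zpow, zpow_add, hu, zpow_natCast]
      obtain ⟨c, hc⟩ := h9
      rw [map_zpow, β1, show i = 2 * (j - 2 * j * c) by rw [hj] at hc; push_cast at hc; linarith,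
        zpow_mul]
      simp
    · rcases h.isConj_or hu' with h9 | h9
      · exact absurd (hu.symm.trans (h5 (orderOf_eq_of_isConj h9) h8)) h.z_ne_one
      · rw [← isConj_iff_eq.1 (β.map_isConj h9), map_mul, β1, β2]; simp
  have h10 : ∀ u, u ≠ 1 → u * u = 1 → η u + β u = -1 := fun u hu1 hu => by
    by_cases hu' : u ∈ Subgroup.zpowers σ
    · rw [((h.mul_self_eq_one_iff hu').1 hu).resolve_left hu1, hz, βz]; norm_num
    · rcases h.isConj_or hu' with h9 | h9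
      · rw [← isConj_iff_eq.1 (β.map_isConj h9), β2, h0 u hu']; simp
      · exact absurd ((h7 h9 hq).symm.trans hu) h.z_ne_one
  refine ⟨η + fun x => (β x : ℂ), hη.add (isCharacter_unitsHom β).isGeneralizedCharacter,
    ⟨3, by simp [h1]; norm_num⟩, by simp [h1, hz, βz]; norm_num, fun t ht u hu => ?_⟩
  simp only [Pi.add_apply]
  rcases h.mul_self_of_notMem ht with h11 | h11
  · have ht1 : t ≠ 1 := fun h12 => ht (h12 ▸ one_mem _)
    rw [h10 t ht1 h11, h10 u (fun h12 => ht1 (by rwa [h12, orderOf_one, eq_comm,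
      orderOf_eq_one_iff] at hu)) (h5 hu h11)]
  · rw [h4 t h11, h9 t h11, h4 u (h6 hu h11), h9 u (h6 hu h11)]

end IsTame

section sub
variable {G : Type u} [Group G] [Finite G] {P R : Subgroup G} {σ τ : P} {x : G}

omit [Finite G] in
theorem coe_mem_zpowers_coe {a b : P} :
    (a : G) ∈ Subgroup.zpowers (b : G) ↔ a ∈ Subgroup.zpowers b :=
  ⟨fun ⟨j, hj⟩ => ⟨j, Subtype.ext hj⟩, fun ⟨j, hj⟩ => ⟨j, congrArg Subtype.val hj⟩⟩

omit [Finite G] in
theorem card_inf_centralizer_coe (v : P) :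
    Nat.card (P ⊓ Subgroup.centralizer {(v : G)} : Subgroup G) =
      Nat.card (Subgroup.centralizer {v}) := by
  rw [inf_comm, ← card_subgroupOf]
  congr 2
  ext x
  simp only [Subgroup.mem_subgroupOf, Subgroup.mem_centralizer_singleton_iff, Subtype.ext_iff,
    Subgroup.coe_mul]

theorem IsTame.mem_centralizer (h : IsTame σ τ m k) (hR : R ≤ P)
    (hx : x ∈ Subgroup.normalizer (R : Set G)) (ho : ¬ 2 ∣ orderOf x)
    (hz : x ∈ Subgroup.centralizer {((σ ^ m : P) : G)})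
    (hA : ∀ a b : P, a ∈ Subgroup.zpowers σ → a * a ≠ 1 → (b : G) = x * a * x⁻¹ →
      b ∈ Subgroup.zpowers σ) : x ∈ Subgroup.centralizer (R : Set G) := by
  have h1 : (Subgroup.zpowers (σ : G)).relIndex P = 2 := by
    rw [← h.index, Subgroup.relIndex]
    congr 1
    ext a
    exact coe_mem_zpowers_coe
  have hP : IsPGroup 2 P := h.isPGroup
  refine mem_centralizer_of_relIndex_le_two (R := Subgroup.zpowers (σ : G) ⊓ R) (hP.to_le hR)
    inf_le_right (by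
      rw [Subgroup.inf_relIndex_right, ← h1]
      exact Subgroup.relIndex_le_of_le_right hR (by omega)) hx
    (mem_centralizer_of_le_zpowers (hP.to_le (inf_le_right.trans hR)) inf_le_left
      (Subgroup.mem_normalizer_fintype fun y hy => ?_) ho) ho
  have h2 := (Subgroup.mem_normalizer_iff.1 hx y).1 hy.2
  have h3 : (⟨y, hR hy.2⟩ : P) ∈ Subgroup.zpowers σ := coe_mem_zpowers_coe.1 hy.1
  refine ⟨?_, h2⟩
  by_cases h4 : (⟨y, hR hy.2⟩ : P) * ⟨y, hR hy.2⟩ = 1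
  · rcases (h.mul_self_eq_one_iff h3).1 h4 with h5 | h5 <;> have h6 : y = _ := congrArg Subtype.val h5
    · simp [h6]
    · rw [h6, Subgroup.mem_centralizer_singleton_iff.1 hz, mul_inv_cancel_right]
      exact coe_mem_zpowers_coe.2 IsTame.z_mem
  · exact coe_mem_zpowers_coe.2 (hA _ ⟨_, hR h2⟩ h3 h4 rfl)

theorem mem_centralizer_of_card_four {E : Subgroup G} (hE : Nat.card E = 4) (hR : R ≤ E) {t : G}
    (ht : t ∈ E) (ht1 : t ≠ 1) (hx : x ∈ Subgroup.normalizer (R : Set G))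
    (hxt : x ∈ Subgroup.centralizer {t}) (ho : ¬ 2 ∣ orderOf x) :
    x ∈ Subgroup.centralizer (R : Set G) := by
  have hP : IsPGroup 2 R := (IsPGroup.of_card (n := 2) hE).to_le hR
  by_cases htR : t ∈ R
  · refine mem_centralizer_of_relIndex_le_two hP (Subgroup.zpowers_le.2 htR) ?_ hx
      (by rwa [centralizer_zpowers_eq_singleton]) ho
    have e1 := card_mul_relIndex (Subgroup.zpowers_le.2 htR)
    have e2 := Subgroup.card_le_of_le hR
    have e3 := orderOf_pos t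
    have e4 := mt orderOf_eq_one_iff.1 ht1
    rw [Nat.card_zpowers] at e1
    have : 2 ≤ orderOf t := by omega
    nlinarith
  · refine mem_centralizer_of_relIndex_le_two hP bot_le ?_ hx (by simp [Subgroup.mem_centralizer_iff]) ho
    have e1 := Subgroup.card_dvd_of_le hR
    have e2 : Nat.card R ≠ 4 := fun h1 =>
      htR (Subgroup.eq_of_le_of_card_ge hR (by omega) ▸ ht)
    rw [hE] at e1
    have e3 := Nat.le_of_dvd (by omega) e1
    rw [Subgroup.relIndex_bot_left]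
    interval_cases Nat.card R <;> omega

end sub

end Cfsg
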