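import Cfsg.Agent.Blk.GramExc

/-! Combinatorics of integral columns with small Gram matrices. -/

set_option autoImplicit false

namespace Cfsg

section comb
variable {ι : Type*} [DecidableEq ι] {B : Finset ι}

theorem exists_half_of_involutive {α : Type*} (s : Finset α) (g : α → α) (hg : ∀ a ∈ s, g a ∈ s)
    (hgg : ∀ a ∈ s, g (g a) = a) (hne : ∀ a ∈ s, g a ≠ a) : ∃ t ⊆ s, (∀ a ∈ t, g a ∉ t) ∧
      2 * t.card = s.card ∧ ∀ {A : Type} [AddCommMonoid A] (F : α → A),
        ∑ a ∈ s, F a = ∑ a ∈ t, (F a + F (g a)) := by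
  classical
  let _ : LinearOrder α := linearOrderOfSTO WellOrderingRel
  have key : ∀ {A : Type} [AddCommMonoid A] (F : α → A),
      ∑ a ∈ s, F a = ∑ a ∈ s.filter fun a => a < g a, (F a + F (g a)) := fun F => by
    rw [← Finset.sum_filter_add_sum_filter_not s fun a => a < g a, Finset.sum_add_distrib]
    congr 1
    refine Finset.sum_bij' (fun a _ => g a) (fun a _ => g a) (fun a ha => ?_) (fun a ha => ?_)
      (fun a ha => hgg a (Finset.mem_filter.1 ha).1) (fun a ha => hgg a (Finset.mem_filter.1 ha).1)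
      fun a ha => by rw [hgg a (Finset.mem_filter.1 ha).1]
    · obtain ⟨h1, h2⟩ := Finset.mem_filter.1 ha
      exact Finset.mem_filter.2 ⟨hg a h1, by
        rw [hgg a h1]; exact lt_of_le_of_ne (not_lt.1 h2) (hne a h1)⟩
    · obtain ⟨h1, h2⟩ := Finset.mem_filter.1 ha
      exact Finset.mem_filter.2 ⟨hg a h1, by rw [hgg a h1]; exact h2.not_gt⟩
  refine ⟨_, Finset.filter_subset _ _, fun a ha h => ?_, ?_, key⟩
  · obtain ⟨h1, h2⟩ := Finset.mem_filter.1 ha
    have h3 := (Finset.mem_filter.1 h).2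
    rw [hgg a h1] at h3
    exact h2.not_gt h3
  · simpa [mul_comm] using (key fun _ => (1 : ℕ)).symm

theorem exists_exc_of_gram_sub {κ : Type*} [DecidableEq κ] [Nontrivial κ] {deg : ι → ℤ}
    (hdeg : ∀ x ∈ B, 0 < deg x) {c : κ → ι → ℤ}
    (hcc : ∀ i j l, j ≠ i → l ≠ i →
      ∑ x ∈ B, (c i x - c j x) * (c i x - c l x) = 1 + if j = l then 1 else 0)
    (hd : ∀ i j, ∑ x ∈ B, (c i x - c j x) * deg x = 0) :
    ∃ δ : ℤ, (δ = 1 ∨ δ = -1) ∧ ∃ y : κ → ι, Function.Injective y ∧ (∀ k, y k ∈ B) ∧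
      ∃ w : ι → ℤ, ∀ i, ∀ x ∈ B, c i x = w x + if x = y i then δ else 0 := by
  obtain ⟨i₀, j₀, h₀⟩ := exists_pair_ne κ
  have hv : ∀ j k : {j // j ≠ i₀}, ∑ x ∈ B, (c i₀ x - c j x) * (c i₀ x - c k x) =
      1 + if j = k then 1 else 0 := fun j k => by
    simp only [hcc i₀ j k j.2 k.2, Subtype.ext_iff]
  choose p hp q hq hpq hc using fun j : {j // j ≠ i₀} => exists_eq_sub_of_sum_sq_eq_two hdeg
    ((hv j j).trans (by simp)) (hd i₀ j)
  have h1 : ∀ j k, j ≠ k → (p j = p k ∧ q j ≠ q k) ∨ (p j ≠ p k ∧ q j = q k) := by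
    intro j k hjk
    have := hv j k
    rw [if_neg hjk, Finset.sum_congr rfl fun x hx => by rw [hc j x hx]] at this
    simp only [sub_mul, Finset.sum_sub_distrib, ite_mul, one_mul, zero_mul, Finset.sum_ite_eq',
      hp j, hq j, if_true, hc k _ (hp j), hc k _ (hq j)] at this
    have a1 := hpq j
    have a2 := hpq k
    generalize p j = u, q j = v, p k = u', q k = v' at this a1 a2
    split_ifs at this <;> first | omega | tauto | (subst_vars; contradiction)
  obtain ⟨δ, hδ, a, ha, b, hb, hab, hbi, hc'⟩ : ∃ δ : ℤ, (δ = 1 ∨ δ = -1) ∧ ∃ a ∈ B,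
      ∃ b : {j // j ≠ i₀} → ι, (∀ j, b j ∈ B) ∧ (∀ j, b j ≠ a) ∧ Function.Injective b ∧
        ∀ j : {j // j ≠ i₀}, ∀ x ∈ B, c i₀ x - c j x =
          (if x = a then δ else 0) - if x = b j then δ else 0 := by
    by_cases h2 : ∀ j k, p j = p k
    · exact ⟨1, Or.inl rfl, p ⟨j₀, h₀.symm⟩, hp _, q, hq, fun j => h2 j _ ▸ (hpq j).symm,
        fun j k e => by_contra fun n => ((h1 j k n).resolve_right fun h => h.1 (h2 j k)).2 e,
        fun j => h2 j _ ▸ hc j⟩
    push Not at h2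
    obtain ⟨j, k, hjk⟩ := h2
    have h3 := ((h1 j k fun e => hjk (e ▸ rfl)).resolve_left fun h => hjk h.1).2
    have h4 : ∀ l, q l = q j := fun l => by_contra fun n =>
      hjk (((h1 l j fun e => n (e ▸ rfl)).resolve_right fun h => n h.2).1.symm.trans
        ((h1 l k fun e => n (e ▸ h3.symm)).resolve_right fun h => n (h.2.trans h3.symm)).1)
    refine ⟨-1, Or.inr rfl, q j, hq _, p, hp, fun l => h4 l ▸ hpq l,
      fun l k e => by_contra fun n => ((h1 l k n).resolve_left fun h =>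
        h.2 ((h4 l).trans (h4 k).symm)).1 e, fun l x hx => ?_⟩
    rw [hc l x hx, h4 l]
    split_ifs <;> rfl
  set y : κ → ι := fun k => if h : k = i₀ then a else b ⟨k, h⟩ with hy
  refine ⟨δ, hδ, y, fun k l e => ?_, fun k => ?_, fun x => c i₀ x - if x = a then δ else 0,
    fun i x hx => ?_⟩
  · simp only [hy] at e
    split_ifs at e with h2 h3 h3
    · rw [h2, h3]
    · exact absurd e.symm (hab _)
    · exact absurd e (hab _)
    · exact congrArg Subtype.val (hbi e)
  · simp only [hy]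
    split_ifs
    exacts [ha, hb _]
  · by_cases h : i = i₀
    · simp [hy, h]
    · have := hc' ⟨i, h⟩ x hx
      simp only [hy, dif_neg h]
      linear_combination -this

theorem eq_one_or_of_sum_sq_eq_four {c : ι → ℤ} (hc : ∑ x ∈ B, c x * c x = 4)
    (hodd : ∃ x ∈ B, Odd (c x)) : (B.filter fun x => c x ≠ 0).card = 4 ∧
      ∀ x ∈ B, c x ≠ 0 → c x = 1 ∨ c x = -1 := by
  obtain ⟨x₀, h0, n, hn⟩ := hodd
  have h1 : ∀ x ∈ B, c x ≠ 0 → c x = 1 ∨ c x = -1 := fun x hx h => by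
    by_cases h2 : x = x₀
    · have := Finset.single_le_sum (f := fun x => c x * c x) (fun x _ => mul_self_nonneg _) h0
      rw [h2, hn]
      have : -2 < n := by nlinarith
      have : n < 1 := by nlinarith
      omega
    · rw [← Finset.add_sum_erase _ _ h0] at hc
      refine eq_one_or_of_sum_sq_le_three (B := B.erase x₀) ?_ (Finset.mem_erase.2 ⟨h2, hx⟩) h
      have : 0 < c x₀ * c x₀ := mul_self_pos.2 (by omega)
      omega
  refine ⟨?_, h1⟩
  rw [sum_mul_eq_sum_filter_ne_zero, Finset.sum_congr rfl (g := fun _ => 1) fun x hx => by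
    obtain ⟨h2, h3⟩ := Finset.mem_filter.1 hx
    rcases h1 x h2 h3 with h | h <;> rw [h] <;> rfl, Finset.sum_const, nsmul_one] at hc
  exact_mod_cast hc

theorem tame_comb {κ : Type*} [DecidableEq κ] (T : Finset κ) {c : ι → ℤ} {u : κ → ι → ℤ}
    (hc : ∑ x ∈ B, c x * c x = 4) (hodd : ∃ x ∈ B, Odd (c x))
    (huu : ∀ i ∈ T, ∀ j ∈ T, ∑ x ∈ B, u i x * u j x = 2 + if i = j then 1 else 0)
    (huc : ∀ i ∈ T, ∑ x ∈ B, u i x * c x = 2) :
    ∃ y : κ → ι, (∀ i ∈ T, y i ∈ B ∧ c (y i) = 0 ∧ (u i (y i) = 1 ∨ u i (y i) = -1) ∧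
      ∀ x ∈ B, c x = 0 → x ≠ y i → u i x = 0) ∧
      (Set.InjOn y T ∨ (2 ≤ T.card ∧ T.card ≤ 6 ∧ ∀ i ∈ T, ∀ j ∈ T, y i = y j)) := by
  obtain ⟨h4, hc1⟩ := eq_one_or_of_sum_sq_eq_four hc hodd
  obtain ⟨x₀, -, -⟩ := hodd
  let π : κ → Finset ι := fun i => B.filter fun x => c x ≠ 0 ∧ u i x ≠ 0
  have key : ∀ i ∈ T, (π i).card = 2 ∧ (∀ x ∈ π i, u i x = c x) ∧ ∃ y ∈ B, c y = 0 ∧
      (u i y = 1 ∨ u i y = -1) ∧ ∀ x ∈ B, c x = 0 → x ≠ y → u i x = 0 := fun i hi => by
    have h1 := (huu i hi i hi).trans (show _ = ((3 : ℕ) : ℤ) by simp)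
    have h2 := card_filter_ne_zero_of_sum_sq h1 le_rfl
    have h3 := fun x hx => eq_one_or_of_sum_sq_le_three (x := x) h1.le hx
    have h5 : ∑ x ∈ π i, u i x * c x = 2 := by
      rw [← huc i hi]
      refine Finset.sum_subset (Finset.filter_subset _ _) fun x hx h => ?_
      by_contra h6
      exact h (Finset.mem_filter.2 ⟨hx, right_ne_zero_of_mul h6, left_ne_zero_of_mul h6⟩)
    have h6 : ∀ x ∈ π i, u i x * c x = 1 ∨ u i x * c x = -1 := fun x hx => by
      obtain ⟨h7, h8, h9⟩ := Finset.mem_filter.1 hx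
      rcases h3 x h7 h9 with a | a <;> rcases hc1 x h7 h8 with b | b <;> simp [a, b]
    have h7 : ∑ x ∈ π i, (1 - u i x * c x) = 2 * ((π i).filter fun x => u i x * c x = -1).card := by
      rw [← Finset.sum_filter_add_sum_filter_not _ fun x => u i x * c x = -1,
        Finset.sum_congr rfl (g := fun _ => 2) fun x hx => by rw [(Finset.mem_filter.1 hx).2]; rfl,
        Finset.sum_eq_zero (s := Finset.filter (fun x => ¬ u i x * c x = -1) _) fun x hx => by
          rw [(h6 x (Finset.mem_filter.1 hx).1).resolve_right (Finset.mem_filter.1 hx).2]; rfl]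
      simp [mul_comm]
    have h8 := Finset.card_filter_add_card_filter_not (s := B.filter fun x => u i x ≠ 0)
      fun x => c x ≠ 0
    rw [h2, Finset.filter_filter, Finset.filter_filter, show (B.filter fun x => u i x ≠ 0 ∧ c x ≠ 0)
      = π i from Finset.filter_congr fun _ _ => and_comm] at h8
    rw [Finset.sum_sub_distrib, h5, Finset.sum_const, nsmul_one] at h7
    have h9 : ((π i).filter fun x => u i x * c x = -1).card = 0 := by omega
    obtain ⟨y, hy⟩ := Finset.card_eq_one.1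
      (show (B.filter fun x => u i x ≠ 0 ∧ ¬ c x ≠ 0).card = 1 by omega)
    have h10 := Finset.mem_filter.1 (hy ▸ Finset.mem_singleton_self y)
    refine ⟨by omega, fun x hx => ?_, y, h10.1, not_not.1 h10.2.2, h3 y h10.1 h10.2.1,
      fun x hx h hxy => by_contra fun h11 => hxy (Finset.mem_singleton.1
        (hy ▸ Finset.mem_filter.2 ⟨hx, h11, not_not.2 h⟩))⟩
    have h11 := (h6 x hx).resolve_right fun h => Finset.card_ne_zero_of_mem
      (Finset.mem_filter.2 ⟨hx, h⟩) h9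
    obtain ⟨h12, h13, -⟩ := Finset.mem_filter.1 hx
    rcases hc1 x h12 h13 with a | a <;> rw [a] at h11 ⊢ <;> omega
  have : Nonempty ι := ⟨x₀⟩
  choose! hπ hu y hy using key
  have h5 : ∀ i ∈ T, ∀ j ∈ T, i ≠ j → ((π i ∩ π j).card : ℤ) + u i (y i) * u j (y i) = 2 := by
    intro i hi j hj hij
    have h6 := huu i hi j hj
    rw [if_neg hij, add_zero, ← Finset.sum_filter_add_sum_filter_not _ fun x => c x ≠ 0,
      Finset.sum_eq_single_of_mem (s := Finset.filter (fun x => ¬ c x ≠ 0) _) (y i)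
        (Finset.mem_filter.2 ⟨(hy i hi).1, not_not.2 (hy i hi).2.1⟩) fun x hx h => by
          rw [(hy i hi).2.2.2 x (Finset.mem_filter.1 hx).1 (not_not.1 (Finset.mem_filter.1 hx).2) h,
            zero_mul], ← Finset.sum_subset (s₁ := π i ∩ π j) (fun x hx => by
          obtain ⟨h7, h8, -⟩ := Finset.mem_filter.1 (Finset.mem_inter.1 hx).1
          exact Finset.mem_filter.2 ⟨h7, h8⟩) fun x hx h => by
          obtain ⟨h7, h8⟩ := Finset.mem_filter.1 hx
          by_contra h9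
          exact h (Finset.mem_inter.2 ⟨Finset.mem_filter.2 ⟨h7, h8, left_ne_zero_of_mul h9⟩,
            Finset.mem_filter.2 ⟨h7, h8, right_ne_zero_of_mul h9⟩⟩),
      Finset.sum_congr rfl (g := fun _ => 1) fun x hx => by
        obtain ⟨h7, h8⟩ := Finset.mem_inter.1 hx
        obtain ⟨h9, h10, -⟩ := Finset.mem_filter.1 h7
        rw [hu i hi x h7, hu j hj x h8]
        rcases hc1 x h9 h10 with a | a <;> rw [a] <;> rfl] at h6
    simpa using h6
  have h6 : ∀ i ∈ T, ∀ j ∈ T, y i ≠ y j → π i = π j := fun i hi j hj h => by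
    have h7 := h5 i hi j hj fun e => h (e ▸ rfl)
    rw [(hy j hj).2.2.2 _ (hy i hi).1 (hy i hi).2.1 h, mul_zero, add_zero] at h7
    exact (Finset.eq_of_subset_of_card_le Finset.inter_subset_left (by
      rw [hπ i hi]; omega)).symm.trans
      (Finset.eq_of_subset_of_card_le Finset.inter_subset_right (by rw [hπ j hj]; omega))
  have h7 : ∀ i ∈ T, ∀ j ∈ T, y i = y j → π i = π j → i = j := fun i hi j hj h h' => by
    by_contra hij
    have h8 := h5 i hi j hj hij
    rw [h', Finset.inter_self, hπ j hj] at h8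
    have h9 := (hy j hj).2.2.1
    rw [← h] at h9
    rcases (hy i hi).2.2.1 with a | a <;> rcases h9 with b | b <;> rw [a, b] at h8 <;> omega
  refine ⟨y, hy, or_iff_not_imp_left.2 fun h8 => ?_⟩
  simp only [Set.InjOn, not_forall] at h8
  obtain ⟨i, hi, j, hj, h8, hij⟩ := h8
  have h9 : ∀ l ∈ T, y l = y i := fun l hl => by_contra fun h =>
    hij (h7 i hi j hj h8 ((h6 l hl i hi h).symm.trans (h6 l hl j hj (h8 ▸ h))))
  refine ⟨Finset.one_lt_card.2 ⟨i, hi, j, hj, hij⟩, ?_, fun a ha b hb => (h9 a ha).trans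
    (h9 b hb).symm⟩
  have := Finset.card_le_card_of_injOn (t := (B.filter fun x => c x ≠ 0).powersetCard 2) π
    (fun a ha => Finset.mem_coe.2 (Finset.mem_powersetCard.2 ⟨fun x hx => by
      obtain ⟨h10, h11, -⟩ := Finset.mem_filter.1 hx
      exact Finset.mem_filter.2 ⟨h10, h11⟩, hπ a ha⟩))
    fun a ha b hb => h7 a ha b hb ((h9 a ha).trans (h9 b hb).symm)
  rwa [Finset.card_powersetCard, h4] at this

end comb

end Cfsg
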