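import Cfsg.Agent.Blk.Tame1
import Cfsg.Agent.Blk.TameComb

/-! Integral columns attached to a tame defect group. -/

set_option autoImplicit false

namespace Cfsg

open scoped ComplexConjugate

universe u v w

variable {T : Type u} [Group T] [Finite T] {σ τ : T} {m : ℕ} {k : ℤ}
  [Fintype (Subgroup.zpowers σ)]

open Classical in
/-- the generalized decomposition numbers on the cyclic subgroup of index two -/
structure TameCols (σ : T) (m : ℕ) (k : ℤ) {ι : Type v} (B : Finset ι)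
    (L : Subgroup.zpowers σ → Prop) (ρ : ι → Subgroup.zpowers σ → ℂ) (deg : ι → ℤ)
    (H : ι → Prop) : Prop where
  gen : ∀ χ, IsGeneralizedCharacter _ (ρ χ)
  inv : ∀ χ a, ρ χ (a ^ k) = ρ χ a
  gram : ∀ a b, L a → L b → ∑ χ ∈ B, ρ χ a * conj (ρ χ b) =
    2 * m * ((if b = a then 1 else 0) + if b = a ^ k then 1 else 0)
  deg_pos : ∀ χ ∈ B, 0 < deg χ
  orth : ∀ a, L a → ∑ χ ∈ B, ρ χ a * deg χ = 0
  odd : ∀ χ ∈ B, ∀ n : ℤ, ρ χ 1 = n → (H χ ↔ Odd n)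
  ex : ∃ χ ∈ B, H χ

open Classical in
theorem classInner_unitsHom {A : Type u} [Group A] [Fintype A] (l μ : A →* ℂˣ) :
    classInner (fun a => (l a : ℂ)) (fun a => μ a) = if l = μ then 1 else 0 := by
  refine ((IrrCharacter.ofHom l).classInner_eq (IrrCharacter.ofHom μ)).trans ?_
  simp only [IrrCharacter.ofHom_injective.eq_iff]

namespace IsTame
variable (h : IsTame σ τ m k)
include h

omit [Finite T] [Fintype (Subgroup.zpowers σ)] in
theorem hom_zpow_zpow (l : Subgroup.zpowers σ →* ℂˣ) : (l ^ k) ^ k = l :=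
  h.zpow_k_zpow_k (H := Subgroup.zpowers σ →* ℂˣ) (h.hom_pow_two_mul l)

omit [Finite T] [Fintype (Subgroup.zpowers σ)] in
theorem hom_zpow_eq_iff {s : Subgroup.zpowers σ →* ℂˣ} (hs : s ⟨σ, Subgroup.mem_zpowers σ⟩ = -1)
    (l : Subgroup.zpowers σ →* ℂˣ) : l ^ k = l ↔ l = 1 ∨ l = s := by
  refine (h.zpow_k_eq_iff (H := Subgroup.zpowers σ →* ℂˣ) (h.hom_pow_two_mul l)).trans ?_
  refine ⟨fun h1 => (_root_.mul_self_eq_one_iff (a := (l ⟨σ, Subgroup.mem_zpowers σ⟩ : ℂ))).1 (by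
    simpa using congrArg (fun f : _ →* ℂˣ => (f ⟨σ, Subgroup.mem_zpowers σ⟩ : ℂ)) h1) |>.imp
    (fun h2 => hom_ext (Units.ext h2)) fun h2 => hom_ext (Units.ext (by rw [h2, hs]; rfl)), ?_⟩
  rintro (rfl | rfl)
  · exact hom_ext (by simp)
  · exact hom_ext (by simp [hs])

omit [Finite T] [Fintype (Subgroup.zpowers σ)] in
theorem hom_z (l : Subgroup.zpowers σ →* ℂˣ) :
    (l ⟨σ ^ m, z_mem⟩ : ℂ) = 1 ∨ (l ⟨σ ^ m, z_mem⟩ : ℂ) = -1 :=
  _root_.mul_self_eq_one_iff.1 (by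
    rw [← Units.val_mul, ← map_mul, show (⟨σ ^ m, z_mem⟩ * ⟨σ ^ m, z_mem⟩ : Subgroup.zpowers σ) = 1
      from Subtype.ext h.z_mul_z, map_one, Units.val_one])

omit [Finite T] [Fintype (Subgroup.zpowers σ)] in
theorem hom_zpow_z (l : Subgroup.zpowers σ →* ℂˣ) :
    (l ^ k) ⟨σ ^ m, z_mem⟩ = l ⟨σ ^ m, z_mem⟩ := by
  rw [MonoidHom.zpow_apply, ← map_zpow]
  exact congrArg l (Subtype.ext h.z_zpow_k)

omit [Fintype (Subgroup.zpowers σ)] in
theorem coe_mul_self_eq_one_iff {a : Subgroup.zpowers σ} :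
    a * a = 1 ↔ a = 1 ∨ a = ⟨σ ^ m, z_mem⟩ := by
  simp only [Subtype.ext_iff]
  exact h.mul_self_eq_one_iff a.2

open Classical in
theorem sum_eq_add_add {A : Type*} [AddCommMonoid A] (F : Subgroup.zpowers σ → A) :
    ∑ a, F a = F 1 + F ⟨σ ^ m, z_mem⟩ + ∑ a with a * a ≠ 1, F a := by
  rw [← Finset.sum_filter_add_sum_filter_not _ fun a => a * a = 1, ← Finset.sum_pair
    fun h1 => h.z_ne_one (congrArg Subtype.val h1).symm]
  congr 2
  ext a
  simp [h.coe_mul_self_eq_one_iff]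

open Classical in
theorem sum_norm_sq_of_exc {ρ : Subgroup.zpowers σ → ℂ} {δ : ℤ} (hδ : δ = 1 ∨ δ = -1)
    {l : Subgroup.zpowers σ →* ℂˣ} (hl : l ^ k ≠ l)
    (hρ : ∀ a, a * a ≠ 1 → ρ a = δ * (l a + (l ^ k) a)) :
    ∑ a with a * a ≠ 1, ‖ρ a‖ ^ 2 = 4 * m - 8 := by
  have h1 := classInner_self_eq_ofReal ((fun a => (l a : ℂ)) + fun a => ((l ^ k) a : ℂ))
  rw [classInner_add_left, classInner_add_right, classInner_add_right, classInner_unitsHom,
    classInner_unitsHom, classInner_unitsHom, classInner_unitsHom, if_pos rfl, if_pos rfl,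
    if_neg hl, if_neg hl.symm, h.sum_eq_add_add, h.card_zpowers] at h1
  have h2 : (m : ℝ) ≠ 0 := Nat.cast_ne_zero.2 (by have := h.two_le; omega)
  have h3 : ‖(l ⟨σ ^ m, z_mem⟩ : ℂ) + l ⟨σ ^ m, z_mem⟩‖ = 2 := by
    rcases h.hom_z l with h4 | h4 <;> rw [h4] <;> norm_num
  simp only [Pi.add_apply, map_one, Units.val_one, h.hom_zpow_z, h3] at h1
  rw [Finset.sum_congr rfl fun a ha => show _ = ‖(l a : ℂ) + (l ^ k) a‖ ^ 2 by
    rw [hρ a (Finset.mem_filter.1 ha).2, norm_mul]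
    rcases hδ with rfl | rfl <;> simp]
  have h4 := Complex.ofReal_injective ((show ((2 : ℝ) : ℂ) = _ by push_cast; ring).trans h1)
  rw [show ‖(1 + 1 : ℂ)‖ = 2 by norm_num] at h4
  push_cast at h4
  field_simp at h4
  linarith

variable [Fintype (Subgroup.zpowers σ →* ℂˣ)]
omit [Fintype (Subgroup.zpowers σ)]

open Classical in
theorem sum_filter_hom_z {ε : ℂ} (hε : ε = 1 ∨ ε = -1) (a : Subgroup.zpowers σ) :
    2 * ∑ l : Subgroup.zpowers σ →* ℂˣ with (l ⟨σ ^ m, z_mem⟩ : ℂ) = ε, (l a : ℂ) =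
      2 * m * ((if a = 1 then 1 else 0) + if a = ⟨σ ^ m, z_mem⟩ then ε else 0) := by
  have h1 : a * ⟨σ ^ m, z_mem⟩ = 1 ↔ a = ⟨σ ^ m, z_mem⟩ := by
    rw [mul_eq_one_iff_eq_inv, inv_eq_of_mul_eq_one_right
      (b := ⟨σ ^ m, z_mem⟩) (Subtype.ext h.z_mul_z)]
  have h2 := sum_unitsHom_apply a
  have h3 := sum_unitsHom_apply (a * ⟨σ ^ m, z_mem⟩)
  rw [h.card_zpowers] at h2 h3
  rw [Finset.sum_filter, Finset.mul_sum, Finset.sum_congr rfl fun l _ =>
    show _ = (l a : ℂ) + ε * l (a * ⟨σ ^ m, z_mem⟩) by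
      rw [map_mul, Units.val_mul]
      rcases h.hom_z l with h4 | h4 <;> rcases hε with rfl | rfl <;> rw [h4] <;> norm_num <;> ring,
    Finset.sum_add_distrib, ← Finset.mul_sum, h2, h3]
  simp only [h1]
  push_cast
  split_ifs <;> ring

open Classical in
theorem card_filter_hom_z {ε : ℂ} (hε : ε = 1 ∨ ε = -1) :
    (Finset.univ.filter fun l : Subgroup.zpowers σ →* ℂˣ =>
      (l ⟨σ ^ m, z_mem⟩ : ℂ) = ε).card = m := by
  have h1 := h.sum_filter_hom_z hε 1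
  rw [if_pos rfl, if_neg fun h2 => h.z_ne_one (congrArg Subtype.val h2).symm] at h1
  simp only [map_one, Units.val_one, Finset.sum_const, nsmul_one, add_zero, mul_one] at h1
  exact_mod_cast mul_left_cancel₀ two_ne_zero h1

open Classical in
theorem sum_filter_hom_z_eq_zero {ε : ℂ} (hε : ε = 1 ∨ ε = -1) {a : Subgroup.zpowers σ}
    (ha : a * a ≠ 1) :
    ∑ l : Subgroup.zpowers σ →* ℂˣ with (l ⟨σ ^ m, z_mem⟩ : ℂ) = ε, (l a : ℂ) = 0 := by
  have h1 := h.sum_filter_hom_z hε a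
  rw [Ne, h.coe_mul_self_eq_one_iff, not_or] at ha
  rw [if_neg ha.1, if_neg ha.2, add_zero, mul_zero] at h1
  exact (mul_eq_zero.1 h1).resolve_left two_ne_zero

end IsTame

namespace TameCols
variable {ι : Type v} {B : Finset ι} {L : Subgroup.zpowers σ → Prop}
  {ρ : ι → Subgroup.zpowers σ → ℂ} {deg : ι → ℤ} {H : ι → Prop} (C : TameCols σ m k B L ρ deg H)

/-- the Fourier coefficients -/
noncomputable def co (χ : ι) (l : Subgroup.zpowers σ →* ℂˣ) : ℤ :=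
  Classical.choose ((C.gen χ).exists_classInner_eq_int
    (isCharacter_unitsHom l).isGeneralizedCharacter)

omit [Finite T] in
theorem cast_co (χ : ι) (l : Subgroup.zpowers σ →* ℂˣ) :
    (C.co χ l : ℂ) = classInner (ρ χ) fun a => l a :=
  (Classical.choose_spec ((C.gen χ).exists_classInner_eq_int
    (isCharacter_unitsHom l).isGeneralizedCharacter)).symm

omit [Finite T] in
theorem eq_sum [Fintype (Subgroup.zpowers σ →* ℂˣ)] (χ : ι) (a : Subgroup.zpowers σ) :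
    ρ χ a = ∑ l, C.co χ l * (l a : ℂ) := by
  rw [(C.gen χ).isClassFunction.eq_sum_irr, ← (IrrCharacter.equivHomOfComm _).sum_comp]
  exact Finset.sum_congr rfl fun l _ => by rw [C.cast_co]; rfl

omit [Finite T] in
theorem co_eq_zero {χ : ι} {z : Subgroup.zpowers σ} {ε : ℂ} (h : ∀ a, ρ χ (z * a) = ε * ρ χ a)
    {l : Subgroup.zpowers σ →* ℂˣ} (hl : (l z : ℂ) ≠ ε) : C.co χ l = 0 := by
  have h1 := classInner_mul_center_irr (ρ χ) (IrrCharacter.ofHom l) (z := z)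
    (Subgroup.mem_center_iff.2 fun _ => mul_comm' _ _)
  simp only [h, classInner_const_mul_left, IrrCharacter.ofHom_apply, map_one, Units.val_one,
    div_one] at h1
  exact_mod_cast (C.cast_co χ l).trans ((mul_eq_mul_right_iff.1 h1).resolve_left hl.symm)

omit [Finite T] in
theorem orth_sub {l μ : Subgroup.zpowers σ →* ℂˣ} (hl : ∀ a, ¬ L a → l a = μ a) :
    ∑ χ ∈ B, (C.co χ l - C.co χ μ) * deg χ = 0 := by
  apply Int.cast_injective (α := ℂ)
  push_cast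
  simp only [C.cast_co, ← classInner_sub_right]
  simp only [classInner_def, Finset.mul_sum, Finset.sum_mul]
  rw [Finset.sum_comm]
  refine Finset.sum_eq_zero fun a _ => ?_
  by_cases ha : L a
  · simp only [mul_assoc, mul_comm (conj _), ← Finset.mul_sum]
    simp only [← mul_assoc, ← Finset.sum_mul, C.orth a ha, zero_mul, mul_zero]
  · simp [hl a ha]

variable (h : IsTame σ τ m k)
include h

omit [Finite T] in
theorem co_zpow (χ : ι) (l : Subgroup.zpowers σ →* ℂˣ) : C.co χ (l ^ k) = C.co χ l := by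
  apply Int.cast_injective (α := ℂ)
  rw [C.cast_co, C.cast_co, classInner_def, classInner_def, ← Equiv.sum_comp
    (Function.Involutive.toPerm (· ^ k)
      fun a => Subtype.ext (h.zpow_k_zpow_k (h.pow_two_mul a.2)))
      fun a => ρ χ a * conj (l a : ℂ)]
  congr 1
  refine Finset.sum_congr rfl fun a _ => ?_
  change _ = ρ χ (a ^ k) * conj (l (a ^ k) : ℂ)
  rw [C.inv, map_zpow]
  rfl

open Classical in
omit [Finite T] in
theorem gram_sub {l μ l' μ' : Subgroup.zpowers σ →* ℂˣ} (hl : ∀ a, ¬ L a → l a = μ a)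
    (hl' : ∀ a, ¬ L a → l' a = μ' a) :
    ∑ χ ∈ B, (C.co χ l - C.co χ μ) * (C.co χ l' - C.co χ μ') =
      ((if l' = l then 1 else 0) - (if l' = μ then 1 else 0) -
        ((if μ' = l then 1 else 0) - if μ' = μ then 1 else 0)) +
      ((if l' ^ k = l then 1 else 0) - (if l' ^ k = μ then 1 else 0) -
        ((if μ' ^ k = l then 1 else 0) - if μ' ^ k = μ then 1 else 0)) := by
  apply Int.cast_injective (α := ℂ)
  set f : _ → ℂ := (fun a => (l a : ℂ)) - fun a => (μ a : ℂ) with hf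
  set g : _ → ℂ := (fun a => (l' a : ℂ)) - fun a => (μ' a : ℂ) with hg
  have h1 : ∑ χ ∈ B, classInner (ρ χ) f * conj (classInner (ρ χ) g) =
      classInner g f + classInner (fun a => g (a ^ k)) f := by
    have h2 : ((2 * m : ℕ) : ℂ) ≠ 0 := Nat.cast_ne_zero.2 (by have := h.two_le; omega)
    have h3 : ∀ a b, ∑ χ ∈ B, ρ χ a * conj (f a) * (conj (ρ χ b) * g b) = conj (f a) * g b *
        (2 * m * ((if b = a then 1 else 0) + if b = a ^ k then 1 else 0)) := fun a b => by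
      by_cases ha : L a
      · by_cases hb : L b
        · rw [← C.gram a b ha hb, Finset.mul_sum]
          exact Finset.sum_congr rfl fun _ _ => by ring
        · simp [hg, hl' b hb]
      · simp [hf, hl a ha]
    simp only [classInner_def, map_mul, map_sum, Complex.conj_conj, map_inv₀, Complex.conj_natCast,
      mul_mul_mul_comm ((Nat.card _ : ℂ)⁻¹), Finset.sum_mul_sum]
    rw [← Finset.mul_sum, Finset.sum_comm, Finset.sum_congr rfl fun a _ => Finset.sum_comm, ← mul_add,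
      ← Finset.sum_add_distrib, h.card_zpowers, mul_assoc, Finset.mul_sum]
    congr 1
    refine Finset.sum_congr rfl fun a _ => ?_
    simp only [h3, mul_add, mul_ite, mul_one, mul_zero, Finset.sum_add_distrib, Finset.sum_ite_eq',
      Finset.mem_univ, if_true]
    push_cast at h2 ⊢
    have : (m : ℂ) ≠ 0 := right_ne_zero_of_mul h2
    field_simp
  have h2 : (fun a => g (a ^ k)) = (fun a => ((l' ^ k) a : ℂ)) - fun a => ((μ' ^ k) a : ℂ) := by
    funext a; simp [hg]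
  rw [h2, hf, hg] at h1
  simp only [classInner_sub_left, classInner_sub_right, classInner_unitsHom, ← C.cast_co, map_sub,
    map_intCast] at h1
  push_cast
  rw [h1]
  ring

variable [Fintype (Subgroup.zpowers σ →* ℂˣ)] {s : Subgroup.zpowers σ →* ℂˣ}
  (hs : s ⟨σ, Subgroup.mem_zpowers σ⟩ = -1)
include hs

omit C h [Finite T] [Fintype (Subgroup.zpowers σ)] [Fintype (Subgroup.zpowers σ →* ℂˣ)] in
theorem ne_one_of_neg : s ≠ 1 := fun h1 => by
  have := congrArg (fun x : ℂˣ => (x : ℂ)) hs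
  norm_num [h1] at this

open Classical in
omit C [Finite T] [Fintype (Subgroup.zpowers σ)] [Fintype (Subgroup.zpowers σ →* ℂˣ)] in
theorem exists_transversal {E : Finset (Subgroup.zpowers σ →* ℂˣ)} (h1 : 1 ∈ E) (hsE : s ∈ E)
    (hk : ∀ l ∈ E, l ^ k ∈ E) : ∃ t ⊆ E, (∀ l ∈ t, l ≠ 1 ∧ l ≠ s ∧ l ^ k ∉ t) ∧
      2 * t.card + 2 = E.card ∧ ∀ {A : Type} [AddCommMonoid A] (F : _ → A),
        ∑ l ∈ E, F l = F 1 + F s + ∑ l ∈ t, (F l + F (l ^ k)) := by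
  have h2 : ∀ l, l ∈ (E.erase 1).erase s ↔ l ∈ E ∧ l ^ k ≠ l := fun l => by
    simp only [Finset.mem_erase, Ne, h.hom_zpow_eq_iff hs]; tauto
  obtain ⟨t, ht, h3, -, h4⟩ := exists_half_of_involutive ((E.erase 1).erase s) (· ^ k)
    (fun l hl => (h2 _).2 ⟨hk l ((h2 l).1 hl).1, by
      rw [h.hom_zpow_zpow]; exact ((h2 l).1 hl).2.symm⟩) (fun l _ => h.hom_zpow_zpow l)
    fun l hl => ((h2 l).1 hl).2
  have h5 : ∀ {A : Type} [AddCommMonoid A] (F : _ → A),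
      ∑ l ∈ E, F l = F 1 + F s + ∑ l ∈ t, (F l + F (l ^ k)) := fun F => by
    rw [← h4 F, add_assoc, Finset.add_sum_erase _ _ (Finset.mem_erase.2 ⟨ne_one_of_neg hs, hsE⟩),
      Finset.add_sum_erase _ _ h1]
  refine ⟨t, fun l hl => ((h2 l).1 (ht hl)).1, fun l hl => ⟨?_, ?_, h3 l hl⟩, ?_, h5⟩
  · exact (Finset.mem_erase.1 (Finset.mem_erase.1 (ht hl)).2).1
  · exact (Finset.mem_erase.1 (ht hl)).1
  · have := h5 fun _ => (1 : ℕ)
    simp only [Finset.sum_const, smul_eq_mul] at this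
    omega

omit [Finite T] in
theorem iff_odd {χ : ι} (hχ : χ ∈ B) : H χ ↔ Odd (C.co χ s - C.co χ 1) := by
  obtain ⟨t, -, -, -, h1⟩ := exists_transversal h hs (E := Finset.univ) (Finset.mem_univ _)
    (Finset.mem_univ _) fun _ _ => Finset.mem_univ _
  rw [C.odd χ hχ (∑ l, C.co χ l) (by simp [C.eq_sum]), h1, Finset.sum_add_distrib]
  simp only [C.co_zpow h, Int.odd_iff]
  omega

open Classical in
omit [Finite T] [Fintype (Subgroup.zpowers σ →* ℂˣ)] in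
theorem even_part [Finite (Subgroup.zpowers σ →* ℂˣ)] {E : Finset (Subgroup.zpowers σ →* ℂˣ)}
    (h1 : 1 ∈ E) (hsE : s ∈ E)
    (hk : ∀ l ∈ E, l ^ k ∈ E) (hL : ∀ l ∈ E, ∀ a, ¬ L a → l a = 1) :
    (B.filter H).card = 4 ∧ (∀ x ∈ B, H x ↔ C.co x s ≠ C.co x 1) ∧ ∃ Y ⊆ B,
      (∀ x ∈ Y, ¬ H x ∧ ∃ l ∈ E, C.co x l ≠ C.co x 1 ∧
        ∀ x' ∈ B, ¬ H x' → x' ≠ x → C.co x' l = C.co x' 1) ∧
      (∀ x ∈ B, ¬ H x → x ∉ Y → ∀ l ∈ E, C.co x l = C.co x 1) ∧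
      ((2 * Y.card + 2 = E.card ∧ ∀ x ∈ Y, ∃ δ : ℤ, (δ = 1 ∨ δ = -1) ∧
        ∃ i : Subgroup.zpowers σ →* ℂˣ, i ^ k ≠ i ∧
          ∀ a, ∑ l ∈ E, (C.co x l - C.co x 1 : ℂ) * l a = δ * (i a + (i ^ k) a)) ∨
        (6 ≤ E.card ∧ E.card ≤ 14 ∧ Y.card = 1)) := by
  have := Fintype.ofFinite (Subgroup.zpowers σ →* ℂˣ)
  obtain ⟨t, ht, h2, h3, h4⟩ := exists_transversal h hs h1 hsE hk
  have hs1 := ne_one_of_neg hs
  have hsk : s ^ k = s := (h.hom_zpow_eq_iff hs s).2 (Or.inr rfl)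
  have h1k : (1 : Subgroup.zpowers σ →* ℂˣ) ^ k = 1 := (h.hom_zpow_eq_iff hs 1).2 (Or.inl rfl)
  have hk1 : ∀ l ∈ t, l ^ k ≠ 1 := fun l hl e => (h2 l hl).1 (by
    rw [← h.hom_zpow_zpow l, e, h1k])
  have hc : ∑ x ∈ B, (C.co x s - C.co x 1) * (C.co x s - C.co x 1) = 4 := by
    rw [C.gram_sub h (hL s hsE) (hL s hsE)]
    simp [hsk, h1k, hs1, hs1.symm]
  have hodd : ∃ x ∈ B, Odd (C.co x s - C.co x 1) :=
    C.ex.imp fun x hx => ⟨hx.1, (C.iff_odd h hs hx.1).1 hx.2⟩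
  obtain ⟨h5, h6⟩ := eq_one_or_of_sum_sq_eq_four hc hodd
  have h7 : ∀ x ∈ B, H x ↔ C.co x s - C.co x 1 ≠ 0 := fun x hx => by
    rw [C.iff_odd h hs hx]
    refine ⟨fun h8 h9 => by simp [h9] at h8, fun h8 => ?_⟩
    rcases h6 x hx h8 with h9 | h9 <;> rw [h9] <;> decide
  obtain ⟨y, hy, h8⟩ := tame_comb (u := fun l x => C.co x l - C.co x 1) t hc hodd
    (fun i hi j hj => by
      rw [C.gram_sub h (hL i (ht hi)) (hL j (ht hj))]
      have : j ^ k ≠ i := fun e => (h2 j hj).2.2 (e ▸ hi)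
      simp [this, h1k, (h2 i hi).1.symm, (h2 j hj).1, hk1 j hj, eq_comm (a := i)]
      ring)
    fun i hi => by
      rw [C.gram_sub h (hL i (ht hi)) (hL s hsE)]
      simp [hsk, h1k, hs1, (h2 i hi).1.symm, (h2 i hi).2.1.symm]
  have h9 : ∀ x ∈ B, ¬ H x → C.co x s - C.co x 1 = 0 := fun x hx h9 =>
    by_contra fun h10 => h9 ((h7 x hx).2 h10)
  refine ⟨by rw [← h5]; exact congrArg _ (Finset.filter_congr h7),
    fun x hx => by rw [h7 x hx, sub_ne_zero], t.image y, fun x hx => ?_, fun x hx => ?_,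
    fun x hx h10 h11 l hl => ?_, h8.imp (fun h10 => ⟨?_, fun x hx => ?_⟩) fun h10 => ⟨?_, ?_, ?_⟩⟩
  · obtain ⟨i, hi, rfl⟩ := Finset.mem_image.1 hx
    exact (hy i hi).1
  · obtain ⟨i, hi, rfl⟩ := Finset.mem_image.1 hx
    obtain ⟨a1, a2, a3, a4⟩ := hy i hi
    exact ⟨fun h10 => (h7 _ a1).1 h10 a2, i, ht hi, by omega,
      fun x' hx' h10 h11 => sub_eq_zero.1 (a4 x' hx' (h9 x' hx' h10) h11)⟩
  · have h12 := h4 fun l => (C.co x l - C.co x 1) ^ 2
    rw [Finset.sum_eq_zero (s := t) fun i hi => by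
      rw [C.co_zpow h, (hy i hi).2.2.2 x hx (h9 x hx h10)
        fun e => h11 (e ▸ Finset.mem_image_of_mem _ hi)]; rfl, h9 x hx h10] at h12
    simp only [sub_self, ne_eq, OfNat.ofNat_ne_zero, not_false_eq_true, zero_pow, add_zero] at h12
    exact sub_eq_zero.1 (pow_eq_zero_iff two_ne_zero |>.1
      ((Finset.sum_eq_zero_iff_of_nonneg fun _ _ => sq_nonneg _).1 h12 l hl))
  · rw [Finset.card_image_of_injOn h10, h3]
  · obtain ⟨i, hi, rfl⟩ := Finset.mem_image.1 hx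
    obtain ⟨a1, a2, a3, -⟩ := hy i hi
    refine ⟨_, a3, i, fun e => (h2 i hi).2.2 (e.symm ▸ hi), fun a => ?_⟩
    rw [h4, Finset.sum_eq_single_of_mem i hi fun j hj hji => by
      have := (hy j hj).2.2.2 _ a1 a2 fun e => hji (h10 hj hi e.symm)
      rw [C.co_zpow h, sub_eq_zero.1 this]; simp, C.co_zpow h, sub_eq_zero.1 a2]
    push_cast
    ring
  · omega
  · omega
  · obtain ⟨i, hi⟩ := Finset.card_pos.1 (show 0 < t.card by omega)
    exact Finset.card_eq_one.2 ⟨y i, Finset.eq_singleton_iff_unique_mem.2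
      ⟨Finset.mem_image_of_mem _ hi, fun x hx => by
        obtain ⟨j, hj, rfl⟩ := Finset.mem_image.1 hx
        exact h10.2.2 j hj i hi⟩⟩

open Classical in
theorem odd_part (hL : ∀ a, ¬ L a → a = 1 ∨ a = ⟨σ ^ m, IsTame.z_mem⟩) :
    ∃ Y ⊆ B, Y.card = (if m = 2 then 0 else m / 2) ∧
      (∀ x ∈ B, x ∉ Y → ∀ a, a * a ≠ 1 → ∑ l : Subgroup.zpowers σ →* ℂˣ with
        (l ⟨σ ^ m, IsTame.z_mem⟩ : ℂ) = -1, (C.co x l : ℂ) * l a = 0) ∧
      (∀ x ∈ Y, ∃ δ : ℤ, (δ = 1 ∨ δ = -1) ∧ ∃ i : Subgroup.zpowers σ →* ℂˣ, i ^ k ≠ i ∧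
        ∀ a, a * a ≠ 1 → ∑ l : Subgroup.zpowers σ →* ℂˣ with
          (l ⟨σ ^ m, IsTame.z_mem⟩ : ℂ) = -1, (C.co x l : ℂ) * l a = δ * (i a + (i ^ k) a)) ∧
      (∀ x ∈ Y, ∃ l : Subgroup.zpowers σ →* ℂˣ, (l ⟨σ ^ m, IsTame.z_mem⟩ : ℂ) = -1 ∧
        C.co x l ≠ 0) ∧
      ∀ x ∈ Y, ∀ x' ∈ Y, ∀ l : Subgroup.zpowers σ →* ℂˣ, (l ⟨σ ^ m, IsTame.z_mem⟩ : ℂ) = 1 →
        C.co x l - C.co x 1 = C.co x' l - C.co x' 1 := by
  set z : Subgroup.zpowers σ := ⟨σ ^ m, IsTame.z_mem⟩ with hz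
  have hne : ∀ {l μ : Subgroup.zpowers σ →* ℂˣ}, (l z : ℂ) = -1 → (μ z : ℂ) = 1 → l ≠ μ :=
    fun h1 h2 e => by rw [e, h2] at h1; norm_num at h1
  have hsz : (s z : ℂ) = 1 := by
    obtain ⟨n, hn⟩ := h.two_dvd
    rw [show z = ⟨σ, Subgroup.mem_zpowers σ⟩ ^ m from rfl, map_pow, hs, hn, pow_mul]; simp
  have hO : ∀ l, l ∈ (Finset.univ.filter fun l : Subgroup.zpowers σ →* ℂˣ => (l z : ℂ) = -1) ↔
    (l z : ℂ) = -1 := by simp
  obtain ⟨t, ht, h2, h3, h4⟩ := exists_half_of_involutive (Finset.univ.filter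
    fun l : Subgroup.zpowers σ →* ℂˣ => (l z : ℂ) = -1) (· ^ k)
    (fun l hl => (hO _).2 (by rw [h.hom_zpow_z]; exact (hO _).1 hl)) (fun l _ => h.hom_zpow_zpow l)
    fun l hl e => ((h.hom_zpow_eq_iff hs l).1 e).elim (hne ((hO _).1 hl) (by simp))
      (hne ((hO _).1 hl) hsz)
  rw [h.card_filter_hom_z (Or.inr rfl)] at h3
  have h5 : ∀ a, a * a ≠ 1 → ∑ l ∈ t, ((l a : ℂ) + (l ^ k) a) = 0 := fun a ha => by
    rw [← h4 fun l => (l a : ℂ), h.sum_filter_hom_z_eq_zero (Or.inr rfl) ha]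
  have hag : ∀ {l μ : Subgroup.zpowers σ →* ℂˣ} {ε : ℂ}, (l z : ℂ) = ε → (μ z : ℂ) = ε →
      ∀ a, ¬ L a → l a = μ a := fun h1 h2 a ha => by
    rcases hL a ha with rfl | rfl
    · simp
    · exact Units.ext (h1.trans h2.symm)
  by_cases hm : m = 2
  · refine ⟨∅, by simp, by simp [hm], fun x _ _ a ha => ?_, by simp, by simp, by simp⟩
    obtain ⟨i, rfl⟩ := Finset.card_eq_one.1 (show t.card = 1 by omega)
    have := h5 a ha
    rw [Finset.sum_singleton] at this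
    rw [h4, Finset.sum_singleton, C.co_zpow h, ← mul_add, this, mul_zero]
  have : Nontrivial t := Fintype.one_lt_card_iff_nontrivial.1 (by
    have := h.eq_two_or; have := h.two_le; rw [Fintype.card_coe]; omega)
  have ho : ∀ i : t, (i.1 z : ℂ) = -1 := fun i => (hO _).1 (ht i.2)
  have hkk : ∀ i j : t, i.1 ^ k ≠ j.1 := fun i j e => h2 i i.2 (by
    rw [e]; exact j.2)
  obtain ⟨δ, hδ, y, hy, hyB, w, hw⟩ := exists_exc_of_gram_sub (κ := t) C.deg_pos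
    (c := fun i x => C.co x i) (fun i j l hj hl => by
      rw [C.gram_sub h (hag (ho i) (ho j)) (hag (ho i) (ho l))]
      simp [hkk, hj.symm, hl, eq_comm (a := j)])
    fun i j => C.orth_sub (hag (ho i) (ho j))
  have h6 : ∀ x ∈ B, ∀ a, a * a ≠ 1 → ∑ l : Subgroup.zpowers σ →* ℂˣ with (l z : ℂ) = -1,
      (C.co x l : ℂ) * l a = ∑ i : t, if x = y i then δ * ((i.1 a : ℂ) + (i.1 ^ k) a) else 0 :=
    fun x hx a ha => by
      have h7 := congrArg ((w x : ℂ) * ·) (h5 a ha)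
      simp only [mul_zero] at h7
      rw [← Finset.sum_coe_sort, Finset.mul_sum] at h7
      rw [h4, ← Finset.sum_coe_sort]
      refine (sub_zero _).symm.trans ((congrArg (_ - ·) h7.symm).trans ?_)
      rw [← Finset.sum_sub_distrib]
      refine Finset.sum_congr rfl fun i _ => ?_
      rw [C.co_zpow h, hw i x hx]
      split_ifs <;> push_cast <;> ring
  have hδ0 : δ ≠ 0 := by omega
  refine ⟨Finset.univ.image y, fun x hx => ?_, ?_, fun x hx h7 a ha => ?_, fun x hx => ?_,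
    fun x hx => ?_, fun x hx x' hx' l hl => ?_⟩
  · obtain ⟨i, -, rfl⟩ := Finset.mem_image.1 hx
    exact hyB i
  · rw [Finset.card_image_of_injective _ hy, if_neg hm, Finset.card_univ, Fintype.card_coe]
    omega
  · rw [h6 x hx a ha]
    exact Finset.sum_eq_zero fun i _ => if_neg fun e => h7 (Finset.mem_image.2
      ⟨i, Finset.mem_univ i, e.symm⟩)
  · obtain ⟨i, -, rfl⟩ := Finset.mem_image.1 hx
    refine ⟨δ, hδ, i, hkk i i, fun a ha => ?_⟩
    simp only [h6 _ (hyB i) a ha, hy.eq_iff, Finset.sum_ite_eq, Finset.mem_univ, if_true]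
  · obtain ⟨i, -, rfl⟩ := Finset.mem_image.1 hx
    obtain ⟨j, hj⟩ := exists_ne i
    have h7 := hw i _ (hyB i)
    have h8 := hw j _ (hyB i)
    rw [if_pos rfl] at h7
    rw [if_neg (hy.ne hj.symm)] at h8
    by_cases h9 : C.co (y i) i = 0
    · exact ⟨j, ho j, by omega⟩
    · exact ⟨i, ho i, h9⟩
  · obtain ⟨i, -, rfl⟩ := Finset.mem_image.1 hx
    obtain ⟨j, -, rfl⟩ := Finset.mem_image.1 hx'
    have h7 := C.gram_sub h (hag (ho i) (ho j)) (hag hl (μ := 1) (by simp))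
    have h8 : ((l ^ k) z : ℂ) = 1 := by rw [h.hom_zpow_z, hl]
    have h9 : (1 : Subgroup.zpowers σ →* ℂˣ) ^ k = 1 := (h.hom_zpow_eq_iff hs 1).2 (Or.inl rfl)
    rw [h9, if_neg (hne (ho i) hl).symm, if_neg (hne (ho j) hl).symm, if_neg (hne (ho i) h8).symm,
      if_neg (hne (ho j) h8).symm, if_neg (hne (ho i) (by simp)).symm,
      if_neg (hne (ho j) (by simp)).symm, Finset.sum_congr rfl fun x hx => by
        rw [hw i x hx, hw j x hx, add_sub_add_left_eq_sub, sub_mul]] at h7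
    simp only [Finset.sum_sub_distrib, ite_mul, zero_mul, Finset.sum_ite_eq', hyB, if_true,
      sub_self, add_zero] at h7
    exact mul_left_cancel₀ hδ0 (sub_eq_zero.1 h7)

omit hs C [Fintype (Subgroup.zpowers σ →* ℂˣ)] in
open Classical in
theorem level_one (C : TameCols σ m k B (· ≠ 1) ρ deg H) :
    (B.filter H).card = 4 ∧ ∃ Y ⊆ B, (∀ x ∈ Y, ¬ H x) ∧
      (∀ x ∈ B, ¬ H x → x ∉ Y → ∀ a ≠ 1, ρ x a = 0) ∧
      ((Y.card + 1 = m ∧ ∀ x ∈ Y, ∑ a with a * a ≠ 1, ‖ρ x a‖ ^ 2 = 4 * m - 8) ∨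
        (m = 4 ∧ Y.card = 1)) := by
  have : Fintype (Subgroup.zpowers σ →* ℂˣ) :=
    Fintype.ofEquiv _ (IrrCharacter.equivHomOfComm _).symm
  obtain ⟨s, hs⟩ := h.exists_hom_zpowers (ζ := -1) (by simp [pow_mul])
  obtain ⟨h1, -, Y, h2, h3, h4, h5⟩ := C.even_part h hs (E := Finset.univ) (Finset.mem_univ _)
    (Finset.mem_univ _) (fun _ _ => Finset.mem_univ _) fun l _ a ha => by simp [not_not.1 ha]
  have h6 : ∀ x, ∀ a ≠ 1, ρ x a = ∑ l, (C.co x l - C.co x 1 : ℂ) * l a := fun x a ha => by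
    simp only [C.eq_sum, sub_mul, Finset.sum_sub_distrib, ← Finset.mul_sum, sum_unitsHom_apply,
      if_neg ha, mul_zero, sub_zero]
  have h7 : (Finset.univ : Finset (Subgroup.zpowers σ →* ℂˣ)).card = 2 * m := by
    have := sum_unitsHom_apply (1 : Subgroup.zpowers σ)
    simp only [map_one, Units.val_one, Finset.sum_const, nsmul_one, if_true, h.card_zpowers] at this
    exact_mod_cast this
  rw [h7] at h5
  refine ⟨h1, Y, h2, fun x hx => (h3 x hx).1, fun x hx h8 h9 a ha => ?_,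
    h5.imp (fun h8 => ⟨by omega, fun x hx => ?_⟩) fun h8 => ⟨by have := h.eq_two_or; omega, h8.2.2⟩⟩
  · rw [h6 x a ha]
    exact Finset.sum_eq_zero fun l hl => by rw [h4 x hx h8 h9 l hl, sub_self, zero_mul]
  · obtain ⟨δ, hδ, i, hi, h9⟩ := h8.2 x hx
    exact h.sum_norm_sq_of_exc hδ hi fun a ha => by
      rw [h6 x a fun e => ha (by rw [e, mul_one]), h9]

omit hs C [Fintype (Subgroup.zpowers σ →* ℂˣ)] in
open Classical in
theorem level_two (C : TameCols σ m k B (fun a => a * a ≠ 1) ρ deg H) :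
    (B.filter H).card = 4 ∧ ∃ Ye ⊆ B, ∃ Yo ⊆ B, (∀ x ∈ Ye, ¬ H x) ∧ Disjoint Ye Yo ∧
      (∀ x ∈ B, ¬ H x → x ∉ Ye → x ∉ Yo → ∀ a, a * a ≠ 1 → ρ x a = 0) ∧
      (∀ x ∈ B, H x ∨ x ∈ Ye → ¬ ∀ a, ρ x (⟨σ ^ m, IsTame.z_mem⟩ * a) = -1 * ρ x a) ∧
      (∀ x ∈ Yo, ¬ ∀ a, ρ x (⟨σ ^ m, IsTame.z_mem⟩ * a) = 1 * ρ x a) ∧
      Yo.card = (if m = 2 then 0 else m / 2) ∧
      (∀ x ∈ Yo, ¬ H x → ∑ a with a * a ≠ 1, ‖ρ x a‖ ^ 2 = 4 * m - 8) ∧
      ((∀ x ∈ Yo, ¬ H x) ∨ (m = 4 ∧ ∀ x ∈ Yo, H x)) ∧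
      ((2 * Ye.card + 2 = m ∧ ∀ x ∈ Ye, ∑ a with a * a ≠ 1, ‖ρ x a‖ ^ 2 = 4 * m - 8) ∨
        (m = 8 ∧ Ye.card = 1)) := by
  have : Fintype (Subgroup.zpowers σ →* ℂˣ) :=
    Fintype.ofEquiv _ (IrrCharacter.equivHomOfComm _).symm
  obtain ⟨s, hs⟩ := h.exists_hom_zpowers (ζ := -1) (by simp [pow_mul])
  set z : Subgroup.zpowers σ := ⟨σ ^ m, IsTame.z_mem⟩ with hz
  have hsz : (s z : ℂ) = 1 := by
    obtain ⟨n, hn⟩ := h.two_dvd
    rw [show z = ⟨σ, Subgroup.mem_zpowers σ⟩ ^ m from rfl, map_pow, hs, hn, pow_mul]; simp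
  have hE : ∀ l, l ∈ (Finset.univ.filter fun l : Subgroup.zpowers σ →* ℂˣ => (l z : ℂ) = 1) ↔
    (l z : ℂ) = 1 := by simp
  have hL : ∀ a : Subgroup.zpowers σ, ¬ a * a ≠ 1 → a = 1 ∨ a = z := fun a ha =>
    h.coe_mul_self_eq_one_iff.1 (not_not.1 ha)
  have hL' : ∀ l : Subgroup.zpowers σ →* ℂˣ, (l z : ℂ) = 1 → ∀ a, ¬ a * a ≠ 1 → l a = 1 :=
    fun l hl a ha => by
      rcases hL a ha with rfl | rfl
      · simp
      · exact Units.ext hl
  obtain ⟨h1, h1', Ye, h2, h3, h4, h5⟩ := C.even_part h hs ((hE 1).2 (by simp)) ((hE s).2 hsz)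
    (fun l hl => (hE _).2 (by rw [h.hom_zpow_z]; exact (hE _).1 hl))
    fun l hl => hL' l ((hE l).1 hl)
  obtain ⟨Yo, g2, g3, g4, g5, g6, g7⟩ := C.odd_part h hs hL
  rw [h.card_filter_hom_z (Or.inl rfl)] at h5
  have h6 : ∀ x a, a * a ≠ 1 → ρ x a = ∑ l : Subgroup.zpowers σ →* ℂˣ with (l z : ℂ) = 1,
      (C.co x l - C.co x 1 : ℂ) * l a + ∑ l : Subgroup.zpowers σ →* ℂˣ with (l z : ℂ) = -1,
        (C.co x l : ℂ) * l a := fun x a ha => by
    simp only [C.eq_sum, sub_mul, Finset.sum_sub_distrib, ← Finset.mul_sum,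
      h.sum_filter_hom_z_eq_zero (Or.inl rfl) ha, mul_zero, sub_zero, hz]
    rw [← Finset.sum_filter_add_sum_filter_not _ fun l => (l z : ℂ) = 1]
    congr 2
    refine Finset.filter_congr fun l _ => ?_
    rcases h.hom_z l with a | a <;> rw [a] <;> norm_num
  have h7 : ∀ x ∈ B, ¬ H x → x ∉ Ye → ∀ a, ∑ l : Subgroup.zpowers σ →* ℂˣ with (l z : ℂ) = 1,
      (C.co x l - C.co x 1 : ℂ) * l a = 0 := fun x hx h8 h9 a =>
    Finset.sum_eq_zero fun l hl => by rw [h4 x hx h8 h9 l hl, sub_self, zero_mul]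
  have h8 : ∀ x ∈ Yo, ∀ x' ∈ Yo, H x → H x' := fun x hx x' hx' h8 => by
    have := g7 x hx x' hx' s hsz
    rw [h1' x (g2 hx)] at h8
    rw [h1' x' (g2 hx')]
    omega
  have h9 : Disjoint Ye Yo := Finset.disjoint_left.2 fun x hx hx' => by
    obtain ⟨a1, l, a2, a3, a4⟩ := h3 x hx
    obtain ⟨x', a5, a6⟩ := Finset.exists_mem_ne (s := Yo) (by
      have := Finset.card_pos.2 ⟨x, hx'⟩
      have := h.eq_two_or
      split_ifs at g3 <;> omega) x
    have := g7 x hx' x' a5 l ((hE l).1 a2)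
    have := a4 x' (g2 a5) (fun e => a1 (h8 x' a5 x hx' e)) a6
    omega
  refine ⟨h1, Ye, h2, Yo, g2, fun x hx => (h3 x hx).1, h9, fun x hx a1 a2 a3 a ha => ?_,
    fun x hx a1 a2 => ?_, fun x hx a2 => ?_, g3, fun x hx a1 => ?_,
    or_iff_not_imp_left.2 fun a1 => ?_, h5.imp (fun a1 => ⟨a1.1, fun x hx => ?_⟩)
      fun a1 => ⟨?_, a1.2.2⟩⟩
  · rw [h6 x a ha, h7 x hx a1 a2, g4 x hx a3 a ha, add_zero]
  · have a3 : ∀ l : Subgroup.zpowers σ →* ℂˣ, (l z : ℂ) = 1 → C.co x l = C.co x 1 := fun l hl => by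
      rw [C.co_eq_zero a2 (l := l) (by rw [hl]; norm_num), C.co_eq_zero a2 (l := 1) (by norm_num)]
    rcases a1 with a1 | a1
    · exact (h1' x hx).1 a1 (a3 s hsz)
    · obtain ⟨-, l, a4, a5, -⟩ := h3 x a1
      exact a5 (a3 l ((hE l).1 a4))
  · obtain ⟨l, a3, a4⟩ := g6 x hx
    exact a4 (C.co_eq_zero a2 (by rw [a3]; norm_num))
  · obtain ⟨δ, hδ, i, hi, a2⟩ := g5 x hx
    exact h.sum_norm_sq_of_exc hδ hi fun a ha => by
      rw [h6 x a ha, h7 x (g2 hx) a1 (Finset.disjoint_right.1 h9 hx), a2 a ha, zero_add]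
  · push Not at a1
    obtain ⟨x, hx, a1⟩ := a1
    have a2 : Yo ⊆ B.filter H := fun x' hx' => Finset.mem_filter.2 ⟨g2 hx', h8 x hx x' hx' a1⟩
    refine ⟨by_contra fun a3 => ?_, fun x' hx' => h8 x hx x' hx' a1⟩
    have a4 := Finset.card_le_card a2
    have a5 := Finset.card_pos.2 ⟨x, hx⟩
    have a6 : Yo = B.filter H := Finset.eq_of_subset_of_card_le a2 (by
      have := h.eq_two_or
      split_ifs at g3 <;> omega)
    have a7 := C.orth_sub (l := s) (μ := 1) (hL' s hsz)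
    rw [← Finset.sum_subset g2 fun x' hx' a8 => by
      rw [a6, Finset.mem_filter, h1' x' hx'] at a8
      rw [show C.co x' s - C.co x' 1 = 0 from sub_eq_zero.2 (by_contra fun e => a8 ⟨hx', e⟩), zero_mul],
      Finset.sum_congr rfl fun x' hx' => by rw [g7 x' hx' x hx s hsz], ← Finset.mul_sum] at a7
    exact mul_ne_zero (sub_ne_zero.2 ((h1' x (g2 hx)).1 a1))
      (Finset.sum_pos (fun x' hx' => C.deg_pos x' (g2 hx')) ⟨x, hx⟩).ne' a7
  · obtain ⟨δ, hδ, i, hi, a2⟩ := a1.2 x hx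
    exact h.sum_norm_sq_of_exc hδ hi fun a ha => by
      rw [h6 x a ha, g4 x (h2 hx) (Finset.disjoint_left.1 h9 hx) a ha, a2 a, add_zero]
  · obtain ⟨a, ha⟩ := h.pow
    obtain ⟨a2, a3, -⟩ := a1
    have : a + 1 < 4 := (Nat.pow_lt_pow_iff_right one_lt_two).1 (by omega)
    have : a < 3 := by omega
    interval_cases a <;> omega

end TameCols

end Cfsg
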