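import Cfsg.Agent.Blk.Tame2
import Cfsg.Agent.Blk.SecMM

/-! Subsections of blocks with tame defect groups. -/

set_option autoImplicit false

namespace Cfsg

open scoped ComplexConjugate MonoidAlgebra

universe u

section tameX
variable {T : Type u} [Group T] {σ τ : T} {m : ℕ} {k : ℤ} [Fintype (Subgroup.zpowers σ)]

open Classical in
/-- the elements of order at least four in the cyclic subgroup -/
noncomputable def tameX (σ : T) [Fintype (Subgroup.zpowers σ)] : Finset (Subgroup.zpowers σ) :=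
  Finset.univ.filter fun a => a * a ≠ 1

theorem mem_tameX {a : Subgroup.zpowers σ} : a ∈ tameX σ ↔ a * a ≠ 1 := by simp [tameX]

theorem mem_tameX' {a : Subgroup.zpowers σ} : a ∈ tameX σ ↔ (a : T) * a ≠ 1 := by
  rw [mem_tameX, Ne, Subtype.ext_iff]; rfl

theorem IsTame.sum_eq_tameX [Finite T] (h : IsTame σ τ m k) {A : Type*} [AddCommMonoid A]
    (F : Subgroup.zpowers σ → A) :
    ∑ a, F a = F 1 + F ⟨σ ^ m, IsTame.z_mem⟩ + ∑ a ∈ tameX σ, F a :=
  h.sum_eq_add_add F

end tameX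

variable {M : Ideal AlgInt} {G : Type u} [Group G] [Fintype G] {B : Set (IrrCharacter G)}
  {P : Subgroup G} {e : (resK M)[G]} {σ τ : P} {m : ℕ} {k : ℤ}

/-- `t` is not fused into the cyclic subgroup of index two -/
def TameFree (e : (resK M)[G]) (σ t : P) : Prop :=
  ∀ a ∈ Subgroup.zpowers σ, ¬ PairFuse 2 P e (t : G) a

open Classical in
/-- representatives of the fusion classes missing the cyclic subgroup of index two -/
noncomputable def tameReps (e : (resK M)[G]) (σ τ : P) : Finset P :=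
  ({τ, σ * τ} : Finset P).filter fun t => TameFree e σ t ∧ (t = τ ∨ ¬ PairFuse 2 P e (τ : G) t)

omit [Fintype G] in
theorem PairFuse.orderOf_eq [Finite G] {p : ℕ} {u v : P} (h : PairFuse p P e (u : G) v) :
    orderOf u = orderOf v := by
  rw [← Subgroup.orderOf_coe, ← Subgroup.orderOf_coe]
  obtain ⟨c, hc⟩ := isConj_iff.1 h.isConj
  rw [← hc, ← MulAut.conj_apply, MulEquiv.orderOf_eq]

omit [Fintype G] in
theorem mul_self_eq_one_iff_of_orderOf_eq {H : Type*} [Group H] {u v : H}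
    (h : orderOf u = orderOf v) : u * u = 1 ↔ v * v = 1 := by
  rw [← sq, ← sq, ← orderOf_dvd_iff_pow_eq_one, ← orderOf_dvd_iff_pow_eq_one, h]

open Classical in
omit [Fintype G] in
theorem card_tameReps (h : IsTame σ τ m k) : (tameReps e σ τ).card =
    (if TameFree e σ τ then 1 else 0) +
      if TameFree e σ (σ * τ) ∧ ¬ PairFuse 2 P e (τ : G) (σ * τ : P) then 1 else 0 := by
  have h1 : σ * τ ≠ τ := fun h1 => h.σ_mul_σ_ne_one (by rw [mul_eq_right.1 h1, mul_one])
  rw [tameReps, Finset.card_filter, Finset.sum_pair h1.symm]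
  simp [h1]

namespace StarSetup
variable (S : StarSetup 2 M B P e)

/-- the diagonal contributions -/
noncomputable def dg (v : P) (χ : IrrCharacter G) : ℝ := (S.mm v χ.1 χ.1).re

include S

theorem cast_dg (v : P) (χ : IrrCharacter G) : (S.dg v χ : ℂ) = S.mm v χ.1 χ.1 :=
  S.ofReal_re_mm_self χ.isClassFunction v

theorem dg_nonneg (v : P) (χ : IrrCharacter G) : 0 ≤ S.dg v χ :=
  S.re_mm_self_nonneg χ.isClassFunction v

theorem sum_dg (v : P) : ∑ χ ∈ irrFinset B, S.dg v χ = blockRank 2 (S.below v) := by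
  apply Complex.ofReal_injective
  push_cast
  simp only [S.cast_dg, S.sum_mm_self]

theorem mm_eq_zero_of_dg {v : P} {χ ψ : IrrCharacter G} (h : S.dg v χ = 0) (hψ : ψ ∈ B) :
    S.mm v χ.1 ψ.1 = 0 := by
  have h1 := (S.sum_normSq_mm χ.isClassFunction v).trans h
  simpa using (Finset.sum_eq_zero_iff_of_nonneg fun _ _ => sq_nonneg _).1 h1 ψ
    (mem_irrFinset.2 hψ)

theorem fuse_trans {u v w : G} (h : PairFuse 2 P e u v) (h' : PairFuse 2 P e v w) :
    PairFuse 2 P e u w :=
  have := S.hM.charP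
  h.trans S.isPair h'

theorem fuse_of_isConj {u v : P} (h : IsConj u v) : PairFuse 2 P e (u : G) v :=
  have := S.hM.charP
  pairFuse_of_isConj S.isPair h

theorem free_of_fuse {u v : P} (h : PairFuse 2 P e (u : G) v) (hu : TameFree e σ u) :
    TameFree e σ v := fun a ha h1 => hu a ha (S.fuse_trans h h1)

theorem notMem_of_free {u : P} (hu : TameFree e σ u) : u ∉ Subgroup.zpowers σ := fun h =>
  hu u h (S.fuse_of_isConj (IsConj.refl u))

omit [Fintype G] S in
theorem free_of_mem_tameReps {t : P} (ht : t ∈ tameReps e σ τ) : TameFree e σ t := by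
  classical exact (Finset.mem_filter.1 ht).2.1

variable (h : IsTame σ τ m k)
include h

omit S in
theorem le_normalizer_zpowers {a : P} (ha : a ∈ Subgroup.zpowers σ) :
    P ≤ Subgroup.normalizer (Subgroup.zpowers (a : G) : Set G) := fun x hx => by
  have h1 : ∀ y : P, (y : G) * a * (y : G)⁻¹ ∈ Subgroup.zpowers (a : G) := fun y => by
    rw [← Subgroup.coe_inv, ← Subgroup.coe_mul, ← Subgroup.coe_mul, coe_mem_zpowers_coe]
    rcases (h.isConj_iff_of_mem ha).1 (isConj_iff.2 ⟨y, rfl⟩) with h2 | h2 <;> rw [h2]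
    exacts [Subgroup.mem_zpowers _, Subgroup.zpow_mem_zpowers _ _]
  refine Subgroup.mem_normalizer_fintype fun n hn => ?_
  obtain ⟨i, rfl⟩ := hn
  simpa only [← conj_zpow, SetLike.mem_coe] using Subgroup.zpow_mem _ (h1 ⟨x, hx⟩) i

theorem fuse_iff_of_mem {a b : P} (ha : a ∈ Subgroup.zpowers σ) (hb : b ∈ Subgroup.zpowers σ) :
    PairFuse 2 P e (a : G) b ↔ b = a ∨ b = a ^ k := by
  rw [← h.isConj_iff_of_mem ha]
  refine ⟨fun h1 => S.isConj_of_pairFuse h1 (le_antisymm ?_ ?_) (le_normalizer_zpowers h ha)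
    fun x hx ho => mem_centralizer_of_le_zpowers (S.isPGroup.to_le (Subgroup.zpowers_le.2 a.2))
      le_rfl hx ho, S.fuse_of_isConj⟩
  · exact Subgroup.zpowers_le.2 (coe_mem_zpowers_coe.2
      (IsTame.mem_zpowers_of_dvd hb ha h1.orderOf_eq.symm.dvd))
  · exact Subgroup.zpowers_le.2 (coe_mem_zpowers_coe.2
      (IsTame.mem_zpowers_of_dvd ha hb h1.orderOf_eq.dvd))

open Classical in
theorem sum_tameReps_fuseInd (v : P) :
    ∑ t ∈ tameReps e σ τ, fuseInd 2 P e t v = if TameFree e σ v then 1 else 0 := by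
  have h1 : σ * τ ≠ τ := fun h1 => h.σ_mul_σ_ne_one (by rw [mul_eq_right.1 h1, mul_one])
  rw [tameReps, Finset.sum_filter, Finset.sum_pair h1.symm]
  simp only [fuseInd, true_or, and_true, h1, false_or]
  by_cases hv : TameFree e σ v
  · rw [if_pos hv]
    by_cases h2 : PairFuse 2 P e (τ : G) v
    · rw [if_pos (S.free_of_fuse h2.symm hv), if_pos h2]
      by_cases h3 : PairFuse 2 P e ((σ * τ : P) : G) v
      · rw [if_neg fun h4 => h4.2 (S.fuse_trans h2 h3.symm), add_zero]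
      · simp only [h3, if_false, ite_self, add_zero]
    · have h3 := S.fuse_of_isConj
        ((h.isConj_or (S.notMem_of_free hv)).resolve_left fun h3 => h2 (S.fuse_of_isConj h3))
      rw [if_neg h2, ite_self, if_pos h3, if_pos ⟨S.free_of_fuse h3.symm hv,
        fun h4 => h2 (S.fuse_trans h4 h3)⟩, zero_add]
  · have h2 : ∀ (t : P) (q : Prop) [Decidable q], (q → TameFree e σ t) →
        (if q then if PairFuse 2 P e (t : G) v then (1 : ℂ) else 0 else 0) = 0 := fun t q _ h2 => by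
      split_ifs with a b
      exacts [absurd (S.free_of_fuse b (h2 a)) hv, rfl, rfl]
    rw [if_neg hv, h2 _ _ id, h2 _ _ And.left, add_zero]

variable [Fintype (Subgroup.zpowers σ)]

open Classical in
theorem exists_tame_weight [Fintype P] : ∃ wt : P → ℂ,
    (∀ v : P, ∑ u, wt u * fuseInd 2 P e u v = 1) ∧ ∀ F : P → ℂ, ∑ u, wt u * F u =
      F 1 + F (σ ^ m) + (∑ a ∈ tameX σ, F a) / 2 +
        ∑ t ∈ tameReps e σ τ, F t := by
  have key : ∀ F : P → ℂ, ∑ u, ((if u ∈ Subgroup.zpowers σ then if u * u = 1 then 1 else 1 / 2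
      else 0) + if u ∈ tameReps e σ τ then 1 else 0) * F u = F 1 + F (σ ^ m) +
        (∑ a ∈ tameX σ, F a) / 2 + ∑ t ∈ tameReps e σ τ, F t := by
    intro F
    simp only [add_mul, Finset.sum_add_distrib, ite_mul (_ ∈ _), zero_mul, one_mul,
      Finset.sum_ite_mem, Finset.univ_inter]
    rw [← Finset.sum_filter, Finset.sum_subtype (p := (· ∈ Subgroup.zpowers σ)) _ (by simp),
      h.sum_eq_tameX, Finset.sum_div]
    congr 2
    · simp [h.z_mul_z]
    · refine Finset.sum_congr rfl fun a ha => ?_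
      rw [if_neg (mem_tameX'.1 ha)]
      ring
  refine ⟨_, fun v => ?_, key⟩
  rw [key, S.sum_tameReps_fuseInd h]
  split_ifs with hv
  · have h1 : ∀ a ∈ Subgroup.zpowers σ, fuseInd 2 P e a v = 0 := fun a ha =>
      if_neg fun h1 => hv _ ha (PairFuse.symm h1)
    rw [h1 _ (Subgroup.one_mem _), h1 _ IsTame.z_mem, Finset.sum_eq_zero fun a _ => h1 _ a.2]
    simp
  simp only [TameFree, not_forall, not_not] at hv
  obtain ⟨b, hb, hv⟩ := hv
  have h1 : ∀ a : Subgroup.zpowers σ, (if a * a = 1 then 2 else 1) * fuseInd 2 P e a v =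
      (if a = ⟨b, hb⟩ then 1 else 0) + if a = ⟨b, hb⟩ ^ k then 1 else 0 := fun a => by
    have h2 : PairFuse 2 P e ((a : P) : G) v ↔ a = ⟨b, hb⟩ ∨ a = ⟨b, hb⟩ ^ k := by
      simp only [Subtype.ext_iff (a1 := a)]
      exact (Iff.intro (fun h2 => (S.fuse_trans h2 hv).symm) fun h2 =>
        S.fuse_trans h2.symm hv.symm).trans (S.fuse_iff_of_mem h hb a.2)
    have h3 := h.zpow_k_eq_iff (a := a) (Subtype.ext (h.pow_two_mul a.2))
    have h4 := h.zpow_k_zpow_k (a := (⟨b, hb⟩ : Subgroup.zpowers σ))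
      (Subtype.ext (h.pow_two_mul hb))
    simp only [fuseInd, h2, ← h3]
    by_cases h5 : a = ⟨b, hb⟩
    · subst h5
      simp only [eq_comm (a := _ ^ k), true_or, if_true]
      split_ifs <;> norm_num
    · by_cases h6 : a = ⟨b, hb⟩ ^ k
      · rw [if_neg h5, if_pos h6, if_pos (Or.inr h6), if_neg fun h7 => h5 (by rw [← h7, h6, h4])]
        norm_num
      · simp [h5, h6]
  have h2 := Finset.sum_congr rfl fun a (_ : a ∈ Finset.univ) => h1 a
  rw [h.sum_eq_tameX, Finset.sum_add_distrib, Finset.sum_ite_eq', Finset.sum_ite_eq',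
    Finset.sum_congr rfl fun a ha => by rw [if_neg (mem_tameX.1 ha), one_mul],
    if_pos (mul_one _), if_pos (Subtype.ext h.z_mul_z)] at h2
  simp only [Finset.mem_univ, if_true] at h2
  linear_combination h2 / 2

open Classical in
theorem tame_decomp {η : P → ℂ} (hη : IsPairStable 2 P e η) {θ : G → ℂ}
    (hθ : IsClassFunction G θ) (φ : G → ℂ) : classInner (bstar M 2 P e η θ) φ =
      η 1 * S.mm 1 θ φ + η (σ ^ m) * S.mm (σ ^ m) θ φ +
        (∑ a ∈ tameX σ, η a * S.mm a θ φ) / 2 +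
        ∑ t ∈ tameReps e σ τ, η t * S.mm t θ φ := by
  have := Fintype.ofFinite P
  obtain ⟨wt, h1, h2⟩ := S.exists_tame_weight h
  rw [S.classInner_bstar_eq_sum_mm wt h1 hη hθ, h2]

open Classical in
theorem tame_decomp_one {χ : IrrCharacter G} (hχ : χ ∈ B) (ψ : IrrCharacter G) :
    S.mm 1 χ.1 ψ.1 + S.mm (σ ^ m) χ.1 ψ.1 +
      (∑ a ∈ tameX σ, S.mm a χ.1 ψ.1) / 2 +
        ∑ t ∈ tameReps e σ τ, S.mm t χ.1 ψ.1 = if χ = ψ then 1 else 0 := by
  have := S.tame_decomp h isPairStable_one χ.isClassFunction ψ.1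
  simpa only [S.bstar_one_irr hχ, χ.classInner_eq, Pi.one_apply, one_mul, eq_comm] using this

open Classical in
theorem tame_decomp_dg {χ : IrrCharacter G} (hχ : χ ∈ B) :
    S.dg 1 χ + S.dg (σ ^ m) χ + (∑ a ∈ tameX σ, S.dg a χ) / 2 +
        ∑ t ∈ tameReps e σ τ, S.dg t χ = 1 := by
  apply Complex.ofReal_injective
  push_cast
  simp only [S.cast_dg, S.tame_decomp_one h hχ, if_true]

omit [Fintype (Subgroup.zpowers σ)]

omit S [Fintype G] in
theorem tame_card_inf_of_mem [Finite G] {a : P} (ha : a ∈ Subgroup.zpowers σ) (ha2 : a * a ≠ 1) :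
    Nat.card (P ⊓ Subgroup.centralizer {(a : G)} : Subgroup G) = 2 * m := by
  rw [card_inf_centralizer_coe, h.centralizer_eq ha ha2, h.card_zpowers]

omit S [Fintype G] in
theorem tame_le_centralizer_z : P ≤ Subgroup.centralizer {((σ ^ m : P) : G)} := fun x hx =>
  Subgroup.mem_centralizer_singleton_iff.2 (congrArg Subtype.val
    (Subgroup.mem_center_iff.1 h.z_mem_center ⟨x, hx⟩))

omit S [Fintype G] in
theorem tame_card_inf_z :
    Nat.card (P ⊓ Subgroup.centralizer {((σ ^ m : P) : G)} : Subgroup G) = 4 * m := by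
  rw [inf_eq_left.2 (tame_le_centralizer_z h), h.card]

omit S in
theorem tame_fully_of_mem {a : P} (ha : a ∈ Subgroup.zpowers σ) (ha2 : a * a ≠ 1) (w : P)
    (hw : PairFuse 2 P e (a : G) w) : Nat.card (P ⊓ Subgroup.centralizer {(w : G)} : Subgroup G) ≤
      Nat.card (P ⊓ Subgroup.centralizer {(a : G)} : Subgroup G) := by
  have h1 := (mul_self_eq_one_iff_of_orderOf_eq hw.orderOf_eq).not.1 ha2
  rw [tame_card_inf_of_mem h ha ha2, card_inf_centralizer_coe]
  exact h.card_centralizer_le (by rintro rfl; simp at h1) (by rintro rfl; exact h1 h.z_mul_z)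

theorem tame_rank_of_mem {a : P} (ha : a ∈ Subgroup.zpowers σ) (ha2 : a * a ≠ 1) :
    blockRank 2 (S.below a) = 1 :=
  S.blockRank_below_eq_one (tame_fully_of_mem h ha ha2) fun _ hR _ _ hx ho =>
    mem_centralizer_of_le_zpowers (σ := (σ : G)) (S.isPGroup.to_le (hR.trans inf_le_left))
      (fun y hy => (coe_mem_zpowers_coe (a := ⟨y, (hR hy).1⟩)).2 (h.mem_of_commute ha ha2
        (Subtype.ext (Subgroup.mem_centralizer_singleton_iff.1 (hR hy).2)))) hx ho

theorem tame_rank_of_free {t : P} (ht : TameFree e σ t) : blockRank 2 (S.below t) = 1 := by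
  have h1 : ∀ {w : P}, TameFree e σ w →
      Nat.card (P ⊓ Subgroup.centralizer {(w : G)} : Subgroup G) = 4 := fun hw => by
    rw [card_inf_centralizer_coe, h.card_centralizer_of_notMem (S.notMem_of_free hw)]
  refine S.blockRank_below_eq_one (fun w hw => by rw [h1 ht, h1 (S.free_of_fuse hw ht)])
    fun R hR x hx hx' ho => mem_centralizer_of_card_four (h1 ht) hR
      ⟨t.2, Subgroup.mem_centralizer_singleton_iff.2 rfl⟩ (fun h2 => ?_) hx' hx ho
  exact S.notMem_of_free ht (by rw [show t = 1 from Subtype.ext h2]; exact Subgroup.one_mem _)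

theorem tame_card : Nat.card B + 1 =
    blockRank 2 B + blockRank 2 (S.below (σ ^ m)) + m + (tameReps e σ τ).card := by
  classical
  have := Fintype.ofFinite (Subgroup.zpowers σ)
  have h1 := Finset.sum_congr rfl fun χ (hχ : χ ∈ irrFinset B) =>
    S.tame_decomp_dg h (mem_irrFinset.1 hχ)
  have h2 := h.sum_eq_tameX fun _ => (1 : ℝ)
  simp only [Finset.sum_add_distrib, ← Finset.sum_div] at h1
  rw [Finset.sum_comm, Finset.sum_comm (s := irrFinset B)] at h1
  simp only [S.sum_dg, S.blockRank_below_one] at h1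
  rw [Finset.sum_congr rfl fun a ha => by
    rw [S.tame_rank_of_mem h a.2 (mem_tameX'.1 ha)],
    Finset.sum_congr rfl (s₁ := tameReps e σ τ) fun t ht => by
      rw [S.tame_rank_of_free h (free_of_mem_tameReps ht)]] at h1
  rw [Finset.sum_const, Finset.card_univ, ← Nat.card_eq_fintype_card, h.card_zpowers] at h2
  simp only [Finset.sum_const, nsmul_eq_mul, mul_one, card_irrFinset, Nat.cast_one] at h1 h2
  apply Nat.cast_injective (R := ℝ)
  push_cast at h2 ⊢
  linarith

omit h in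
theorem valM_mul_conj_eq_one_iff {r : P → ℂ} (hr : IsGeneralizedCharacter P r) {n : ℤ}
    (hn : r 1 = n) (v : P) : valM M (r v * conj (r v)) = 1 ↔ Odd n := by
  have := S.hM.charP
  rw [← red_ne_zero_iff, red_mul (hr.mem_valO v) (hr.conj.mem_valO v),
    S.hM.red_apply_eq_of_isPGroup S.isPGroup hr, S.hM.red_apply_eq_of_isPGroup S.isPGroup hr.conj,
    hn, map_intCast, red_intCast, mul_self_ne_zero, Ne, CharP.intCast_eq_zero_iff _ 2,
    ← Int.not_even_iff_odd, even_iff_two_dvd]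
  rfl

theorem exists_tameCols [Fintype (Subgroup.zpowers σ)] {q : P} (hq : q ∈ Subgroup.zpowers σ)
    (hq1 : q ≠ 1) {L : Subgroup.zpowers σ → Prop} (hL : ∀ a, L a → q ∈ Subgroup.zpowers (a : P))
    (hσ : L ⟨σ, Subgroup.mem_zpowers σ⟩)
    (hA : ∀ x ∈ Subgroup.centralizer {(q : G)}, ∀ a b : P, a ∈ Subgroup.zpowers σ → a * a ≠ 1 →
      (b : G) = x * a * x⁻¹ → b ∈ Subgroup.zpowers σ) :
    ∃ ρ : IrrCharacter G → Subgroup.zpowers σ → ℂ, TameCols σ m k (irrFinset B) L ρ
      (fun χ => charDegree χ.1) (fun χ => blockHeight 2 B χ.1 = 0) ∧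
      (∀ χ a, L a → ‖ρ χ a‖ ^ 2 =
        Nat.card (P ⊓ Subgroup.centralizer {((a : P) : G)} : Subgroup G) * S.dg a χ) ∧
      (((σ ^ m : P) : G) ∈ Subgroup.center G → ∃ c₀ : ℂ, (c₀ = 1 ∨ c₀ = -1) ∧
        ∀ χ a, ρ χ (⟨σ ^ m, IsTame.z_mem⟩ * a) = χ.1 (σ ^ m : P) / χ.1 1 * c₀ * ρ χ a) := by
  classical
  have := S.hM.charP
  have hle := S.below_le q
  obtain ⟨r, hr1, hr2, hr3⟩ := S.exists_local_dec hle
    (hle.isPair_left S.isPair).centralizer_le_pairStab le_rfl (fun x hx => ((hle.inf_pairStab S.isPair le_top).ge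
      ⟨hx, le_normalizer_zpowers h hq hx⟩).2) fun R hR x hx hxR ho => by
      have h1 := mem_centralizer_of_le_zpowers (S.isPGroup.to_le (Subgroup.zpowers_le.2 q.2))
        le_rfl (pairStab_le_normalizer _ _ _ hx) ho
      rw [centralizer_zpowers_eq_singleton] at h1
      refine h.mem_centralizer hR hxR ho ?_ (hA x h1)
      obtain ⟨i, hi⟩ := h.z_mem_zpowers hq hq1
      rw [← hi, Subgroup.mem_centralizer_singleton_iff] at *
      exact (Commute.zpow_right h1 i).eq
  have hC : ∀ a, L a → Subgroup.centralizer {((a : P) : G)} ≤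
      pairStab ⊤ (Subgroup.zpowers (q : G)) (subIdem M _ (S.below q)) := fun a ha => by
    refine le_trans ?_ (hle.isPair_left S.isPair).centralizer_le_pairStab
    rw [← centralizer_zpowers_eq_singleton]
    exact Subgroup.centralizer_le (Subgroup.zpowers_le.2 (coe_mem_zpowers_coe.2 (hL a ha)))
  have h1 : ∀ a, L a → a ≠ 1 := fun a ha h1 => hq1 (by simpa [h1] using hL a ha)
  have h2 := fun (χ ψ : IrrCharacter G) a ha =>
    hr2 χ.1 ψ.1 χ.isClassFunction ψ.isClassFunction _ (hC a ha)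
  have h3 : ∀ (χ : IrrCharacter G) (a : Subgroup.zpowers σ), r χ.1 (a ^ k :) = r χ.1 a :=
    fun χ a => by
      rw [← (hr1 _ χ.isCharacter.isGeneralizedCharacter).isClassFunction a τ, h.τ_conj a.2]; rfl
  obtain ⟨ψ, hψ, h0⟩ := exists_blockHeight_eq_zero (S.hB.nonempty S.hM) 2
  have h4 : ∀ a, L a → r ψ.1 a ≠ 0 := fun a ha h4 => by
    have := h2 ψ ψ a ha
    rw [h4, zero_mul, eq_comm, mul_eq_zero, Nat.cast_eq_zero] at this
    exact this.elim Nat.card_pos.ne' (S.mm_self_ne_zero_of_height_zero hψ h0 a)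
  refine ⟨fun χ a => r χ.1 a, ⟨fun χ => (hr1 _ χ.isCharacter.isGeneralizedCharacter).comp (Subgroup.subtype _),
    h3, fun a b ha hb => ?_, fun χ _ => Int.natCast_pos.2 χ.charDegree_pos, fun a ha => ?_,
    fun χ hχ n hn => ?_, ψ, mem_irrFinset.2 hψ, h0⟩, fun χ a ha => ?_, fun hz => ?_⟩
  · have h5 := S.sum_mm_mul_mm (φ := ψ.1) ψ.isClassFunction b a
    refine mul_left_cancel₀ (mul_ne_zero (h4 b hb) ((map_ne_zero conj).2 (h4 a ha))) ?_
    rw [Finset.mul_sum, Finset.sum_congr rfl fun χ _ => show _ = r ψ.1 b * conj (r χ.1 b) *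
      (r χ.1 a * conj (r ψ.1 a)) by ring]
    simp only [h2 _ _ a ha, h2 _ _ b hb, mul_mul_mul_comm _ (S.mm _ _ _)]
    rw [← Finset.mul_sum, h5, mul_mul_mul_comm, ← h2 _ _ a ha, fuseInd]
    have h6 : PairFuse 2 P e ((b : P) : G) (a : P) ↔ b = a ∨ b = a ^ k := by
      simp only [Subtype.ext_iff (a1 := b)]
      exact (Iff.intro PairFuse.symm PairFuse.symm).trans (S.fuse_iff_of_mem h a.2 b.2)
    have h7 := h.zpow_k_eq_iff (a := a) (Subtype.ext (h.pow_two_mul a.2))
    simp only [h6]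
    by_cases h8 : a * a = 1
    · have h9 := (h.coe_mul_self_eq_one_iff.1 h8).resolve_left (h1 a ha)
      simp only [h7.2 h8, or_self]
      split_ifs with h10
      · rw [h10, h9, tame_card_inf_z h]; push_cast; ring
      · simp
    · by_cases h9 : b = a
      · rw [h9, tame_card_inf_of_mem h a.2 fun h10 => h8 (Subtype.ext h10), if_pos (Or.inl rfl),
          if_pos rfl, if_neg fun h10 => h8 (h7.1 h10.symm)]
        push_cast; ring
      · by_cases h10 : b = a ^ k
        · rw [if_pos (Or.inr h10), if_neg h9, if_pos h10, tame_card_inf_of_mem h b.2 fun h11 => h9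
            (by rw [← h.zpow_k_zpow_k (a := a) (Subtype.ext (h.pow_two_mul a.2)), ← h10,
              (h.zpow_k_eq_iff (a := b) (Subtype.ext (h.pow_two_mul b.2))).2 (Subtype.ext h11)]),
            h10, h3]
          push_cast; ring
        · simp [h9, h10]
  · have h5 := S.sum_mm_mul_one (v := a) (fun h5 => h1 a ha (Subtype.ext h5)) ψ.1
    refine (map_eq_zero conj).1 (mul_left_cancel₀ (h4 a ha) ?_)
    simp only [map_sum, map_mul, Finset.mul_sum, ← mul_assoc, h2 _ _ a ha, map_intCast, mul_zero]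
    simp only [mul_assoc, ← Finset.mul_sum, Int.cast_natCast, ← IrrCharacter.one_eq_charDegree, h5,
      mul_zero]
  · rw [← S.valM_mul_conj_eq_one_iff (hr1 _ χ.isCharacter.isGeneralizedCharacter) hn σ, h2 _ _ _ hσ,
      ← S.pow_blockDefect_below (tame_fully_of_mem h (Subgroup.mem_zpowers σ) h.σ_mul_σ_ne_one),
      Nat.cast_pow, ← S.secCon_below, (S.isInducedBlock_below σ).valM_secCon_eq_one_iff S.hM
        (S.orderOf_eq σ) rfl (mem_irrFinset.1 hχ) (mem_irrFinset.1 hχ), and_self]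
  · apply Complex.ofReal_injective
    push_cast
    rw [S.cast_dg, ← h2 _ _ a ha, Complex.mul_conj']
  · obtain ⟨c₀, h5, h6⟩ := hr3 _ hz
    rw [Subgroup.orderOf_coe, h.orderOf_z] at h5
    exact ⟨c₀, sq_eq_one_iff.1 h5, fun χ a =>
      h6 _ χ.isClassFunction _ (χ.apply_mul_of_mem_center hz) a⟩

open Classical in
theorem dg_of_free {t : P} (ht : TameFree e σ t)
    (h4 : ((irrFinset B).filter fun χ => blockHeight 2 B χ.1 = 0).card = 4) {χ : IrrCharacter G}
    (hχ : χ ∈ B) (h0 : blockHeight 2 B χ.1 ≠ 0) : S.dg t χ = 0 := by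
  have := S.hM.charP
  have hst := isPairStable_fuseInd S.isPair t
  have h1 := h.isGeneralizedCharacter_four_mul (hst.isClassFunction S.isPair)
    (fun a ha => if_neg (ht a ha)) (a := if PairFuse 2 P e (t : G) τ then 1 else 0)
    (b := if PairFuse 2 P e (t : G) (σ * τ : P) then 1 else 0) (by simp [fuseInd])
    (by simp [fuseInd])
  have h2 : ∀ ψ ∈ (irrFinset B).filter fun χ => blockHeight 2 B χ.1 = 0, 1 / 4 ≤ S.dg t ψ := by
    intro ψ hψ
    obtain ⟨h2, h3⟩ := Finset.mem_filter.1 hψ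
    obtain ⟨n, hn⟩ := S.exists_int_classInner_bstar (hst.smul 4) h1 ψ ψ
    rw [bstar_smul_left, classInner_smul_left, S.bstar_fuseInd_eq ψ.isClassFunction] at hn
    have h5 : 4 * S.dg t ψ = n := Complex.ofReal_injective (by
      push_cast; rw [S.cast_dg]; exact hn)
    have h6 : S.dg t ψ ≠ 0 := fun h6 => S.mm_self_ne_zero_of_height_zero (mem_irrFinset.1 h2) h3 t
      (by rw [← S.cast_dg, h6, Complex.ofReal_zero])
    have h7 : (0 : ℝ) < n := by have := (S.dg_nonneg t ψ).lt_of_ne' h6; linarith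
    have h8 : (1 : ℝ) ≤ n := by exact_mod_cast (Int.cast_pos.1 h7)
    linarith
  have h3 := S.sum_dg t
  have h5 := Finset.card_nsmul_le_sum _ _ _ h2
  rw [S.tame_rank_of_free h ht, ← Finset.sum_filter_add_sum_filter_not _
    fun χ => blockHeight 2 B χ.1 = 0] at h3
  have h6 := Finset.single_le_sum (f := S.dg t) (fun ψ _ => S.dg_nonneg t ψ)
    (Finset.mem_filter.2 ⟨mem_irrFinset.2 hχ, h0⟩ :
      χ ∈ (irrFinset B).filter fun χ => ¬ blockHeight 2 B χ.1 = 0)
  rw [h4] at h5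
  norm_num at h3 h5 h6
  linarith [S.dg_nonneg t χ]

theorem dg_z_pos {χ : IrrCharacter G} (hχ : χ ∈ B) : 0 < S.dg (σ ^ m) χ :=
  S.re_mm_self_pos_of_central hχ fun _ hx =>
    Subgroup.mem_centralizer_singleton_iff.1 (tame_le_centralizer_z h hx)

omit h in
theorem dg_one_pos {χ : IrrCharacter G} (hχ : χ ∈ B) : 0 < S.dg 1 χ :=
  S.re_mm_self_pos_of_central hχ (Subgroup.one_mem _)

theorem height_eq_one [Fintype (Subgroup.zpowers σ)] {χ : IrrCharacter G} (hχ : χ ∈ B)
    (h0 : blockHeight 2 B χ.1 ≠ 0) (hX : 2 * m * ∑ a ∈ tameX σ, S.dg a χ = 4 * m - 8) :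
    blockHeight 2 B χ.1 = 1 := by
  have h1 := S.tame_decomp_dg h hχ
  have h2 := S.dg_z_pos h hχ
  have h3 := Finset.sum_nonneg fun t (_ : t ∈ tameReps e σ τ) => S.dg_nonneg t χ
  have h4 : 4 * m * S.dg 1 χ = contrib 2 B χ χ := Complex.ofReal_injective (by
    push_cast; rw [S.cast_dg, ← S.pow_mul_mm_one hχ, h.card]; push_cast; ring)
  have h5 : (0 : ℝ) < m := by have := h.two_le; exact_mod_cast (by omega)
  have h6 : (contrib 2 B χ χ : ℝ) < 8 := by nlinarith
  have h7 := Int.le_of_dvd (contrib_self_pos hχ)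
    (S.hB.pow_succ_dvd_contrib_of_height_pos S.hM hχ hχ h0)
  have h8 : ((2 : ℕ) : ℤ) ^ (blockHeight 2 B χ.1 + 1) < (2 : ℕ) ^ 3 :=
    h7.trans_lt (by exact_mod_cast h6)
  have := (pow_lt_pow_iff_right₀ (by norm_num)).1 h8
  omega

end StarSetup

end Cfsg
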