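import Cfsg.Agent.S4648
import Cfsg.Agent.Blk.Fong
import Cfsg.Agent.Blk.Contrib
import Cfsg.Agent.Blk.Cover
import Cfsg.Agent.CT.SubChar
import Cfsg.Agent.Grp.Frobenius

/-! Character triples with at most two characters over the invariant character. -/

set_option autoImplicit false

universe u v

namespace Cfsg

open scoped ComplexConjugate

variable {p : ℕ} {M : Ideal AlgInt} {G : Type u} [Group G] [Finite G]

/-- a block with at most two characters has defect groups of order `k(B)` -/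
theorem IsDefectGroup.card_eq_of_card_le_two (hM : IsPModular p M) {B : Set (IrrCharacter G)}
    (hB : IsPBlock M B) {D : Subgroup G} (hD : IsDefectGroup p M B D) (hk : Nat.card B ≤ 2) :
    Nat.card D ≤ 2 := by
  have := hM.fact_prime
  by_cases h1 : D = ⊥
  · simp [h1]
  have h2 : blockDefect p B ≠ 0 := fun h => h1 (Subgroup.card_eq_one.1 (by
    rw [hD.card_eq hM hB, h, pow_zero]))
  have h3 := mt (hB.blockRank_eq_card_iff_defect hM).1 h2
  have h4 := blockRank_le_card (p := p) B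
  have h5 := hB.blockRank_pos hM
  exact (Agent.S4648.result p M hM B hB D hD h1 (by omega) (by omega)).2.1.trans_le hk

variable {N : Subgroup G} [N.Normal] [Fintype N] {θ : IrrCharacter N} {r : ℕ}

theorem three_le_card_over_of_not_dvd (hr : r.Prime) (h2 : r ≠ 2) (hN : ¬ r ∣ Nat.card N)
    (hG : r ∣ Nat.card G) (hinv : charInertia θ.1 = ⊤) :
    3 ≤ Nat.card (irrOver N.subtype θ.1) := by
  have : Fact r.Prime := ⟨hr⟩
  obtain ⟨M, hM⟩ := exists_isPModular hr
  obtain ⟨χ, hχ, hd⟩ := exists_mem_irrOver_not_dvd (θ := θ) hN (default : Sylow r G)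
    (hinv ▸ le_top)
  have hb := isPBlock_blockOf (M := M) χ
  have h3 := (hM.isBlockUnion_irrOver hN θ).subset_of_mem hM hb (hM.mem_blockOf_self χ) hχ
  obtain ⟨D, hD⟩ := hb.exists_isDefectGroup hM
  by_contra h4
  have h5 := hD.card_eq_of_card_le_two hM hb
    ((Nat.card_mono (Set.toFinite _) h3).trans (by omega))
  rw [hD.card_eq hM hb, blockDefect_eq_of_not_dvd (hM.mem_blockOf_self χ) hd] at h5
  have h6 := Nat.le_self_pow (hr.factorization_pos_of_dvd Nat.card_pos.ne' hG).ne' r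
  have := hr.two_le
  omega

/-- if an odd prime divides `|G : N|` exactly once, there are at least three characters over an
invariant character of `N` -/
theorem three_le_card_over (hr : r.Prime) (h2 : r ≠ 2) (h1 : r ∣ N.index) (h1' : ¬ r ^ 2 ∣ N.index)
    (hinv : charInertia θ.1 = ⊤) :
    3 ≤ Nat.card {χ : IrrCharacter G // classInner (fun n : N => χ.1 n) θ.1 ≠ 0} := by
  classical
  have : Fact r.Prime := ⟨hr⟩
  obtain ⟨T⟩ := nonempty_tripleIso hinv
  obtain ⟨x, hx⟩ := exists_prime_orderOf_dvd_card' (G := G ⧸ N) r h1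
  obtain ⟨g, rfl⟩ := QuotientGroup.mk_surjective x
  obtain ⟨η, hη⟩ := extTo_sup_zpowers (θ := θ) (y := g) (top_le_normalizer_of_normal trivial)
    (by rw [ezStab_eq_charInertia, hinv]; trivial)
  obtain ⟨μ, hμ⟩ := (T.exists_extension_star_iff le_sup_left).1
    ⟨η, (IrrCharacter.extends_iff le_sup_left).1 hη⟩
  set m := (T.star (N ⊔ Subgroup.zpowers g)).index with hm
  have hmr : ¬ r ∣ m := by
    intro h
    apply h1'
    have h3 : N.relIndex (N ⊔ Subgroup.zpowers g) = r := by
      rw [Subgroup.relIndex_sup_left, ← hx, ← Nat.card_zpowers, ← QuotientGroup.mk'_apply,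
        ← MonoidHom.map_zpowers, ← Subgroup.relIndex_ker, QuotientGroup.ker_mk']
    rw [← Subgroup.relIndex_mul_index (le_sup_left : N ≤ N ⊔ Subgroup.zpowers g), h3,
      ← T.index_star le_sup_left, sq]
    exact Nat.mul_dvd_mul_left _ h
  have hν : ∀ z : T.ϖ.ker, MonoidHom.transfer μ z = T.lam z ^ m := fun z => by
    rw [MonoidHom.transfer_eq_pow μ z fun k g₀ _ => by
      rw [mul_assoc, ← Subgroup.mem_center_iff.1 (pow_mem (T.ker_le_center z.2) k) g₀,
        inv_mul_cancel_left], ← map_pow, ← hμ]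
    rfl
  obtain ⟨s, hs⟩ : ∃ s, m * s ≡ 1 [MOD r ^ Nat.card T.ϖ.ker] :=
    ⟨_, by
      have := Nat.ModEq.pow_totient (((Nat.Prime.coprime_iff_not_dvd hr).2 hmr).symm.pow_right
        (Nat.card T.ϖ.ker))
      rwa [← Nat.succ_pred_eq_of_pos (Nat.totient_pos.2 (pow_pos hr.pos _)), pow_succ'] at this⟩
  set ν := MonoidHom.transfer μ ^ s with hνdef
  set l : T.ϖ.ker →* ℂˣ := T.lam * (ν.comp T.ϖ.ker.subtype)⁻¹ with hl
  have := Fintype.ofFinite T.ϖ.ker
  have hl1 : charInertia (IrrCharacter.ofHom l).1 = ⊤ :=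
    eq_top_iff.2 (le_trans (fun x _ => Subgroup.mem_centralizer_iff.2 fun z hz =>
      (Subgroup.mem_center_iff.1 (T.ker_le_center hz) x).symm) (centralizer_le_charInertia _))
  obtain ⟨T'⟩ := nonempty_tripleIso hl1
  have hl2 : ¬ r ∣ Nat.card T'.ϖ.ker := fun h => by
    have h3 := h.trans T'.card_ker_dvd
    rw [IrrCharacter.charDegree_ofHom, one_mul] at h3
    refine (not_dvd_detOrder_iff hr _).2 (fun z k hz => ?_) h3
    have h4 : z ^ r ^ Nat.card T.ϖ.ker = 1 := by
      obtain ⟨j, -, hj⟩ := (Nat.dvd_prime_pow hr).1 (orderOf_dvd_of_pow_eq_one hz)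
      rw [← orderOf_dvd_iff_pow_eq_one, hj]
      exact pow_dvd_pow _ ((Nat.lt_pow_self hr.one_lt).le.trans
        (Nat.le_of_dvd Nat.card_pos (hj ▸ orderOf_dvd_natCard z)))
    have h5 : l z = 1 := by
      rw [hl, MonoidHom.mul_apply, MonoidHom.inv_apply, MonoidHom.comp_apply, hνdef,
        MonoidHom.pow_apply, Subgroup.subtype_apply, hν, ← pow_mul, ← map_pow,
        pow_eq_pow_of_modEq hs h4, pow_one, mul_inv_cancel]
    exact (detChar_unitsHom l z).trans (by rw [h5, Units.val_one])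
  have := Fintype.ofFinite T'.ϖ.ker
  have h3 := three_le_card_over_of_not_dvd (θ := IrrCharacter.ofHom T'.lam) hr h2 hl2
    ((h1.trans (by rw [T'.index_ker, T.index_ker])).trans T'.ϖ.ker.index_dvd_card)
    (eq_top_iff.2 (le_trans (fun x _ => Subgroup.mem_centralizer_iff.2 fun z hz =>
      (Subgroup.mem_center_iff.1 (T'.ker_le_center hz) x).symm) (centralizer_le_charInertia _)))
  rw [← T'.setOf_isOver_eq] at h3
  refine h3.trans ((Nat.card_congr T'.corr).trans_le (le_trans ?_ (Nat.card_congr T.corr).le))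
  refine Nat.card_le_card_of_injective (fun β => ⟨β.1.twist ν, (T.isOver_iff _).2 ?_⟩) ?_
  · have h4 := β.2
    rw [classInner_def] at h4 ⊢
    refine fun h => h4 (Eq.trans (congrArg _ (Finset.sum_congr rfl fun z _ => ?_)) h)
    have h5 : conj (ν z : ℂ) = (ν z : ℂ)⁻¹ := by
      have := (IrrCharacter.ofHom ν).apply_inv z
      simpa using this.symm
    simp only [IrrCharacter.twist_apply, IrrCharacter.ofHom_apply, hl, MonoidHom.mul_apply,
      MonoidHom.inv_apply, MonoidHom.comp_apply, Subgroup.subtype_apply, Units.val_mul,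
      Units.val_inv_eq_inv_val, map_mul, map_inv₀, h5, inv_inv]
    ring
  · intro β β' h
    exact Subtype.ext (MulAction.injective ν (congrArg Subtype.val h))

end Cfsg

namespace Cfsg

variable {X : Type u} [Group X] [Finite X] {V : Type v} [Group V] [Finite V] (ρ : X →* MulAut V)

/-- an abelian group acting freely on a nontrivial group is cyclic -/
theorem isCyclic_of_free_hom [Nontrivial V] (hc : IsMulCommutative X)
    (h : ∀ a ≠ 1, ∀ v, ρ a v = v → v = 1) : IsCyclic X := by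
  have : Finite (V ⋊[ρ] X) := Finite.of_equiv _ SemidirectProduct.equivProd.symm
  have h1 := isCyclic_of_fixedPointFree_of_comm (G := V ⋊[ρ] X)
    (N := SemidirectProduct.inl.range) (A := SemidirectProduct.inr.range)
    (by rw [SemidirectProduct.range_inl_eq_ker_rightHom]; exact Subgroup.le_normalizer_of_normal)
    (by
      obtain ⟨v, hv⟩ := exists_ne (1 : V)
      exact fun h => hv (SemidirectProduct.inl_injective
        (by rw [map_one]; exact Subgroup.mem_bot.1 (h.le ⟨v, rfl⟩))))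
    (by
      rintro _ ⟨a, rfl⟩ ha _ ⟨v, rfl⟩ h1
      rw [h a (fun h => ha (by rw [h, map_one])) v (SemidirectProduct.inl_injective
        (by rw [SemidirectProduct.inl_aut, h1, map_inv, mul_inv_cancel_right])), map_one])
    ⟨⟨by
      rintro ⟨_, a, rfl⟩ ⟨_, b, rfl⟩
      exact Subtype.ext (by
        change SemidirectProduct.inr a * SemidirectProduct.inr b = _ * _
        rw [← map_mul, hc.is_comm.comm, map_mul])⟩⟩
  exact (MonoidHom.ofInjective SemidirectProduct.inr_injective).isCyclic.2 h1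

theorem isMulCommutative_closure_pair {a b : X} (h : Commute a b) :
    IsMulCommutative (Subgroup.closure {a, b}) :=
  Subgroup.isMulCommutative_closure (by
    rintro _ (rfl | rfl) _ (rfl | rfl)
    exacts [rfl, h.eq, h.eq.symm, rfl])

theorem isCyclic_of_primitive_prime {p d r : ℕ} (hp : p.Prime) (hr : r.Prime)
    (hV : Nat.card V = p ^ d) (h1 : r ∣ p ^ d - 1) (h2 : ∀ i, 0 < i → i < d → ¬ r ∣ p ^ i - 1)
    (hρ : Function.Injective ρ) {A : Subgroup X} (hA : IsMulCommutative A) {y : X} (hy : y ∈ A)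
    (hyr : r ∣ orderOf y) : IsCyclic A := by
  have : Fact r.Prime := ⟨hr⟩
  obtain ⟨y, hy, hyr⟩ : ∃ y ∈ A, orderOf y = r :=
    ⟨_, pow_mem hy _, orderOf_pow_orderOf_div (orderOf_pos y).ne' hyr⟩
  let F : X → Subgroup V := fun a => (ρ a).toMonoidHom.eqLocus (MonoidHom.id V)
  have hF : ∀ {a v}, v ∈ F a ↔ ρ a v = v := Iff.rfl
  have hFt : ∀ a ≠ 1, F a ≠ ⊤ := fun a ha h => ha (hρ (by
    rw [map_one]; ext v; exact hF.1 (h ▸ Subgroup.mem_top v)))
  have h3 : ∀ W : Subgroup V, W ≠ ⊤ → Nat.card W ≡ 1 [MOD r] → W = ⊥ := by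
    intro W hW h
    obtain ⟨i, hi, h4⟩ := (Nat.dvd_prime_pow hp).1 (hV ▸ W.card_subgroup_dvd_card)
    have h5 : i ≠ d := by rintro rfl; exact hW (W.eq_top_of_card_eq (h4.trans hV.symm))
    rw [← Subgroup.card_eq_one, h4]
    by_contra h6
    rw [h4] at h
    exact h2 i (Nat.pos_of_ne_zero (by rintro rfl; exact h6 rfl)) (by omega)
      ((Nat.modEq_iff_dvd' (Nat.one_le_pow _ _ hp.pos)).1 h.symm)
  have h4 : ∀ W : Subgroup V, (∀ w ∈ W, ρ y w ∈ W) →
      Nat.card W ≡ Nat.card (W ⊓ F y : Subgroup V) [MOD r] := by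
    intro W hW
    have := Fintype.ofFinite W
    classical
    let f : Function.End W := fun w => ⟨ρ y w, hW w w.2⟩
    have h5 : ∀ (n : ℕ) (w : W), ((f ^ n) w : V) = ρ (y ^ n) w := fun n w => by
      induction n with
      | zero => rw [pow_zero, pow_zero, map_one]; rfl
      | succ n ih => rw [pow_succ', pow_succ', map_mul, MulAut.mul_apply, ← ih]; rfl
    have h6 := Equiv.Perm.card_fixedPoints_modEq (f := f) (p := r) (n := 1) (funext fun w =>
      Subtype.ext (by rw [h5, pow_one, ← hyr, pow_orderOf_eq_one, map_one]; rfl))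
    rw [← Nat.card_eq_fintype_card, ← Nat.card_eq_fintype_card] at h6
    refine h6.trans (congrArg (· % r) ?_)
    exact Nat.card_congr ⟨fun w => ⟨w.1.1, w.1.2, congrArg Subtype.val w.2⟩,
      fun w => ⟨⟨w.1, w.2.1⟩, Subtype.ext w.2.2⟩, fun _ => rfl, fun _ => rfl⟩
  have hy1 : y ≠ 1 := by rintro rfl; exact hr.ne_one (by rw [← hyr, orderOf_one])
  have h5 : F y = ⊥ := h3 _ (hFt y hy1) (by
    have := h4 ⊤ fun _ _ => trivial
    rw [top_inf_eq, Subgroup.card_top, hV] at this
    exact this.symm.trans ((Nat.modEq_iff_dvd' (Nat.one_le_pow _ _ hp.pos)).2 h1).symm)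
  have : Nontrivial V := by
    by_contra h
    rw [not_nontrivial_iff_subsingleton] at h
    exact hFt y hy1 (Subsingleton.elim _ _)
  refine isCyclic_of_free_hom (ρ.comp A.subtype) hA fun a ha v hv => ?_
  have h6 : F a = ⊥ := h3 _ (hFt a fun h => ha (Subtype.ext h)) (by
    have := h4 (F a) fun w hw => by
      rw [hF, ← MulAut.mul_apply, ← map_mul, setLike_mul_comm a.2 hy, map_mul, MulAut.mul_apply,
        hF.1 hw]
    rwa [h5, inf_bot_eq, Subgroup.card_bot] at this)
  exact Subgroup.mem_bot.1 (h6 ▸ hF.2 hv)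

omit [Finite X] in
theorem isConj_of_card_good_le_two {P : X → Prop} [Finite X] (h1 : P 1)
    (h : Nat.card {C : ConjClasses X // ∃ a, ConjClasses.mk a = C ∧ P a} ≤ 2) {a b : X}
    (ha : a ≠ 1) (hb : b ≠ 1) (ha' : P a) (hb' : P b) : IsConj a b := by
  classical
  by_contra hne
  have := Fintype.ofFinite {C : ConjClasses X // ∃ a, ConjClasses.mk a = C ∧ P a}
  have h2 := Finset.card_le_univ ({⟨_, 1, rfl, h1⟩, ⟨_, a, rfl, ha'⟩, ⟨_, b, rfl, hb'⟩} :
    Finset {C : ConjClasses X // ∃ a, ConjClasses.mk a = C ∧ P a})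
  rw [Finset.card_eq_three.2 ⟨_, _, _, by simpa [ConjClasses.mk_eq_mk_iff_isConj] using ha.symm,
    by simpa [ConjClasses.mk_eq_mk_iff_isConj] using hb.symm,
    by simpa only [ne_eq, Subtype.mk.injEq, ConjClasses.mk_eq_mk_iff_isConj] using hne, rfl⟩,
    ← Nat.card_eq_fintype_card] at h2
  omega

theorem card_le_two_of_forall_isConj (h : ∀ a b : X, a ≠ 1 → b ≠ 1 → IsConj a b) :
    Nat.card X ≤ 2 := by
  rcases subsingleton_or_nontrivial X with h1 | h1
  · simp
  obtain ⟨a, ha⟩ := exists_ne (1 : X)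
  have h2 : MulAction.orbit (ConjAct X) a = {1}ᶜ := by
    ext b
    rw [ConjAct.mem_orbit_conjAct, Set.mem_compl_singleton_iff]
    exact ⟨fun hb => by rintro rfl; exact ha (isConj_one_right.1 hb), fun hb => h b a hb ha⟩
  have h3 := (MulAction.stabilizer (ConjAct X) a).index_dvd_card
  rw [MulAction.index_stabilizer, h2, Set.ncard_compl, Set.ncard_singleton,
    show Nat.card (ConjAct X) = Nat.card X from rfl] at h3
  have h4 : 0 < Nat.card X := Nat.card_pos
  have h5 := Nat.dvd_sub h3 (dvd_refl (Nat.card X - 1))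
  rw [Nat.sub_sub_self h4, Nat.dvd_one] at h5
  omega

theorem not_sq_dvd_of_primitive_prime {p d r : ℕ} (hp : p.Prime) (hr : r.Prime)
    (hV : Nat.card V = p ^ d) (h1 : r ∣ p ^ d - 1) (h2 : ∀ i, 0 < i → i < d → ¬ r ∣ p ^ i - 1)
    (hρ : Function.Injective ρ) (h : ∀ a b : X, r ∣ orderOf a → r ∣ orderOf b → IsConj a b) :
    ¬ r ^ 2 ∣ Nat.card X := by
  have : Fact r.Prime := ⟨hr⟩
  intro h3
  obtain ⟨K, hK⟩ := Sylow.exists_subgroup_card_pow_prime r h3
  obtain ⟨y, hy⟩ := exists_prime_orderOf_dvd_card' (G := K) r (hK ▸ dvd_pow_self r two_ne_zero)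
  rw [← Subgroup.orderOf_coe] at hy
  have h4 := isCyclic_of_primitive_prime ρ hp hr hV h1 h2 hρ
    (IsPGroup.isMulCommutative_of_card_eq_prime_sq hK) y.2 hy.symm.dvd
  obtain ⟨g, hg⟩ := h4.exists_ofOrder_eq_natCard
  rw [← Subgroup.orderOf_coe, hK] at hg
  obtain ⟨c, hc⟩ := isConj_iff.1 (h g y (hg ▸ dvd_pow_self r two_ne_zero) hy.symm.dvd)
  rw [← hc, ← MulAut.conj_apply, MulEquiv.orderOf_eq, hg] at hy
  have := hr.two_le
  nlinarith

end Cfsg
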